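import Mathlib
import Groth.Agent.Lib.Helper9.AssTensor

/-!
# No embedded associated primes under field base change (helper25)

Ring-level theory for "no embedded components": for a Noetherian `k`-algebra `B` and a field
extension `K/k` with `B ⊗[k] K` Noetherian, `B` has no embedded associated primes iff `B ⊗[k] K`
has none; and `A ⊗[k] B` has no embedded primes for Noetherian domains `A`, `B`.
-/

set_option autoImplicit false
universe u

open TensorProduct

namespace Groth.Agent.Lib.Helper25.NoEmbBC

open Groth.Agent.Lib.Helper9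

/-- The ring `A` has no embedded associated primes. -/
def NoEmbR (A : Type*) [CommRing A] : Prop :=
  ∀ P ∈ associatedPrimes A A, ∀ Q ∈ associatedPrimes A A, Q ≤ P → P = Q

section transport

theorem mem_associatedPrimes_comap_ringEquiv {A A' : Type*} [CommRing A] [CommRing A']
    (e : A ≃+* A') (P' : Ideal A') (hP' : P' ∈ associatedPrimes A' A') :
    P'.comap (e : A →+* A') ∈ associatedPrimes A A := by
  obtain ⟨hprime, x', hx'⟩ := hP'
  refine ⟨Ideal.comap_isPrime _ _, e.symm x', ?_⟩
  ext a
  rw [Ideal.mem_comap, hx', Ideal.mem_radical_iff, Ideal.mem_radical_iff]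
  refine exists_congr fun n => ?_
  rw [Submodule.mem_colon_singleton, Submodule.mem_bot, Submodule.mem_colon_singleton,
    Submodule.mem_bot, smul_eq_mul, smul_eq_mul]
  change (e a) ^ n * x' = 0 ↔ a ^ n * e.symm x' = 0
  constructor
  · intro h
    have h2 := congrArg e.symm h
    rwa [map_mul, map_pow, map_zero, RingEquiv.symm_apply_apply] at h2
  · intro h
    have h2 := congrArg e h
    rwa [map_mul, map_pow, map_zero, RingEquiv.apply_symm_apply] at h2

theorem noEmbR_of_ringEquiv {A A' : Type*} [CommRing A] [CommRing A'] (e : A ≃+* A')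
    (h : NoEmbR A) : NoEmbR A' := by
  intro P hP Q hQ hle
  have h1 := h _ (mem_associatedPrimes_comap_ringEquiv e P hP) _
    (mem_associatedPrimes_comap_ringEquiv e Q hQ) (Ideal.comap_mono hle)
  exact Ideal.comap_injective_of_surjective (e : A →+* A')
    (show Function.Surjective (e : A →+* A') from e.surjective) h1

theorem eq_bot_of_mem_associatedPrimes_of_isDomain {A : Type*} [CommRing A] [IsDomain A]
    [IsNoetherianRing A] (P : Ideal A) (hP : P ∈ associatedPrimes A A) : P = ⊥ := by
  have hP' : IsAssociatedPrime P A := hP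
  rw [isAssociatedPrime_iff] at hP'
  obtain ⟨hprime, x, hx⟩ := hP'
  have hx0 : x ≠ 0 := by
    rintro rfl
    apply hprime.ne_top
    rw [hx, Ideal.eq_top_iff_one, Submodule.mem_colon_singleton, smul_zero]
    exact Submodule.zero_mem _
  rw [eq_bot_iff]
  intro a ha
  rw [hx, Submodule.mem_colon_singleton, Submodule.mem_bot, smul_eq_mul] at ha
  rw [Ideal.mem_bot]
  exact (mul_eq_zero.mp ha).resolve_right hx0

theorem noEmbR_of_isDomain (A : Type*) [CommRing A] [IsDomain A] [IsNoetherianRing A] :
    NoEmbR A := by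
  intro P hP Q hQ _
  rw [eq_bot_of_mem_associatedPrimes_of_isDomain P hP,
    eq_bot_of_mem_associatedPrimes_of_isDomain Q hQ]

end transport

section quot

variable {S : Type u} [CommRing S]

theorem smul_top_eq_self (I : Ideal S) : I • (⊤ : Submodule S S) = I :=
  (Ideal.smul_eq_mul I ⊤).trans (Ideal.mul_top I)

theorem annihilator_quot_smul_top (I : Ideal S) :
    Module.annihilator S (S ⧸ I • (⊤ : Submodule S S)) = I := by
  ext r
  rw [Module.mem_annihilator]
  constructor
  · intro h
    have h1 := h (Submodule.Quotient.mk 1)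
    rw [← Submodule.Quotient.mk_smul, Submodule.Quotient.mk_eq_zero, smul_top_eq_self] at h1
    have h2 : r • (1 : S) = r := by rw [smul_eq_mul, mul_one]
    rwa [h2] at h1
  · intro hr x
    obtain ⟨y, rfl⟩ := Submodule.Quotient.mk_surjective _ x
    rw [← Submodule.Quotient.mk_smul, Submodule.Quotient.mk_eq_zero, smul_top_eq_self, smul_eq_mul]
    exact I.mul_mem_right y hr

end quot

section flat

variable {R S : Type u} [CommRing R] [CommRing S] [Algebra R S]

theorem mem_tensor_iff (P : Ideal S) :
    P ∈ associatedPrimes S (S ⊗[R] R) ↔ P ∈ associatedPrimes S S := by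
  rw [LinearEquiv.AssociatedPrimes.eq (TensorProduct.AlgebraTensorModule.rid R S S)]

theorem mem_of_mem_fib [IsNoetherianRing R] [Module.Flat R S]
    (p : Ideal R) (hp : p ∈ associatedPrimes R R) (P : Ideal S)
    (hP : P ∈ associatedPrimes S (S ⧸ p.map (algebraMap R S) • (⊤ : Submodule S S))) :
    P ∈ associatedPrimes S S := by
  rw [← mem_tensor_iff (R := R), AssTensor.associatedPrimes_tensor_eq (R := R) (S := S) S R]
  exact Set.mem_iUnion₂.mpr ⟨p, hp, hP⟩

/-- If the fibres have no embedded primes (in the strong form: associated primes of `S/𝔭S` are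
minimal over `𝔭S`), then `NoEmbR` ascends along the flat map `R → S`. -/
theorem noEmbR_of_fib [IsNoetherianRing R] [Module.Flat R S]
    (hfib : ∀ p : Ideal R, p.IsPrime →
      ∀ P ∈ associatedPrimes S (S ⧸ p.map (algebraMap R S) • (⊤ : Submodule S S)),
      ∀ Q : Ideal S, Q.IsPrime → p.map (algebraMap R S) ≤ Q → Q ≤ P → P ≤ Q)
    (hR : NoEmbR R) : NoEmbR S := by
  intro P hP Q hQ hle
  have hP' : P ∈ associatedPrimes S (S ⊗[R] R) := (mem_tensor_iff (R := R) P).mpr hP
  have hQ' : Q ∈ associatedPrimes S (S ⊗[R] R) := (mem_tensor_iff (R := R) Q).mpr hQ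
  have hp := AssTensor.comap_mem_associatedPrimes S R P hP'
  have hq := AssTensor.comap_mem_associatedPrimes S R Q hQ'
  have hpq : P.comap (algebraMap R S) = Q.comap (algebraMap R S) :=
    hR _ hp _ hq (Ideal.comap_mono hle)
  obtain ⟨hpp, hPf⟩ := AssTensor.mem_quot_comap_of_mem_tensor (S := S) (R := R)
    AssTensor.assLike_associatedPrimes S R P hP'
  have hQprime : Q.IsPrime := hQ.isPrime
  have h1 : (P.comap (algebraMap R S)).map (algebraMap R S) ≤ Q := by
    rw [hpq]
    exact Ideal.map_comap_le
  exact le_antisymm (hfib _ hpp P hPf Q hQprime h1 hle) hle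

/-- `NoEmbR` descends along faithfully flat maps of Noetherian rings. -/
theorem noEmbR_descend [IsNoetherianRing R] [IsNoetherianRing S] [Module.FaithfullyFlat R S]
    (hS : NoEmbR S) : NoEmbR R := by
  intro p hp q hq hle
  haveI hpp : p.IsPrime := hp.isPrime
  haveI hqp : q.IsPrime := hq.isPrime
  have hne : p.map (algebraMap R S) ≠ ⊤ := by
    intro h
    have h1 := Ideal.comap_map_eq_self_of_faithfullyFlat (B := S) p
    rw [h, Ideal.comap_top] at h1
    exact hpp.ne_top h1.symm
  haveI : Nontrivial (S ⧸ p.map (algebraMap R S) • (⊤ : Submodule S S)) := by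
    rw [Submodule.Quotient.nontrivial_iff, smul_top_eq_self]
    exact hne
  obtain ⟨P, hP⟩ := associatedPrimes.nonempty S (S ⧸ p.map (algebraMap R S) • (⊤ : Submodule S S))
  have hPS : P ∈ associatedPrimes S S := mem_of_mem_fib p hp P hP
  have hPc : P.comap (algebraMap R S) = p :=
    AssTensor.comap_eq_of_mem_quot AssTensor.assLike_associatedPrimes S p P hP
  haveI hPprime : P.IsPrime := hP.isPrime
  haveI : P.LiesOver p := ⟨hPc.symm⟩
  obtain ⟨Q', hQ'P, hQ'prime, hQ'over⟩ :=
    Ideal.exists_ideal_le_liesOver_of_le (p := q) (q := p) P hle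
  haveI := hQ'prime
  have hQ'c : Q'.comap (algebraMap R S) = q := hQ'over.over.symm
  have hqQ' : q.map (algebraMap R S) ≤ Q' := Ideal.map_le_iff_le_comap.mpr (le_of_eq hQ'c.symm)
  obtain ⟨Q, hQmin, hQQ'⟩ := Ideal.exists_minimalPrimes_le hqQ'
  have hQf : Q ∈ associatedPrimes S (S ⧸ q.map (algebraMap R S) • (⊤ : Submodule S S)) := by
    apply Module.associatedPrimes.minimalPrimes_annihilator_subset_associatedPrimes S _
    rw [annihilator_quot_smul_top]
    exact hQmin
  have hQS : Q ∈ associatedPrimes S S := mem_of_mem_fib q hq Q hQf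
  have hQc : Q.comap (algebraMap R S) = q :=
    AssTensor.comap_eq_of_mem_quot AssTensor.assLike_associatedPrimes S q Q hQf
  have hPQ : P = Q := hS P hPS Q hQS (hQQ'.trans hQ'P)
  rw [← hPc, ← hQc, hPQ]

end flat

section loc

/-- `NoEmbR` descends from a localization at a set of nonzerodivisors. -/
theorem noEmbR_of_isLocalization {W T : Type*} [CommRing W] [CommRing T] [Algebra W T]
    (M' : Submonoid W) [IsLocalization M' T] [IsNoetherianRing W]
    (hM : M' ≤ nonZeroDivisors W) (hT : NoEmbR T) : NoEmbR W := by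
  have key : ∀ P ∈ associatedPrimes W W, (P.map (algebraMap W T)) ∈ associatedPrimes T T ∧
      (P.map (algebraMap W T)).comap (algebraMap W T) = P := by
    intro P hP
    have hP' : IsAssociatedPrime P W := hP
    rw [isAssociatedPrime_iff] at hP'
    obtain ⟨hprime, x, hx⟩ := hP'
    have hdisj : Disjoint (M' : Set W) (P : Set W) := by
      rw [Set.disjoint_left]
      intro m hm hmP
      rw [SetLike.mem_coe, hx, Submodule.mem_colon_singleton, Submodule.mem_bot, smul_eq_mul]
        at hmP
      have hx0 : x = 0 := (mem_nonZeroDivisors_iff_right.mp (hM hm)) x (by rw [mul_comm]; exact hmP)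
      apply hprime.ne_top
      rw [hx, hx0, Ideal.eq_top_iff_one, Submodule.mem_colon_singleton, smul_zero]
      exact Submodule.zero_mem _
    have hcomap : (P.map (algebraMap W T)).comap (algebraMap W T) = P :=
      IsLocalization.under_map_of_isPrime_disjoint M' T hprime hdisj
    refine ⟨?_, hcomap⟩
    apply Module.associatedPrimes.mem_associatedPrimes_of_comap_mem_associatedPrimes_of_isLocalizedModule
      M' (Algebra.linearMap W T) _
    rw [hcomap]
    exact hP
  intro P hP Q hQ hle
  obtain ⟨hP1, hP2⟩ := key P hP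
  obtain ⟨hQ1, hQ2⟩ := key Q hQ
  have h := hT _ hP1 _ hQ1 (Ideal.map_mono hle)
  rw [← hP2, ← hQ2, h]

end loc

end Groth.Agent.Lib.Helper25.NoEmbBC
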