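import Mathlib
import Groth.Agent.Lib.Helper25.NoEmbBC

/-!
# Fibres of a field base change have no embedded primes (helper25)
-/

set_option autoImplicit false
universe u

open TensorProduct

namespace Groth.Agent.Lib.Helper25.NoEmbBC

/-- Incomparability for a flat algebraic extension of a domain (copied from the proof of S2512). -/
lemma le_of_annihilates {S₀ R' : Type*} [CommRing S₀] [IsDomain S₀] [CommRing R'] [Algebra S₀ R']
    [Algebra.IsAlgebraic S₀ R'] [Module.Flat S₀ R']
    (p' q' : Ideal R') (hq : q'.IsPrime) (hqp : q' ≤ p') (x' : R') (hx' : x' ≠ 0)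
    (hann : ∀ r ∈ p', r * x' = 0) : p' ≤ q' := by
  have hcomap : p'.comap (algebraMap S₀ R') = ⊥ := by
    rw [eq_bot_iff]
    intro s hs
    rw [Ideal.mem_bot]
    by_contra hs0
    have reg : IsSMulRegular S₀ s := fun a b hab => mul_left_cancel₀ hs0 hab
    have reg' : IsSMulRegular R' (algebraMap S₀ R' s) := IsSMulRegular.of_flat reg
    apply hx'
    apply reg'
    change algebraMap S₀ R' s * x' = algebraMap S₀ R' s * 0
    rw [mul_zero]
    exact hann _ hs
  by_contra hnot
  obtain ⟨r, hrp, hrq⟩ := Set.not_subset.1 hnot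
  obtain ⟨P, hP0, hPr⟩ := Algebra.IsAlgebraic.isAlgebraic (R := S₀) r
  have hq0 : q'.comap (algebraMap S₀ R') = ⊥ := by
    rw [eq_bot_iff, ← hcomap]
    exact Ideal.comap_mono hqp
  have hinj : Function.Injective (Ideal.Quotient.mk (q'.comap (algebraMap S₀ R'))) := by
    rw [RingHom.injective_iff_ker_eq_bot, Ideal.mk_ker]
    exact hq0
  have hlt := Ideal.comap_lt_comap_of_root_mem_sdiff (f := algebraMap S₀ R') (I := q') (J := p')
    hqp (r := r) ⟨hrp, hrq⟩ (p := P)
    (fun h => hP0 (Polynomial.map_injective _ hinj (h.trans (Polynomial.map_zero _).symm)))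
    (by rw [← Polynomial.aeval_def, hPr]; exact q'.zero_mem)
  rw [hcomap] at hlt
  exact not_lt_bot hlt

/-- Transport of `le_of_annihilates` along a ring isomorphism. -/
lemma le_of_annihilates_equiv {S₀ R' T : Type*} [CommRing S₀] [IsDomain S₀] [CommRing R']
    [Algebra S₀ R'] [Algebra.IsAlgebraic S₀ R'] [Module.Flat S₀ R'] [CommRing T]
    (e : R' ≃+* T) (p q : Ideal T) (hq : q.IsPrime) (hqp : q ≤ p) (x : T) (hx : x ≠ 0)
    (hann : ∀ r ∈ p, r * x = 0) : p ≤ q := by
  have hq' : (q.comap (e : R' →+* T)).IsPrime := Ideal.comap_isPrime _ _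
  have hle : p.comap (e : R' →+* T) ≤ q.comap (e : R' →+* T) := by
    refine le_of_annihilates (S₀ := S₀) _ _ hq' (Ideal.comap_mono hqp) (e.symm x) ?_ ?_
    · intro h
      apply hx
      have := congrArg e h
      rwa [e.apply_symm_apply, map_zero] at this
    · intro r hr
      have h1 : e r * x = 0 := hann _ hr
      have := congrArg e.symm h1
      rwa [map_mul, e.symm_apply_apply, map_zero] at this
  intro r hr
  have h1 : e.symm r ∈ p.comap (e : R' →+* T) := by
    change e (e.symm r) ∈ p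
    rwa [e.apply_symm_apply]
  have h2 := hle h1
  change e (e.symm r) ∈ q at h2
  rwa [e.apply_symm_apply] at h2

lemma le_of_annihilates_subalgebra {k K C₀ T : Type u} [Field k] [Field K] [Algebra k K]
    [CommRing C₀] [IsDomain C₀] [Algebra k C₀] [CommRing T]
    (R₀ : Subalgebra k K) [Module.Flat R₀ K] [Algebra.IsAlgebraic R₀ K]
    (hdom : IsDomain (R₀ ⊗[k] C₀))
    (e : C₀ ⊗[k] K ≃+* T) (p q : Ideal T) (hq : q.IsPrime) (hqp : q ≤ p) (x : T) (hx : x ≠ 0)
    (hann : ∀ r ∈ p, r * x = 0) : p ≤ q := by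
  haveI := hdom
  have hinj : Function.Injective (algebraMap R₀ (R₀ ⊗[k] C₀)) := by
    intro a b h
    apply Algebra.TensorProduct.includeLeft_injective (R := k) (S := R₀) (A := R₀) (B := C₀)
      (algebraMap k C₀).injective
    exact h
  haveI : FaithfulSMul R₀ (R₀ ⊗[k] C₀) := (faithfulSMul_iff_algebraMap_injective _ _).2 hinj
  haveI : Algebra.IsAlgebraic (R₀ ⊗[k] C₀) ((R₀ ⊗[k] C₀) ⊗[R₀] K) := inferInstance
  haveI : Module.Flat (R₀ ⊗[k] C₀) ((R₀ ⊗[k] C₀) ⊗[R₀] K) := inferInstance
  exact le_of_annihilates_equiv (S₀ := R₀ ⊗[k] C₀) (R' := (R₀ ⊗[k] C₀) ⊗[R₀] K)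
    ((((Algebra.TensorProduct.comm R₀ (R₀ ⊗[k] C₀) K).toRingEquiv.trans
      (Algebra.TensorProduct.cancelBaseChange k R₀ K K C₀).toRingEquiv).trans
      (Algebra.TensorProduct.comm k K C₀).toRingEquiv).trans e) p q hq hqp x hx hann

open scoped IntermediateField.algebraAdjoinAdjoin in
/-- In `C₀ ⊗[k] K` (`C₀` a domain, `K/k` a field extension) a prime contained in the annihilator
ideal of a nonzero element... (no embedded primes, elementwise form). -/
theorem le_of_annihilates_tensor {k K C₀ T : Type u} [Field k] [Field K] [Algebra k K]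
    [CommRing C₀] [IsDomain C₀] [Algebra k C₀] [CommRing T]
    (e : C₀ ⊗[k] K ≃+* T) (p q : Ideal T) (hq : q.IsPrime) (hqp : q ≤ p) (x : T) (hx : x ≠ 0)
    (hann : ∀ r ∈ p, r * x = 0) : p ≤ q := by
  classical
  obtain ⟨s, hs⟩ := exists_isTranscendenceBasis k K
  haveI halg : Algebra.IsAlgebraic (Algebra.adjoin k (Set.range ((↑) : s → K))) K :=
    hs.isAlgebraic
  haveI hflat : Module.Flat (Algebra.adjoin k (Set.range ((↑) : s → K))) K := by
    haveI : Module.Flat (Algebra.adjoin k (Set.range ((↑) : s → K)))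
        (IntermediateField.adjoin k (Set.range ((↑) : s → K))) :=
      IsLocalization.flat _ (nonZeroDivisors (Algebra.adjoin k (Set.range ((↑) : s → K))))
    exact Module.Flat.trans (Algebra.adjoin k (Set.range ((↑) : s → K)))
      (IntermediateField.adjoin k (Set.range ((↑) : s → K))) K
  refine le_of_annihilates_subalgebra (Algebra.adjoin k (Set.range ((↑) : s → K))) ?_ e p q hq hqp
    x hx hann
  exact MulEquiv.isDomain (MvPolynomial s C₀)
    (((Algebra.TensorProduct.comm k (Algebra.adjoin k (Set.range ((↑) : s → K))) C₀).toRingEquiv.trans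
      (Algebra.TensorProduct.congr (AlgEquiv.refl (R := C₀) (A₁ := C₀))
        hs.1.aevalEquiv.symm).toRingEquiv).trans
      (MvPolynomial.algebraTensorAlgEquiv k C₀).toRingEquiv).toMulEquiv

/-- Fibre lemma, general form. -/
theorem fibre_min_of_equiv {k K C₀ S : Type u} [Field k] [Field K] [Algebra k K]
    [CommRing C₀] [IsDomain C₀] [Algebra k C₀] [CommRing S] [IsNoetherianRing S]
    (I : Ideal S) (e : C₀ ⊗[k] K ≃+* S ⧸ I) (P : Ideal S)
    (hP : P ∈ associatedPrimes S (S ⧸ I • (⊤ : Submodule S S)))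
    (Q : Ideal S) (hQ : Q.IsPrime) (hIQ : I ≤ Q) (hQP : Q ≤ P) : P ≤ Q := by
  have hP' : IsAssociatedPrime P (S ⧸ I • (⊤ : Submodule S S)) := hP
  rw [isAssociatedPrime_iff] at hP'
  obtain ⟨hPprime, xbar, hPx⟩ := hP'
  obtain ⟨x, rfl⟩ := Submodule.Quotient.mk_surjective _ xbar
  have hmem : ∀ r : S, r ∈ P ↔ r * x ∈ I := by
    intro r
    rw [hPx, Submodule.mem_colon_singleton, Submodule.mem_bot, ← Submodule.Quotient.mk_smul,
      Submodule.Quotient.mk_eq_zero, smul_top_eq_self]
    rfl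
  have hxI : x ∉ I := by
    intro hx
    apply hPprime.ne_top
    rw [Ideal.eq_top_iff_one, hmem, one_mul]
    exact hx
  have hπ : Function.Surjective (Ideal.Quotient.mk I) := Ideal.Quotient.mk_surjective
  haveI := hQ
  have hle : P.map (Ideal.Quotient.mk I) ≤ Q.map (Ideal.Quotient.mk I) := by
    refine le_of_annihilates_tensor e (P.map (Ideal.Quotient.mk I)) (Q.map (Ideal.Quotient.mk I))
      ?_ (Ideal.map_mono hQP) (Ideal.Quotient.mk I x) ?_ ?_
    · exact Ideal.map_isPrime_of_surjective hπ (by rw [Ideal.mk_ker]; exact hIQ)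
    · intro h
      exact hxI (Ideal.Quotient.eq_zero_iff_mem.mp h)
    · intro r' hr'
      obtain ⟨r, hr, rfl⟩ := (Ideal.mem_map_iff_of_surjective (Ideal.Quotient.mk I) hπ).mp hr'
      rw [← map_mul, Ideal.Quotient.eq_zero_iff_mem]
      exact (hmem r).mp hr
  intro r hr
  have h1 : Ideal.Quotient.mk I r ∈ Q.map (Ideal.Quotient.mk I) :=
    hle (Ideal.mem_map_of_mem _ hr)
  obtain ⟨s, hs, hsr⟩ := (Ideal.mem_map_iff_of_surjective (Ideal.Quotient.mk I) hπ).mp h1
  have h2 : s - r ∈ I := Ideal.Quotient.eq.mp hsr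
  have h3 : r = s - (s - r) := by ring
  rw [h3]
  exact Q.sub_mem hs (hIQ h2)

/-- Fibre lemma for `B → B ⊗[k] K`. -/
theorem fibre_min {k K B : Type u} [Field k] [Field K] [Algebra k K] [CommRing B] [Algebra k B]
    [IsNoetherianRing (B ⊗[k] K)] (p : Ideal B) [hp : p.IsPrime] (P : Ideal (B ⊗[k] K))
    (hP : P ∈ associatedPrimes (B ⊗[k] K)
      ((B ⊗[k] K) ⧸ p.map (algebraMap B (B ⊗[k] K)) • (⊤ : Submodule (B ⊗[k] K) (B ⊗[k] K))))
    (Q : Ideal (B ⊗[k] K)) (hQ : Q.IsPrime) (hIQ : p.map (algebraMap B (B ⊗[k] K)) ≤ Q)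
    (hQP : Q ≤ P) : P ≤ Q :=
  fibre_min_of_equiv (k := k) (K := K) (C₀ := B ⧸ p) (p.map (algebraMap B (B ⊗[k] K)))
    (((Algebra.TensorProduct.quotIdealMapEquivTensorQuot (B ⊗[k] K) p).toRingEquiv.trans
      ((Algebra.TensorProduct.comm B (B ⊗[k] K) (B ⧸ p)).toRingEquiv.trans
        (Algebra.TensorProduct.cancelBaseChange k B (B ⧸ p) (B ⧸ p) K).toRingEquiv)).symm)
    P hP Q hQ hIQ hQP

/-- **No embedded primes and field base change (ring level).** -/
theorem noEmbR_tensor_iff {k K B : Type u} [Field k] [Field K] [Algebra k K] [CommRing B]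
    [Algebra k B] [IsNoetherianRing B] [IsNoetherianRing (B ⊗[k] K)] :
    NoEmbR B ↔ NoEmbR (B ⊗[k] K) := by
  constructor
  · intro h
    refine noEmbR_of_fib (R := B) (S := B ⊗[k] K) ?_ h
    intro p hp P hP Q hQ hIQ hQP
    haveI := hp
    exact fibre_min p P hP Q hQ hIQ hQP
  · intro h
    exact noEmbR_descend (R := B) (S := B ⊗[k] K) h

theorem one_tmul_mem_nonZeroDivisors {k A B : Type*} [Field k] [CommRing A] [CommRing B]
    [IsDomain B] [Algebra k A] [Algebra k B] (b : B) (hb : b ≠ 0) :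
    (1 : A) ⊗ₜ[k] b ∈ nonZeroDivisors (A ⊗[k] B) := by
  rw [mem_nonZeroDivisors_iff_right]
  intro z hz
  have hinj : Function.Injective (LinearMap.lTensor A (LinearMap.mulLeft k b)) :=
    Module.Flat.lTensor_preserves_injective_linearMap _ (fun x y hxy => by
      have h := hxy
      simp only [LinearMap.mulLeft_apply] at h
      exact mul_left_cancel₀ hb h)
  apply hinj
  rw [map_zero]
  have key : ∀ w : A ⊗[k] B, LinearMap.lTensor A (LinearMap.mulLeft k b) w = w * (1 ⊗ₜ b) := by
    intro w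
    induction w using TensorProduct.induction_on with
    | zero => simp
    | tmul a c => simp [Algebra.TensorProduct.tmul_mul_tmul, mul_comm]
    | add x y hx hy => rw [map_add, hx, hy, add_mul]
  rw [key, hz]

/-- The tensor product of two Noetherian domains over a field has no embedded primes (if it is
Noetherian). -/
theorem noEmbR_tensor_domains {k A B K : Type u} [Field k] [CommRing A] [CommRing B] [IsDomain A]
    [IsDomain B] [Algebra k A] [Algebra k B] [IsNoetherianRing A] [IsNoetherianRing (A ⊗[k] B)]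
    [Field K] [Algebra B K] [IsFractionRing B K] [Algebra k K] [IsScalarTower k B K] :
    NoEmbR (A ⊗[k] B) := by
  letI alg : Algebra (A ⊗[k] B) (A ⊗[k] K) :=
    (Algebra.TensorProduct.map (AlgHom.id k A) (IsScalarTower.toAlgHom k B K)).toAlgebra
  haveI : IsScalarTower A (A ⊗[k] B) (A ⊗[k] K) :=
    .of_algebraMap_eq <| by intro; simp [RingHom.algebraMap_toAlgebra]
  haveI hloc : IsLocalization
      ((nonZeroDivisors B).map (Algebra.TensorProduct.includeRight (R := k) (A := A)))
      (A ⊗[k] K) :=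
    IsLocalization.tensorProduct_tensorProduct_right k A (nonZeroDivisors B) K
      (by ext; simp [RingHom.algebraMap_toAlgebra])
  haveI : IsNoetherianRing (A ⊗[k] K) :=
    IsLocalization.isNoetherianRing
      ((nonZeroDivisors B).map (Algebra.TensorProduct.includeRight (R := k) (A := A))) _
      inferInstance
  have hA : NoEmbR A := noEmbR_of_isDomain A
  have hT : NoEmbR (A ⊗[k] K) := (noEmbR_tensor_iff (k := k) (K := K) (B := A)).mp hA
  refine noEmbR_of_isLocalization
    ((nonZeroDivisors B).map (Algebra.TensorProduct.includeRight (R := k) (A := A))) ?_ hT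
  rintro _ ⟨b, hb, rfl⟩
  exact one_tmul_mem_nonZeroDivisors b (nonZeroDivisors.ne_zero hb)

end Groth.Agent.Lib.Helper25.NoEmbBC
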