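import Mathlib
import Groth.Agent.Lib.Helper25.NoEmbFib
import Groth.Agent.Lib.Helper27.ModSections
import Groth.Agent.Lib.Helper3.QCOpen
import Groth.Agent.Lib.Helper12.BaseChange
import Groth.Prelude.Def_FDesc

/-!
# No embedded points of the structure sheaf: affine criterion, field base change, products
(helper25)
-/

set_option autoImplicit false
universe u

open TensorProduct CategoryTheory CategoryTheory.Limits AlgebraicGeometry

namespace Groth.Agent.Lib.Helper25.NoEmbBC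

open Groth.Agent.Lib.Helper3 Groth.Agent.Lib.Helper12

/-- Sections of the structure module are sections of the structure sheaf. -/
noncomputable def secEquiv (Y : Scheme.{u}) (V : Y.Opens) :
    Γ(Y, V) ≃ₗ[Γ(Y, V)] Γ(Coh.structureModule Y, V) where
  toFun x := x
  invFun x := x
  map_add' _ _ := rfl
  map_smul' _ _ := rfl
  left_inv _ := rfl
  right_inv _ := rfl

theorem isAssPoint_structure_iff {Y : Scheme.{u}} [IsLocallyNoetherian Y] {V : Y.Opens}
    (hV : IsAffineOpen V) (x : Y) (hx : x ∈ V) :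
    Curv2.IsAssPoint (Coh.structureModule Y) x ↔
      (hV.primeIdealOf ⟨x, hx⟩).asIdeal ∈ associatedPrimes Γ(Y, V) Γ(Y, V) := by
  rw [Groth.Agent.Lib.Helper27.ModSections.isAssPoint_iff (Coh.structureModule Y) hV x hx]
  exact (LinearEquiv.isAssociatedPrime_iff (secEquiv Y V)).symm

theorem noEmbedded_iff_of_cover (Y : Scheme.{u}) [IsLocallyNoetherian Y] (𝒱 : Set Y.Opens)
    (haff : ∀ V ∈ 𝒱, IsAffineOpen V) (hcov : ∀ y : Y, ∃ V ∈ 𝒱, y ∈ V) :
    AssSch.NoEmbedded (Coh.structureModule Y) ↔ ∀ V ∈ 𝒱, NoEmbR Γ(Y, V) := by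
  constructor
  · intro h V hV P hP Q hQ hle
    have hVa := haff V hV
    haveI : P.IsPrime := hP.isPrime
    haveI : Q.IsPrime := hQ.isPrime
    obtain ⟨x, hx, hxP⟩ := QS.exists_point_of_prime hVa P
    obtain ⟨y, hy, hyQ⟩ := QS.exists_point_of_prime hVa Q
    have hxa : Curv2.IsAssPoint (Coh.structureModule Y) x :=
      (isAssPoint_structure_iff hVa x hx).mpr (by rw [hxP]; exact hP)
    have hya : Curv2.IsAssPoint (Coh.structureModule Y) y :=
      (isAssPoint_structure_iff hVa y hy).mpr (by rw [hyQ]; exact hQ)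
    have hle' : hVa.primeIdealOf ⟨y, hy⟩ ≤ hVa.primeIdealOf ⟨x, hx⟩ := by
      change (hVa.primeIdealOf ⟨y, hy⟩).asIdeal ≤ (hVa.primeIdealOf ⟨x, hx⟩).asIdeal
      rw [hxP, hyQ]
      exact hle
    have hspec : y ⤳ x := (SchemeDimFT.primeIdealOf_le_iff hVa ⟨y, hy⟩ ⟨x, hx⟩).mp hle'
    have hxy : x = y := h x hxa y hya hspec
    subst hxy
    rw [← hxP, ← hyQ]
  · intro h x hx y hy hspec
    obtain ⟨V, hV, hxV⟩ := hcov x
    have hVa := haff V hV
    have hyV : y ∈ V := hspec.mem_open V.2 hxV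
    have hx' : Curv2.IsAssPoint (Coh.structureModule Y) x := hx
    have hy' : Curv2.IsAssPoint (Coh.structureModule Y) y := hy
    have hP := (isAssPoint_structure_iff hVa x hxV).mp hx'
    have hQ := (isAssPoint_structure_iff hVa y hyV).mp hy'
    have hle : (hVa.primeIdealOf ⟨y, hyV⟩).asIdeal ≤ (hVa.primeIdealOf ⟨x, hxV⟩).asIdeal :=
      (SchemeDimFT.primeIdealOf_le_iff hVa ⟨y, hyV⟩ ⟨x, hxV⟩).mpr hspec
    have heq := h V hV _ hP _ hQ hle
    have hle2 : hVa.primeIdealOf ⟨x, hxV⟩ ≤ hVa.primeIdealOf ⟨y, hyV⟩ := by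
      change (hVa.primeIdealOf ⟨x, hxV⟩).asIdeal ≤ (hVa.primeIdealOf ⟨y, hyV⟩).asIdeal
      rw [heq]
    have hspec2 : x ⤳ y := (SchemeDimFT.primeIdealOf_le_iff hVa ⟨x, hxV⟩ ⟨y, hyV⟩).mp hle2
    exact (hspec2.antisymm hspec).eq

theorem exists_affine_nbhd {X : Scheme.{u}} (x : X) :
    ∃ (U : X.Opens), IsAffineOpen U ∧ x ∈ U := by
  obtain ⟨_, ⟨U, hU, rfl⟩, hxU, -⟩ :=
    X.isBasis_affineOpens.exists_subset_of_mem_open (Set.mem_univ x) isOpen_univ
  exact ⟨U, hU, hxU⟩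

section bc

variable (k : Type u) [Field k] (X : Scheme.{u}) [X.Over (Spec (CommRingCat.of k))]
  (K : Type u) [Field K] [Algebra k K]

theorem noEmbR_sections_bc_iff [IsLocallyNoetherian X] [IsLocallyNoetherian (Curv2.bc k X K)]
    (U : X.Opens) (hU : IsAffineOpen U) :
    NoEmbR Γ(X, U) ↔ NoEmbR Γ(Curv2.bc k X K, (Curv2.bcFst k X K) ⁻¹ᵁ U) := by
  letI := SchemeDimFT.secAlgebra k X U
  haveI : IsAffineHom (Curv2.bcFst k X K) := BaseChange.isAffineHom_bcFst k X K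
  have hV : IsAffineOpen ((Curv2.bcFst k X K) ⁻¹ᵁ U) := hU.preimage _
  haveI : IsNoetherianRing Γ(X, U) := IsLocallyNoetherian.component_noetherian ⟨U, hU⟩
  haveI : IsNoetherianRing Γ(Curv2.bc k X K, (Curv2.bcFst k X K) ⁻¹ᵁ U) :=
    IsLocallyNoetherian.component_noetherian ⟨_, hV⟩
  haveI : IsNoetherianRing (Γ(X, U) ⊗[k] K) :=
    isNoetherianRing_of_ringEquiv _ (BaseChange.tensorEquiv k X K U hU).symm
  rw [noEmbR_tensor_iff (k := k) (K := K) (B := Γ(X, U))]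
  exact ⟨noEmbR_of_ringEquiv (BaseChange.tensorEquiv k X K U hU),
    noEmbR_of_ringEquiv (BaseChange.tensorEquiv k X K U hU).symm⟩

theorem noEmbedded_bc_iff [IsLocallyNoetherian X] [IsLocallyNoetherian (Curv2.bc k X K)] :
    AssSch.NoEmbedded (Coh.structureModule X) ↔
      AssSch.NoEmbedded (Coh.structureModule (Curv2.bc k X K)) := by
  haveI : IsAffineHom (Curv2.bcFst k X K) := BaseChange.isAffineHom_bcFst k X K
  rw [noEmbedded_iff_of_cover X {U | IsAffineOpen U} (fun U hU => hU)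
      (fun x => by
        obtain ⟨U, hU, hxU⟩ := exists_affine_nbhd x
        exact ⟨U, hU, hxU⟩),
    noEmbedded_iff_of_cover (Curv2.bc k X K)
      {V | ∃ U : X.Opens, IsAffineOpen U ∧ V = (Curv2.bcFst k X K) ⁻¹ᵁ U}
      (by
        rintro V ⟨U, hU, rfl⟩
        exact hU.preimage _)
      (fun y => by
        obtain ⟨U, hU, hxU⟩ := exists_affine_nbhd ((Curv2.bcFst k X K) y)
        exact ⟨_, ⟨U, hU, rfl⟩, hxU⟩)]
  constructor
  · rintro h V ⟨U, hU, rfl⟩
    exact (noEmbR_sections_bc_iff k X K U hU).mp (h U hU)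
  · intro h U hU
    exact (noEmbR_sections_bc_iff k X K U hU).mpr (h _ ⟨U, hU, rfl⟩)

end bc

section prod

variable {k : Type u} [Field k] {X Y : Scheme.{u}} (f : X ⟶ Spec (CommRingCat.of k))
  (g : Y ⟶ Spec (CommRingCat.of k)) (U : X.Opens) (V : Y.Opens)

theorem isAffineOpen_prod (hU : IsAffineOpen U) (hV : IsAffineOpen V) :
    IsAffineOpen (pullback.fst f g ⁻¹ᵁ U ⊓ pullback.snd f g ⁻¹ᵁ V) := by
  have H : IsPullback (pullback.fst f g) (pullback.snd f g) f g := IsPullback.of_hasPullback f g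
  have hUST : V ≤ g ⁻¹ᵁ ⊤ := by simp
  have hUSX : U ≤ f ⁻¹ᵁ ⊤ := by simp
  have : IsAffine _ := isAffineOpen_top (Spec (CommRingCat.of k))
  have : IsAffine _ := hV
  have : IsAffine _ := hU
  exact .of_isIso (Scheme.Hom.isPullback_resLE H hUST hUSX rfl).isoPullback.hom

theorem nonempty_prodSecEquiv (hU : IsAffineOpen U) (hV : IsAffineOpen V) :
    letI := ((f.appLE ⊤ U (by simp)).hom.comp
      (Scheme.ΓSpecIso (CommRingCat.of k)).inv.hom).toAlgebra
    letI := ((g.appLE ⊤ V (by simp)).hom.comp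
      (Scheme.ΓSpecIso (CommRingCat.of k)).inv.hom).toAlgebra
    Nonempty (Γ(X, U) ⊗[k] Γ(Y, V) ≃+*
      Γ(pullback f g, pullback.fst f g ⁻¹ᵁ U ⊓ pullback.snd f g ⁻¹ᵁ V)) := by
  letI algA := ((f.appLE ⊤ U (by simp)).hom.comp
      (Scheme.ΓSpecIso (CommRingCat.of k)).inv.hom).toAlgebra
  letI algB := ((g.appLE ⊤ V (by simp)).hom.comp
      (Scheme.ΓSpecIso (CommRingCat.of k)).inv.hom).toAlgebra
  have H : IsPullback (pullback.fst f g) (pullback.snd f g) f g := IsPullback.of_hasPullback f g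
  have hUST : V ≤ g ⁻¹ᵁ ⊤ := by simp
  have hUSX : U ≤ f ⁻¹ᵁ ⊤ := by simp
  have hiso := isIso_pushoutSection_of_isAffineOpen H hUST hUSX rfl (isAffineOpen_top _) hV hU
  have hpo := (isIso_pushoutSection_iff H hUST hUSX rfl).mp hiso
  have hpo' : IsPushout (CommRingCat.ofHom (algebraMap k Γ(X, U)))
      (CommRingCat.ofHom (algebraMap k Γ(Y, V)))
      ((pullback.fst f g).appLE U (pullback.fst f g ⁻¹ᵁ U ⊓ pullback.snd f g ⁻¹ᵁ V) inf_le_left)
      ((pullback.snd f g).appLE V (pullback.fst f g ⁻¹ᵁ U ⊓ pullback.snd f g ⁻¹ᵁ V)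
        inf_le_right) := by
    refine hpo.of_iso (Scheme.ΓSpecIso (CommRingCat.of k)) (Iso.refl _) (Iso.refl _) (Iso.refl _)
      ?_ ?_ ?_ ?_
    · ext x
      simp [RingHom.algebraMap_toAlgebra]
    · ext x
      simp [RingHom.algebraMap_toAlgebra]
    · simp
    · simp
  exact ⟨((CommRingCat.isPushout_tensorProduct k Γ(X, U) Γ(Y, V)).isoPushout ≪≫
    hpo'.isoPushout.symm).commRingCatIsoToRingEquiv⟩

theorem noEmbR_sections_prod [IsIntegral X] [IsIntegral Y] [IsLocallyNoetherian X]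
    [IsLocallyNoetherian (pullback f g)]
    (hU : IsAffineOpen U) (hV : IsAffineOpen V) [Nonempty U] [Nonempty V] :
    NoEmbR Γ(pullback f g, pullback.fst f g ⁻¹ᵁ U ⊓ pullback.snd f g ⁻¹ᵁ V) := by
  letI algA := ((f.appLE ⊤ U (by simp)).hom.comp
      (Scheme.ΓSpecIso (CommRingCat.of k)).inv.hom).toAlgebra
  letI algB := ((g.appLE ⊤ V (by simp)).hom.comp
      (Scheme.ΓSpecIso (CommRingCat.of k)).inv.hom).toAlgebra
  obtain ⟨e⟩ := nonempty_prodSecEquiv f g U V hU hV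
  haveI : IsNoetherianRing Γ(X, U) := IsLocallyNoetherian.component_noetherian ⟨U, hU⟩
  haveI : IsNoetherianRing
      Γ(pullback f g, pullback.fst f g ⁻¹ᵁ U ⊓ pullback.snd f g ⁻¹ᵁ V) :=
    IsLocallyNoetherian.component_noetherian ⟨_, isAffineOpen_prod f g U V hU hV⟩
  haveI : IsNoetherianRing (Γ(X, U) ⊗[k] Γ(Y, V)) := isNoetherianRing_of_ringEquiv _ e.symm
  exact noEmbR_of_ringEquiv e
    (noEmbR_tensor_domains (k := k) (A := Γ(X, U)) (B := Γ(Y, V)) (K := FractionRing Γ(Y, V)))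

theorem noEmbedded_pullback [IsIntegral X] [IsIntegral Y] [IsLocallyNoetherian X]
    [IsLocallyNoetherian (pullback f g)] :
    AssSch.NoEmbedded (Coh.structureModule (pullback f g)) := by
  rw [noEmbedded_iff_of_cover (pullback f g)
    {W | ∃ (U : X.Opens) (V : Y.Opens), IsAffineOpen U ∧ IsAffineOpen V ∧ Nonempty U ∧
      Nonempty V ∧ W = pullback.fst f g ⁻¹ᵁ U ⊓ pullback.snd f g ⁻¹ᵁ V}
    (by
      rintro W ⟨U, V, hU, hV, -, -, rfl⟩
      exact isAffineOpen_prod f g U V hU hV)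
    (fun z => by
      obtain ⟨U, hU, hzU⟩ := exists_affine_nbhd ((pullback.fst f g) z)
      obtain ⟨V, hV, hzV⟩ := exists_affine_nbhd ((pullback.snd f g) z)
      exact ⟨_, ⟨U, V, hU, hV, ⟨⟨_, hzU⟩⟩, ⟨⟨_, hzV⟩⟩, rfl⟩,
        TopologicalSpace.Opens.mem_inf.mpr ⟨hzU, hzV⟩⟩)]
  rintro W ⟨U, V, hU, hV, hUne, hVne, rfl⟩
  exact noEmbR_sections_prod f g U V hU hV

end prod

end Groth.Agent.Lib.Helper25.NoEmbBC
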