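import Mathlib
import Groth.Prelude.Def_ModSite
import Groth.Agent.Lib.Helper21.StalkFlatO
import Groth.Agent.Lib.Helper21.StalkFlatP
import Groth.Agent.Lib.Helper21.StalkFlatQ

/-!
# Local generators calculus for sheaves of modules (small sites and ringed spaces)

Site level (`C` small, `R : Sheaf J RingCat`):
* `locSurj_of_epi`, `epi_of_locSurj`: epimorphisms of sheaves of modules are the locally
  surjective morphisms.
* `app_free_eq_sum`: values of a morphism out of a finite free module.
* `exists_sum_of_epi`: if `free ι ⟶ N` (finite `ι`) is an epimorphism, sections of `N` are locally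
  linear combinations of the generating sections.
* `exact_sections`: sections are left exact.
* `overSec`: the section of `M.over U` attached to an element of `M(U)`.

Ringed spaces (`R` a sheaf of rings on `Opens X`):
* `res`, `resR`, `app`: restriction maps and maps on sections, as bundled (semi)linear maps.
* `LocSpanT M U s`: the sections `s i ∈ M(U)` locally span `M|_U`.
* `exists_generatingSections_iff`, `isFiniteType_iff`: Mathlib's `IsFiniteType` in terms of
  `LocSpanT`.
-/

set_option autoImplicit false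
universe u

open CategoryTheory CategoryTheory.Limits Opposite SheafOfModules TopologicalSpace
open Groth.Agent.Lib.Helper21.StalkFlatP Groth.Agent.Lib.Helper21.StalkFlatQ

namespace Groth.Agent.Lib.Helper25.LocGenSite

section Site

variable {C : Type u} [SmallCategory C] {J : GrothendieckTopology C} {R : Sheaf J RingCat.{u}}

/-- An epimorphism of sheaves of modules is locally surjective on sections. -/
theorem locSurj_of_epi {M N : SheafOfModules.{u} R} (f : M ⟶ N) [Epi f] (V : C)
    (n : N.val.obj (op V)) :
    ∃ S ∈ J V, ∀ ⦃W : C⦄ (g : W ⟶ V), S g →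
      ∃ m : M.val.obj (op W), f.val.app (op W) m = N.val.map g.op n := by
  haveI : Epi ((SheafOfModules.toSheaf.{u} R).map f) := inferInstance
  haveI h : Sheaf.IsLocallySurjective ((SheafOfModules.toSheaf.{u} R).map f) :=
    (Sheaf.isLocallySurjective_iff_epi' AddCommGrpCat.{u} _).2 inferInstance
  have hs : Presheaf.imageSieve ((SheafOfModules.toSheaf.{u} R).map f).hom
      (show ToType (((SheafOfModules.toSheaf.{u} R).obj N).obj.obj (op V)) from n) ∈ J V :=
    Presheaf.IsLocallySurjective.imageSieve_mem _
  refine ⟨_, hs, ?_⟩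
  rintro W g ⟨t, ht⟩
  exact ⟨t, ht⟩

/-- A locally surjective morphism of sheaves of modules is an epimorphism. -/
theorem epi_of_locSurj {M N : SheafOfModules.{u} R} (f : M ⟶ N)
    (h : ∀ (V : C) (n : N.val.obj (op V)), ∃ S ∈ J V, ∀ ⦃W : C⦄ (g : W ⟶ V), S g →
      ∃ m : M.val.obj (op W), f.val.app (op W) m = N.val.map g.op n) : Epi f := by
  haveI : Sheaf.IsLocallySurjective ((SheafOfModules.toSheaf.{u} R).map f) :=
    ⟨fun {V} n => by
      obtain ⟨S, hS, hS'⟩ := h V n
      refine J.superset_covering ?_ hS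
      intro W g hg
      obtain ⟨m, hm⟩ := hS' g hg
      exact ⟨m, hm⟩⟩
  haveI : Epi ((SheafOfModules.toSheaf.{u} R).map f) := inferInstance
  exact Functor.epi_of_epi_map (SheafOfModules.toSheaf.{u} R) inferInstance

/-- the value of a section at an object, with its module type -/
abbrev secAt {N : SheafOfModules.{u} R} (s : N.sections) (W : Cᵒᵖ) : N.val.obj W := s.val W

/-- evaluation at an element, as an additive map on morphisms -/
noncomputable def appAdd {M N : SheafOfModules.{u} R} (W : Cᵒᵖ) (t : M.val.obj W) :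
    (M ⟶ N) →+ N.val.obj W where
  toFun f := f.val.app W t
  map_zero' := rfl
  map_add' _ _ := rfl

lemma unit_app_eq_smul {N : SheafOfModules.{u} R} (x : unit R ⟶ N) (W : Cᵒᵖ)
    (r : R.obj.obj W) :
    x.val.app W (show (unit R).val.obj W from r) = r • secAt (N.unitHomEquiv x) W := by
  have h3 := (x.val.app W).hom.map_smul r (show (unit R).val.obj W from (1 : R.obj.obj W))
  have h4 : (r • (show (unit R).val.obj W from (1 : R.obj.obj W))) =
      (show (unit R).val.obj W from r) := mul_one r
  exact (congrArg (fun z => (x.val.app W).hom z) h4.symm).trans h3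

/-- The value of a morphism out of a finite free module on a section. -/
theorem app_free_eq_sum {ι : Type u} [Fintype ι] [DecidableEq ι] {N : SheafOfModules.{u} R}
    (f : free ι ⟶ N) (W : Cᵒᵖ) (t : (free (R := R) ι).val.obj W) :
    f.val.app W t =
      ∑ j, (show R.obj.obj W from (proj j).val.app W t) • secAt (N.freeHomEquiv f j) W := by
  have h1 : f = ∑ j, proj j ≫ (ιFree j ≫ f) := by
    have : (∑ j, proj j ≫ ιFree j) ≫ f = ∑ j, proj j ≫ (ιFree j ≫ f) := by
      rw [Preadditive.sum_comp]
      simp only [Category.assoc]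
    rw [← this, sum_proj_ιFree, Category.id_comp]
  have h2 : f.val.app W t = appAdd W t (∑ j, proj j ≫ (ιFree j ≫ f)) :=
    congrArg (appAdd W t) h1
  rw [h2, map_sum]
  refine Finset.sum_congr rfl (fun j _ => ?_)
  exact unit_app_eq_smul (ιFree j ≫ f) W _

/-- If finitely many sections generate `N`, every section of `N` is locally a linear combination
of them. -/
theorem exists_sum_of_epi {ι : Type u} [Fintype ι] (N : SheafOfModules.{u} R)
    (s : ι → N.sections) [Epi (N.freeHomEquiv.symm s)] (V : C) (m : N.val.obj (op V)) :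
    ∃ S ∈ J V, ∀ ⦃W : C⦄ (h : W ⟶ V), S h →
      ∃ r : ι → R.obj.obj (op W), N.val.map h.op m = ∑ i, r i • secAt (s i) (op W) := by
  classical
  obtain ⟨S, hS, hS'⟩ := locSurj_of_epi (N.freeHomEquiv.symm s) V m
  refine ⟨S, hS, fun W h hh => ?_⟩
  obtain ⟨t, ht⟩ := hS' h hh
  refine ⟨fun j => (proj j).val.app (op W) t, ?_⟩
  rw [← ht, app_free_eq_sum]
  simp only [Equiv.apply_symm_apply]

/-- Sections are left exact. -/
theorem exact_sections (S : ShortComplex (SheafOfModules.{u} R)) (hS : S.ShortExact) (W : Cᵒᵖ)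
    (d : S.X₂.val.obj W) (hd : S.g.val.app W d = 0) :
    ∃ n : S.X₁.val.obj W, S.f.val.app W n = d := by
  haveI : (SheafOfModules.evaluation R W).PreservesZeroMorphisms := ⟨fun _ _ => rfl⟩
  have hE := hS.exact.map_of_mono_of_preservesKernel (SheafOfModules.evaluation R W)
    hS.mono_f inferInstance
  rw [ShortComplex.moduleCat_exact_iff] at hE
  exact hE d hd

/-- the section of `M.over U` determined by an element of `M(U)` -/
noncomputable def overSec (M : SheafOfModules.{u} R) {U : C} (a : M.val.obj (op U)) :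
    (M.over U).sections :=
  PresheafOfModules.sectionsMk (M := (M.over U).val)
    (fun Y => (M.over U).val.map (toT Y.unop).op (show (M.over U).val.obj (op (T U)) from a))
    (by
      intro Y Y' f
      rw [← PresheafOfModules.map_comp_apply]
      exact PresheafOfModules.congr_map_apply _
        (show (toT Y.unop).op ≫ f = (toT Y'.unop).op by rw [← toT_comp f.unop]; rfl) _)

lemma overSec_val (M : SheafOfModules.{u} R) {U : C} (a : M.val.obj (op U)) (Y : Over U) :
    (overSec M a).val (op Y) = M.val.map Y.hom.op a := rfl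

end Site

section Top

variable {X : TopCat.{u}} {R : Sheaf (Opens.grothendieckTopology X) RingCat.{u}}

/-- restriction of sections -/
noncomputable def res (M : SheafOfModules.{u} R) {W W' : Opens X} (h : W' ≤ W) :
    M.val.obj (op W) →+ M.val.obj (op W') where
  toFun m := M.val.map (homOfLE h).op m
  map_zero' := (M.val.map (homOfLE h).op).hom.map_zero
  map_add' := (M.val.map (homOfLE h).op).hom.map_add

/-- restriction of functions -/
noncomputable def resR {W W' : Opens X} (h : W' ≤ W) :
    R.obj.obj (op W) →+* R.obj.obj (op W') :=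
  (R.obj.map (homOfLE h).op).hom

/-- a morphism on sections -/
noncomputable def app {M N : SheafOfModules.{u} R} (f : M ⟶ N) (W : Opens X) :
    M.val.obj (op W) →ₗ[R.obj.obj (op W)] N.val.obj (op W) := (f.val.app (op W)).hom

lemma res_smul (M : SheafOfModules.{u} R) {W W' : Opens X} (h : W' ≤ W)
    (r : R.obj.obj (op W)) (m : M.val.obj (op W)) :
    res M h (r • m) = resR h r • res M h m :=
  PresheafOfModules.map_smul M.val (homOfLE h).op r m

lemma res_res (M : SheafOfModules.{u} R) {W W' W'' : Opens X} (h : W' ≤ W) (h' : W'' ≤ W')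
    (m : M.val.obj (op W)) : res M h' (res M h m) = res M (h'.trans h) m :=
  (PresheafOfModules.map_comp_apply M.val (homOfLE h).op (homOfLE h').op m).symm

lemma resR_resR {W W' W'' : Opens X} (h : W' ≤ W) (h' : W'' ≤ W')
    (r : R.obj.obj (op W)) : resR h' (resR h r) = resR (R := R) (h'.trans h) r := by
  change (R.obj.map (homOfLE h).op ≫ R.obj.map (homOfLE h').op).hom r = _
  rw [← R.obj.map_comp]
  rfl

lemma res_self (M : SheafOfModules.{u} R) {W : Opens X} (m : M.val.obj (op W)) :
    res M (le_refl W) m = m := by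
  change M.val.map (𝟙 (op W)) m = m
  rw [M.val.map_id]
  rfl

lemma app_res {M N : SheafOfModules.{u} R} (f : M ⟶ N) {W W' : Opens X} (h : W' ≤ W)
    (m : M.val.obj (op W)) : app f W' (res M h m) = res N h (app f W m) :=
  PresheafOfModules.naturality_apply f.val (homOfLE h).op m

lemma app_comp {M N P : SheafOfModules.{u} R} (f : M ⟶ N) (g : N ⟶ P) (W : Opens X)
    (m : M.val.obj (op W)) : app (f ≫ g) W m = app g W (app f W m) := rfl

lemma exists_open_le_of_finite {ι : Type*} [Finite ι] (x : X) (V : ι → Opens X)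
    (hV : ∀ i, x ∈ V i) : ∃ U : Opens X, x ∈ U ∧ ∀ i, U ≤ V i :=
  ⟨⟨⋂ i, (V i : Set X), isOpen_iInter_of_finite (fun i => (V i).2)⟩, Set.mem_iInter.2 hV,
    fun i _ hy => Set.mem_iInter.1 hy i⟩

/-- An epimorphism is pointwise locally surjective. -/
theorem exists_local_lift {M N : SheafOfModules.{u} R} (f : M ⟶ N) [Epi f] {W : Opens X}
    (n : N.val.obj (op W)) (y : X) (hy : y ∈ W) :
    ∃ (W' : Opens X) (hW' : W' ≤ W), y ∈ W' ∧
      ∃ m : M.val.obj (op W'), app f W' m = res N hW' n := by
  obtain ⟨S, hS, hS'⟩ := locSurj_of_epi f W n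
  obtain ⟨W', g, hg, hyW'⟩ := hS y hy
  obtain ⟨m, hm⟩ := hS' g hg
  exact ⟨W', g.le, hyW', m, hm⟩

/-- A pointwise locally surjective morphism is an epimorphism. -/
theorem epi_of_pointwise {M N : SheafOfModules.{u} R} (f : M ⟶ N)
    (h : ∀ (W : Opens X) (n : N.val.obj (op W)) (y : X), y ∈ W →
      ∃ (W' : Opens X) (hW' : W' ≤ W), y ∈ W' ∧
        ∃ m : M.val.obj (op W'), app f W' m = res N hW' n) : Epi f := by
  haveI : Sheaf.IsLocallySurjective ((SheafOfModules.toSheaf.{u} R).map f) :=
    ⟨fun {W} n => by
      intro y hy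
      obtain ⟨W', hW', hyW', m, hm⟩ := h W n y hy
      exact ⟨W', homOfLE hW', ⟨m, hm⟩, hyW'⟩⟩
  haveI : Epi ((SheafOfModules.toSheaf.{u} R).map f) := inferInstance
  exact Functor.epi_of_epi_map (SheafOfModules.toSheaf.{u} R) inferInstance

/-- The sections `s i` of `M` over `U` locally span `M|_U`. -/
def LocSpanT (M : SheafOfModules.{u} R) (U : Opens X) {ι : Type u} [Fintype ι]
    (s : ι → M.val.obj (op U)) : Prop :=
  ∀ (W : Opens X) (hW : W ≤ U) (m : M.val.obj (op W)) (y : X), y ∈ W →
    ∃ (W' : Opens X) (hW' : W' ≤ W), y ∈ W' ∧ ∃ r : ι → R.obj.obj (op W'),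
      res M hW' m = ∑ i, r i • res M (hW'.trans hW) (s i)

/-- A pointwise locally surjective morphism of modules on the localised site is an
epimorphism. -/
theorem epi_over_of_pointwise {U : Opens X} {A B : SheafOfModules.{u} (R.over U)} (f : A ⟶ B)
    (h : ∀ (Y : Over U) (n : B.val.obj (op Y)) (y : X), y ∈ Y.left →
      ∃ (W' : Opens X) (g : W' ⟶ Y.left), y ∈ W' ∧
        ∃ m : A.val.obj (op (Over.mk (g ≫ Y.hom))),
          (f.val.app (op (Over.mk (g ≫ Y.hom)))).hom m =
            B.val.map (Over.homMk g : Over.mk (g ≫ Y.hom) ⟶ Y).op n) : Epi f := by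
  haveI : Sheaf.IsLocallySurjective ((SheafOfModules.toSheaf.{u} (R.over U)).map f) :=
    ⟨fun {Y} n => by
      rw [GrothendieckTopology.mem_over_iff]
      intro y hy
      obtain ⟨W', g, hyW', m, hm⟩ := h Y n y hy
      refine ⟨W', g, ?_, hyW'⟩
      rw [Sieve.overEquiv_iff]
      exact ⟨m, hm⟩⟩
  haveI : Epi ((SheafOfModules.toSheaf.{u} (R.over U)).map f) := inferInstance
  exact Functor.epi_of_epi_map (SheafOfModules.toSheaf.{u} (R.over U)) inferInstance

/-- Finite generating families of `M|_U` are the locally spanning finite families of sections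
over `U`. -/
theorem exists_generatingSections_iff (M : SheafOfModules.{u} R) (U : Opens X) :
    (∃ σ : (M.over U).GeneratingSections, σ.IsFiniteType) ↔
      ∃ (ι : Type u) (_ : Fintype ι) (s : ι → M.val.obj (op U)), LocSpanT M U s := by
  constructor
  · rintro ⟨σ, hσ⟩
    haveI : Finite σ.I := hσ.finite
    letI : Fintype σ.I := Fintype.ofFinite σ.I
    refine ⟨σ.I, inferInstance,
      fun i => (show M.val.obj (op U) from secAt (σ.s i) (op (T U))), ?_⟩
    intro W hW m y hy
    obtain ⟨S, hS, hS'⟩ := exists_sum_of_epi (M.over U) σ.s (Over.mk (homOfLE hW))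
      (show (M.over U).val.obj (op (Over.mk (homOfLE hW))) from m)
    obtain ⟨W', g, hg, hyW'⟩ := ((Opens.grothendieckTopology X).mem_over_iff S).1 hS y hy
    rw [Sieve.overEquiv_iff] at hg
    obtain ⟨r, hr⟩ := hS' _ hg
    refine ⟨W', g.le, hyW', r, ?_⟩
    refine hr.trans (Finset.sum_congr rfl (fun i _ => ?_))
    congr 1
    exact (PresheafOfModules.sections_property (σ.s i)
      (toT (Over.mk (g ≫ homOfLE hW))).op).symm
  · rintro ⟨ι, _, s, hs⟩
    classical
    refine ⟨{ I := ι, s := fun i => overSec M (s i), epi := ?_ }, ⟨Finite.of_fintype ι⟩⟩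
    apply epi_over_of_pointwise
    intro Y n y hy
    obtain ⟨W', hW', hyW', r, hr⟩ :=
      hs Y.left Y.hom.le (show M.val.obj (op Y.left) from n) y hy
    refine ⟨W', homOfLE hW', hyW',
      ∑ i, (show (R.over U).obj.obj (op (Over.mk (homOfLE hW' ≫ Y.hom))) from r i) •
        secAt (freeSection (R := R.over U) i) (op (Over.mk (homOfLE hW' ≫ Y.hom))), ?_⟩
    have e1 : ∀ i, (((M.over U).freeHomEquiv.symm (fun i => overSec M (s i))).val.app
        (op (Over.mk (homOfLE hW' ≫ Y.hom)))).hom
          (secAt (freeSection (R := R.over U) i) (op (Over.mk (homOfLE hW' ≫ Y.hom)))) =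
        M.val.map (homOfLE hW' ≫ Y.hom).op (s i) := fun i =>
      congrArg (fun σ => secAt σ (op (Over.mk (homOfLE hW' ≫ Y.hom))))
        (sectionsMap_freeHomEquiv_symm_freeSection (fun i => overSec M (s i)) i)
    rw [map_sum]
    simp only [map_smul, e1]
    exact hr.symm

/-- Finite type modules on a ringed space, pointwise. -/
theorem isFiniteType_iff (M : SheafOfModules.{u} R) :
    M.IsFiniteType ↔ ∀ x : X, ∃ (U : Opens X), x ∈ U ∧
      ∃ (ι : Type u) (_ : Fintype ι) (s : ι → M.val.obj (op U)), LocSpanT M U s := by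
  constructor
  · intro hM x
    obtain ⟨σ, hσ⟩ := hM.exists_localGeneratorsData
    have hcov := (Opens.coversTop_iff X σ.X).1 σ.coversTop
    have hx : x ∈ ⨆ i, σ.X i := by
      rw [IsOpenCover] at hcov
      rw [hcov]
      trivial
    obtain ⟨i, hxi⟩ := Opens.mem_iSup.1 hx
    exact ⟨σ.X i, hxi,
      (exists_generatingSections_iff M (σ.X i)).1 ⟨σ.generators i, hσ.isFiniteType i⟩⟩
  · intro h
    choose U hxU hU using h
    have hgen := fun x => (exists_generatingSections_iff M (U x)).2 (hU x)
    choose σ hσ using hgen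
    have hcov : (Opens.grothendieckTopology X).CoversTop U := by
      rw [Opens.coversTop_iff X U, IsOpenCover, eq_top_iff]
      intro x _
      exact Opens.mem_iSup.2 ⟨x, hxU x⟩
    let σ' : SheafOfModules.LocalGeneratorsData.{u} M :=
      { I := ↑X, X := U, coversTop := hcov, generators := σ }
    have hσ' : σ'.IsFiniteType := { isFiniteType := fun i => hσ i }
    exact { exists_localGeneratorsData := ⟨σ', hσ'⟩ }

end Top

end Groth.Agent.Lib.Helper25.LocGenSite
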