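import Mathlib
import Groth.Agent.Lib.Helper25.LocGenSite

/-!
# Extensions of finite type modules on a ringed space are of finite type
-/

set_option autoImplicit false
universe u

open CategoryTheory CategoryTheory.Limits Opposite SheafOfModules TopologicalSpace
open Groth.Agent.Lib.Helper25.LocGenSite

namespace Groth.Agent.Lib.Helper25.LocGenExt

variable {X : TopCat.{u}} {R : Sheaf (Opens.grothendieckTopology X) RingCat.{u}}

theorem isFiniteType_of_shortExact (S : ShortComplex (SheafOfModules.{u} R)) (hS : S.ShortExact)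
    [S.X₁.IsFiniteType] [S.X₃.IsFiniteType] : S.X₂.IsFiniteType := by
  rw [isFiniteType_iff]
  intro x
  obtain ⟨U₁, hx₁, ι₁, _, t, ht⟩ := (isFiniteType_iff S.X₁).1 inferInstance x
  obtain ⟨U₃, hx₃, ι₃, _, s, hs⟩ := (isFiniteType_iff S.X₃).1 inferInstance x
  haveI := hS.epi_g
  have hl : ∀ i, ∃ (V : Opens X) (hV : V ≤ U₃), x ∈ V ∧
      ∃ m : S.X₂.val.obj (op V), app S.g V m = res S.X₃ hV (s i) :=
    fun i => exists_local_lift S.g (s i) x hx₃
  choose V hV hxV m hm using hl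
  obtain ⟨U', hxU', hU'V⟩ := exists_open_le_of_finite x V hxV
  have hxU : x ∈ U' ⊓ (U₁ ⊓ U₃) := ⟨hxU', hx₁, hx₃⟩
  have hU₁ : U' ⊓ (U₁ ⊓ U₃) ≤ U₁ := inf_le_right.trans inf_le_left
  have hU₃ : U' ⊓ (U₁ ⊓ U₃) ≤ U₃ := inf_le_right.trans inf_le_right
  have hUV : ∀ i, U' ⊓ (U₁ ⊓ U₃) ≤ V i := fun i => inf_le_left.trans (hU'V i)
  refine ⟨U' ⊓ (U₁ ⊓ U₃), hxU, ι₃ ⊕ ι₁, inferInstance,
    Sum.elim (fun i => res S.X₂ (hUV i) (m i))
      (fun j => app S.f (U' ⊓ (U₁ ⊓ U₃)) (res S.X₁ hU₁ (t j))), ?_⟩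
  intro W hW a y hy
  obtain ⟨W', hW', hyW', r, hr⟩ := hs W (hW.trans hU₃) (app S.g W a) y hy
  have hWV : ∀ i, W' ≤ V i := fun i => (hW'.trans hW).trans (hUV i)
  let d : S.X₂.val.obj (op W') := res S.X₂ hW' a - ∑ i, r i • res S.X₂ (hWV i) (m i)
  have hgd : app S.g W' d = 0 := by
    simp only [d, map_sub, map_sum, map_smul, app_res, hm, res_res]
    rw [hr, sub_self]
  obtain ⟨n, hn⟩ := exact_sections S hS (op W') d hgd
  obtain ⟨W'', hW'', hyW'', q, hq⟩ := ht W' ((hW'.trans hW).trans hU₁) n y hyW'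
  refine ⟨W'', hW''.trans hW', hyW'', Sum.elim (fun i => resR hW'' (r i)) q, ?_⟩
  rw [Fintype.sum_sum_type]
  simp only [Sum.elim_inl, Sum.elim_inr]
  have h1 : res S.X₂ hW'' d =
      ∑ j, q j • app S.f W'' (res S.X₁ (hW''.trans ((hW'.trans hW).trans hU₁)) (t j)) := by
    have e : res S.X₂ hW'' d = app S.f W'' (res S.X₁ hW'' n) := by
      rw [app_res]
      exact congrArg _ hn.symm
    rw [e, hq, map_sum]
    simp only [map_smul]
  have h2 : res S.X₂ hW'' d = res S.X₂ (hW''.trans hW') a -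
      ∑ i, resR hW'' (r i) • res S.X₂ (hW''.trans (hWV i)) (m i) := by
    simp only [d, map_sub, map_sum, res_smul, res_res]
  rw [eq_sub_iff_add_eq] at h2
  rw [← h2, h1, add_comm]
  simp only [res_res, ← app_res]

end Groth.Agent.Lib.Helper25.LocGenExt
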