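import Mathlib

/-!
# Gluing local divisibility by a stalkwise regular global section
-/

set_option autoImplicit false
set_option linter.style.haveILetI false
universe u
open CategoryTheory AlgebraicGeometry Opposite TopologicalSpace

namespace Groth.Agent.Lib.Helper25.DivGlue

variable {X : Scheme.{u}}

/-- restriction of a global section -/
noncomputable abbrev res (a : Γ(X, ⊤)) (W : X.Opens) : Γ(X, W) :=
  (X.presheaf.map (homOfLE (le_top : W ≤ ⊤)).op).hom a

theorem germ_res (a : Γ(X, ⊤)) (W : X.Opens) (x : X) (hx : x ∈ W) :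
    (X.presheaf.germ W x hx).hom (res a W) = (X.presheaf.germ ⊤ x trivial).hom a :=
  congr($(X.presheaf.germ_res (homOfLE (le_top : W ≤ ⊤)) x hx).hom a)

theorem res_res (a : Γ(X, ⊤)) {W U : X.Opens} (hWU : W ≤ U) :
    (X.presheaf.map (homOfLE hWU).op).hom (res a U) = res a W := by
  simp only [res]
  rw [← CommRingCat.comp_apply, ← Functor.map_comp]
  rfl

/-- A stalkwise regular global section is regular on every open. -/
theorem eq_zero_of_mul_eq_zero (a : Γ(X, ⊤))
    (ha : ∀ (x : X) (z : X.presheaf.stalk x),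
      (X.presheaf.germ ⊤ x trivial).hom a * z = 0 → z = 0)
    (W : X.Opens) (s : Γ(X, W)) (h : res a W * s = 0) : s = 0 := by
  refine TopCat.Presheaf.section_ext X.sheaf W s 0 (fun x hx => ?_)
  have h1 : (X.presheaf.germ W x hx).hom s = 0 := by
    apply ha x
    rw [← germ_res a W x hx, ← map_mul, h, map_zero]
  have h0 : (X.presheaf.germ W x hx).hom (0 : Γ(X, W)) = 0 := map_zero _
  exact h1.trans h0.symm

/-- Divisibility by a stalkwise regular global section glues from affine opens. -/
theorem dvd_of_locally_dvd (a : Γ(X, ⊤))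
    (ha : ∀ (x : X) (z : X.presheaf.stalk x),
      (X.presheaf.germ ⊤ x trivial).hom a * z = 0 → z = 0)
    (s : Γ(X, ⊤)) (hloc : ∀ U : X.affineOpens, ∃ t : Γ(X, U.1), res a U.1 * t = res s U.1) :
    ∃ t : Γ(X, ⊤), a * t = s := by
  choose sf hsf using hloc
  have key : ∀ (U : X.affineOpens) (W : X.Opens) (hWU : W ≤ U.1),
      res a W * (X.presheaf.map (homOfLE hWU).op).hom (sf U) = res s W := by
    intro U W hWU
    rw [← res_res a hWU, ← map_mul, hsf U, res_res]
  have hcompat : TopCat.Presheaf.IsCompatible X.presheaf (fun i : X.affineOpens => i.1) sf := by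
    intro i j
    have h3 := key i (i.1 ⊓ j.1) inf_le_left
    have h4 := key j (i.1 ⊓ j.1) inf_le_right
    have h5 : res a (i.1 ⊓ j.1) * ((X.presheaf.map (homOfLE inf_le_left).op).hom (sf i) -
        (X.presheaf.map (homOfLE inf_le_right).op).hom (sf j)) = 0 := by
      rw [mul_sub, h3, h4, sub_self]
    exact sub_eq_zero.mp (eq_zero_of_mul_eq_zero a ha _ _ h5)
  obtain ⟨t, ht⟩ : ∃ t : Γ(X, ⊤), ∀ i : X.affineOpens,
      (X.presheaf.map (homOfLE (le_top : i.1 ≤ ⊤)).op).hom t = sf i := by
    obtain ⟨t, ht, -⟩ := X.sheaf.existsUnique_gluing' (U := fun i : X.affineOpens => i.1) ⊤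
      (fun i => homOfLE le_top) (by rw [iSup_affineOpens_eq_top]) sf hcompat
    exact ⟨t, ht⟩
  refine ⟨t, ?_⟩
  have hfin : ∀ i : X.affineOpens, (X.presheaf.map (homOfLE (le_top : i.1 ≤ ⊤)).op).hom (a * t) =
      (X.presheaf.map (homOfLE (le_top : i.1 ≤ ⊤)).op).hom s := by
    intro i
    rw [map_mul, ht i]
    exact hsf i
  exact X.sheaf.eq_of_locally_eq' (fun i : X.affineOpens => i.1) ⊤ (fun i => homOfLE le_top)
    (by rw [iSup_affineOpens_eq_top]) (a * t) s hfin

end Groth.Agent.Lib.Helper25.DivGlue
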