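import Mathlib
import Groth.Agent.Lib.Helper17.SpecBC

/-!
# Sections of a base change along `Spec B ⟶ Spec A`: flat case, commutation, tensor form
-/

set_option autoImplicit false
set_option linter.style.haveILetI false
universe u
open CategoryTheory CategoryTheory.Limits AlgebraicGeometry Opposite TopologicalSpace TensorProduct

namespace Groth.Agent.Lib.Helper25.SecTensor

open Groth.Agent.Lib.Helper17.SpecBC

variable {X X' : Scheme.{u}} {A B : CommRingCat.{u}}
variable {p : X ⟶ Spec A} {φ : A ⟶ B} {a : X' ⟶ X} {q : X' ⟶ Spec B}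

/-- Flat base change for sections over a quasi-compact quasi-separated open. -/
theorem isPushout_sections_of_flat (hc : IsPullback a q p (Spec.map φ)) [Flat (Spec.map φ)]
    {U : X.Opens} (hU : IsCompact (X := X) U) (hU' : IsQuasiSeparated (α := X) U) :
    IsPushout φ (toSec p U) (toSec q (a ⁻¹ᵁ U)) (a.appLE U (a ⁻¹ᵁ U) le_rfl) := by
  have hUY : a ⁻¹ᵁ U = a ⁻¹ᵁ U ⊓ q ⁻¹ᵁ ⊤ := by simp
  have hpo := (isIso_pushoutSection_iff hc (UT := ⊤) (US := ⊤) le_top (UX := U) le_top hUY).mp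
    (isIso_pushoutSection_of_isQuasiSeparated_of_flat_right hc le_top le_top hUY
      (isAffineOpen_top _) (isAffineOpen_top _) hU hU')
  refine (IsPushout.of_iso hpo (Scheme.ΓSpecIso A) (Iso.refl _) (Scheme.ΓSpecIso B) (Iso.refl _)
    ?_ ?_ ?_ ?_).flip
  · simp [toSec]
  · have h1 : (Spec.map φ).appLE ⊤ ((Spec.map φ) ⁻¹ᵁ ⊤) le_rfl = (Spec.map φ).appTop :=
      Scheme.Hom.appLE_eq_app (Spec.map φ)
    exact (congrArg (· ≫ (Scheme.ΓSpecIso B).hom) h1).trans (Scheme.ΓSpecIso_naturality φ)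
  · simp
  · simp [toSec]

/-- A bijective ring map is an isomorphism in `CommRingCat`. -/
theorem isIso_of_bijective {A B : CommRingCat.{u}} (f : A ⟶ B) (h : Function.Bijective f.hom) :
    IsIso f := by
  have : f = (RingEquiv.ofBijective f.hom h).toCommRingCatIso.hom := by ext; rfl
  rw [this]; infer_instance

theorem bijective_of_isIso {A B : CommRingCat.{u}} (f : A ⟶ B) [IsIso f] :
    Function.Bijective f.hom :=
  ConcreteCategory.bijective_of_isIso f

/-- If `A → Γ(X, U)` is bijective then so is `B → Γ(X', a⁻¹U)` (flat base change). -/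
theorem toSec_bijective_of_flat (hc : IsPullback a q p (Spec.map φ)) [Flat (Spec.map φ)]
    {U : X.Opens} (hU : IsCompact (X := X) U) (hU' : IsQuasiSeparated (α := X) U)
    (h : Function.Bijective (toSec p U).hom) : Function.Bijective (toSec q (a ⁻¹ᵁ U)).hom := by
  have hpo := isPushout_sections_of_flat hc hU hU'
  haveI : IsIso (toSec p U) := isIso_of_bijective _ h
  haveI : IsIso (toSec q (a ⁻¹ᵁ U)) := hpo.isIso_inl_of_isIso
  exact bijective_of_isIso _

/-- The square of structure maps of sections commutes. -/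
theorem toSec_comm (hc : a ≫ p = q ≫ Spec.map φ) (U : X.Opens) :
    φ ≫ toSec q (a ⁻¹ᵁ U) = toSec p U ≫ a.appLE U (a ⁻¹ᵁ U) le_rfl := by
  have h1 : p.appLE ⊤ U le_top ≫ a.appLE U (a ⁻¹ᵁ U) le_rfl =
      (a ≫ p).appLE ⊤ (a ⁻¹ᵁ U) le_top := by
    rw [Scheme.Hom.appLE_comp_appLE]
  have h2 : (q ≫ Spec.map φ).appLE ⊤ (a ⁻¹ᵁ U) le_top =
      (Spec.map φ).appLE ⊤ ⊤ le_top ≫ q.appLE ⊤ (a ⁻¹ᵁ U) le_top := by
    rw [Scheme.Hom.appLE_comp_appLE]
  have h3 : (Spec.map φ).appLE ⊤ ⊤ le_top = (Spec.map φ).appTop :=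
    Scheme.Hom.appLE_eq_app (Spec.map φ)
  have h4 : (Scheme.ΓSpecIso A).inv ≫ (Spec.map φ).appTop = φ ≫ (Scheme.ΓSpecIso B).inv := by
    rw [Iso.inv_comp_eq, ← Category.assoc, Iso.eq_comp_inv]
    exact (Scheme.ΓSpecIso_naturality φ)
  unfold toSec
  rw [Category.assoc, h1, ← Category.assoc φ, ← h4, Category.assoc]
  congr 1
  rw [← h3, ← h2]
  congr 1
  exact hc.symm ▸ rfl

/-- A pushout square of commutative rings in tensor form. -/
theorem exists_equiv_of_isPushout {R S A T : Type u} [CommRing R] [CommRing S] [CommRing A]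
    [CommRing T] [Algebra R S] [Algebra R A] (g : S →+* T) (h : A →+* T)
    (hpo : IsPushout (CommRingCat.ofHom (algebraMap R S)) (CommRingCat.ofHom (algebraMap R A))
      (CommRingCat.ofHom g) (CommRingCat.ofHom h)) :
    ∃ e : S ⊗[R] A ≃+* T, ∀ s x, e (s ⊗ₜ[R] x) = g s * h x := by
  letI aST : Algebra S T := g.toAlgebra
  letI aAT : Algebra A T := h.toAlgebra
  letI aRT : Algebra R T := (g.comp (algebraMap R S)).toAlgebra
  haveI t1 : IsScalarTower R S T := IsScalarTower.of_algebraMap_eq fun _ => rfl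
  haveI t2 : IsScalarTower R A T :=
    IsScalarTower.of_algebraMap_eq fun r => congr($(hpo.w).hom r)
  haveI po : Algebra.IsPushout R S A T := CommRingCat.isPushout_iff_isPushout.mp hpo
  refine ⟨(Algebra.IsPushout.equiv R S A T).toRingEquiv, fun s x => ?_⟩
  exact Algebra.IsPushout.equiv_tmul R S A T s x

end Groth.Agent.Lib.Helper25.SecTensor
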