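import Mathlib
import Groth.Prelude.Def_Coh

/-!
# Structure map of a stalk of a scheme over `Spec A`, and a reducedness lemma for closed fibres
-/

set_option autoImplicit false
universe u

open CategoryTheory CategoryTheory.Limits AlgebraicGeometry

namespace Groth.Agent.Lib.Helper25.StalkStr

/-- `Spec O_{X,x} ⟶ X ⟶ Spec A` is `Spec` of `A → Γ(X) → O_{X,x}`. -/
theorem fromSpecStalk_comp {A : Type u} [CommRing A] {X : Scheme.{u}}
    (f : X ⟶ Spec (CommRingCat.of A)) (x : X) :
    X.fromSpecStalk x ≫ f = Spec.map (CommRingCat.ofHom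
        ((X.presheaf.germ ⊤ x trivial).hom.comp (Coh.toGlobal f))) := by
  have h1 : f = X.toSpecΓ ≫ Spec.map f.appTop ≫
      Spec.map (Scheme.ΓSpecIso (CommRingCat.of A)).inv := by
    rw [← Category.assoc, ← Scheme.toSpecΓ_naturality, Category.assoc,
      toSpecΓ_SpecMap_ΓSpecIso_inv, Category.comp_id]
  conv_lhs => rw [h1]
  rw [Scheme.fromSpecStalk_toSpecΓ_assoc, ← Spec.map_comp, ← Spec.map_comp]
  rfl

/-- If the localization of `O ⊗_R κ(R)` at a prime over the maximal ideal of the local ring `O` is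
reduced, then `𝔪_R O` is a radical ideal. -/
theorem mem_map_of_pow_mem {R O : Type u} [CommRing R] [IsLocalRing R] [CommRing O] [IsLocalRing O]
    [Algebra R O]
    (Q : Ideal (TensorProduct R O (IsLocalRing.ResidueField R))) [Q.IsPrime]
    (hQ : Q.comap (Algebra.TensorProduct.includeLeftRingHom :
      O →+* TensorProduct R O (IsLocalRing.ResidueField R)) = IsLocalRing.maximalIdeal O)
    [IsReduced (Localization.AtPrime Q)] (a : O) (n : ℕ)
    (ha : a ^ n ∈ Ideal.map (algebraMap R O) (IsLocalRing.maximalIdeal R)) :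
    a ∈ Ideal.map (algebraMap R O) (IsLocalRing.maximalIdeal R) := by
  let ψ : (O ⧸ (IsLocalRing.maximalIdeal R).map (algebraMap R O)) ≃ₐ[O]
      TensorProduct R O (IsLocalRing.ResidueField R) :=
    Algebra.TensorProduct.quotIdealMapEquivTensorQuot O (IsLocalRing.maximalIdeal R)
  have ht : (ψ (Ideal.Quotient.mk _ a)) ^ n = 0 := by
    rw [← map_pow, ← map_pow, (Ideal.Quotient.eq_zero_iff_mem).mpr ha, map_zero]
  have h0 : algebraMap _ (Localization.AtPrime Q) (ψ (Ideal.Quotient.mk _ a)) = 0 := by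
    have hnil : IsNilpotent (algebraMap _ (Localization.AtPrime Q)
        (ψ (Ideal.Quotient.mk _ a))) := ⟨n, by rw [← map_pow, ht, map_zero]⟩
    exact hnil.eq_zero
  obtain ⟨s, hs⟩ := (IsLocalization.map_eq_zero_iff Q.primeCompl (Localization.AtPrime Q) _).mp h0
  obtain ⟨s', hs'⟩ := ψ.surjective (s : TensorProduct R O (IsLocalRing.ResidueField R))
  obtain ⟨o, rfl⟩ := Ideal.Quotient.mk_surjective s'
  have ho : o ∉ IsLocalRing.maximalIdeal O := by
    intro hmem
    rw [← hQ] at hmem
    have hsQ : (s : TensorProduct R O (IsLocalRing.ResidueField R)) ∈ Q := by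
      rw [← hs']
      exact hmem
    exact s.2 hsQ
  have hu : IsUnit o := by
    by_contra h
    exact ho ((IsLocalRing.mem_maximalIdeal _).mpr h)
  have h1 : ψ (Ideal.Quotient.mk _ (o * a)) = 0 := by
    rw [map_mul, map_mul, hs']
    exact hs
  have h2 : Ideal.Quotient.mk ((IsLocalRing.maximalIdeal R).map (algebraMap R O)) (o * a) = 0 :=
    (map_eq_zero_iff ψ ψ.injective).mp h1
  have h3 := Ideal.Quotient.eq_zero_iff_mem.mp h2
  exact (Ideal.unit_mul_mem_iff_mem _ hu).mp h3

/-- In the situation above, `𝔪_R O` is a proper ideal. -/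
theorem map_ne_top {R O : Type u} [CommRing R] [IsLocalRing R] [CommRing O] [Algebra R O]
    (Q : Ideal (TensorProduct R O (IsLocalRing.ResidueField R))) [Q.IsPrime] :
    Ideal.map (algebraMap R O) (IsLocalRing.maximalIdeal R) ≠ ⊤ := by
  intro htop
  let ψ : (O ⧸ (IsLocalRing.maximalIdeal R).map (algebraMap R O)) ≃ₐ[O]
      TensorProduct R O (IsLocalRing.ResidueField R) :=
    Algebra.TensorProduct.quotIdealMapEquivTensorQuot O (IsLocalRing.maximalIdeal R)
  haveI : Subsingleton (O ⧸ (IsLocalRing.maximalIdeal R).map (algebraMap R O)) :=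
    Ideal.Quotient.subsingleton_iff.mpr htop
  haveI : Subsingleton (TensorProduct R O (IsLocalRing.ResidueField R)) :=
    ψ.symm.injective.subsingleton
  exact (Ideal.IsPrime.ne_top ‹Q.IsPrime›) (Subsingleton.elim _ _)

end Groth.Agent.Lib.Helper25.StalkStr
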