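import Mathlib
import Groth.Agent.Lib.Helper3.Reduced
import Groth.Agent.Lib.Helper25.StalkStr
import Groth.Agent.Lib.Helper25.SecTensor
import Groth.Agent.Lib.Helper25.DivGlue

/-!
# Fibrewise schematic dominance of `X ⟶ Spec Γ(X)` for flat qcqs schemes over a DVR
-/

set_option autoImplicit false
set_option linter.style.haveILetI false
universe u
open CategoryTheory CategoryTheory.Limits AlgebraicGeometry Opposite TopologicalSpace TensorProduct

namespace Groth.Agent.Lib.Helper25.FibreKer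

open Groth.Agent.Lib.Helper17.SpecBC Groth.Agent.Lib.Helper25.SecTensor
  Groth.Agent.Lib.Helper25.DivGlue

theorem appLE_top_top {X Y : Scheme.{u}} (f : X ⟶ Y) : f.appLE ⊤ ⊤ le_top = f.appTop :=
  Scheme.Hom.appLE_eq_app f

theorem toSec_top {A : CommRingCat.{u}} {X : Scheme.{u}} (p : X ⟶ Spec A) :
    toSec p ⊤ = (Scheme.ΓSpecIso A).inv ≫ p.appTop := by
  rw [toSec, appLE_top_top]

theorem toSec_top_comp {A : CommRingCat.{u}} {X Y : Scheme.{u}} (h : Y ⟶ X) (p : X ⟶ Spec A) :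
    toSec (h ≫ p) ⊤ = toSec p ⊤ ≫ h.appTop := by
  rw [toSec_top, toSec_top, Category.assoc]
  rfl

theorem appTop_congr {X Y : Scheme.{u}} {k k' : X ⟶ Y} (e : k = k') (a : Γ(Y, ⊤)) :
    (k.appTop.hom a : Γ(X, ⊤)) = k'.appTop.hom a := by
  subst e
  rfl

variable {R : Type u} [CommRing R] {X : Scheme.{u}} (f : X ⟶ Spec (CommRingCat.of R))

theorem toSec_top_hom : (toSec f ⊤).hom = Coh.toGlobal f := by
  rw [toSec, appLE_top_top]
  rfl

theorem toGlobal_apply (r : R) : Coh.toGlobal f r = (toSec f ⊤).hom r := by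
  rw [toSec_top_hom]
  rfl

theorem res_toSec (U : X.Opens) (r : R) : res ((toSec f ⊤).hom r) U = (toSec f U).hom r := by
  rw [toSec, appLE_top_top]
  simp only [res, toSec, Scheme.Hom.appLE, CommRingCat.hom_comp, RingHom.comp_apply]
  rfl

theorem stalk_regular [IsDomain R] [Flat f] (x : X) (r : R) (hr : r ≠ 0) (z : X.presheaf.stalk x)
    (h : (X.presheaf.germ ⊤ x trivial).hom ((toSec f ⊤).hom r) * z = 0) : z = 0 := by
  letI algO : Algebra R (X.presheaf.stalk x) :=
    ((X.presheaf.germ ⊤ x trivial).hom.comp (Coh.toGlobal f)).toAlgebra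
  have hc : X.fromSpecStalk x ≫ f =
      Spec.map (CommRingCat.ofHom (algebraMap R (X.presheaf.stalk x))) :=
    Groth.Agent.Lib.Helper25.StalkStr.fromSpecStalk_comp f x
  haveI : Module.Flat R (X.presheaf.stalk x) := by
    have h1 : Flat (X.fromSpecStalk x) := Groth.Agent.Lib.Helper3.flat_fromSpecStalk X x
    have h2 : Flat (X.fromSpecStalk x ≫ f) := MorphismProperty.comp_mem _ _ _ h1 inferInstance
    rw [hc, Flat.SpecMap_iff] at h2
    exact RingHom.flat_algebraMap_iff.mp h2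
  have hreg : IsSMulRegular (X.presheaf.stalk x) r :=
    Module.Flat.isSMulRegular_of_nonZeroDivisors (mem_nonZeroDivisors_of_ne_zero hr)
  apply hreg
  change r • z = r • 0
  rw [smul_zero, Algebra.smul_def]
  change (X.presheaf.germ ⊤ x trivial).hom (Coh.toGlobal f r) * z = 0
  rw [toGlobal_apply]
  exact h

theorem local_dvd {K : CommRingCat.{u}} (φ : CommRingCat.of R ⟶ K)
    (hφs : Function.Surjective φ.hom)
    {Xs : Scheme.{u}} {gs : Xs ⟶ X} {fs : Xs ⟶ Spec K}
    (hs : IsPullback gs fs f (Spec.map φ))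
    (ϖ : R) (hϖ : RingHom.ker φ.hom = Ideal.span {ϖ})
    (U : X.Opens) (hU : IsAffineOpen U) (a : Γ(X, U))
    (ha : (gs.appLE U (gs ⁻¹ᵁ U) le_rfl).hom a = 0) :
    ∃ t : Γ(X, U), (toSec f U).hom ϖ * t = a := by
  letI algA : Algebra R Γ(X, U) := (toSec f U).hom.toAlgebra
  letI algK : Algebra R K := φ.hom.toAlgebra
  have hpo := isPushout_sections hs hU
  obtain ⟨e, he⟩ := exists_equiv_of_isPushout (R := R) (S := K)
    (A := Γ(X, U)) (T := Γ(Xs, gs ⁻¹ᵁ U))
    (toSec fs (gs ⁻¹ᵁ U)).hom (gs.appLE U (gs ⁻¹ᵁ U) le_rfl).hom hpo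
  have h1 : (1 : K) ⊗ₜ[R] a = 0 := by
    apply e.injective
    rw [he, ha, mul_zero, map_zero]
  have h2 : a ⊗ₜ[R] (1 : K) = 0 := by
    have := congrArg (Algebra.TensorProduct.comm R K Γ(X, U)) h1
    simpa using this
  let I : Ideal R := RingHom.ker φ.hom
  let ψ0 : (R ⧸ I) ≃+* K := RingHom.quotientKerEquivOfSurjective hφs
  let κe : (R ⧸ I) ≃ₐ[R] K := AlgEquiv.ofRingEquiv (f := ψ0) (fun r => rfl)
  let c : Γ(X, U) ⊗[R] (R ⧸ I) ≃ₐ[R] Γ(X, U) ⊗[R] K :=
    Algebra.TensorProduct.congr AlgEquiv.refl κe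
  have h2' : a ⊗ₜ[R] (1 : R ⧸ I) = 0 := by
    apply c.injective
    rw [map_zero]
    have hc1 : c (a ⊗ₜ[R] (1 : R ⧸ I)) = a ⊗ₜ[R] κe 1 := by
      simp [c]
    rw [hc1, map_one]
    exact h2
  let ψ : (Γ(X, U) ⧸ I.map (algebraMap R Γ(X, U))) ≃ₐ[Γ(X, U)] Γ(X, U) ⊗[R] (R ⧸ I) :=
    Algebra.TensorProduct.quotIdealMapEquivTensorQuot Γ(X, U) I
  have h3 : ψ (Ideal.Quotient.mk _ a) = a ⊗ₜ[R] 1 := by
    have := ψ.commutes a
    rw [Algebra.TensorProduct.algebraMap_apply] at this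
    exact this
  have h4 : Ideal.Quotient.mk (I.map (algebraMap R Γ(X, U))) a = 0 := by
    apply ψ.injective
    rw [h3, h2', map_zero]
  have h5 := Ideal.Quotient.eq_zero_iff_mem.mp h4
  rw [show I = Ideal.span {ϖ} from hϖ, Ideal.map_span, Set.image_singleton,
    Ideal.mem_span_singleton'] at h5
  obtain ⟨t, ht⟩ := h5
  exact ⟨t, by rw [mul_comm]; exact ht⟩

theorem global_dvd [IsDomain R] [Flat f] {K : CommRingCat.{u}} (φ : CommRingCat.of R ⟶ K)
    (hφs : Function.Surjective φ.hom)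
    {Xs : Scheme.{u}} {gs : Xs ⟶ X} {fs : Xs ⟶ Spec K}
    (hs : IsPullback gs fs f (Spec.map φ))
    (ϖ : R) (hϖ0 : ϖ ≠ 0) (hϖ : RingHom.ker φ.hom = Ideal.span {ϖ})
    (s : Γ(X, ⊤)) (hs0 : gs.appTop.hom s = 0) : ∃ t, (toSec f ⊤).hom ϖ * t = s := by
  apply dvd_of_locally_dvd ((toSec f ⊤).hom ϖ) (fun x z h => stalk_regular f x ϖ hϖ0 z h) s
  intro U
  rw [res_toSec]
  apply local_dvd f φ hφs hs ϖ hϖ U.1 U.2
  have h1 : X.presheaf.map (homOfLE (le_top : U.1 ≤ ⊤)).op ≫
      gs.appLE U.1 (gs ⁻¹ᵁ U.1) le_rfl = gs.appLE ⊤ (gs ⁻¹ᵁ U.1) le_top :=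
    gs.map_appLE _ _
  have h2 : (gs.appLE U.1 (gs ⁻¹ᵁ U.1) le_rfl).hom (res s U.1) =
      (gs.appLE ⊤ (gs ⁻¹ᵁ U.1) le_top).hom s := congr($(h1).hom s)
  rw [h2]
  have h3 : (gs.appLE ⊤ (gs ⁻¹ᵁ U.1) le_top).hom s =
      (Xs.presheaf.map (homOfLE (le_top : gs ⁻¹ᵁ U.1 ≤ ⊤)).op).hom (gs.appTop.hom s) := rfl
  rw [h3, hs0, map_zero]

theorem injective_appTop (A : Type u) [CommRing A] [IsDomain A] [IsDiscreteValuationRing A]
    {X : Scheme.{u}} (f : X ⟶ Spec (CommRingCat.of A)) [Flat f] [QuasiCompact f]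
    [QuasiSeparated f]
    (g : Spec Γ(X, ⊤) ⟶ Spec (CommRingCat.of A)) (hg : X.toSpecΓ ≫ g = f)
    {K : CommRingCat.{u}} (hK : IsField K) (φ : CommRingCat.of A ⟶ K)
    (hφ : Function.Injective φ.hom ∨
      (Function.Surjective φ.hom ∧ RingHom.ker φ.hom = IsLocalRing.maximalIdeal A))
    (σ : Spec K ⟶ Spec (CommRingCat.of A)) (hσ : σ = Spec.map φ)
    {Y Z : Scheme.{u}} {y1 : Y ⟶ X} {y2 : Y ⟶ Spec K} (hY : IsPullback y1 y2 f σ)
    {z1 : Z ⟶ Spec Γ(X, ⊤)} {z2 : Z ⟶ Spec K} (hZ : IsPullback z1 z2 g σ)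
    (h : Y ⟶ Z) (h1 : h ≫ z1 = y1 ≫ X.toSpecΓ) (h2 : h ≫ z2 = y2) :
    Function.Injective h.appTop.hom := by
  subst hσ
  haveI hθ : IsIso X.toSpecΓ.appTop := by
    rw [Scheme.toSpecΓ_appTop]; infer_instance
  have hgf : toSec g ⊤ ≫ X.toSpecΓ.appTop = toSec f ⊤ := by
    rw [← hg, toSec_top_comp]
  have c1 : toSec z2 ⊤ ≫ h.appTop = toSec y2 ⊤ := by
    rw [← h2, toSec_top_comp]
  have c2 : z1.appTop ≫ h.appTop = X.toSpecΓ.appTop ≫ y1.appTop :=
    CommRingCat.hom_ext (RingHom.ext fun b => appTop_congr h1 b)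
  have PZw : φ ≫ toSec z2 ⊤ = toSec g ⊤ ≫ z1.appTop := by
    have := toSec_comm hZ.w ⊤
    rwa [Scheme.Hom.appLE_eq_app] at this
  rcases hφ with hinj | ⟨hsurj, hker⟩
  · letI algK : Algebra A K := φ.hom.toAlgebra
    haveI : IsDomain K := hK.isDomain
    haveI : Module.IsTorsionFree A K := Module.isTorsionFree_iff_algebraMap_injective.mpr hinj
    haveI : Module.Flat A K := inferInstance
    haveI : Flat (Spec.map φ) := by
      rw [Flat.SpecMap_iff]
      exact (RingHom.flat_algebraMap_iff (R := A) (S := K)).mpr inferInstance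
    haveI : CompactSpace X := QuasiCompact.compactSpace_of_compactSpace f
    haveI : QuasiSeparatedSpace X := quasiSeparatedSpace_of_quasiSeparated f
    have PY : IsPushout φ (toSec f ⊤) (toSec y2 ⊤) y1.appTop := by
      have := isPushout_sections_of_flat hY (U := ⊤) (by simpa using isCompact_univ)
        (by simpa using isQuasiSeparated_univ)
      rwa [Scheme.Hom.appLE_eq_app] at this
    have PZ : IsPushout φ (toSec g ⊤) (toSec z2 ⊤) z1.appTop := by
      have := isPushout_sections hZ (isAffineOpen_top _)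
      rwa [Scheme.Hom.appLE_eq_app] at this
    have hinv : φ ≫ toSec z2 ⊤ = toSec f ⊤ ≫ (inv X.toSpecΓ.appTop ≫ z1.appTop) := by
      rw [PZ.w, ← hgf, Category.assoc, IsIso.hom_inv_id_assoc]
    have hiso : IsIso h.appTop := by
      refine ⟨⟨PY.desc (toSec z2 ⊤) (inv X.toSpecΓ.appTop ≫ z1.appTop) hinv, ?_, ?_⟩⟩
      · apply PZ.hom_ext
        · rw [Category.comp_id, ← Category.assoc, c1, PY.inl_desc]
        · rw [Category.comp_id, ← Category.assoc, c2, Category.assoc, PY.inr_desc,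
            IsIso.hom_inv_id_assoc]
      · apply PY.hom_ext
        · rw [Category.comp_id, ← Category.assoc, PY.inl_desc, c1]
        · rw [Category.comp_id, ← Category.assoc, PY.inr_desc, Category.assoc, c2,
            IsIso.inv_hom_id_assoc]
    exact (ConcreteCategory.bijective_of_isIso h.appTop).1
  · obtain ⟨ϖ, hϖ⟩ := IsDiscreteValuationRing.exists_irreducible A
    have hm : IsLocalRing.maximalIdeal A = Ideal.span {ϖ} := hϖ.maximalIdeal_eq
    haveI : IsClosedImmersion (Spec.map φ) := IsClosedImmersion.spec_of_surjective φ hsurj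
    haveI : IsClosedImmersion z1 :=
      MorphismProperty.of_isPullback (P := @IsClosedImmersion) hZ.flip inferInstance
    have hz1 : Function.Surjective z1.appTop.hom :=
      (IsClosedImmersion.isAffine_surjective_of_isAffine z1).2
    have hθb := ConcreteCategory.bijective_of_isIso X.toSpecΓ.appTop
    rw [injective_iff_map_eq_zero]
    intro a' ha'
    obtain ⟨x, rfl⟩ := hz1 a'
    have hb : y1.appTop.hom (X.toSpecΓ.appTop.hom x) = 0 := by
      rw [← ha']
      exact (appTop_congr h1 x).symm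
    obtain ⟨t, ht⟩ := global_dvd f φ hsurj hY ϖ hϖ.ne_zero (hker.trans hm)
      (X.toSpecΓ.appTop.hom x) hb
    obtain ⟨t', rfl⟩ := hθb.2 t
    have hx : x = (toSec g ⊤).hom ϖ * t' := by
      apply hθb.1
      change X.toSpecΓ.appTop.hom x = X.toSpecΓ.appTop.hom ((toSec g ⊤).hom ϖ * t')
      rw [map_mul, ← ht]
      congr 1
      exact (congr($(hgf).hom ϖ)).symm
    have hφϖ : φ.hom ϖ = 0 := by
      have : ϖ ∈ RingHom.ker φ.hom := by
        rw [hker, hm]
        exact Ideal.mem_span_singleton_self ϖ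
      exact RingHom.mem_ker.mp this
    have hz : z1.appTop.hom ((toSec g ⊤).hom ϖ) = 0 := by
      have hw := congr($(PZw).hom ϖ)
      change (toSec z2 ⊤).hom (φ.hom ϖ) = z1.appTop.hom ((toSec g ⊤).hom ϖ) at hw
      rw [← hw, hφϖ, map_zero]
    rw [hx, map_mul, hz, zero_mul]

theorem main
    (A : Type u) [CommRing A] [IsDomain A] [IsDiscreteValuationRing A]
    (X : Scheme.{u}) (f : X ⟶ Spec (CommRingCat.of A)) [Flat f] [QuasiCompact f] [QuasiSeparated f]
    (g : Spec Γ(X, ⊤) ⟶ Spec (CommRingCat.of A)) (hg : X.toSpecΓ ≫ g = f) (s : ↥(Spec (CommRingCat.of A))) :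
    (pullback.map f ((Spec (CommRingCat.of A)).fromSpecResidueField s) g ((Spec (CommRingCat.of A)).fromSpecResidueField s)
        X.toSpecΓ (𝟙 _) (𝟙 _) ((Category.comp_id f).trans hg.symm)
        ((Category.comp_id _).trans (Category.id_comp _).symm)).ker = ⊥ := by
  classical
  let ρ := Scheme.Spec.residueFieldIso (CommRingCat.of A) s
  let φ : CommRingCat.of A ⟶ (Spec (CommRingCat.of A)).residueField s :=
    CommRingCat.ofHom (algebraMap A s.asIdeal.ResidueField) ≫ ρ.inv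
  have hσ : (Spec (CommRingCat.of A)).fromSpecResidueField s = Spec.map φ := by
    rw [Spec.map_comp]
    exact (Scheme.Spec.map_residueFieldIso_inv_eq_fromSpecResidueField (CommRingCat.of A) s).symm
  have hK : IsField ((Spec (CommRingCat.of A)).residueField s) := Field.toIsField _
  have hp : s.asIdeal = ⊥ ∨ s.asIdeal = IsLocalRing.maximalIdeal A := by
    by_cases h0 : s.asIdeal = ⊥
    · exact Or.inl h0
    · right
      haveI : s.asIdeal.IsMaximal := Ideal.IsPrime.isMaximal s.isPrime h0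
      exact IsLocalRing.eq_maximalIdeal ‹_›
  have hρ : Function.Bijective ρ.inv.hom := ConcreteCategory.bijective_of_isIso ρ.inv
  have hkerφ : RingHom.ker φ.hom = s.asIdeal := by
    ext a
    rw [RingHom.mem_ker]
    change ρ.inv.hom (algebraMap A s.asIdeal.ResidueField a) = 0 ↔ _
    rw [map_eq_zero_iff _ hρ.1, ← RingHom.mem_ker, Ideal.ker_algebraMap_residueField]
  have hφ : Function.Injective φ.hom ∨
      (Function.Surjective φ.hom ∧ RingHom.ker φ.hom = IsLocalRing.maximalIdeal A) := by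
    rcases hp with h0 | h1
    · left
      rw [RingHom.injective_iff_ker_eq_bot, hkerφ, h0]
    · right
      refine ⟨?_, hkerφ.trans h1⟩
      haveI : s.asIdeal.IsMaximal := h1 ▸ IsLocalRing.maximalIdeal.isMaximal A
      have hsj : Function.Surjective (algebraMap A s.asIdeal.ResidueField) :=
        Ideal.algebraMap_residueField_surjective s.asIdeal
      exact hρ.2.comp hsj
  have hinj := injective_appTop A f g hg hK φ hφ
    ((Spec (CommRingCat.of A)).fromSpecResidueField s) hσ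
    (IsPullback.of_hasPullback f ((Spec (CommRingCat.of A)).fromSpecResidueField s))
    (IsPullback.of_hasPullback g ((Spec (CommRingCat.of A)).fromSpecResidueField s))
    (pullback.map f ((Spec (CommRingCat.of A)).fromSpecResidueField s) g
      ((Spec (CommRingCat.of A)).fromSpecResidueField s)
      X.toSpecΓ (𝟙 _) (𝟙 _) ((Category.comp_id f).trans hg.symm)
      ((Category.comp_id _).trans (Category.id_comp _).symm))
    (pullback.lift_fst _ _ _) ((pullback.lift_snd _ _ _).trans (Category.comp_id _))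
  have hker0 : RingHom.ker (pullback.map f ((Spec (CommRingCat.of A)).fromSpecResidueField s) g
      ((Spec (CommRingCat.of A)).fromSpecResidueField s)
      X.toSpecΓ (𝟙 _) (𝟙 _) ((Category.comp_id f).trans hg.symm)
      ((Category.comp_id _).trans (Category.id_comp _).symm)).appTop.hom = ⊥ :=
    (RingHom.injective_iff_ker_eq_bot _).mp hinj
  apply Scheme.IdealSheafData.ext_of_isAffine
  rw [Scheme.ker_of_isAffine, hker0]
  simp

end Groth.Agent.Lib.Helper25.FibreKer
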