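import Mathlib
import Groth.Prelude.Def_Models
import Groth.Agent.Lib.Helper25.FibreKer
import Groth.Agent.Lib.Helper13.ZariskiConn

/-!
# Global functions of a proper flat model over a DVR whose generic fibre has only constant functions
-/

set_option autoImplicit false
set_option linter.style.haveILetI false
universe u
open CategoryTheory CategoryTheory.Limits AlgebraicGeometry Opposite TopologicalSpace TensorProduct

noncomputable section

namespace Groth.Agent.Lib.Helper25.ModelGamma

open Groth.Agent.Lib.Helper17.SpecBC Groth.Agent.Lib.Helper25.SecTensor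
  Groth.Agent.Lib.Helper25.DivGlue Groth.Agent.Lib.Helper25.FibreKer
  Groth.Agent.Lib.Helper13.ZariskiConn

theorem toSec_top_bijective (R : Type u) [CommRing R] [IsDomain R] [IsDiscreteValuationRing R]
    {C X : Scheme.{u}} (f : C ⟶ Spec (CommRingCat.of (FractionRing R)))
    (p : X ⟶ Spec (CommRingCat.of R)) [IsProper p] [Flat p] (g : C ⟶ X)
    (hsq : IsPullback g f p (Spec.map (CommRingCat.ofHom (algebraMap R (FractionRing R)))))
    (hH0 : IsIso f.appTop) : Function.Bijective (toSec p ⊤).hom := by
  classical
  let φ : CommRingCat.of R ⟶ CommRingCat.of (FractionRing R) :=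
    CommRingCat.ofHom (algebraMap R (FractionRing R))
  haveI : Flat (Spec.map φ) := by
    rw [Flat.SpecMap_iff]
    exact RingHom.flat_algebraMap_iff.mpr (IsLocalization.flat (FractionRing R) (nonZeroDivisors R))
  haveI : CompactSpace X := QuasiCompact.compactSpace_of_compactSpace p
  haveI : QuasiSeparatedSpace X := quasiSeparatedSpace_of_quasiSeparated p
  have PY : IsPushout φ (toSec p ⊤) (toSec f ⊤) g.appTop := by
    have := isPushout_sections_of_flat hsq (U := ⊤) (by simpa using isCompact_univ)
      (by simpa using isQuasiSeparated_univ)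
    rwa [Scheme.Hom.appLE_eq_app] at this
  have hfK : Function.Bijective (toSec f ⊤).hom := by
    rw [toSec_top]
    haveI : IsIso ((Scheme.ΓSpecIso (CommRingCat.of (FractionRing R))).inv ≫ f.appTop) :=
      inferInstance
    exact ConcreteCategory.bijective_of_isIso _
  have hw : ∀ r : R, g.appTop.hom ((toSec p ⊤).hom r) =
      (toSec f ⊤).hom (algebraMap R (FractionRing R) r) := by
    intro r
    exact (congr($(PY.w).hom r)).symm
  letI algB : Algebra R Γ(X, ⊤) := (toSec p ⊤).hom.toAlgebra
  obtain ⟨e, he⟩ := exists_equiv_of_isPushout (R := R) (S := FractionRing R) (A := Γ(X, ⊤))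
    (T := Γ(C, ⊤)) (toSec f ⊤).hom g.appTop.hom PY
  have htf : ∀ (r : R), r ≠ 0 → ∀ b : Γ(X, ⊤), (toSec p ⊤).hom r * b = 0 → b = 0 := by
    intro r hr b hb
    apply eq_zero_of_mul_eq_zero ((toSec p ⊤).hom r)
      (fun x z h => stalk_regular p x r hr z h) ⊤ b
    rw [res_toSec]
    exact hb
  haveI : Module.IsTorsionFree R Γ(X, ⊤) := ⟨fun r hr b₁ b₂ hb => by
    have hr0 : r ≠ 0 := hr.ne_zero
    have hb' : (toSec p ⊤).hom r * b₁ = (toSec p ⊤).hom r * b₂ := by
      have := hb
      simp only [Algebra.smul_def] at this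
      exact this
    have : (toSec p ⊤).hom r * (b₁ - b₂) = 0 := by
      rw [mul_sub, sub_eq_zero]
      exact hb'
    exact sub_eq_zero.mp (htf r hr0 _ this)⟩
  haveI : Module.Flat R Γ(X, ⊤) := inferInstance
  have hincl : Function.Injective
      (Algebra.TensorProduct.includeRight : Γ(X, ⊤) →ₐ[R] FractionRing R ⊗[R] Γ(X, ⊤)) :=
    Algebra.TensorProduct.includeRight_injective (IsFractionRing.injective R (FractionRing R))
  have hginj : Function.Injective g.appTop.hom := by
    intro b₁ b₂ hb
    apply hincl
    apply e.injective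
    change e ((1 : FractionRing R) ⊗ₜ[R] b₁) = e ((1 : FractionRing R) ⊗ₜ[R] b₂)
    rw [he, he, hb]
  have hI : (toSec p ⊤).hom.IsIntegral := by
    rw [toSec_top]
    change (p.appTop.hom.comp (Scheme.ΓSpecIso (CommRingCat.of R)).inv.hom).IsIntegral
    exact RingHom.IsIntegral.trans _ _
      (RingHom.isIntegral_of_surjective _
        (ConcreteCategory.bijective_of_isIso (Scheme.ΓSpecIso (CommRingCat.of R)).inv).2)
      (isIntegral_appTop_of_universallyClosed p)
  constructor
  · rw [injective_iff_map_eq_zero]
    intro r hr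
    have h1 := hw r
    rw [hr, map_zero] at h1
    have h2 : algebraMap R (FractionRing R) r = 0 := by
      apply hfK.1
      rw [← h1, map_zero]
    exact (IsFractionRing.injective R (FractionRing R)) (h2.trans (map_zero _).symm)
  · intro b
    obtain ⟨P, hPm, hP⟩ := hI b
    obtain ⟨c, hc⟩ := hfK.2 (g.appTop.hom b)
    have hcint : IsIntegral R c := by
      refine ⟨P, hPm, ?_⟩
      apply hfK.1
      rw [map_zero, Polynomial.hom_eval₂, hc]
      have h3 := congrArg g.appTop.hom hP
      rw [Polynomial.hom_eval₂, map_zero] at h3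
      have h4 : g.appTop.hom.comp (toSec p ⊤).hom =
          (toSec f ⊤).hom.comp (algebraMap R (FractionRing R)) := RingHom.ext hw
      rw [h4] at h3
      exact h3
    obtain ⟨r, hr⟩ := IsIntegrallyClosed.isIntegral_iff.mp hcint
    refine ⟨r, ?_⟩
    apply hginj
    rw [hw, hr, hc]

theorem isIso_app_of_isAffineOpen (R : Type u) [CommRing R] [IsDomain R]
    [IsDiscreteValuationRing R]
    {C X : Scheme.{u}} (f : C ⟶ Spec (CommRingCat.of (FractionRing R)))
    (p : X ⟶ Spec (CommRingCat.of R)) [IsProper p] [Flat p] (g : C ⟶ X)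
    (hsq : IsPullback g f p (Spec.map (CommRingCat.ofHom (algebraMap R (FractionRing R)))))
    (hH0 : IsIso f.appTop) (V : (Spec (CommRingCat.of R)).Opens) (hV : IsAffineOpen V) :
    IsIso (p.app V) := by
  have hb := toSec_top_bijective R f p g hsq hH0
  haveI h1 : IsIso (toSec p ⊤) := isIso_of_bijective _ hb
  have h2 : IsIso (p.app ⊤) := by
    have : p.appTop = (Scheme.ΓSpecIso (CommRingCat.of R)).hom ≫ toSec p ⊤ := by
      rw [toSec_top, Iso.hom_inv_id_assoc]
    change IsIso p.appTop
    rw [this]
    infer_instance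
  exact isIso_app_of_flat_baseChange (IsPullback.of_id_fst (f := p)) (isAffineOpen_top _) hV
    le_top h2

/-- Zariski connectedness with the hypothesis only on affine opens. -/
theorem zariski_affine {X Y : Scheme.{u}} (f : X ⟶ Y) [IsProper f] [IsLocallyNoetherian Y]
    (hf : ∀ U : Y.Opens, IsAffineOpen U → IsIso (f.app U)) :
    (∀ y : Y, ConnectedSpace ↥(f.fiber y)) ∧ GeometricallyConnected f := by
  constructor
  · intro y
    obtain ⟨_, ⟨V, hV, rfl⟩, hyV, -⟩ := Y.isBasis_affineOpens.exists_subset_of_mem_open
      (Set.mem_univ y) isOpen_univ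
    exact connectedSpace_fiber f y hV hyV (hf V hV)
  · rw [GeometricallyConnected.iff_geometricallyConnected_fiber]
    intro s
    rw [Groth.Agent.S1355.result f s]
    intro U g u hg hgu
    haveI : Etale g := hg
    haveI : IsLocallyNoetherian U := LocallyOfFiniteType.isLocallyNoetherian g
    obtain ⟨_, ⟨V, hV, rfl⟩, hyV, -⟩ := Y.isBasis_affineOpens.exists_subset_of_mem_open
      (Set.mem_univ (g u)) isOpen_univ
    obtain ⟨_, ⟨V', hV', rfl⟩, huV', hV'V⟩ := U.isBasis_affineOpens.exists_subset_of_mem_open
      (show u ∈ ((g ⁻¹ᵁ V : U.Opens) : Set U) from hyV) (g ⁻¹ᵁ V).2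
    have hiso' : IsIso ((pullback.snd f g).app V') :=
      isIso_app_of_flat_baseChange (IsPullback.of_hasPullback f g) hV hV' hV'V (hf V hV)
    exact connectedSpace_fiber (pullback.snd f g) u hV' huV' hiso'

theorem connectedSpace_specialFibre (R : Type u) [CommRing R] [IsDomain R]
    [IsDiscreteValuationRing R]
    {X : Scheme.{u}} (p : X ⟶ Spec (CommRingCat.of R))
    (hconn : _root_.IsConnected (p ⁻¹' {IsLocalRing.closedPoint R})) :
    ConnectedSpace ↥(Models.specialFibre R X p) := by
  let s : Spec (CommRingCat.of (IsLocalRing.ResidueField R)) ⟶ Spec (CommRingCat.of R) :=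
    Spec.map (CommRingCat.ofHom (algebraMap R (IsLocalRing.ResidueField R)))
  change ConnectedSpace ↥(pullback p s)
  haveI : IsClosedImmersion s :=
    IsClosedImmersion.spec_of_surjective _ (IsLocalRing.residue_surjective (R := R))
  haveI : IsClosedImmersion (pullback.fst p s) := MorphismProperty.pullback_fst _ _ inferInstance
  have hemb : Topology.IsEmbedding (pullback.fst p s) :=
    (pullback.fst p s).isClosedEmbedding.isEmbedding
  have hs : Set.range s = {IsLocalRing.closedPoint R} := by
    ext x
    simp only [Set.mem_range, Set.mem_singleton_iff]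
    constructor
    · rintro ⟨y, rfl⟩
      exact IsLocalRing.PrimeSpectrum.comap_residue R y
    · rintro rfl
      exact ⟨IsLocalRing.closedPoint (IsLocalRing.ResidueField R),
        IsLocalRing.PrimeSpectrum.comap_residue R _⟩
  have hrange : Set.range (pullback.fst p s) = p ⁻¹' {IsLocalRing.closedPoint R} := by
    rw [Scheme.Pullback.range_fst, hs]
  rw [connectedSpace_iff_univ]
  have h1 : _root_.IsConnected ((pullback.fst p s) '' Set.univ) := by
    rw [Set.image_univ, hrange]
    exact hconn
  exact ⟨Set.image_nonempty.mp h1.1, hemb.isInducing.isPreconnected_image.mp h1.2⟩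

theorem main2209 (R : Type u) [CommRing R] [IsDomain R]
    [IsDiscreteValuationRing R] (C X : Scheme.{u})
    (f : C ⟶ Spec (CommRingCat.of (FractionRing R))) (p : X ⟶ Spec (CommRingCat.of R))
    (hH0 : IsIso f.appTop)
    (hX : Models.IsRegularProperModel R X p C f) :
    ConnectedSpace ↥(Models.specialFibre R X p) := by
  obtain ⟨⟨hflat, hlft, hqc, g, hsq⟩, hproper, hreg⟩ := hX
  haveI := hflat
  haveI := hproper
  have hiso : IsIso (p.app ⊤) :=
    isIso_app_of_isAffineOpen R f p g hsq hH0 ⊤ (isAffineOpen_top _)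
  have hconn : _root_.IsConnected (p ⁻¹' {IsLocalRing.closedPoint R}) :=
    isConnected_preimage_singleton p (IsLocalRing.closedPoint R) (isAffineOpen_top _) trivial hiso
  exact connectedSpace_specialFibre R p hconn

end Groth.Agent.Lib.Helper25.ModelGamma
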