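import Mathlib
import Groth.Prelude.Def_ARSys

/-!
# Noetherian / Artinian objects of an abelian category: closure under quotients and extensions

Also: dévissage along an ideal acting nilpotently (used for `ARSys` adic systems).
-/

open CategoryTheory CategoryTheory.Limits

namespace Groth.Agent.Lib.Helper25.SerreNoeth

universe w v u

variable {C : Type u} [Category.{v} C] [Abelian C]

theorem imageSubobject_epi_comp' {X' X Y : C} (h : X' ⟶ X) [Epi h] (f : X ⟶ Y) :
    imageSubobject (h ≫ f) = imageSubobject f := by
  apply le_antisymm (imageSubobject_comp_le h f)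
  have : IsIso (Subobject.ofLE _ _ (imageSubobject_comp_le h f)) := isIso_of_mono_of_epi _
  exact Subobject.le_of_comm (inv (Subobject.ofLE _ _ (imageSubobject_comp_le h f)))
    (by rw [IsIso.inv_comp_eq, Subobject.ofLE_arrow])

/-- Key lemma: subobjects `S ≤ T` with the same "kernel part" and the same image under `p`
are equal. -/
theorem eq_of_le_of_ker_of_image {X Z : C} (p : X ⟶ Z) {S T : Subobject X} (hST : S ≤ T)
    (hker : T ⊓ kernelSubobject p ≤ S)
    (him : imageSubobject (T.arrow ≫ p) ≤ imageSubobject (S.arrow ≫ p)) : S = T := by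
  apply le_antisymm hST
  have hjarrow : Subobject.ofLE S T hST ≫ T.arrow = S.arrow := Subobject.ofLE_arrow hST
  suffices hepi : Epi (Subobject.ofLE S T hST) by
    have : IsIso (Subobject.ofLE S T hST) := isIso_of_mono_of_epi _
    exact Subobject.le_of_comm (inv (Subobject.ofLE S T hST))
      (by rw [IsIso.inv_comp_eq, hjarrow])
  apply Preadditive.epi_of_cancel_zero
  intro R g hg
  have he_arrow : factorThruImageSubobject (T.arrow ≫ p) ≫
      (imageSubobject (T.arrow ≫ p)).arrow = T.arrow ≫ p := imageSubobject_arrow_comp _
  have hK : kernel.ι (factorThruImageSubobject (T.arrow ≫ p)) ≫ g = 0 := by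
    have hfac : (T ⊓ kernelSubobject p).Factors
        (kernel.ι (factorThruImageSubobject (T.arrow ≫ p)) ≫ T.arrow) := by
      rw [Subobject.inf_factors]
      refine ⟨Subobject.factors_comp_arrow _, ?_⟩
      apply kernelSubobject_factors
      have h0 := kernel.condition_assoc (factorThruImageSubobject (T.arrow ≫ p))
        (imageSubobject (T.arrow ≫ p)).arrow
      rw [he_arrow, zero_comp] at h0
      rw [Category.assoc]; exact h0
    have hfacS : S.Factors
        (kernel.ι (factorThruImageSubobject (T.arrow ≫ p)) ≫ T.arrow) :=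
      Subobject.factors_of_le _ hker hfac
    have ha' : S.factorThru _ hfacS ≫ S.arrow =
        kernel.ι (factorThruImageSubobject (T.arrow ≫ p)) ≫ T.arrow :=
      Subobject.factorThru_arrow _ _ _
    have : S.factorThru _ hfacS ≫ Subobject.ofLE S T hST =
        kernel.ι (factorThruImageSubobject (T.arrow ≫ p)) := by
      rw [← cancel_mono T.arrow, Category.assoc, hjarrow, ha']
    rw [← this, Category.assoc, hg, comp_zero]
  have hfac' : factorThruImageSubobject (T.arrow ≫ p) ≫
      Abelian.epiDesc (factorThruImageSubobject (T.arrow ≫ p)) g hK = g :=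
    Abelian.comp_epiDesc _ g hK
  have him' : imageSubobject (S.arrow ≫ p) ≤ imageSubobject (T.arrow ≫ p) := by
    rw [← hjarrow, Category.assoc]; exact imageSubobject_comp_le _ _
  have hob : Subobject.ofLE _ _ him ≫ Subobject.ofLE _ _ him' = 𝟙 _ := by
    rw [Subobject.ofLE_comp_ofLE, Subobject.ofLE_refl]
  have : Epi (Subobject.ofLE _ _ him') := epi_of_epi_fac hob
  have hcomp : Subobject.ofLE S T hST ≫ factorThruImageSubobject (T.arrow ≫ p) =
      factorThruImageSubobject (S.arrow ≫ p) ≫ Subobject.ofLE _ _ him' := by
    rw [← cancel_mono (imageSubobject (T.arrow ≫ p)).arrow, Category.assoc, Category.assoc,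
      he_arrow, Subobject.ofLE_arrow, imageSubobject_arrow_comp, ← Category.assoc, hjarrow]
  have hepi2 : Epi (Subobject.ofLE S T hST ≫ factorThruImageSubobject (T.arrow ≫ p)) := by
    rw [hcomp]; infer_instance
  have hg0 : Abelian.epiDesc (factorThruImageSubobject (T.arrow ≫ p)) g hK = 0 := by
    rw [← cancel_epi (Subobject.ofLE S T hST ≫ factorThruImageSubobject (T.arrow ≫ p)),
      Category.assoc, hfac', hg, comp_zero]
  rw [← hfac', hg0, comp_zero]

/-- Pullback of subobjects along an epimorphism is injective. -/
theorem pullback_obj_injective_of_epi {X Y : C} (f : X ⟶ Y) [Epi f] :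
    Function.Injective (Subobject.pullback f).obj := by
  have key : ∀ S T : Subobject Y,
      (Subobject.pullback f).obj S ≤ (Subobject.pullback f).obj T → S ≤ T := by
    intro S T h
    have hpb := Subobject.isPullback f S
    have : Epi (Subobject.pullbackπ f S) := Abelian.epi_fst_of_isLimit _ _ hpb.isLimit
    have hfacT : T.Factors (((Subobject.pullback f).obj S).arrow ≫ f) := by
      rw [← pullback_factors_iff]
      exact Subobject.factors_of_le _ h (Subobject.factors_self _)
    have h1 : imageSubobject (((Subobject.pullback f).obj S).arrow ≫ f) ≤ T :=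
      imageSubobject_le _ (T.factorThru _ hfacT) (Subobject.factorThru_arrow _ _ _)
    have h2 : imageSubobject (((Subobject.pullback f).obj S).arrow ≫ f) = S := by
      rw [← hpb.w, imageSubobject_epi_comp', imageSubobject_mono, Subobject.mk_arrow]
    rw [← h2]; exact h1
  intro S T h
  exact le_antisymm (key S T h.le) (key T S h.ge)

theorem pullback_strictMono_of_epi {X Y : C} (f : X ⟶ Y) [Epi f] :
    StrictMono (Subobject.pullback f).obj :=
  (Subobject.pullback f).monotone.strictMono_of_injective (pullback_obj_injective_of_epi f)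

/-- The comparison map used for extensions. -/
noncomputable def Φ {X Z : C} (p : X ⟶ Z) (S : Subobject X) :
    Subobject (kernel p) × Subobject Z :=
  ((Subobject.pullback (kernel.ι p)).obj S, imageSubobject (S.arrow ≫ p))

theorem Φ_strictMono {X Z : C} (p : X ⟶ Z) : StrictMono (Φ p) := by
  have hmono : Monotone (Φ p) := by
    intro S T h
    refine ⟨(Subobject.pullback (kernel.ι p)).monotone h, ?_⟩
    show imageSubobject (S.arrow ≫ p) ≤ imageSubobject (T.arrow ≫ p)
    rw [← Subobject.ofLE_arrow h, Category.assoc]
    exact imageSubobject_comp_le _ _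
  intro S T hlt
  refine lt_of_le_of_ne (hmono hlt.le) ?_
  intro heq
  apply hlt.ne
  have h1 : (Subobject.pullback (kernel.ι p)).obj S = (Subobject.pullback (kernel.ι p)).obj T :=
    congrArg Prod.fst heq
  have h2 : imageSubobject (S.arrow ≫ p) = imageSubobject (T.arrow ≫ p) :=
    congrArg Prod.snd heq
  refine eq_of_le_of_ker_of_image p hlt.le ?_ h2.ge
  have hu : (Subobject.ofLE (T ⊓ kernelSubobject p) _ inf_le_right ≫
      (kernelSubobjectIso p).hom) ≫ kernel.ι p = (T ⊓ kernelSubobject p).arrow := by
    rw [Category.assoc, kernelSubobject_arrow, Subobject.ofLE_arrow]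
  have hT : T.Factors ((Subobject.ofLE (T ⊓ kernelSubobject p) _ inf_le_right ≫
      (kernelSubobjectIso p).hom) ≫ kernel.ι p) := by
    rw [hu]; exact Subobject.factors_of_le _ inf_le_left (Subobject.factors_self _)
  have hS : S.Factors ((Subobject.ofLE (T ⊓ kernelSubobject p) _ inf_le_right ≫
      (kernelSubobjectIso p).hom) ≫ kernel.ι p) := by
    rw [← pullback_factors_iff, h1, pullback_factors_iff]; exact hT
  rw [hu] at hS
  exact Subobject.le_of_comm (S.factorThru _ hS) (Subobject.factorThru_arrow _ _ _)

theorem isNoetherianObject_of_epi {X Y : C} (f : X ⟶ Y) [Epi f] [IsNoetherianObject X] :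
    IsNoetherianObject Y :=
  (ObjectProperty.is_iff _ _).2
    (show WellFoundedGT (Subobject Y) from (pullback_strictMono_of_epi f).wellFoundedGT)

theorem isArtinianObject_of_epi {X Y : C} (f : X ⟶ Y) [Epi f] [IsArtinianObject X] :
    IsArtinianObject Y :=
  (ObjectProperty.is_iff _ _).2
    (show WellFoundedLT (Subobject Y) from (pullback_strictMono_of_epi f).wellFoundedLT)

theorem isNoetherianObject_of_kernel {X Z : C} (p : X ⟶ Z) [IsNoetherianObject (kernel p)]
    [IsNoetherianObject Z] : IsNoetherianObject X :=
  (ObjectProperty.is_iff _ _).2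
    (show WellFoundedGT (Subobject X) from (Φ_strictMono p).wellFoundedGT)

theorem isArtinianObject_of_kernel {X Z : C} (p : X ⟶ Z) [IsArtinianObject (kernel p)]
    [IsArtinianObject Z] : IsArtinianObject X :=
  (ObjectProperty.is_iff _ _).2
    (show WellFoundedLT (Subobject X) from (Φ_strictMono p).wellFoundedLT)

/-- A class of objects closed under zero objects, subobjects, quotients and extensions. -/
structure SerreLike (P : C → Prop) : Prop where
  zero : ∀ X : C, IsZero X → P X
  mono : ∀ {X Y : C} (i : X ⟶ Y) [Mono i], P Y → P X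
  epi : ∀ {X Y : C} (f : X ⟶ Y) [Epi f], P X → P Y
  ext : ∀ {X Z : C} (p : X ⟶ Z), P (kernel p) → P Z → P X

theorem serreLike_noeth : SerreLike (fun X : C => IsNoetherianObject X) where
  zero X hX := isNoetherianObject_of_isZero hX
  mono i _ h := by have := h; exact isNoetherianObject_of_mono i
  epi f _ h := by have := h; exact isNoetherianObject_of_epi f
  ext p h1 h2 := by have := h1; have := h2; exact isNoetherianObject_of_kernel p

theorem serreLike_art : SerreLike (fun X : C => IsArtinianObject X) where
  zero X hX := isArtinianObject_of_isZero hX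
  mono i _ h := by have := h; exact isArtinianObject_of_mono i
  epi f _ h := by have := h; exact isArtinianObject_of_epi f
  ext p h1 h2 := by have := h1; have := h2; exact isArtinianObject_of_kernel p

end Groth.Agent.Lib.Helper25.SerreNoeth
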