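import Mathlib
import Groth.Agent.Lib.Helper14.GeomRegularFlat
import Groth.Agent.Lib.Helper21.GeomRegE
import Groth.Agent.Lib.Helper26.RegularHom
import Groth.Agent.Lib.Helper3.FlatDescent

/-!
# Flat descent of smoothness on the source: ring level + chart engine (helper25)

* `smooth_of_faithfullyFlat`: `A → B → C`, `A → B` f.p., `B → C` faithfully flat, `A → C` smooth
  ⟹ `A → B` smooth.
* `core_lfp`: for `q` lfp, `Smooth q` follows from flat lfp charts `f` with `f ≫ q` smooth
  (engine copied from helper9's `FppfSource.core'`).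
-/

set_option autoImplicit false
set_option linter.style.haveILetI false
universe u
open CategoryTheory AlgebraicGeometry
open scoped TensorProduct

namespace Groth.Agent.Lib.Helper25.SmoothDescent

section Ring

open Groth.Agent.Lib.Helper14.GeomRegularFlat Groth.Agent.Lib.Helper26.RegularHom in
theorem smooth_of_faithfullyFlat (A B C : Type u) [CommRing A] [CommRing B] [CommRing C]
    [Algebra A B] [Algebra B C] [Algebra A C] [IsScalarTower A B C]
    [Algebra.FinitePresentation A B] [Module.FaithfullyFlat B C]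
    [Algebra.Smooth A C] : Algebra.Smooth A B := by
  rw [Groth.Agent.Lib.Helper21.GeomReg.S4996_aux A B]
  have hC := (Groth.Agent.Lib.Helper21.GeomReg.S4996_aux A C).mp inferInstance
  refine ⟨?_, fun p _ => ?_⟩
  · haveI := hC.1
    exact Groth.Agent.Lib.Helper3.flat_of_faithfullyFlat_of_flat_comp A B C
  · have h1 : CAlg.IsGeometricallyRegular p.ResidueField (p.Fiber C) := hC.2 p
    letI algB : Algebra p.ResidueField (B ⊗[A] p.ResidueField) :=
      Algebra.TensorProduct.rightAlgebra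
    letI algC : Algebra p.ResidueField (C ⊗[A] p.ResidueField) :=
      Algebra.TensorProduct.rightAlgebra
    let eB : p.ResidueField ⊗[A] B ≃ₐ[p.ResidueField] B ⊗[A] p.ResidueField :=
      { __ := Algebra.TensorProduct.comm A p.ResidueField B, commutes' := fun _ => rfl }
    let eC : p.ResidueField ⊗[A] C ≃ₐ[p.ResidueField] C ⊗[A] p.ResidueField :=
      { __ := Algebra.TensorProduct.comm A p.ResidueField C, commutes' := fun _ => rfl }
    have h2 : CAlg.IsGeometricallyRegular p.ResidueField (C ⊗[A] p.ResidueField) :=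
      isGeometricallyRegular_of_algEquiv eC h1
    letI := tensorAlg A p.ResidueField B C
    haveI := faithfullyFlat_tensor A p.ResidueField B C
    haveI : IsScalarTower p.ResidueField (B ⊗[A] p.ResidueField) (C ⊗[A] p.ResidueField) :=
      IsScalarTower.of_algebraMap_eq fun r => by
        show (1 : C) ⊗ₜ[A] r = Algebra.TensorProduct.map (IsScalarTower.toAlgHom A B C)
          (AlgHom.id A p.ResidueField) ((1 : B) ⊗ₜ[A] r)
        simp
    have h3 := isGeometricallyRegular_of_faithfullyFlat p.ResidueField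
      (B ⊗[A] p.ResidueField) (C ⊗[A] p.ResidueField) h2
    exact isGeometricallyRegular_of_algEquiv eB.symm h3

theorem smooth_source : RingHom.StableUnderCompositionWithLocalizationAwaySource
    @RingHom.Smooth := by
  intro R S T _ _ _ _ r _ f hf
  exact RingHom.Smooth.stableUnderComposition _ _
    (RingHom.Smooth.holdsForLocalizationAway S r) hf

theorem smooth_desc {R A B : Type u} [CommRing R] [CommRing A] [CommRing B] (φ : R →+* A)
    (ψ : A →+* B) (h1 : ψ.Flat)
    (h3 : Function.Surjective (PrimeSpectrum.comap ψ))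
    (hfp : φ.FinitePresentation) (h4 : (ψ.comp φ).Smooth) : φ.Smooth := by
  letI := φ.toAlgebra
  letI := ψ.toAlgebra
  letI := (ψ.comp φ).toAlgebra
  haveI : IsScalarTower R A B := IsScalarTower.of_algebraMap_eq (fun _ => rfl)
  haveI : Module.Flat A B := h1
  haveI : Module.FaithfullyFlat A B := Module.FaithfullyFlat.of_comap_surjective h3
  haveI : Algebra.FinitePresentation R A := hfp
  haveI : Algebra.Smooth R B := h4
  exact smooth_of_faithfullyFlat R A B

end Ring

section Engine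

/-- Variant of helper9's `FppfSource.core'` for smoothness, when `q` is already known to be locally
of finite presentation (so no descent of finite presentation is needed). -/
theorem core_lfp {Y S : Scheme.{u}} (q : Y ⟶ S) [hq : LocallyOfFinitePresentation q]
    (H : ∀ y : Y, ∃ (X : Scheme.{u}) (f : X ⟶ Y) (x : X), f x = y ∧ Flat f ∧
      LocallyOfFinitePresentation f ∧ Smooth (f ≫ q)) : Smooth q := by
  rw [HasRingHomProperty.iff_exists_appLE (P := @Smooth) smooth_source]
  intro y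
  obtain ⟨X, f, x, rfl, hfl, hfp, h⟩ := H y
  obtain ⟨U, hU, hqU, -⟩ := exists_isAffineOpen_mem_and_subset (x := q (f x)) (U := ⊤) trivial
  obtain ⟨V, hV, hxV, hVU⟩ :=
    exists_isAffineOpen_mem_and_subset (x := f x) (U := q ⁻¹ᵁ U) hqU
  obtain ⟨W, hW, hxW, hWV⟩ := exists_isAffineOpen_mem_and_subset (x := x) (U := f ⁻¹ᵁ V) hxV
  have hfW : IsOpen (f '' (W : Set X)) := f.isOpenMap _ W.2
  let O : Y.Opens := ⟨f '' (W : Set X), hfW⟩
  have hxO : f x ∈ O := ⟨x, hxW, rfl⟩
  obtain ⟨g, hg1, hg2⟩ := hV.exists_basicOpen_le (V := O) ⟨f x, hxO⟩ hxV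
  have hV' : IsAffineOpen (Y.basicOpen g) := hV.basicOpen g
  have hV'V : Y.basicOpen g ≤ V := Y.basicOpen_le g
  have hWV' : W ≤ f ⁻¹ᵁ V := hWV
  have hVU' : V ≤ q ⁻¹ᵁ U := hVU
  set g' := f.appLE V W hWV' g with hg'
  have hW' : IsAffineOpen (X.basicOpen g') := hW.basicOpen g'
  have hW'eq : X.basicOpen g' = W ⊓ f ⁻¹ᵁ (Y.basicOpen g) := Scheme.basicOpen_appLE f W V hWV' g
  have e2 : X.basicOpen g' ≤ f ⁻¹ᵁ (Y.basicOpen g) := by rw [hW'eq]; exact inf_le_right
  have e1 : Y.basicOpen g ≤ q ⁻¹ᵁ U := hV'V.trans hVU'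
  refine ⟨⟨U, hU⟩, ⟨Y.basicOpen g, hV'⟩, hg2, e1, ?_⟩
  have hcomp := HasRingHomProperty.appLE (P := @Smooth) (f ≫ q) h ⟨U, hU⟩ ⟨X.basicOpen g', hW'⟩
    (e2.trans ((TopologicalSpace.Opens.map f.base).map (homOfLE e1)).le)
  rw [← Scheme.Hom.appLE_comp_appLE f q U (Y.basicOpen g) (X.basicOpen g') e1 e2] at hcomp
  rw [CommRingCat.hom_comp] at hcomp
  refine smooth_desc _ _ ?_ ?_ ?_ hcomp
  · exact HasRingHomProperty.appLE (P := @Flat) f hfl ⟨_, hV'⟩ ⟨_, hW'⟩ e2
  · intro 𝔭
    have hvV' : hV'.fromSpec 𝔭 ∈ Y.basicOpen g := by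
      have : hV'.fromSpec 𝔭 ∈ Set.range hV'.fromSpec := ⟨𝔭, rfl⟩
      rw [hV'.range_fromSpec] at this
      exact this
    obtain ⟨w, hwW, hw⟩ := hg1 hvV'
    have hwW' : w ∈ X.basicOpen g' := by
      rw [hW'eq]
      refine ⟨hwW, ?_⟩
      show f w ∈ Y.basicOpen g
      rw [hw]; exact hvV'
    refine ⟨hW'.primeIdealOf ⟨w, hwW'⟩, ?_⟩
    apply hV'.fromSpec.isOpenEmbedding.injective
    have h := IsAffineOpen.SpecMap_appLE_fromSpec f hV' hW' e2
    have h1 : (Spec.map (f.appLE (Y.basicOpen g) (X.basicOpen g') e2) ≫ hV'.fromSpec)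
        (hW'.primeIdealOf ⟨w, hwW'⟩) = (hW'.fromSpec ≫ f) (hW'.primeIdealOf ⟨w, hwW'⟩) := by
      rw [h]
    rw [Scheme.Hom.comp_apply, Scheme.Hom.comp_apply, hW'.fromSpec_primeIdealOf, hw] at h1
    exact h1
  · exact HasRingHomProperty.appLE (P := @LocallyOfFinitePresentation) q hq
      ⟨U, hU⟩ ⟨_, hV'⟩ e1

theorem flat_stalkMap_ι_comp {X S : Scheme.{u}} (h : X ⟶ S) (U : X.Opens) (x : X) (hx : x ∈ U)
    (hflat : (h.stalkMap x).hom.Flat) : ((U.ι ≫ h).stalkMap ⟨x, hx⟩).hom.Flat := by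
  let x' : (U : Scheme) := ⟨x, hx⟩
  rw [Scheme.Hom.stalkMap_comp]
  exact (RingHom.Flat.respectsIso.cancel_right_isIso (h.stalkMap (U.ι x'))
    (U.ι.stalkMap x')).mpr hflat

theorem flat_of_flat_comp_ι {X Y : Scheme.{u}} (V : Y.Opens) (k : X ⟶ (V : Scheme.{u}))
    [hk : Flat (k ≫ V.ι)] : Flat k := by
  refine Flat.of_stalkMap k fun x => ?_
  have h := Flat.stalkMap (k ≫ V.ι) x
  rw [Scheme.Hom.stalkMap_comp] at h
  exact (RingHom.Flat.respectsIso.cancel_left_isIso (V.ι.stalkMap (k x))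
    (k.stalkMap x)).mp h

end Engine

end Groth.Agent.Lib.Helper25.SmoothDescent
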