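import Mathlib
import Groth.Agent.Lib.Helper25.SmoothDescentRing
import Groth.Agent.Lib.Helper9.FppfSource

/-! # Smoothness is fppf-local on the source (helper25) -/

set_option autoImplicit false
set_option linter.style.haveILetI false
universe u
open CategoryTheory AlgebraicGeometry

namespace Groth.Agent.Lib.Helper25.SmoothDescent

/-- Smoothness is fppf-local on the source. -/
theorem smooth_of_comp {X Y S : Scheme.{u}} (f : X ⟶ Y) (q : Y ⟶ S) [Surjective f] [hfl : Flat f]
    [hfp : LocallyOfFinitePresentation f] [h : Smooth (f ≫ q)] : Smooth q := by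
  haveI : LocallyOfFinitePresentation q := Groth.Agent.Lib.Helper9.FppfSource.lfp_of_comp f q
  exact core_lfp q (fun y => by
    obtain ⟨x, rfl⟩ := f.surjective y
    exact ⟨X, f, x, rfl, hfl, hfp, h⟩)

end Groth.Agent.Lib.Helper25.SmoothDescent
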