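import Mathlib
import Groth.Agent.Lib.Helper21.CohenStructE
import Groth.Agent.Lib.Helper21.JacAdicB
import Groth.Agent.Lib.Helper21.SepSmoothE

/-!
# Regular local rings essentially of finite type over a perfect field are formally smooth (helper25)

Variant of `Helper21.KaehlerRank.formallySmooth_of_isRegularLocalRing` where the hypothesis
"residue field equal to `k`" is replaced by perfectness of `k`.
-/

set_option autoImplicit false
set_option linter.style.haveILetI false

namespace Groth.Agent.Lib.Helper25.RegPerfectSmooth

open IsLocalRing

universe u

theorem formallySmooth_of_isRegularLocalRing_of_perfectField (k B : Type u) [Field k]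
    [PerfectField k] [CommRing B] [Algebra k B] [IsLocalRing B] [Algebra.EssFiniteType k B]
    (hreg : IsRegularLocalRing B) : Algebra.FormallySmooth k B := by
  haveI : IsNoetherianRing B := Algebra.EssFiniteType.isNoetherianRing k B
  haveI : Algebra.FiniteType B (ResidueField B) :=
    Algebra.FiniteType.of_surjective (Algebra.ofId B (ResidueField B))
      IsLocalRing.residue_surjective
  haveI : Algebra.EssFiniteType k (ResidueField B) :=
    Algebra.EssFiniteType.comp k B (ResidueField B)
  haveI : Algebra.FormallySmooth k (ResidueField B) := Algebra.FormallySmooth.of_perfectField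
  haveI : Algebra.IsGeometricallyReduced k (ResidueField B) :=
    Groth.Agent.Lib.Helper21.SepSmooth.formallySmooth_iff_geomReduced.mp inferInstance
  have hadic : CAlgX.IsAdicFormallySmooth k B (maximalIdeal B) :=
    ((Groth.Agent.Lib.Helper21.CohenStruct.S2453_aux k B).out 3 0).mp hreg
  exact Groth.Agent.Lib.Helper21.JacAdic.formallySmooth_of_isAdicFormallySmooth_of_essFiniteType
    hadic

end Groth.Agent.Lib.Helper25.RegPerfectSmooth
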