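import Mathlib
import Groth.Agent.Lib.Helper25.LocGenSite

/-!
# Finite presentation of sheaves of modules on a ringed space, in terms of sections

* site level: coordinates of sections of finite free modules (`coord`, `eSec`), sections of
  kernels (`kernel_ι_injective`, `exists_kernel_lift`);
* `LocRelT`, `FPData`: finite generating family with locally finitely generated relations;
* `fpData_iff`: `M|_U` has a finite presentation iff `FPData M U`;
* `isFinitePresentation_iff`: Mathlib's `IsFinitePresentation` pointwise.
-/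

set_option autoImplicit false
universe u

open CategoryTheory CategoryTheory.Limits Opposite SheafOfModules TopologicalSpace
open Groth.Agent.Lib.Helper21.StalkFlatP Groth.Agent.Lib.Helper21.StalkFlatQ
open Groth.Agent.Lib.Helper25.LocGenSite

namespace Groth.Agent.Lib.Helper25.LocGenFP

section Site

variable {C : Type u} [SmallCategory C] {J : GrothendieckTopology C} {R : Sheaf J RingCat.{u}}

/-- coordinates of a section of a free module -/
noncomputable def coord {ι : Type u} [DecidableEq ι] (j : ι) (W : Cᵒᵖ) :
    (free (R := R) ι).val.obj W →ₗ[R.obj.obj W] R.obj.obj W :=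
  ((proj j).val.app W).hom

/-- basis sections of a free module -/
noncomputable def eSec {ι : Type u} (i : ι) (W : Cᵒᵖ) : (free (R := R) ι).val.obj W :=
  secAt (freeSection i) W

lemma coord_eSec {ι : Type u} [DecidableEq ι] (i j : ι) (W : Cᵒᵖ) :
    coord (R := R) j W (eSec i W) = if i = j then 1 else 0 := by
  have h : coord (R := R) j W (eSec i W) =
      ((ιFree (R := R) i ≫ proj j).val.app W).hom (1 : R.obj.obj W) := rfl
  rw [h, ιFree_proj]
  split_ifs <;> rfl

lemma sum_coord_eSec {ι : Type u} [Fintype ι] [DecidableEq ι] (W : Cᵒᵖ)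
    (t : (free (R := R) ι).val.obj W) : t = ∑ j, coord j W t • eSec j W :=
  app_free_eq_sum (𝟙 (free (R := R) ι)) W t

lemma coord_sum_eSec {ι : Type u} [Fintype ι] [DecidableEq ι] (W : Cᵒᵖ)
    (a : ι → R.obj.obj W) (j : ι) :
    coord (R := R) j W (∑ i, a i • eSec i W) = a j := by
  rw [map_sum]
  simp only [map_smul, coord_eSec, smul_eq_mul, mul_ite, mul_one, mul_zero]
  rw [Finset.sum_ite_eq' Finset.univ j a]
  simp

lemma coord_ext {ι : Type u} [Fintype ι] [DecidableEq ι] (W : Cᵒᵖ)
    (t t' : (free (R := R) ι).val.obj W) (h : ∀ j, coord j W t = coord j W t') : t = t' :=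
  calc t = ∑ j, coord j W t • eSec j W := sum_coord_eSec W t
    _ = ∑ j, coord j W t' • eSec j W := by simp only [h]
    _ = t' := (sum_coord_eSec W t').symm

/-- the value of a morphism out of a finite free module, in coordinates -/
lemma app_eq_sum_coord {ι : Type u} [Fintype ι] [DecidableEq ι] {N : SheafOfModules.{u} R}
    (f : free ι ⟶ N) (W : Cᵒᵖ) (t : (free (R := R) ι).val.obj W) :
    (f.val.app W).hom t = ∑ j, coord j W t • secAt (N.freeHomEquiv f j) W :=
  app_free_eq_sum f W t

/-- coordinates are compatible with restriction -/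
lemma coord_app_map {ι : Type u} [DecidableEq ι] {B : SheafOfModules.{u} R}
    (f : B ⟶ free ι) (j : ι) {W W' : Cᵒᵖ} (g : W ⟶ W') (z : B.val.obj W) :
    coord j W' ((f.val.app W').hom (B.val.map g z)) =
      (R.obj.map g).hom (coord j W ((f.val.app W).hom z)) :=
  PresheafOfModules.naturality_apply (f ≫ proj j).val g z

/-- kernels are computed sectionwise: injectivity -/
lemma kernel_ι_injective {A B : SheafOfModules.{u} R} (f : A ⟶ B) (W : Cᵒᵖ) :
    Function.Injective ((kernel.ι f).val.app W).hom := by
  have h : Mono ((SheafOfModules.evaluation R W).map (kernel.ι f)) := inferInstance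
  exact (ModuleCat.mono_iff_injective _).1 h

/-- kernels are computed sectionwise: lifting -/
lemma exists_kernel_lift {A B : SheafOfModules.{u} R} (f : A ⟶ B) (W : Cᵒᵖ)
    (t : A.val.obj W) (ht : (f.val.app W).hom t = 0) :
    ∃ n : (kernel f).val.obj W, ((kernel.ι f).val.app W).hom n = t := by
  haveI : (SheafOfModules.evaluation R W).PreservesZeroMorphisms := ⟨fun _ _ => rfl⟩
  have hE := (ShortComplex.kernelSequence_exact f).map_of_mono_of_preservesKernel
    (SheafOfModules.evaluation R W) inferInstance inferInstance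
  rw [ShortComplex.moduleCat_exact_iff] at hE
  exact hE t ht

lemma ofSec_app_one {V : C} {M : SheafOfModules.{u} (R.over V)} (t : M.val.obj (op (T V)))
    (Y : Over V) :
    ((ofSec t).val.app (op Y)).hom (1 : (R.over V).obj.obj (op Y)) =
      M.val.map (toT Y).op t := by
  have h : ((ofSec t).val.app (op Y)).hom (1 : (R.over V).obj.obj (op Y)) =
      secAt (M.unitHomEquiv (ofSec t)) (op Y) := rfl
  rw [h, ofSec, Equiv.apply_symm_apply]
  rfl

/-- the value of a morphism given by sections on a combination of basis sections -/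
lemma freeHom_sum_eSec {ι : Type u} [Fintype ι] {N : SheafOfModules.{u} R}
    (s : ι → N.sections) (W : Cᵒᵖ) (b : ι → R.obj.obj W) :
    ((N.freeHomEquiv.symm s).val.app W).hom (∑ k, b k • eSec k W) =
      ∑ k, b k • secAt (s k) W := by
  rw [map_sum]
  refine Finset.sum_congr rfl (fun k _ => ?_)
  rw [map_smul]
  congr 1
  exact congrArg (fun σ => secAt σ W) (sectionsMap_freeHomEquiv_symm_freeSection s k)

end Site

section Top

variable {X : TopCat.{u}} {R : Sheaf (Opens.grothendieckTopology X) RingCat.{u}}

/-- view a function on `Y.left` as a section of `R.over U` over `Y` -/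
abbrev toOverR {U : Opens X} (Y : Over U) (r : R.obj.obj (op Y.left)) :
    (R.over U).obj.obj (op Y) := r

/-- view a section of `R.over U` over `Y` as a function on `Y.left` -/
abbrev ofOverR {U : Opens X} (Y : Over U) (r : (R.over U).obj.obj (op Y)) :
    R.obj.obj (op Y.left) := r

/-- relations among the `s i` are locally generated by the rows of `ρ` -/
def LocRelT (M : SheafOfModules.{u} R) (U : Opens X) {ι κ : Type u} [Fintype ι] [Fintype κ]
    (s : ι → M.val.obj (op U)) (ρ : κ → ι → R.obj.obj (op U)) : Prop :=
  ∀ (W : Opens X) (hW : W ≤ U) (a : ι → R.obj.obj (op W)),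
    ∑ i, a i • res M hW (s i) = 0 → ∀ y : X, y ∈ W →
      ∃ (W' : Opens X) (hW' : W' ≤ W), y ∈ W' ∧ ∃ b : κ → R.obj.obj (op W'),
        ∀ i, resR hW' (a i) = ∑ k, b k * resR (hW'.trans hW) (ρ k i)

/-- finite presentation data over `U` -/
def FPData (M : SheafOfModules.{u} R) (U : Opens X) : Prop :=
  ∃ (ι : Type u) (_ : Fintype ι) (s : ι → M.val.obj (op U)) (κ : Type u) (_ : Fintype κ)
    (ρ : κ → ι → R.obj.obj (op U)),
    LocSpanT M U s ∧ (∀ k, ∑ i, ρ k i • s i = 0) ∧ LocRelT M U s ρ

theorem locSpanT_of_generatingSections (M : SheafOfModules.{u} R) (U : Opens X)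
    (σ : (M.over U).GeneratingSections) [Fintype σ.I] :
    LocSpanT M U (fun i => (secAt (σ.s i) (op (T U)) : M.val.obj (op U))) := by
  intro W hW m y hy
  obtain ⟨S, hS, hS'⟩ := exists_sum_of_epi (M.over U) σ.s (Over.mk (homOfLE hW))
    (m : (M.over U).val.obj (op (Over.mk (homOfLE hW))))
  obtain ⟨W', g, hg, hyW'⟩ := ((Opens.grothendieckTopology X).mem_over_iff S).1 hS y hy
  rw [Sieve.overEquiv_iff] at hg
  obtain ⟨r, hr⟩ := hS' _ hg
  refine ⟨W', g.le, hyW', r, ?_⟩
  refine hr.trans (Finset.sum_congr rfl (fun i _ => ?_))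
  congr 1
  exact (PresheafOfModules.sections_property (σ.s i)
    (toT (Over.mk (g ≫ homOfLE hW))).op).symm

theorem epi_of_locSpanT (M : SheafOfModules.{u} R) (U : Opens X) {ι : Type u} [Fintype ι]
    (s : ι → M.val.obj (op U)) (hs : LocSpanT M U s) :
    Epi ((M.over U).freeHomEquiv.symm (fun i => overSec M (s i))) := by
  classical
  apply epi_over_of_pointwise
  intro Y n y hy
  obtain ⟨W', hW', hyW', r, hr⟩ :=
    hs Y.left Y.hom.le (n : M.val.obj (op Y.left)) y hy
  refine ⟨W', homOfLE hW', hyW',
    ∑ i, toOverR (Over.mk (homOfLE hW' ≫ Y.hom)) (r i) •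
      eSec (R := R.over U) i (op (Over.mk (homOfLE hW' ≫ Y.hom))), ?_⟩
  rw [freeHom_sum_eSec]
  exact hr.symm

theorem fpData_of_presentation (M : SheafOfModules.{u} R) (U : Opens X)
    (P : (M.over U).Presentation) [P.IsFinite] : FPData M U := by
  classical
  let _ : Fintype P.generators.I := Fintype.ofFinite _
  let _ : Fintype P.relations.I := Fintype.ofFinite _
  refine ⟨P.generators.I, inferInstance,
    fun i => (secAt (P.generators.s i) (op (T U)) : M.val.obj (op U)),
    P.relations.I, inferInstance,
    fun k i => (coord (R := R.over U) i (op (T U))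
      (((kernel.ι P.generators.π).val.app (op (T U))).hom
        (secAt (P.relations.s k) (op (T U)))) : R.obj.obj (op U)),
    locSpanT_of_generatingSections M U P.generators, ?_, ?_⟩
  · intro k
    have h := app_eq_sum_coord P.generators.π (op (T U))
      (((kernel.ι P.generators.π).val.app (op (T U))).hom (secAt (P.relations.s k) (op (T U))))
    have h0 : (P.generators.π.val.app (op (T U))).hom
        (((kernel.ι P.generators.π).val.app (op (T U))).hom
          (secAt (P.relations.s k) (op (T U)))) = 0 :=
      congrArg (fun f => (f.val.app (op (T U))).hom (secAt (P.relations.s k) (op (T U))))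
        (kernel.condition P.generators.π)
    rw [h] at h0
    simp only [Equiv.apply_symm_apply] at h0
    exact h0
  · intro W hW a ha y hy
    have hπ : (P.generators.π.val.app (op (Over.mk (homOfLE hW)))).hom
        (∑ i, toOverR (Over.mk (homOfLE hW)) (a i) •
          eSec (R := R.over U) i (op (Over.mk (homOfLE hW)))) = 0 := by
      rw [freeHom_sum_eSec]
      refine Eq.trans (Finset.sum_congr rfl (fun j _ => ?_)) ha
      congr 1
      exact (PresheafOfModules.sections_property (P.generators.s j)
        (toT (Over.mk (homOfLE hW))).op).symm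
    obtain ⟨n, hn⟩ := exists_kernel_lift P.generators.π (op (Over.mk (homOfLE hW))) _ hπ
    obtain ⟨S, hS, hS'⟩ := exists_sum_of_epi (kernel P.generators.π) P.relations.s
      (Over.mk (homOfLE hW)) n
    obtain ⟨W', g, hg, hyW'⟩ := ((Opens.grothendieckTopology X).mem_over_iff S).1 hS y hy
    rw [Sieve.overEquiv_iff] at hg
    obtain ⟨b, hb⟩ := hS' _ hg
    refine ⟨W', g.le, hyW', b, fun i => ?_⟩
    have h1 := congrArg (fun z : (kernel P.generators.π).val.obj
        (op (Over.mk (g ≫ (Over.mk (homOfLE hW)).hom))) =>
      coord (R := R.over U) i (op (Over.mk (g ≫ (Over.mk (homOfLE hW)).hom)))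
        (((kernel.ι P.generators.π).val.app
          (op (Over.mk (g ≫ (Over.mk (homOfLE hW)).hom)))).hom z)) hb
    simp only at h1
    rw [coord_app_map, hn, coord_sum_eSec, map_sum, map_sum] at h1
    simp only [map_smul, smul_eq_mul] at h1
    refine h1.trans (Finset.sum_congr rfl (fun k _ => ?_))
    congr 1
    exact (congrArg (fun z => coord (R := R.over U) i
        (op (Over.mk (g ≫ (Over.mk (homOfLE hW)).hom)))
        (((kernel.ι P.generators.π).val.app
          (op (Over.mk (g ≫ (Over.mk (homOfLE hW)).hom)))).hom z))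
      (PresheafOfModules.sections_property (P.relations.s k)
        (toT (Over.mk (g ≫ (Over.mk (homOfLE hW)).hom))).op).symm).trans
      (coord_app_map (kernel.ι P.generators.π) i
        (toT (Over.mk (g ≫ (Over.mk (homOfLE hW)).hom))).op _)

theorem presentation_of_fpData (M : SheafOfModules.{u} R) (U : Opens X) {ι κ : Type u}
    [Fintype ι] [Fintype κ] (s : ι → M.val.obj (op U)) (ρ : κ → ι → R.obj.obj (op U))
    (hs : LocSpanT M U s) (hrel : ∀ k, ∑ i, ρ k i • s i = 0) (hloc : LocRelT M U s ρ) :
    ∃ P : (M.over U).Presentation, P.IsFinite := by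
  classical
  have hepi := epi_of_locSpanT M U s hs
  obtain ⟨π, hπdef⟩ : ∃ π : free ι ⟶ M.over U,
      π = (M.over U).freeHomEquiv.symm (fun i => overSec M (s i)) := ⟨_, rfl⟩
  have hfree : ∀ i, (M.over U).freeHomEquiv π i = overSec M (s i) := fun i => by
    rw [hπdef, Equiv.apply_symm_apply]
  obtain ⟨u, hudef⟩ : ∃ u : κ → (unit (R.over U) ⟶ free (R := R.over U) ι), u = fun k =>
    ∑ i, ofSec (M := unit (R.over U)) (toOverR (T U) (ρ k i)) ≫ ιFree i := ⟨_, rfl⟩
  have hev : ∀ i, ev (R := R) (V := U) (M := M.over U) (ιFree (R := R.over U) i ≫ π) =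
      (s i : (M.over U).val.obj (op (T U))) := by
    intro i
    have h1 : ev (R := R) (V := U) (M := M.over U) (ιFree (R := R.over U) i ≫ π) =
      secAt ((M.over U).freeHomEquiv π i) (op (T U)) := rfl
    rw [h1, hfree]
    exact res_self M (s i)
  have hu : ∀ k, u k ≫ π = 0 := by
    intro k
    apply ev_injective
    have h1 : u k ≫ π =
        ∑ i, ofSec (M := unit (R.over U)) (toOverR (T U) (ρ k i)) ≫ (ιFree i ≫ π) := by
      rw [hudef]
      simp only [Preadditive.sum_comp, Category.assoc]
    rw [h1, ev_sum, ev_zero]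
    simp only [ev_comp, evU, ev_ofSec, hev]
    exact hrel k
  have hproj : ∀ k j, u k ≫ proj j = ofSec (M := unit (R.over U)) (toOverR (T U) (ρ k j)) := by
    intro k j
    rw [hudef]
    simp only [Preadditive.sum_comp, Category.assoc, ιFree_proj]
    rw [Finset.sum_eq_single j]
    · simp
    · intro i _ hij
      simp [hij]
    · intro h
      exact absurd (Finset.mem_univ j) h
  -- the relations
  let τs : κ → (kernel π).sections := fun k => (kernel π).unitHomEquiv (kernel.lift π (u k) (hu k))
  have hterm : ∀ (Y : Over U) (k : κ) (j : ι), coord (R := R.over U) j (op Y)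
      (((kernel.ι π).val.app (op Y)).hom (secAt (τs k) (op Y))) =
        toOverR Y (resR Y.hom.le (ρ k j)) := by
    intro Y k j
    have e1 : coord (R := R.over U) j (op Y)
        (((kernel.ι π).val.app (op Y)).hom (secAt (τs k) (op Y))) =
        (((kernel.lift π (u k) (hu k) ≫ kernel.ι π) ≫ proj j).val.app (op Y)).hom
          (1 : (R.over U).obj.obj (op Y)) := rfl
    rw [e1, kernel.lift_ι, hproj, ofSec_app_one]
    rfl
  have hτ : Epi ((kernel π).freeHomEquiv.symm τs) := by
    apply epi_over_of_pointwise
    intro Y n y hy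
    have ha : ∑ i, ofOverR Y (coord (R := R.over U) i (op Y)
        (((kernel.ι π).val.app (op Y)).hom n)) • res M Y.hom.le (s i) = 0 := by
      have h := app_eq_sum_coord π (op Y) (((kernel.ι π).val.app (op Y)).hom n)
      have h0 : (π.val.app (op Y)).hom (((kernel.ι π).val.app (op Y)).hom n) = 0 :=
        congrArg (fun f => (f.val.app (op Y)).hom n) (kernel.condition π)
      rw [h] at h0
      simp only [hfree] at h0
      exact h0
    obtain ⟨W', hW', hyW', b, hb⟩ := hloc Y.left Y.hom.le _ ha y hy
    refine ⟨W', homOfLE hW', hyW',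
      ∑ k, toOverR (Over.mk (homOfLE hW' ≫ Y.hom)) (b k) •
        eSec (R := R.over U) k (op (Over.mk (homOfLE hW' ≫ Y.hom))), ?_⟩
    rw [freeHom_sum_eSec]
    apply kernel_ι_injective π (op (Over.mk (homOfLE hW' ≫ Y.hom)))
    apply coord_ext (op (Over.mk (homOfLE hW' ≫ Y.hom)))
    intro j
    rw [map_sum, map_sum]
    simp only [map_smul, smul_eq_mul, hterm]
    rw [coord_app_map]
    exact (hb j).symm
  subst hπdef
  let σ : (M.over U).GeneratingSections :=
    { I := ι, s := fun i => overSec M (s i), epi := hepi }
  let τ : (kernel σ.π).GeneratingSections := { I := κ, s := τs, epi := hτ }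
  exact ⟨{ generators := σ, relations := τ },
    { isFiniteType_generators := ⟨Finite.of_fintype ι⟩
      isFiniteType_relations := ⟨Finite.of_fintype κ⟩ }⟩

/-- `M|_U` has a finite presentation iff `M` has finite presentation data over `U`. -/
theorem fpData_iff (M : SheafOfModules.{u} R) (U : Opens X) :
    (∃ P : (M.over U).Presentation, P.IsFinite) ↔ FPData M U := by
  constructor
  · rintro ⟨P, hP⟩
    exact fpData_of_presentation M U P
  · rintro ⟨ι, _, s, κ, _, ρ, hs, hrel, hloc⟩
    exact presentation_of_fpData M U s ρ hs hrel hloc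

/-- Finitely presented modules on a ringed space, pointwise. -/
theorem isFinitePresentation_iff (M : SheafOfModules.{u} R) :
    M.IsFinitePresentation ↔ ∀ x : X, ∃ U : Opens X, x ∈ U ∧ FPData M U := by
  constructor
  · intro hM x
    obtain ⟨q, hq⟩ := hM.exists_quasicoherentData
    have hcov := (Opens.coversTop_iff X q.X).1 q.coversTop
    have hx : x ∈ ⨆ i, q.X i := by
      rw [IsOpenCover] at hcov
      rw [hcov]
      trivial
    obtain ⟨i, hxi⟩ := Opens.mem_iSup.1 hx
    haveI := hq.isFinite_presentation i
    exact ⟨q.X i, hxi, fpData_of_presentation M (q.X i) (q.presentation i)⟩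
  · intro h
    choose U hxU hU using h
    have hP := fun x => (fpData_iff M (U x)).2 (hU x)
    choose P hP using hP
    have hcov : (Opens.grothendieckTopology X).CoversTop U := by
      rw [Opens.coversTop_iff X U, IsOpenCover, eq_top_iff]
      intro x _
      exact Opens.mem_iSup.2 ⟨x, hxU x⟩
    refine { exists_quasicoherentData :=
      ⟨{ I := ↑X, X := U, coversTop := hcov, presentation := P }, ?_⟩ }
    exact { isFinite_presentation := fun i => hP i }

end Top

end Groth.Agent.Lib.Helper25.LocGenFP
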