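import Mathlib
import Groth.Agent.Lib.Helper25.LocGenFP

/-!
# Relations of generating families of finitely presented modules on a ringed space

* `LocSpanT.mono`, `LocSpanT.map_epi`, `LocRelT.mono`, `FPData.mono`;
* `exists_locRelT_of_locSpanT`: if `M` has finite presentation data near `x`, then ANY finite
  spanning family near `x` has locally finitely generated relations (after shrinking).
-/

set_option autoImplicit false
universe u

open CategoryTheory CategoryTheory.Limits Opposite SheafOfModules TopologicalSpace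
open Groth.Agent.Lib.Helper25.LocGenSite Groth.Agent.Lib.Helper25.LocGenFP

namespace Groth.Agent.Lib.Helper25.LocGenRel

variable {X : TopCat.{u}} {R : Sheaf (Opens.grothendieckTopology X) RingCat.{u}}

theorem LocSpanT.mono {M : SheafOfModules.{u} R} {U U' : Opens X} {ι : Type u} [Fintype ι]
    {s : ι → M.val.obj (op U)} (hs : LocSpanT M U s) (h : U' ≤ U) :
    LocSpanT M U' (fun i => res M h (s i)) := by
  intro W hW m y hy
  obtain ⟨W', hW', hyW', r, hr⟩ := hs W (hW.trans h) m y hy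
  refine ⟨W', hW', hyW', r, ?_⟩
  simp only [res_res]
  exact hr

theorem LocSpanT.map_epi {G F : SheafOfModules.{u} R} (θ : G ⟶ F) [Epi θ] {U : Opens X}
    {μ : Type u} [Fintype μ] {g : μ → G.val.obj (op U)} (hg : LocSpanT G U g) :
    LocSpanT F U (fun j => app θ U (g j)) := by
  intro W hW m y hy
  obtain ⟨W₁, hW₁, hy₁, m', hm'⟩ := exists_local_lift θ m y hy
  obtain ⟨W₂, hW₂, hy₂, a, ha⟩ := hg W₁ (hW₁.trans hW) m' y hy₁
  refine ⟨W₂, hW₂.trans hW₁, hy₂, a, ?_⟩
  have h1 : res F (hW₂.trans hW₁) m = app θ W₂ (res G hW₂ m') := by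
    rw [app_res, hm', res_res]
  rw [h1, ha, map_sum]
  refine Finset.sum_congr rfl (fun j _ => ?_)
  rw [map_smul, app_res]

theorem LocRelT.mono {M : SheafOfModules.{u} R} {U U' : Opens X} {ι κ : Type u} [Fintype ι]
    [Fintype κ] {s : ι → M.val.obj (op U)} {ρ : κ → ι → R.obj.obj (op U)}
    (hloc : LocRelT M U s ρ) (h : U' ≤ U) :
    LocRelT M U' (fun i => res M h (s i)) (fun k i => resR h (ρ k i)) := by
  intro W hW a ha y hy
  simp only [res_res] at ha
  obtain ⟨W', hW', hyW', b, hb⟩ := hloc W (hW.trans h) a ha y hy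
  refine ⟨W', hW', hyW', b, fun i => ?_⟩
  simp only [resR_resR]
  exact hb i

theorem rel_mono {M : SheafOfModules.{u} R} {U U' : Opens X} {ι : Type u} [Fintype ι]
    {s : ι → M.val.obj (op U)} {r : ι → R.obj.obj (op U)} (hr : ∑ i, r i • s i = 0)
    (h : U' ≤ U) : ∑ i, resR h (r i) • res M h (s i) = 0 := by
  have := congrArg (res M h) hr
  rw [map_sum, map_zero] at this
  simpa only [res_smul] using this

theorem FPData.mono {M : SheafOfModules.{u} R} {U U' : Opens X} (hM : FPData M U)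
    (h : U' ≤ U) : FPData M U' := by
  obtain ⟨ι, _, s, κ, _, ρ, hs, hrel, hloc⟩ := hM
  exact ⟨ι, inferInstance, fun i => res M h (s i), κ, inferInstance,
    fun k i => resR h (ρ k i), LocSpanT.mono hs h, fun k => rel_mono (hrel k) h,
    LocRelT.mono hloc h⟩

/-- If `M` has finite presentation data `(s, ρ)` near `x`, any finite family `f` spanning `M`
near `x` has locally finitely generated relations on a smaller neighbourhood. -/
theorem exists_locRelT_of_locSpanT (M : SheafOfModules.{u} R) {U₀ : Opens X} {ι κ : Type u}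
    [Fintype ι] [Fintype κ] (s : ι → M.val.obj (op U₀)) (ρ : κ → ι → R.obj.obj (op U₀))
    (hs : LocSpanT M U₀ s) (hrel : ∀ k, ∑ i, ρ k i • s i = 0) (hloc : LocRelT M U₀ s ρ)
    {U₁ : Opens X} {μ : Type u} [Fintype μ] (f : μ → M.val.obj (op U₁))
    (hf : LocSpanT M U₁ f) (x : X) (hx₀ : x ∈ U₀) (hx₁ : x ∈ U₁) :
    ∃ (U' : Opens X) (hU'₁ : U' ≤ U₁), x ∈ U' ∧ ∃ (κ' : Type u) (_ : Fintype κ')
      (ρ' : κ' → μ → R.obj.obj (op U')),
      (∀ k, ∑ j, ρ' k j • res M hU'₁ (f j) = 0) ∧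
        LocRelT M U' (fun j => res M hU'₁ (f j)) ρ' := by
  classical
  have h1 : ∀ i, ∃ (V : Opens X) (hV : V ≤ U₀ ⊓ U₁), x ∈ V ∧ ∃ l : μ → R.obj.obj (op V),
      res M (hV.trans inf_le_left) (s i) =
        ∑ j, l j • res M (hV.trans inf_le_right) (f j) := by
    intro i
    obtain ⟨V, hV, hxV, l, hl⟩ :=
      hf (U₀ ⊓ U₁) inf_le_right (res M inf_le_left (s i)) x ⟨hx₀, hx₁⟩
    refine ⟨V, hV, hxV, l, ?_⟩
    rw [res_res] at hl
    exact hl
  choose V hV hxV l hl using h1
  have h2 : ∀ j, ∃ (V' : Opens X) (hV' : V' ≤ U₀ ⊓ U₁), x ∈ V' ∧ ∃ c : ι → R.obj.obj (op V'),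
      res M (hV'.trans inf_le_right) (f j) =
        ∑ i, c i • res M (hV'.trans inf_le_left) (s i) := by
    intro j
    obtain ⟨V', hV', hxV', c, hc⟩ :=
      hs (U₀ ⊓ U₁) inf_le_left (res M inf_le_right (f j)) x ⟨hx₀, hx₁⟩
    refine ⟨V', hV', hxV', c, ?_⟩
    rw [res_res] at hc
    exact hc
  choose V' hV' hxV' c hc using h2
  obtain ⟨Ua, hxUa, hUa⟩ := exists_open_le_of_finite x V hxV
  obtain ⟨Ub, hxUb, hUb⟩ := exists_open_le_of_finite x V' hxV'
  have hU'0 : (Ua ⊓ Ub) ⊓ (U₀ ⊓ U₁) ≤ U₀ := inf_le_right.trans inf_le_left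
  have hU'1 : (Ua ⊓ Ub) ⊓ (U₀ ⊓ U₁) ≤ U₁ := inf_le_right.trans inf_le_right
  have hU'V : ∀ i, (Ua ⊓ Ub) ⊓ (U₀ ⊓ U₁) ≤ V i :=
    fun i => (inf_le_left.trans inf_le_left).trans (hUa i)
  have hU'V' : ∀ j, (Ua ⊓ Ub) ⊓ (U₀ ⊓ U₁) ≤ V' j :=
    fun j => (inf_le_left.trans inf_le_right).trans (hUb j)
  obtain ⟨L, hLdef⟩ : ∃ L : ι → μ → R.obj.obj (op ((Ua ⊓ Ub) ⊓ (U₀ ⊓ U₁))),
    L = fun i j => resR (hU'V i) (l i j) := ⟨_, rfl⟩
  obtain ⟨Cc, hCdef⟩ : ∃ Cc : μ → ι → R.obj.obj (op ((Ua ⊓ Ub) ⊓ (U₀ ⊓ U₁))),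
    Cc = fun j i => resR (hU'V' j) (c j i) := ⟨_, rfl⟩
  have hL : ∀ i, res M hU'0 (s i) = ∑ j, L i j • res M hU'1 (f j) := by
    intro i
    have := congrArg (res M (hU'V i)) (hl i)
    rw [res_res, map_sum] at this
    rw [hLdef]
    simpa only [res_smul, res_res] using this
  have hC : ∀ j, res M hU'1 (f j) = ∑ i, Cc j i • res M hU'0 (s i) := by
    intro j
    have := congrArg (res M (hU'V' j)) (hc j)
    rw [res_res, map_sum] at this
    rw [hCdef]
    simpa only [res_smul, res_res] using this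
  refine ⟨(Ua ⊓ Ub) ⊓ (U₀ ⊓ U₁), hU'1, ⟨⟨hxUa, hxUb⟩, hx₀, hx₁⟩, μ ⊕ κ, inferInstance,
    Sum.elim (fun j j' => (if j = j' then 1 else 0) - ∑ i, Cc j i * L i j')
      (fun k j' => ∑ i, resR hU'0 (ρ k i) * L i j'), ?_, ?_⟩
  · rintro (j | k)
    · simp only [Sum.elim_inl, sub_smul, Finset.sum_sub_distrib, ite_smul, one_smul, zero_smul,
        Finset.sum_ite_eq, Finset.mem_univ, if_true]
      rw [sub_eq_zero]
      conv_lhs => rw [hC j]
      simp only [hL, Finset.smul_sum, Finset.sum_smul, mul_smul]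
      exact Finset.sum_comm
    · simp only [Sum.elim_inr, Finset.sum_smul, mul_smul]
      rw [Finset.sum_comm]
      simp only [← Finset.smul_sum, ← hL]
      exact rel_mono (hrel k) hU'0
  · intro W hW a ha y hy
    have hC' : ∀ j, res M hW (res M hU'1 (f j)) =
        ∑ i, resR hW (Cc j i) • res M (hW.trans hU'0) (s i) := by
      intro j
      have := congrArg (res M hW) (hC j)
      rw [map_sum] at this
      simpa only [res_smul, res_res] using this
    have hd : ∑ i, (∑ j, a j * resR hW (Cc j i)) • res M (hW.trans hU'0) (s i) = 0 := by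
      rw [← ha]
      simp only [hC', Finset.smul_sum, Finset.sum_smul, mul_smul]
      exact Finset.sum_comm
    obtain ⟨W', hW', hyW', b, hb⟩ := hloc W (hW.trans hU'0) _ hd y hy
    refine ⟨W', hW', hyW', Sum.elim (fun j => resR hW' (a j)) b, fun j' => ?_⟩
    rw [Fintype.sum_sum_type]
    simp only [Sum.elim_inl, Sum.elim_inr]
    have hb' : ∀ i, ∑ j, resR hW' (a j) * resR (hW'.trans hW) (Cc j i) =
        ∑ k, b k * resR (hW'.trans (hW.trans hU'0)) (ρ k i) := by
      intro i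
      rw [← hb i, map_sum]
      simp only [map_mul, resR_resR]
    have hρ1 : ∀ j, resR (hW'.trans hW) ((if j = j' then 1 else 0) - ∑ i, Cc j i * L i j') =
        (if j = j' then 1 else 0) -
          ∑ i, resR (hW'.trans hW) (Cc j i) * resR (hW'.trans hW) (L i j') := by
      intro j
      rw [map_sub, map_sum]
      congr 1
      · split_ifs <;> simp
      · simp only [map_mul]
    have hρ2 : ∀ k, resR (hW'.trans hW) (∑ i, resR hU'0 (ρ k i) * L i j') =
        ∑ i, resR (hW'.trans (hW.trans hU'0)) (ρ k i) * resR (hW'.trans hW) (L i j') := by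
      intro k
      rw [map_sum]
      simp only [map_mul, resR_resR]
    simp only [hρ1, hρ2]
    have e1 : ∑ j, resR hW' (a j) * ((if j = j' then 1 else 0) -
        ∑ i, resR (hW'.trans hW) (Cc j i) * resR (hW'.trans hW) (L i j')) =
        resR hW' (a j') - ∑ i, (∑ j, resR hW' (a j) * resR (hW'.trans hW) (Cc j i)) *
          resR (hW'.trans hW) (L i j') := by
      simp only [mul_sub, Finset.sum_sub_distrib, mul_ite, mul_one, mul_zero,
        Finset.sum_ite_eq', Finset.mem_univ, if_true]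
      congr 1
      simp only [Finset.mul_sum, Finset.sum_mul, mul_assoc]
      exact Finset.sum_comm
    have e2 : ∑ k, b k * ∑ i, resR (hW'.trans (hW.trans hU'0)) (ρ k i) *
        resR (hW'.trans hW) (L i j') =
        ∑ i, (∑ k, b k * resR (hW'.trans (hW.trans hU'0)) (ρ k i)) *
          resR (hW'.trans hW) (L i j') := by
      simp only [Finset.mul_sum, Finset.sum_mul, mul_assoc]
      exact Finset.sum_comm
    rw [e1, e2]
    simp only [hb']
    exact (sub_add_cancel _ _).symm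

end Groth.Agent.Lib.Helper25.LocGenRel
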