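import Mathlib
import Groth.Agent.Lib.Helper25.LocGenRel

/-!
# Kernels and cokernels of maps between finite type / finitely presented modules
on a ringed space
-/

set_option autoImplicit false
universe u

open CategoryTheory CategoryTheory.Limits Opposite SheafOfModules TopologicalSpace
open Groth.Agent.Lib.Helper25.LocGenSite Groth.Agent.Lib.Helper25.LocGenFP
  Groth.Agent.Lib.Helper25.LocGenRel

namespace Groth.Agent.Lib.Helper25.LocGenKer

variable {X : TopCat.{u}} {R : Sheaf (Opens.grothendieckTopology X) RingCat.{u}}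

/-- The kernel of an epimorphism from a finite type module onto a finitely presented module is of
finite type. -/
theorem isFiniteType_kernel {G F : SheafOfModules.{u} R} (θ : G ⟶ F) [Epi θ] [G.IsFiniteType]
    [F.IsFinitePresentation] : (kernel θ).IsFiniteType := by
  classical
  rw [isFiniteType_iff]
  intro x
  obtain ⟨U_F, hxF, ι, _, s, κ, _, ρ, hs, hrel, hloc⟩ :=
    (isFinitePresentation_iff F).1 inferInstance x
  obtain ⟨U_G, hxG, μ, _, g, hg⟩ := (isFiniteType_iff G).1 inferInstance x
  have hf : LocSpanT F U_G (fun j => app θ U_G (g j)) := LocSpanT.map_epi θ hg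
  obtain ⟨U', hU'G, hxU', κ', _, ρ', hrel', hloc'⟩ :=
    exists_locRelT_of_locSpanT F s ρ hs hrel hloc (fun j => app θ U_G (g j)) hf x hxF hxG
  have hγ : ∀ k, (θ.val.app (op U')).hom (∑ j, ρ' k j • res G hU'G (g j)) = 0 := by
    intro k
    change app θ U' _ = 0
    rw [map_sum]
    simp only [map_smul, app_res]
    exact hrel' k
  choose γ' hγ' using fun k => exists_kernel_lift θ (op U') _ (hγ k)
  refine ⟨U', hxU', κ', inferInstance, γ', ?_⟩
  intro W hW n y hy
  have hm0 : app θ W (app (kernel.ι θ) W n) = 0 :=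
    congrArg (fun f => (f.val.app (op W)).hom n) (kernel.condition θ)
  obtain ⟨W', hW', hyW', a, ha⟩ := hg W (hW.trans hU'G) (app (kernel.ι θ) W n) y hy
  have hrelA : ∑ j, a j • res F (hW'.trans hW) (res F hU'G (app θ U_G (g j))) = 0 := by
    have h := congrArg (app θ W') ha
    rw [app_res, hm0, map_zero, map_sum] at h
    simp only [map_smul, app_res] at h
    simp only [res_res]
    exact h.symm
  obtain ⟨W'', hW'', hyW'', b, hb⟩ := hloc' W' (hW'.trans hW) a hrelA y hyW'
  refine ⟨W'', hW''.trans hW', hyW'', b, ?_⟩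
  apply kernel_ι_injective θ (op W'')
  change app (kernel.ι θ) W'' (res (kernel θ) (hW''.trans hW') n) =
    app (kernel.ι θ) W'' (∑ k, b k • res (kernel θ) ((hW''.trans hW').trans hW) (γ' k))
  rw [app_res, map_sum]
  simp only [map_smul, app_res]
  have hγ'' : ∀ k, app (kernel.ι θ) U' (γ' k) = ∑ j, ρ' k j • res G hU'G (g j) := hγ'
  have hL : res G (hW''.trans hW') (app (kernel.ι θ) W n) =
      ∑ j, resR hW'' (a j) • res G ((hW''.trans hW').trans (hW.trans hU'G)) (g j) := by
    have h := congrArg (res G hW'') ha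
    rw [res_res, map_sum] at h
    simpa only [res_smul, res_res] using h
  rw [hL]
  simp only [hγ'', map_sum, res_smul, res_res, hb, Finset.sum_smul, Finset.smul_sum, mul_smul]
  exact Finset.sum_comm

/-- Sections killed by the cokernel projection are locally in the image. -/
theorem exists_local_preimage_of_cokernel {G F : SheafOfModules.{u} R} (φ : G ⟶ F)
    {W : Opens X} (m : F.val.obj (op W)) (hm : app (cokernel.π φ) W m = 0) (y : X)
    (hy : y ∈ W) :
    ∃ (W' : Opens X) (hW' : W' ≤ W), y ∈ W' ∧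
      ∃ g' : G.val.obj (op W'), app φ W' g' = res F hW' m := by
  obtain ⟨n, hn⟩ := exists_kernel_lift (cokernel.π φ) (op W) m hm
  haveI : Epi (Abelian.factorThruImage φ) := inferInstance
  obtain ⟨W', hW', hyW', g', hg'⟩ := exists_local_lift (Abelian.factorThruImage φ) n y hy
  refine ⟨W', hW', hyW', g', ?_⟩
  have hfac : Abelian.factorThruImage φ ≫ Abelian.image.ι φ = φ := Abelian.image.fac φ
  have h1 : app φ W' g' =
      app (Abelian.image.ι φ) W' (app (Abelian.factorThruImage φ) W' g') := by
    rw [← app_comp, hfac]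
  rw [h1, hg', app_res]
  exact congrArg (res F hW') hn

/-- The cokernel of a map from a finite type module to a finitely presented module is finitely
presented. -/
theorem isFinitePresentation_cokernel {G F : SheafOfModules.{u} R} (φ : G ⟶ F)
    [G.IsFiniteType] [F.IsFinitePresentation] : (cokernel φ).IsFinitePresentation := by
  classical
  rw [isFinitePresentation_iff]
  intro x
  obtain ⟨U_F, hxF, ι, _, s, κ, _, ρ, hs, hrel, hloc⟩ :=
    (isFinitePresentation_iff F).1 inferInstance x
  obtain ⟨U_G, hxG, μ, _, g, hg⟩ := (isFiniteType_iff G).1 inferInstance x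
  have h2 : ∀ j, ∃ (V : Opens X) (hV : V ≤ U_F ⊓ U_G), x ∈ V ∧ ∃ c : ι → R.obj.obj (op V),
      res F (hV.trans inf_le_right) (app φ U_G (g j)) =
        ∑ i, c i • res F (hV.trans inf_le_left) (s i) := by
    intro j
    obtain ⟨V, hV, hxV, c, hc⟩ :=
      hs (U_F ⊓ U_G) inf_le_left (res F inf_le_right (app φ U_G (g j))) x ⟨hxF, hxG⟩
    refine ⟨V, hV, hxV, c, ?_⟩
    rw [res_res] at hc
    exact hc
  choose V hV hxV c hc using h2
  obtain ⟨Ua, hxUa, hUa⟩ := exists_open_le_of_finite x V hxV
  have hUF : Ua ⊓ (U_F ⊓ U_G) ≤ U_F := inf_le_right.trans inf_le_left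
  have hUG : Ua ⊓ (U_F ⊓ U_G) ≤ U_G := inf_le_right.trans inf_le_right
  have hUV : ∀ j, Ua ⊓ (U_F ⊓ U_G) ≤ V j := fun j => inf_le_left.trans (hUa j)
  have hC : ∀ j, res F hUG (app φ U_G (g j)) =
      ∑ i, resR (hUV j) (c j i) • res F hUF (s i) := by
    intro j
    have := congrArg (res F (hUV j)) (hc j)
    rw [res_res, map_sum] at this
    simpa only [res_smul, res_res] using this
  haveI : Epi (cokernel.π φ) := inferInstance
  have hsU : LocSpanT F (Ua ⊓ (U_F ⊓ U_G)) (fun i => res F hUF (s i)) := LocSpanT.mono hs hUF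
  have hspan : LocSpanT (cokernel φ) (Ua ⊓ (U_F ⊓ U_G))
      (fun i => app (cokernel.π φ) (Ua ⊓ (U_F ⊓ U_G)) (res F hUF (s i))) :=
    LocSpanT.map_epi (cokernel.π φ) hsU
  refine ⟨Ua ⊓ (U_F ⊓ U_G), ⟨hxUa, hxF, hxG⟩, ι, inferInstance,
    fun i => app (cokernel.π φ) (Ua ⊓ (U_F ⊓ U_G)) (res F hUF (s i)), κ ⊕ μ, inferInstance,
    Sum.elim (fun k i => resR hUF (ρ k i)) (fun j i => resR (hUV j) (c j i)), hspan, ?_, ?_⟩
  · rintro (k | j)
    · simp only [Sum.elim_inl]
      have := congrArg (app (cokernel.π φ) (Ua ⊓ (U_F ⊓ U_G))) (rel_mono (hrel k) hUF)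
      rw [map_sum, map_zero] at this
      simpa only [map_smul] using this
    · simp only [Sum.elim_inr]
      have h := congrArg (app (cokernel.π φ) (Ua ⊓ (U_F ⊓ U_G))) (hC j)
      rw [map_sum] at h
      simp only [map_smul] at h
      rw [← h, ← app_res, ← app_comp, cokernel.condition]
      rfl
  · intro W hW a ha y hy
    have hpm : app (cokernel.π φ) W (∑ i, a i • res F (hW.trans hUF) (s i)) = 0 := by
      rw [map_sum]
      simp only [map_smul]
      refine Eq.trans (Finset.sum_congr rfl (fun i _ => ?_)) ha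
      congr 1
      rw [← app_res, res_res]
    obtain ⟨W₁, hW₁, hyW₁, g', hg'⟩ := exists_local_preimage_of_cokernel φ _ hpm y hy
    obtain ⟨W₂, hW₂, hyW₂, e, he⟩ := hg W₁ ((hW₁.trans hW).trans hUG) g' y hyW₁
    have hrel2 : ∑ i, (resR (hW₂.trans hW₁) (a i) -
        ∑ j, e j * resR ((hW₂.trans hW₁).trans hW) (resR (hUV j) (c j i))) •
          res F (((hW₂.trans hW₁).trans hW).trans hUF) (s i) = 0 := by
      simp only [sub_smul, Finset.sum_sub_distrib, Finset.sum_smul, mul_smul]
      rw [sub_eq_zero]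
      have hA : ∑ i, resR (hW₂.trans hW₁) (a i) •
          res F (((hW₂.trans hW₁).trans hW).trans hUF) (s i) = res F hW₂ (app φ W₁ g') := by
        rw [hg', res_res, map_sum]
        simp only [res_smul, res_res]
      rw [hA, ← app_res, he, map_sum]
      simp only [map_smul, app_res]
      rw [Finset.sum_comm]
      refine Finset.sum_congr rfl (fun j _ => ?_)
      rw [← Finset.smul_sum]
      congr 1
      have := congrArg (res F ((hW₂.trans hW₁).trans hW)) (hC j)
      rw [res_res, map_sum] at this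
      simpa only [res_smul, res_res] using this
    obtain ⟨W₃, hW₃, hyW₃, b, hb⟩ :=
      hloc W₂ (((hW₂.trans hW₁).trans hW).trans hUF) _ hrel2 y hyW₂
    refine ⟨W₃, (hW₃.trans hW₂).trans hW₁, hyW₃, Sum.elim b (fun j => resR hW₃ (e j)),
      fun i => ?_⟩
    rw [Fintype.sum_sum_type]
    simp only [Sum.elim_inl, Sum.elim_inr, resR_resR]
    have := hb i
    rw [map_sub, map_sum, sub_eq_iff_eq_add] at this
    simp only [map_mul, resR_resR] at this
    exact this

end Groth.Agent.Lib.Helper25.LocGenKer
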