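import Mathlib
import Groth.Agent.Lib.Helper2.Stk.Pull

/-!
# Pullback of modules along a flat surjective morphism of schemes is faithful
-/

set_option autoImplicit false
universe u

open CategoryTheory CategoryTheory.Limits AlgebraicGeometry TopologicalSpace Opposite
open Groth.Agent.Lib.Helper2.Stk

namespace Groth.Agent.Lib.Helper25.PullFaithful

/-- A morphism of modules all of whose stalk maps vanish is zero. -/
theorem eq_zero_of_stalk_zero {Y : Scheme.{u}} {M N : Y.Modules} (φ : M ⟶ N)
    (h : ∀ y : Y, (Φ y).map φ = 0) : φ = 0 := by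
  apply Scheme.Modules.hom_ext
  intro U
  ext s
  apply TopCat.Presheaf.section_ext (⟨N.presheaf, N.isSheaf⟩ : TopCat.Sheaf Ab Y.toTopCat) U
  intro y hy
  have h1 := DerSch.stalkFunctor_map_germ y φ U hy s
  rw [h y] at h1
  refine h1.symm.trans ?_
  exact (map_zero _).symm

theorem eq_zero_of_extendScalars {R S : Type u} [CommRing R] [CommRing S] (g : R →+* S)
    (hff : letI := g.toAlgebra; Module.FaithfullyFlat R S) {M N : ModuleCat.{u} R} (l : M ⟶ N)
    (h : (ModuleCat.extendScalars g).map l = 0) : l = 0 := by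
  letI := g.toAlgebra
  haveI := hff
  have h1 : LinearMap.lTensor S l.hom = 0 := by
    refine LinearMap.ext (fun z => ?_)
    have := congrArg (fun q => q.hom z) h
    exact this
  exact ModuleCat.hom_ext ((Module.FaithfullyFlat.zero_iff_lTensor_zero R S l.hom).2 h1)

theorem pullback_map_eq_zero {X Y : Scheme.{u}} (f : X ⟶ Y) [Flat f] [Surjective f]
    {M N : Y.Modules} (φ : M ⟶ N) (h : (Scheme.Modules.pullback f).map φ = 0) : φ = 0 := by
  apply eq_zero_of_stalk_zero
  intro y
  obtain ⟨x, rfl⟩ := ‹Surjective f›.surj y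
  have nat := (pullStalkIso f x).hom.naturality φ
  have h0 : (Scheme.Modules.pullback f ⋙ Φ x).map φ = 0 := by
    rw [Functor.comp_map, h, Functor.map_zero]
  rw [h0, zero_comp] at nat
  have h1 : (ModuleCat.extendScalars (φst f x)).map ((Φ (f.base x)).map φ) = 0 := by
    have : (Φ (f.base x) ⋙ ModuleCat.extendScalars (φst f x)).map φ = 0 := by
      rw [← cancel_epi ((pullStalkIso f x).hom.app M), ← nat, comp_zero]
    exact this
  refine eq_zero_of_extendScalars (φst f x) ?_ _ h1
  letI := (φst f x).toAlgebra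
  exact @Module.FaithfullyFlat.of_flat_of_isLocalHom _ _ _ _ _ _ _
      (Flat.stalkMap f x) (f.toLRSHom.prop x)

theorem faithful_pullback {X Y : Scheme.{u}} (f : X ⟶ Y) [Flat f] [Surjective f] :
    (Scheme.Modules.pullback f).Faithful := by
  refine ⟨fun {M N} a b hab => ?_⟩
  have h : (Scheme.Modules.pullback f).map (a - b) = 0 := by
    rw [Functor.map_sub, hab, sub_self]
  exact sub_eq_zero.1 (pullback_map_eq_zero f (a - b) h)

end Groth.Agent.Lib.Helper25.PullFaithful
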