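import Mathlib
import Groth.Agent.Lib.Helper2.Stk.Pull
import Groth.Agent.Lib.Helper2.Stk.Exact
import Groth.Agent.Lib.Helper25.LocGenKer
import Groth.Agent.Lib.Helper25.PullFaithful
import Groth.Agent.Lib.Helper17.FinLocFreeSec
import Groth.Agent.Lib.Helper13.FreeLocus

/-!
# Universally injective maps into finite locally free modules

A map `ι : U ⟶ E` from a finite type module to a finite locally free module on a scheme is a
monomorphism with finite locally free cokernel iff it is so after every pullback iff it is
injective on all fibres.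
-/

set_option autoImplicit false
set_option linter.style.haveILetI false
universe u

open CategoryTheory CategoryTheory.Limits AlgebraicGeometry TopologicalSpace Opposite TensorProduct
open Groth.Agent.Lib.Helper2.Stk

namespace Groth.Agent.Lib.Helper25.SplitFibre

/-- A morphism of modules which is injective on all stalks is a monomorphism. -/
theorem mono_of_stalk_injective {Y : Scheme.{u}} {M N : Y.Modules} (φ : M ⟶ N)
    (h : ∀ y : Y, Function.Injective ((Φ y).map φ)) : Mono φ := by
  apply Preadditive.mono_of_cancel_zero
  intro P g hg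
  apply Groth.Agent.Lib.Helper25.PullFaithful.eq_zero_of_stalk_zero
  intro y
  haveI : Mono ((Φ y).map φ) := (ModuleCat.mono_iff_injective _).2 (h y)
  rw [← cancel_mono ((Φ y).map φ), ← Functor.map_comp, hg, Functor.map_zero, zero_comp]

/-- Stalks of a finite type module are finite modules (no quasi-coherence needed). -/
theorem finite_stalk_of_isFiniteType {S : Scheme.{u}} (M : S.Modules)
    (hM : SheafOfModules.IsFiniteType (R := S.ringCatSheaf) M) (x : S) :
    Module.Finite (S.presheaf.stalk x) (M.presheaf.stalk x) := by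
  classical
  obtain ⟨U, hxU, ι, _, s, hs⟩ :=
    (Groth.Agent.Lib.Helper25.LocGenSite.isFiniteType_iff (R := S.ringCatSheaf) M).1 hM x
  refine ⟨⟨Finset.univ.image (fun i => M.presheaf.germ U x hxU (s i)), ?_⟩⟩
  rw [eq_top_iff]
  rintro m -
  obtain ⟨W, hxW, t, rfl⟩ := TopCat.Presheaf.exists_germ_eq M.presheaf m
  obtain ⟨W', hW', hxW', r, hr⟩ := hs (W ⊓ U) inf_le_right
    (Groth.Agent.Lib.Helper25.LocGenSite.res M inf_le_left t) x ⟨hxW, hxU⟩
  let g : M.val.obj (op W') →+ ↑(M.presheaf.stalk x) := (M.presheaf.germ W' x hxW').hom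
  have h1 : M.presheaf.germ W x hxW t
      = g (Groth.Agent.Lib.Helper25.LocGenSite.res M hW'
          (Groth.Agent.Lib.Helper25.LocGenSite.res M inf_le_left t)) := by
    have a1 := TopCat.Presheaf.germ_res_apply M.presheaf
      (homOfLE (inf_le_left : W ⊓ U ≤ W)) x ⟨hxW, hxU⟩ t
    have a2 := TopCat.Presheaf.germ_res_apply M.presheaf (homOfLE hW') x hxW'
      (Groth.Agent.Lib.Helper25.LocGenSite.res M inf_le_left t)
    exact a1.symm.trans a2.symm
  have hg_smul : ∀ (c : S.ringCatSheaf.obj.obj (op W')) (b : M.val.obj (op W')),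
      g (c • b) = (S.presheaf.germ W' x hxW' c) • g b := fun c b => germ_smul' x M W' hxW' c b
  have key : ∀ T : Finset ι,
      g (∑ i ∈ T, r i • Groth.Agent.Lib.Helper25.LocGenSite.res M (hW'.trans inf_le_right) (s i)) ∈
        Submodule.span (S.presheaf.stalk x)
          (↑(Finset.univ.image fun i => M.presheaf.germ U x hxU (s i)) :
            Set (M.presheaf.stalk x)) := by
    intro T
    induction T using Finset.induction_on with
    | empty =>
      rw [Finset.sum_empty, map_zero]
      exact Submodule.zero_mem _
    | insert j T hj ih =>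
      rw [Finset.sum_insert hj, map_add]
      refine Submodule.add_mem _ ?_ ih
      rw [hg_smul]
      refine Submodule.smul_mem _ _ (Submodule.subset_span ?_)
      have h3 : g (Groth.Agent.Lib.Helper25.LocGenSite.res M (hW'.trans inf_le_right) (s j)) =
          M.presheaf.germ U x hxU (s j) :=
        TopCat.Presheaf.germ_res_apply M.presheaf (homOfLE (hW'.trans inf_le_right)) x hxW' (s j)
      rw [h3]
      exact Finset.mem_coe.2 (Finset.mem_image.2 ⟨j, Finset.mem_univ _, rfl⟩)
  rw [h1, hr]
  exact key Finset.univ

/-- Split injectivity over a local ring can be tested after base change to any field receiving a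
local homomorphism. -/
theorem exists_retraction_of_injective_extendScalars {R K : Type u} [CommRing R] [IsLocalRing R]
    [CommRing K] (hKf : IsField K) (φ : R →+* K) [IsLocalHom φ] {M N : ModuleCat.{u} R}
    [Module.Finite R M] [Module.Finite R N] [Module.Free R N] (l : M ⟶ N)
    (h : Function.Injective ((ModuleCat.extendScalars φ).map l)) :
    ∃ r : N ⟶ M, l ≫ r = 𝟙 M := by
  letI : Algebra R K := φ.toAlgebra
  haveI : Nontrivial K := ⟨hKf.exists_pair_ne⟩
  have hker : ∀ a ∈ IsLocalRing.maximalIdeal R, φ a = 0 := by
    intro a ha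
    by_contra hne
    obtain ⟨b, hb⟩ := hKf.mul_inv_cancel hne
    have hu : IsUnit (φ a) := IsUnit.of_mul_eq_one b hb
    exact ha (isUnit_of_map_unit φ a hu)
  let ψ : IsLocalRing.ResidueField R →+* K := Ideal.Quotient.lift _ φ hker
  letI : Algebra (IsLocalRing.ResidueField R) K := ψ.toAlgebra
  haveI : IsScalarTower R (IsLocalRing.ResidueField R) K :=
    IsScalarTower.of_algebraMap_eq (fun r => by
      show φ r = ψ (Ideal.Quotient.mk _ r)
      exact (Ideal.Quotient.lift_mk _ φ hker).symm)
  have hK : Function.Injective (l.hom.lTensor K) := fun a b hab => h hab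
  have hk : Function.Injective (l.hom.baseChange (IsLocalRing.ResidueField R)) := by
    rw [← Module.FaithfullyFlat.lTensor_injective_iff_injective (IsLocalRing.ResidueField R) K]
    let eM := TensorProduct.AlgebraTensorModule.cancelBaseChange R (IsLocalRing.ResidueField R)
      (IsLocalRing.ResidueField R) K M
    let eN := TensorProduct.AlgebraTensorModule.cancelBaseChange R (IsLocalRing.ResidueField R)
      (IsLocalRing.ResidueField R) K N
    have comm : ∀ z, eN ((l.hom.baseChange (IsLocalRing.ResidueField R)).lTensor K z) =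
        l.hom.lTensor K (eM z) := by
      intro z
      induction z using TensorProduct.induction_on with
      | zero => simp
      | tmul x w =>
        induction w using TensorProduct.induction_on with
        | zero => simp
        | tmul y m => rfl
        | add a b ha hb => simp only [TensorProduct.tmul_add, map_add, ha, hb]
      | add a b ha hb => simp only [map_add, ha, hb]
    intro a b hab
    apply eM.injective
    apply hK
    rw [← comm, ← comm, hab]
  have hk' : Function.Injective (l.hom.lTensor (IsLocalRing.ResidueField R)) := by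
    rw [← LinearMap.baseChange_eq_ltensor]
    exact hk
  obtain ⟨l', hl'⟩ :=
    (IsLocalRing.split_injective_iff_lTensor_residueField_injective l.hom).2 hk'
  exact ⟨ModuleCat.ofHom l', ModuleCat.hom_ext (by simpa using hl')⟩

/-- Stalks of a finite locally free module are free of finite rank. -/
theorem free_finite_stalk_of_isFinLocFree {S : Scheme.{u}} {E : S.Modules}
    (hE : FlatMod.IsFinLocFree E) (s : S) :
    Module.Free (S.presheaf.stalk s) (E.presheaf.stalk s) ∧
      Module.Finite (S.presheaf.stalk s) (E.presheaf.stalk s) := by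
  haveI : E.IsQuasicoherent :=
    Groth.Agent.Lib.Helper3.LocFreeCrit.isQuasicoherent_of_isFinLocFree hE
  obtain ⟨W, n, e, hsW, he⟩ := (Groth.Agent.Lib.Helper3.LocFreeCrit.isFinLocFree_iff.mp hE) s
  exact Groth.Agent.Lib.Helper13.FreeLocus.free_finite_stalk_of_freeOn E ⟨n, e, he⟩ s hsW

/-- A monomorphism with finite locally free cokernel splits on every stalk. -/
theorem exists_retraction_stalk {S : Scheme.{u}} {U E : S.Modules} (ι : U ⟶ E) [Mono ι]
    (hC : FlatMod.IsFinLocFree (cokernel ι)) (s : S) :
    ∃ r : (Φ s).obj E ⟶ (Φ s).obj U, (Φ s).map ι ≫ r = 𝟙 _ := by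
  let T : ShortComplex S.Modules := ShortComplex.mk ι (cokernel.π ι) (cokernel.condition ι)
  have hT : T.ShortExact :=
    { exact := ShortComplex.exact_cokernel ι
      mono_f := inferInstanceAs (Mono ι)
      epi_g := inferInstanceAs (Epi (cokernel.π ι)) }
  have hTs : (T.map (Φ s)).ShortExact := hT.map_of_exact (Φ s)
  haveI : Module.Free (S.presheaf.stalk s) ((cokernel ι).presheaf.stalk s) :=
    (free_finite_stalk_of_isFinLocFree hC s).1
  haveI : Projective (T.map (Φ s)).X₃ :=
    (IsProjective.iff_projective ((cokernel ι).presheaf.stalk s)).1 inferInstance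
  exact ⟨hTs.splittingOfProjective.r, hTs.splittingOfProjective.f_r⟩

/-- components of a natural isomorphism of module-valued functors are injective -/
theorem injective_app_of_iso {C : Type*} [Category C] {R : Type u} [Ring R]
    {F G : C ⥤ ModuleCat.{u} R} (α : F ≅ G) (X : C) : Function.Injective (α.hom.app X) := by
  intro a b hab
  have h3 : ∀ z, α.inv.app X (α.hom.app X z) = z := fun z => by
    have := congrArg (fun q => q.hom z) (α.hom_inv_id_app X)
    exact this
  have h2 := congrArg (fun z => α.inv.app X z) hab
  exact (h3 a).symm.trans (h2.trans (h3 b))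

/-- If `ι` is split injective on all stalks, every pullback of `ι` is a monomorphism. -/
theorem mono_pullback_of_retractions {S T : Scheme.{u}} {U E : S.Modules} (ι : U ⟶ E)
    (hr : ∀ s : S, ∃ r : (Φ s).obj E ⟶ (Φ s).obj U, (Φ s).map ι ≫ r = 𝟙 _) (f : T ⟶ S) :
    Mono ((Scheme.Modules.pullback f).map ι) := by
  apply mono_of_stalk_injective
  intro t
  obtain ⟨r, hr⟩ := hr (f.base t)
  have h1 : (ModuleCat.extendScalars (φst f t)).map ((Φ (f.base t)).map ι) ≫
      (ModuleCat.extendScalars (φst f t)).map r = 𝟙 _ := by
    rw [← CategoryTheory.Functor.map_comp, hr, CategoryTheory.Functor.map_id]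
  have hG : Function.Injective
      ((ModuleCat.extendScalars (φst f t)).map ((Φ (f.base t)).map ι)) := by
    intro a b hab
    have ha : (ModuleCat.extendScalars (φst f t)).map r
        ((ModuleCat.extendScalars (φst f t)).map ((Φ (f.base t)).map ι) a) = a :=
      congrArg (fun q => q.hom a) h1
    have hb : (ModuleCat.extendScalars (φst f t)).map r
        ((ModuleCat.extendScalars (φst f t)).map ((Φ (f.base t)).map ι) b) = b :=
      congrArg (fun q => q.hom b) h1
    rw [← ha, ← hb, hab]
  have nat := (pullStalkIso f t).hom.naturality ι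
  intro a b hab
  apply injective_app_of_iso (pullStalkIso f t) U
  apply hG
  have na : (pullStalkIso f t).hom.app E ((Φ t).map ((Scheme.Modules.pullback f).map ι) a) =
      (ModuleCat.extendScalars (φst f t)).map ((Φ (f.base t)).map ι)
        ((pullStalkIso f t).hom.app U a) := congrArg (fun q => q.hom a) nat
  have nb : (pullStalkIso f t).hom.app E ((Φ t).map ((Scheme.Modules.pullback f).map ι) b) =
      (ModuleCat.extendScalars (φst f t)).map ((Φ (f.base t)).map ι)
        ((pullStalkIso f t).hom.app U b) := congrArg (fun q => q.hom b) nat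
  rw [← na, ← nb, hab]

/-- If the pullback of `ι` along `f` is a monomorphism and the local ring at `t` is a field, then
`ι` is split injective on the stalk at `f t`. -/
theorem exists_retraction_of_mono_pullback {S T : Scheme.{u}} {U E : S.Modules}
    (hU : SheafOfModules.IsFiniteType (R := S.ringCatSheaf) U) (hE : FlatMod.IsFinLocFree E)
    (ι : U ⟶ E) (f : T ⟶ S) (t : T) (hfield : IsField (T.presheaf.stalk t))
    (h : Mono ((Scheme.Modules.pullback f).map ι)) :
    ∃ r : (Φ (f.base t)).obj E ⟶ (Φ (f.base t)).obj U, (Φ (f.base t)).map ι ≫ r = 𝟙 _ := by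
  haveI : IsLocalHom (φst f t) := f.toLRSHom.prop t
  haveI : Module.Free (S.presheaf.stalk (f.base t)) ((Φ (f.base t)).obj E) :=
    (free_finite_stalk_of_isFinLocFree hE (f.base t)).1
  haveI : Module.Finite (S.presheaf.stalk (f.base t)) ((Φ (f.base t)).obj E) :=
    (free_finite_stalk_of_isFinLocFree hE (f.base t)).2
  haveI : Module.Finite (S.presheaf.stalk (f.base t)) ((Φ (f.base t)).obj U) :=
    finite_stalk_of_isFiniteType U hU (f.base t)
  refine exists_retraction_of_injective_extendScalars hfield (φst f t) ((Φ (f.base t)).map ι) ?_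
  have nat := (pullStalkIso f t).inv.naturality ι
  have hF : Function.Injective ((Φ t).map ((Scheme.Modules.pullback f).map ι)) :=
    Φ_map_injective _ t
  intro a b hab
  apply injective_app_of_iso (pullStalkIso f t).symm U
  apply hF
  have na : (pullStalkIso f t).inv.app E
      ((ModuleCat.extendScalars (φst f t)).map ((Φ (f.base t)).map ι) a) =
      (Φ t).map ((Scheme.Modules.pullback f).map ι) ((pullStalkIso f t).inv.app U a) :=
    congrArg (fun q => q.hom a) nat
  have nb : (pullStalkIso f t).inv.app E
      ((ModuleCat.extendScalars (φst f t)).map ((Φ (f.base t)).map ι) b) =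
      (Φ t).map ((Scheme.Modules.pullback f).map ι) ((pullStalkIso f t).inv.app U b) :=
    congrArg (fun q => q.hom b) nat
  show (Φ t).map ((Scheme.Modules.pullback f).map ι) ((pullStalkIso f t).inv.app U a) =
    (Φ t).map ((Scheme.Modules.pullback f).map ι) ((pullStalkIso f t).inv.app U b)
  rw [← na, ← nb, hab]

/-- Fibrewise injectivity gives stalkwise split injectivity. -/
theorem exists_retraction_of_fibre_mono {S : Scheme.{u}} {U E : S.Modules}
    (hU : SheafOfModules.IsFiniteType (R := S.ringCatSheaf) U) (hE : FlatMod.IsFinLocFree E)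
    (ι : U ⟶ E) (s : S)
    (h : Mono ((Scheme.Modules.pullback (S.fromSpecResidueField s)).map ι)) :
    ∃ r : (Φ s).obj E ⟶ (Φ s).obj U, (Φ s).map ι ≫ r = 𝟙 _ := by
  have hts : (S.fromSpecResidueField s).base (genericPoint ↥(Spec (S.residueField s))) = s :=
    Scheme.fromSpecResidueField_apply s _
  have hfield : IsField ((Spec (S.residueField s)).presheaf.stalk
      (genericPoint ↥(Spec (S.residueField s)))) :=
    isField_stalk_of_closure_mem_irreducibleComponents _ _
      (by rw [irreducibleComponents_eq_singleton, genericPoint_closure]; exact Set.mem_singleton _)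
  have H := exists_retraction_of_mono_pullback hU hE ι (S.fromSpecResidueField s)
    (genericPoint ↥(Spec (S.residueField s))) hfield h
  rw [hts] at H
  exact H

/-- Stalkwise split injectivity gives a monomorphism with finite locally free cokernel. -/
theorem main_of_retractions {S : Scheme.{u}} {U E : S.Modules}
    (hU : SheafOfModules.IsFiniteType (R := S.ringCatSheaf) U) (hE : FlatMod.IsFinLocFree E)
    (ι : U ⟶ E)
    (hr : ∀ s : S, ∃ r : (Φ s).obj E ⟶ (Φ s).obj U, (Φ s).map ι ≫ r = 𝟙 _) :
    Mono ι ∧ FlatMod.IsFinLocFree (cokernel ι) := by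
  have hmono : Mono ι := by
    apply mono_of_stalk_injective
    intro s
    obtain ⟨r, hr⟩ := hr s
    haveI : Mono ((Φ s).map ι) := mono_of_mono_fac hr
    exact (ModuleCat.mono_iff_injective _).1 inferInstance
  refine ⟨hmono, ?_⟩
  haveI : SheafOfModules.IsQuasicoherent (R := S.ringCatSheaf) E :=
    Groth.Agent.Lib.Helper3.LocFreeCrit.isQuasicoherent_of_isFinLocFree hE
  haveI : SheafOfModules.IsFinitePresentation (R := S.ringCatSheaf) E :=
    Groth.Agent.Lib.Helper17.FinLocFreeSec.isFinitePresentation_of_isFinLocFree E hE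
  haveI : SheafOfModules.IsFiniteType (R := S.ringCatSheaf) U := hU
  have hCfp : SheafOfModules.IsFinitePresentation (R := S.ringCatSheaf) (cokernel ι) :=
    Groth.Agent.Lib.Helper25.LocGenKer.isFinitePresentation_cokernel ι
  have hCq : SheafOfModules.IsQuasicoherent (R := S.ringCatSheaf) (cokernel ι) :=
    by haveI := hCfp; infer_instance
  refine @Groth.Agent.Lib.Helper17.FinLocFreeSec.isFinLocFree_of_isFlat _ (cokernel ι) hCq hCfp ?_
  intro s
  obtain ⟨r, hr⟩ := hr s
  have hEflat : Module.Flat (S.presheaf.stalk s) ((Φ s).obj E) :=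
    Groth.Agent.Lib.Helper17.FinLocFreeSec.isFlat_of_isFinLocFree E hE s
  let f := (Φ s).map ι
  let e : (Φ s).obj (cokernel ι) ≅ cokernel f := PreservesCokernel.iso (Φ s) ι
  let σ : cokernel f ⟶ (Φ s).obj E := cokernel.desc f (𝟙 _ - r ≫ f) (by
    rw [Preadditive.comp_sub, Category.comp_id, ← Category.assoc, hr, Category.id_comp, sub_self])
  have hσ : σ ≫ cokernel.π f = 𝟙 _ := by
    rw [← cancel_epi (cokernel.π f), ← Category.assoc, cokernel.π_desc, Preadditive.sub_comp,
      Category.id_comp, Category.assoc, cokernel.condition, comp_zero, sub_zero, Category.comp_id]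
  have hret : (e.hom ≫ σ) ≫ (cokernel.π f ≫ e.inv) = 𝟙 _ := by
    rw [Category.assoc, ← Category.assoc σ, hσ, Category.id_comp, Iso.hom_inv_id]
  show Module.Flat (S.presheaf.stalk s) ((Φ s).obj (cokernel ι))
  exact Module.Flat.of_retract (f := hEflat) (e.hom ≫ σ).hom (cokernel.π f ≫ e.inv).hom (by
    rw [← ModuleCat.hom_comp, hret, ModuleCat.hom_id])

end Groth.Agent.Lib.Helper25.SplitFibre
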