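import Groth.Agent.Lib.Helper25.TwKosz
import Groth.Agent.Lib.Helper3.FreeBasis
import Groth.Prelude.Def_ExtPow2

/-!
# Exterior powers of a twist by an invertible module: `Λ^k (E ⊗ L) ≅ Λ^k E ⊗ L^{⊗ k}`
-/

set_option autoImplicit false
universe u
open CategoryTheory CategoryTheory.Limits AlgebraicGeometry TopologicalSpace Opposite
open Scheme.Modules exteriorPower

namespace Groth.Agent.Lib.Helper25.ExtPowTw

open Groth.Agent.Lib.Helper3 Groth.Agent.Lib.Helper3.QCSec Groth.Agent.Lib.Helper3.InvGen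
  Groth.Agent.Lib.Helper3.InvTensor Groth.Agent.Lib.Helper3.HomMk
open Groth.Agent.Lib.Helper25.TwKoszRing Groth.Agent.Lib.Helper25.TwKosz

section Ring

variable {R : Type*} [CommRing R] {M : Type*} [AddCommGroup M] [Module R M]
  {N : Type*} [AddCommGroup N] [Module R N]

theorem map_smul_pow (k : ℕ) (c : R) (f : M →ₗ[R] N) :
    exteriorPower.map k (c • f) = c ^ k • exteriorPower.map k f := by
  apply exteriorPower.linearMap_ext
  ext v
  simp only [LinearMap.compAlternatingMap_apply, exteriorPower.map_apply_ιMulti,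
    LinearMap.smul_apply]
  have h1 := (exteriorPower.ιMulti R k (M := N)).toMultilinearMap.map_smul_univ
    (fun _ : Fin k => c) (f ∘ v)
  simp only [Finset.prod_const, Finset.card_univ, Fintype.card_fin] at h1
  exact congrArg Subtype.val h1

end Ring

variable {X : Scheme.{u}}

/-- a compatible family of linear maps on sections over a basis of opens glues to a morphism -/
theorem exists_hom_of_basis {M N : X.Modules} (Small : X.Opens → Prop)
    (hcov : ∀ (W : X.Opens) (x : X), x ∈ W → ∃ V : X.Opens, Small V ∧ x ∈ V ∧ V ≤ W)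
    (D : ∀ V : X.Opens, Small V → Γ(M, V) → Γ(N, V))
    (hadd : ∀ V hV s s', D V hV (s + s') = D V hV s + D V hV s')
    (hsmul : ∀ V hV (a : Γ(X, V)) s, D V hV (a • s) = a • D V hV s)
    (hres : ∀ {V V' : X.Opens} (h : V' ≤ V) (hV : Small V) (hV' : Small V') (s : Γ(M, V)),
      res N h (D V hV s) = D V' hV' (res M h s)) :
    ∃ φ : M ⟶ N, ∀ V (hV : Small V) (s : Γ(M, V)), φ.app V s = D V hV s := by
  have key : ∀ (U : X.Opens) (s : Γ(M, U)), ∃ b : Γ(N, U),
      ∀ (V : X.Opens) (hV : Small V) (hVU : V ≤ U), res N hVU b = D V hV (res M hVU s) := by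
    intro U s
    let J := {V : X.Opens // Small V ∧ V ≤ U}
    obtain ⟨b, hb⟩ := sec_glue N (fun j : J => j.1) U (fun j => j.2.2)
      (by
        intro x hx
        obtain ⟨V, hV, hxV, hVU⟩ := hcov U x hx
        exact Opens.mem_iSup.mpr ⟨⟨V, hV, hVU⟩, hxV⟩)
      (fun j => D j.1 j.2.1 (res M j.2.2 s))
      (by
        intro i j
        have h0 : res N (inf_le_left : i.1 ⊓ j.1 ≤ i.1) (D i.1 i.2.1 (res M i.2.2 s)) -
            res N (inf_le_right : i.1 ⊓ j.1 ≤ j.1) (D j.1 j.2.1 (res M j.2.2 s)) = 0 := by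
          refine ModBasis.eq_zero_of_locally_zero N _ _ (fun x hx => ?_)
          obtain ⟨V, hV, hxV, hVle⟩ := hcov (i.1 ⊓ j.1) x hx
          refine ⟨V, hVle, hxV, ?_⟩
          rw [res_sub, res_res, res_res, hres (hVle.trans inf_le_left) i.2.1 hV,
            hres (hVle.trans inf_le_right) j.2.1 hV, res_res, res_res, sub_self]
        exact sub_eq_zero.mp h0)
    exact ⟨b, fun V hV hVU => hb ⟨V, hV, hVU⟩⟩
  choose Φ hΦ using key
  have huniq : ∀ (U : X.Opens) (s : Γ(M, U)) (b : Γ(N, U)),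
      (∀ (V : X.Opens) (hV : Small V) (hVU : V ≤ U), res N hVU b = D V hV (res M hVU s)) →
        b = Φ U s := by
    intro U s b hb
    have h0 : b - Φ U s = 0 := by
      refine ModBasis.eq_zero_of_locally_zero N U _ (fun x hx => ?_)
      obtain ⟨V, hV, hxV, hVU⟩ := hcov U x hx
      refine ⟨V, hVU, hxV, ?_⟩
      rw [res_sub, hb _ hV hVU, hΦ U s _ hV hVU, sub_self]
    exact sub_eq_zero.mp h0
  refine ⟨homMk Φ ?_ ?_ ?_, ?_⟩
  · intro U s s'
    refine (huniq U (s + s') _ (fun V hV hVU => ?_)).symm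
    rw [QCExact.res_add, hΦ U s V hV hVU, hΦ U s' V hV hVU, QCExact.res_add, hadd]
  · intro U a s
    refine (huniq U (a • s) _ (fun V hV hVU => ?_)).symm
    rw [res_smul, hΦ U s V hV hVU, res_smul, hsmul]
  · intro U U' h s
    refine huniq U' (res M h s) _ (fun V hV hVU => ?_)
    rw [res_res, hΦ U s V hV (hVU.trans h), res_res]
  · intro V hV s
    rw [homMk_app]
    have := hΦ V s V hV le_rfl
    rw [res_self, res_self] at this
    exact this

theorem exists_small_of_rank_one {L : X.Modules} (hL : FlatMod.IsFinLocFreeOfRank 1 L)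
    (W : X.Opens) (x : X) (hx : x ∈ W) :
    ∃ V : X.Opens, (IsAffineOpen V ∧ ∃ e : Γ(L, V), IsGen L V e) ∧ x ∈ V ∧ V ≤ W := by
  obtain ⟨U, e, hxU, he⟩ := FreeBasis.isFinLocFreeOfRank_iff.mp hL x
  have hg : IsGen L U (e 0) := by
    intro V hV
    have h := he V hV
    have h2 : (fun a : Γ(X, V) => a • res L hV (e 0)) =
        (fun a : Fin 1 → Γ(X, V) => ∑ i, a i • res L hV (e i)) ∘ (fun a => fun _ => a) := by
      funext a
      simp [Function.comp]
    unfold IsGenAt
    rw [h2]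
    exact h.comp ⟨fun a b hab => congrFun hab 0,
      fun f => ⟨f 0, by funext i; rw [Subsingleton.elim i 0]⟩⟩
  obtain ⟨V, hV, hxV, hVle⟩ := Opens.isBasis_iff_nbhd.mp X.isBasis_affineOpens
    (show x ∈ U ⊓ W from ⟨hxU, hx⟩)
  exact ⟨V, ⟨hV, res L (hVle.trans inf_le_left) (e 0), hg.mono _⟩, hxV, hVle.trans inf_le_right⟩

section Iso

variable {E L M N : X.Modules} (k : ℕ)
  (locM : ∀ U : X.affineOpens,
    Γ(M, U.1) ≃ₗ[Γ(X, U.1)] ↥(⋀[Γ(X, U.1)]^k Γ(CohB1.tensorMod E L, U.1)))
  (locN : ∀ U : X.affineOpens, Γ(N, U.1) ≃ₗ[Γ(X, U.1)] ↥(⋀[Γ(X, U.1)]^k Γ(E, U.1)))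

/-- the local comparison map -/
noncomputable def psi (V : X.affineOpens) {e : Γ(L, V.1)} (hg : IsGen L V.1 e) :
    Γ(M, V.1) →ₗ[Γ(X, V.1)] Γ(CohB1.tensorMod N (CohB1.tensorPow L k), V.1) :=
  (tauEquiv N (isGen_lpow hg k)).toLinearMap ∘ₗ (locN V).symm.toLinearMap ∘ₗ
    exteriorPower.map k (tauEquiv E hg).symm.toLinearMap ∘ₗ (locM V).toLinearMap

theorem psi_apply (V : X.affineOpens) {e : Γ(L, V.1)} (hg : IsGen L V.1 e) (z : Γ(M, V.1)) :
    psi k locM locN V hg z = tm N (CohB1.tensorPow L k) V.1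
      ((locN V).symm (exteriorPower.map k (tauEquiv E hg).symm.toLinearMap (locM V z)))
      (lpow L e k) := rfl

theorem psi_gen (V : X.affineOpens) {e : Γ(L, V.1)} (hg : IsGen L V.1 e)
    (v : Fin k → Γ(E, V.1)) :
    psi k locM locN V hg ((locM V).symm (ιMulti _ k (fun i => tm E L V.1 (v i) e))) =
      tm N (CohB1.tensorPow L k) V.1 ((locN V).symm (ιMulti _ k v)) (lpow L e k) := by
  rw [psi_apply, LinearEquiv.apply_symm_apply, exteriorPower.map_apply_ιMulti]
  have h : (⇑(tauEquiv E hg).symm.toLinearMap ∘ fun i => tm E L V.1 (v i) e) = v := by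
    funext i
    show (tauEquiv E hg).symm (tauEquiv E hg (v i)) = v i
    rw [LinearEquiv.symm_apply_apply]
  rw [h]

theorem psi_bijective (V : X.affineOpens) {e : Γ(L, V.1)} (hg : IsGen L V.1 e) :
    Function.Bijective (psi k locM locN V hg) := by
  have hmap : Function.Bijective (exteriorPower.map k (tauEquiv E hg).symm.toLinearMap) :=
    ⟨exteriorPower.map_injective (n := k) (tauEquiv E hg).toLinearMap (by ext m; simp),
      exteriorPower.map_surjective (tauEquiv E hg).symm.surjective⟩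
  show Function.Bijective (⇑(tauEquiv N (isGen_lpow hg k)) ∘ ⇑(locN V).symm ∘
    ⇑(exteriorPower.map k (tauEquiv E hg).symm.toLinearMap) ∘ ⇑(locM V))
  exact (tauEquiv N (isGen_lpow hg k)).bijective.comp
    ((locN V).symm.bijective.comp (hmap.comp (locM V).bijective))

theorem psi_indep (V : X.affineOpens) {e e' : Γ(L, V.1)} (hg : IsGen L V.1 e)
    (hg' : IsGen L V.1 e') (z : Γ(M, V.1)) :
    psi k locM locN V hg' z = psi k locM locN V hg z := by
  obtain ⟨u, hu, rfl⟩ := hg.self.exists_unit hg'.self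
  obtain ⟨w, hw⟩ := hu.exists_left_inv
  have h1 : (tauEquiv E hg').symm.toLinearMap = w • (tauEquiv E hg).symm.toLinearMap := by
    ext m
    apply (tauEquiv E hg').injective
    rw [LinearEquiv.coe_coe, LinearEquiv.apply_symm_apply, LinearMap.smul_apply,
      _root_.map_smul, tauEquiv_apply, tm_smul_right, LinearEquiv.coe_coe,
      ← tauEquiv_apply E hg, LinearEquiv.apply_symm_apply, smul_smul, hw, one_smul]
  rw [psi_apply, psi_apply, h1, map_smul_pow, LinearMap.smul_apply, (locN V).symm.map_smul,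
    tm_smul_left, lpow_smul, tm_smul_right, smul_smul, ← mul_pow, hw, one_pow, one_smul]

theorem exists_rep' (V : X.affineOpens) {e : Γ(L, V.1)} (hg : IsGen L V.1 e) (z : Γ(M, V.1)) :
    ∃ y : ⋀[Γ(X, V.1)]^k Γ(E, V.1),
      z = (locM V).symm (exteriorPower.map k (tauEquiv E hg).toLinearMap y) := by
  refine ⟨exteriorPower.map k (tauEquiv E hg).symm.toLinearMap (locM V z), ?_⟩
  have h1 : (tauEquiv E hg).toLinearMap ∘ₗ (tauEquiv E hg).symm.toLinearMap = LinearMap.id := by
    ext m; simp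
  have h2 : exteriorPower.map k (tauEquiv E hg).toLinearMap ∘ₗ
      exteriorPower.map k (tauEquiv E hg).symm.toLinearMap = LinearMap.id := by
    rw [← exteriorPower.map_comp, h1, exteriorPower.map_id]
  have h3 := LinearMap.congr_fun h2 (locM V z)
  rw [LinearMap.comp_apply, LinearMap.id_apply] at h3
  rw [h3, LinearEquiv.symm_apply_apply]

theorem psi_res
    (hM : ∀ (U V : X.affineOpens) (h : V.1 ≤ U.1) (e : Fin k → Γ(CohB1.tensorMod E L, U.1)),
      res M h ((locM U).symm (ιMulti _ k e)) =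
        (locM V).symm (ιMulti _ k (fun j => res (CohB1.tensorMod E L) h (e j))))
    (hN : ∀ (U V : X.affineOpens) (h : V.1 ≤ U.1) (e : Fin k → Γ(E, U.1)),
      res N h ((locN U).symm (ιMulti _ k e)) =
        (locN V).symm (ιMulti _ k (fun j => res E h (e j))))
    {V V' : X.affineOpens} (h : V'.1 ≤ V.1) {e : Γ(L, V.1)} (hg : IsGen L V.1 e)
    (z : Γ(M, V.1)) :
    res (CohB1.tensorMod N (CohB1.tensorPow L k)) h (psi k locM locN V hg z) =
      psi k locM locN V' (hg.mono h) (res M h z) := by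
  obtain ⟨y, rfl⟩ := exists_rep' k locM V hg z
  revert y
  apply extPow_induction
  · rw [_root_.map_zero, _root_.map_zero, _root_.map_zero, res_zero, res_zero,
      _root_.map_zero]
  · intro v
    rw [exteriorPower.map_apply_ιMulti]
    have e1 : (⇑(tauEquiv E hg).toLinearMap ∘ v) = fun i => tm E L V.1 (v i) e := rfl
    rw [e1, psi_gen, tm_res, lpow_res, hN V V' h v,
      hM V V' h (fun i => tm E L V.1 (v i) e)]
    have e2 : (fun j => res (CohB1.tensorMod E L) h (tm E L V.1 (v j) e)) =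
        fun j => tm E L V'.1 (res E h (v j)) (res L h e) := by
      funext j
      rw [tm_res]
    rw [e2, psi_gen]
  · intro x y hx hy
    rw [(exteriorPower.map k _).map_add, (locM V).symm.map_add, _root_.map_add,
      QCExact.res_add, hx, hy, QCExact.res_add, _root_.map_add]
  · intro r x hx
    rw [(exteriorPower.map k _).map_smul, (locM V).symm.map_smul, _root_.map_smul, res_smul,
      hx, res_smul, _root_.map_smul]

/-- **`Λ^k (E ⊗ L) ≅ Λ^k E ⊗ L^{⊗ k}` for `L` locally free of rank one.** -/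
theorem nonempty_iso (hL : FlatMod.IsFinLocFreeOfRank 1 L)
    (hM : ∀ (U V : X.affineOpens) (h : V.1 ≤ U.1) (e : Fin k → Γ(CohB1.tensorMod E L, U.1)),
      res M h ((locM U).symm (ιMulti _ k e)) =
        (locM V).symm (ιMulti _ k (fun j => res (CohB1.tensorMod E L) h (e j))))
    (hN : ∀ (U V : X.affineOpens) (h : V.1 ≤ U.1) (e : Fin k → Γ(E, U.1)),
      res N h ((locN U).symm (ιMulti _ k e)) =
        (locN V).symm (ιMulti _ k (fun j => res E h (e j)))) :
    Nonempty (M ≅ CohB1.tensorMod N (CohB1.tensorPow L k)) := by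
  obtain ⟨φ, hφ⟩ := exists_hom_of_basis (M := M) (N := CohB1.tensorMod N (CohB1.tensorPow L k))
    (fun V => IsAffineOpen V ∧ ∃ e : Γ(L, V), IsGen L V e) (exists_small_of_rank_one hL)
    (fun V hV => psi k locM locN ⟨V, hV.1⟩ hV.2.choose_spec)
    (fun V hV s s' => _root_.map_add _ s s')
    (fun V hV a s => _root_.map_smul _ a s)
    (fun {V V'} h hV hV' s =>
      (psi_res k locM locN hM hN (V := ⟨V, hV.1⟩) (V' := ⟨V', hV'.1⟩) h hV.2.choose_spec s).trans
        (psi_indep k locM locN ⟨V', hV'.1⟩ hV'.2.choose_spec (hV.2.choose_spec.mono h) _))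
  haveI : Mono φ := by
    apply ModBasis.mono_of_injective_on_basis
    intro W x hx
    obtain ⟨V, hV, hxV, hVW⟩ := exists_small_of_rank_one hL W x hx
    refine ⟨V, hxV, hVW, fun t ht => ?_⟩
    rw [hφ V hV] at ht
    exact (psi_bijective k locM locN ⟨V, hV.1⟩ hV.2.choose_spec).1
      (ht.trans (_root_.map_zero _).symm)
  haveI : Epi φ := by
    apply ModBasis.epi_of_surjective_on_basis
    intro W x hx
    obtain ⟨V, hV, hxV, hVW⟩ := exists_small_of_rank_one hL W x hx
    refine ⟨V, hxV, hVW, fun s => ?_⟩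
    obtain ⟨t, ht⟩ := (psi_bijective k locM locN ⟨V, hV.1⟩ hV.2.choose_spec).2 s
    exact ⟨t, (hφ V hV t).trans ht⟩
  haveI : IsIso φ := isIso_of_mono_of_epi φ
  exact ⟨asIso φ⟩

end Iso

end Groth.Agent.Lib.Helper25.ExtPowTw
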