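import Mathlib

/-!
# Flatness over the dual numbers

A module `M` over `k[ε]` in which every element killed by `ε` is a multiple of `ε` is flat
(it is isomorphic to `k[ε] ⊗_k C` for a `k`-complement `C` of the `ε`-torsion).
-/

set_option autoImplicit false
universe u
open TensorProduct

namespace Groth.Agent.Lib.Helper25.DualFlat

theorem flat_of_eps {k : Type u} [Field k] {M : Type u} [AddCommGroup M]
    [Module (DualNumber k) M]
    (h : ∀ m : M, (DualNumber.eps : DualNumber k) • m = 0 →
      ∃ m' : M, m = (DualNumber.eps : DualNumber k) • m') :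
    Module.Flat (DualNumber k) M := by
  letI : Module k M := Module.compHom M (algebraMap k (DualNumber k))
  haveI : IsScalarTower k (DualNumber k) M := ⟨fun c a m => by
    change (c • a) • m = algebraMap k (DualNumber k) c • (a • m)
    rw [Algebra.smul_def, mul_smul]⟩
  have hεε : ∀ m : M,
      (DualNumber.eps : DualNumber k) • ((DualNumber.eps : DualNumber k) • m) = 0 := by
    intro m
    rw [← mul_smul, DualNumber.eps_mul_eps, zero_smul]
  let εM : M →ₗ[k] M :=
    (LinearMap.lsmul (DualNumber k) M (DualNumber.eps : DualNumber k)).restrictScalars k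
  have hεM : ∀ m, εM m = (DualNumber.eps : DualNumber k) • m := fun m => rfl
  obtain ⟨C, hC⟩ := Submodule.exists_isCompl (LinearMap.ker εM)
  have hCK : ∀ c : M, c ∈ C → (DualNumber.eps : DualNumber k) • c = 0 → c = 0 := by
    intro c hc h0
    have hmem : c ∈ LinearMap.ker εM ⊓ C :=
      Submodule.mem_inf.2 ⟨LinearMap.mem_ker.2 h0, hc⟩
    rw [hC.inf_eq_bot] at hmem
    exact (Submodule.mem_bot k).1 hmem
  let Φ : DualNumber k ⊗[k] C →ₗ[DualNumber k] M := (C.subtype).liftBaseChange (DualNumber k)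
  have hΦ : ∀ c c' : C,
      Φ ((1 : DualNumber k) ⊗ₜ[k] c + (DualNumber.eps : DualNumber k) ⊗ₜ[k] c') =
        (c : M) + (DualNumber.eps : DualNumber k) • (c' : M) := by
    intro c c'
    change (C.subtype).liftBaseChange (DualNumber k)
      ((1 : DualNumber k) ⊗ₜ[k] c + (DualNumber.eps : DualNumber k) ⊗ₜ[k] c') = _
    rw [map_add, LinearMap.liftBaseChange_tmul, LinearMap.liftBaseChange_tmul, one_smul]
    rfl
  have hdec : ∀ x : DualNumber k ⊗[k] C, ∃ c c' : C,
      x = (1 : DualNumber k) ⊗ₜ[k] c + (DualNumber.eps : DualNumber k) ⊗ₜ[k] c' := by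
    intro x
    induction x using TensorProduct.induction_on with
    | zero => exact ⟨0, 0, by rw [TensorProduct.tmul_zero, TensorProduct.tmul_zero, add_zero]⟩
    | tmul a c =>
      refine ⟨a.fst • c, a.snd • c, ?_⟩
      have ha : a = a.fst • (1 : DualNumber k) + a.snd • (DualNumber.eps : DualNumber k) := by
        ext <;> simp
      calc a ⊗ₜ[k] c
          = (a.fst • (1 : DualNumber k) + a.snd • (DualNumber.eps : DualNumber k)) ⊗ₜ[k] c :=
            congrArg (fun z : DualNumber k => z ⊗ₜ[k] c) ha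
        _ = _ := by
            rw [TensorProduct.add_tmul, TensorProduct.smul_tmul, TensorProduct.smul_tmul]
    | add x y hx hy =>
      obtain ⟨c₁, c₁', rfl⟩ := hx
      obtain ⟨c₂, c₂', rfl⟩ := hy
      refine ⟨c₁ + c₂, c₁' + c₂', ?_⟩
      rw [TensorProduct.tmul_add, TensorProduct.tmul_add]
      abel
  have hinj : Function.Injective Φ := by
    refine (injective_iff_map_eq_zero Φ).2 ?_
    intro x hx
    obtain ⟨c, c', rfl⟩ := hdec x
    rw [hΦ] at hx
    have h1 : (DualNumber.eps : DualNumber k) • (c : M) = 0 := by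
      have h2 := congrArg (fun m : M => (DualNumber.eps : DualNumber k) • m) hx
      simp only [smul_add, hεε, add_zero, smul_zero] at h2
      exact h2
    have hc : (c : M) = 0 := hCK c c.2 h1
    rw [hc, zero_add] at hx
    have hc' : (c' : M) = 0 := hCK c' c'.2 hx
    have e1 : c = 0 := Subtype.ext hc
    have e2 : c' = 0 := Subtype.ext hc'
    rw [e1, e2, TensorProduct.tmul_zero, TensorProduct.tmul_zero, add_zero]
  have hsplit : ∀ m : M, ∃ κ ∈ LinearMap.ker εM, ∃ c ∈ C, κ + c = m := by
    intro m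
    have hm : m ∈ LinearMap.ker εM ⊔ C := by
      rw [hC.sup_eq_top]
      exact Submodule.mem_top
    exact Submodule.mem_sup.1 hm
  have hsurj : Function.Surjective Φ := by
    intro m
    obtain ⟨κ, hκ, c, hc, rfl⟩ := hsplit m
    have hκ0 : (DualNumber.eps : DualNumber k) • κ = 0 := LinearMap.mem_ker.1 hκ
    obtain ⟨m', hm'⟩ := h κ hκ0
    obtain ⟨κ', hκ', c', hc', rfl⟩ := hsplit m'
    have hκ'0 : (DualNumber.eps : DualNumber k) • κ' = 0 := LinearMap.mem_ker.1 hκ'
    refine ⟨(1 : DualNumber k) ⊗ₜ[k] (⟨c, hc⟩ : C) +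
      (DualNumber.eps : DualNumber k) ⊗ₜ[k] (⟨c', hc'⟩ : C), ?_⟩
    rw [hΦ, hm', smul_add, hκ'0, zero_add]
    exact add_comm _ _
  exact Module.Flat.of_linearEquiv (LinearEquiv.ofBijective Φ ⟨hinj, hsurj⟩).symm

end Groth.Agent.Lib.Helper25.DualFlat
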