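import Mathlib
import Groth.Prelude.Def_SchFin
import Groth.Prelude.Def_SchFin2

/-!
# Degree-zero cohomology of the standard complex on a finite ringed poset

`H φ X.str 0` is identified (additively) with the ring of sections `X.sectRing U`.
Also: primes of a tensor product lying over two given primes with the same contraction.
-/

set_option autoImplicit false
universe u

namespace Groth.Agent.Lib.Helper25.SchFinH0

open SchFin TensorProduct

section general

variable {X : RSpace.{u}} {U : Set X.pt} {R : Type u} [CommRing R]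

/-- the 0-chain at a point -/
def single (q : U) : Chain U 0 :=
  OrderEmbedding.ofMapLEIff (fun _ : Fin 1 => q)
    (fun a b => ⟨fun _ => le_of_eq (Fin.ext (by have := a.isLt; have := b.isLt; omega)),
      fun _ => le_refl _⟩)

lemma single_apply (q : U) (i : Fin 1) : single q i = q := rfl

lemma chain0_eq (σ : Chain U 0) : σ = single (σ (Fin.last 0)) := by
  apply DFunLike.ext
  intro i
  have hi : i = Fin.last 0 := Fin.ext (by
    have := i.isLt
    have h0 : ((Fin.last 0 : Fin (0 + 1)) : ℕ) = 0 := rfl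
    omega)
  rw [hi]
  rfl

/-- the 1-chain `q < q'` -/
def pair (q q' : U) (h : q < q') : Chain U 1 :=
  OrderEmbedding.ofStrictMono ![q, q'] (by
    intro a b hab
    fin_cases a <;> fin_cases b <;> simp_all)

lemma pair_face_zero (q q' : U) (h : q < q') : (pair q q' h).face 0 = single q' := by
  apply DFunLike.ext
  intro i
  have hi : i = 0 := Fin.ext (by simp)
  subst hi
  rfl

lemma pair_face_one (q q' : U) (h : q < q') : (pair q q' h).face 1 = single q := by
  apply DFunLike.ext
  intro i
  have hi : i = 0 := Fin.ext (by simp)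
  subst hi
  rfl

variable {φ : Coef X U R}

lemma cochain_heq (c : Cochain φ X.str 0) {σ σ' : Chain U 0} (h : σ = σ') :
    HEq (c σ) (c σ') := by
  subst h; rfl

lemma res_cochain_eq_single (cc : Cochain φ X.str 0) (σ : Chain U 0) (q' : U)
    (hσ : σ = single q') (hle : (σ (Fin.last 0)).1 ≤ q'.1) :
    X.res hle (cc σ) = cc (single q') := by
  subst hσ
  exact X.res_self _ _

lemma res_cochain_eq_single' (cc : Cochain φ X.str 0) (σ : Chain U 0) (q : U) (q' : X.pt)
    (hσ : σ = single q) (hle : (σ (Fin.last 0)).1 ≤ q') (hle' : q.1 ≤ q') :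
    X.res hle (cc σ) = X.res hle' (cc (single q)) := by
  subst hσ
  rfl

lemma cocycle_compat (cc : cocycles φ X.str 0) (q q' : U) (h : q.1 ≤ q'.1) :
    X.res h (cc.1 (single q)) = cc.1 (single q') := by
  rcases eq_or_lt_of_le h with heq | hlt
  · have hqq : q = q' := Subtype.ext heq
    subst hqq
    exact X.res_self _ _
  · have hlt' : q < q' := hlt
    have hcc : diff φ X.str 0 cc.1 = 0 := cc.2
    have h1 := congrFun hcc (pair q q' hlt')
    have h2 : (∑ j : Fin 2, ((-1 : ℤ) ^ (j : ℕ)) • cc.1.faceVal (pair q q' hlt') j) = 0 := h1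
    rw [Fin.sum_univ_two] at h2
    have e0 : cc.1.faceVal (pair q q' hlt') 0 = cc.1 (single q') :=
      res_cochain_eq_single cc.1 _ q' (pair_face_zero q q' hlt') _
    have e1 : cc.1.faceVal (pair q q' hlt') 1 = X.res h (cc.1 (single q)) :=
      res_cochain_eq_single' cc.1 _ q q'.1 (pair_face_one q q' hlt') _ h
    rw [e0, e1] at h2
    have h3 : ∀ (T : Type u) [AddCommGroup T] (a b : T),
        ((-1 : ℤ) ^ (((0 : Fin 2) : ℕ))) • a + ((-1 : ℤ) ^ (((1 : Fin 2) : ℕ))) • b = 0 → a = b := by
      intro T _ a b hab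
      have h4 : a - b = 0 := by simpa [sub_eq_add_neg] using hab
      exact sub_eq_zero.mp h4
    exact (h3 (X.ring q'.1) _ _ h2).symm

/-- the section attached to a 0-cocycle -/
def toSect (cc : cocycles φ X.str 0) : X.sectRing U :=
  ⟨fun q => cc.1 (single q), fun q q' h => cocycle_compat cc q q' h⟩

variable (φ)

/-- the 0-cochain attached to a section -/
def ofSectCochain (g : X.sectRing U) : Cochain φ X.str 0 := fun σ => g.1 (σ (Fin.last 0))

lemma ofSectCochain_mem (g : X.sectRing U) : ofSectCochain φ g ∈ cocycles φ X.str 0 := by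
  show diff φ X.str 0 (ofSectCochain φ g) = 0
  funext τ
  show (∑ j : Fin 2, ((-1 : ℤ) ^ (j : ℕ)) • (ofSectCochain φ g).faceVal τ j) = 0
  rw [Fin.sum_univ_two]
  have e0 : (ofSectCochain φ g).faceVal τ 0 = g.1 (τ (Fin.last 1)) := g.2 _ _ _
  have e1 : (ofSectCochain φ g).faceVal τ 1 = g.1 (τ (Fin.last 1)) := g.2 _ _ _
  rw [e0, e1]
  simp

/-- the 0-cocycle attached to a section -/
def ofSect (g : X.sectRing U) : cocycles φ X.str 0 := ⟨ofSectCochain φ g, ofSectCochain_mem φ g⟩

lemma toSect_ofSect (g : X.sectRing U) : toSect (ofSect φ g) = g :=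
  Subtype.ext (funext fun _ => rfl)

lemma ofSect_toSect (cc : cocycles φ X.str 0) : ofSect φ (toSect cc) = cc := by
  apply Subtype.ext
  funext σ
  show cc.1 (single (σ (Fin.last 0))) = cc.1 σ
  exact eq_of_heq (cochain_heq cc.1 (chain0_eq σ).symm)

lemma ofSect_add (g g' : X.sectRing U) : ofSect φ (g + g') = ofSect φ g + ofSect φ g' :=
  Subtype.ext (funext fun _ => rfl)

/-- sections to degree-zero cohomology -/
def w : X.sectRing U →+ H φ X.str 0 :=
  AddMonoidHom.mk' (fun g => H.mk φ X.str 0 (ofSect φ g)) (fun g g' => by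
    rw [ofSect_add, map_add])

lemma w_apply (g : X.sectRing U) : w φ g = H.mk φ X.str 0 (ofSect φ g) := rfl

lemma w_injective : Function.Injective (w φ) := by
  intro g g' h
  have h0 : H.mk φ X.str 0 (ofSect φ g) = H.mk φ X.str 0 (ofSect φ g') := h
  have h0' : (Submodule.Quotient.mk (ofSect φ g) :
      ↥(cocycles φ X.str 0) ⧸ (cobdry φ X.str 0).comap (cocycles φ X.str 0).subtype) =
      Submodule.Quotient.mk (ofSect φ g') := h0
  have h2 : (ofSect φ g - ofSect φ g') ∈
      (cobdry φ X.str 0).comap (cocycles φ X.str 0).subtype :=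
    (Submodule.Quotient.eq _).mp h0'
  have h2' : (ofSect φ g - ofSect φ g').1 ∈ (⊥ : Submodule R (Cochain φ X.str 0)) := h2
  have h3 : (ofSect φ g - ofSect φ g').1 = 0 := (Submodule.mem_bot _).mp h2'
  have h4 : ofSect φ g = ofSect φ g' := sub_eq_zero.mp (Subtype.ext h3)
  rw [← toSect_ofSect φ g, ← toSect_ofSect φ g', h4]

lemma w_surjective : Function.Surjective (w φ) := by
  intro v
  obtain ⟨cc, rfl⟩ := Submodule.mkQ_surjective _ v
  refine ⟨toSect cc, ?_⟩
  rw [w_apply, ofSect_toSect]
  rfl

lemma w_bijective : Function.Bijective (w φ) := ⟨w_injective φ, w_surjective φ⟩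

/-- the section of coefficients -/
def coefSect (r : R) : X.sectRing U := ⟨fun q => φ.map q r, fun q q' h => φ.compat q q' h r⟩

lemma smul_w (r : R) (g : X.sectRing U) : r • w φ g = w φ (coefSect φ r * g) := by
  rw [w_apply, w_apply, ← map_smul]
  refine congrArg (H.mk φ X.str 0) (Subtype.ext (funext fun σ => ?_))
  rfl

end general

section minimum

variable (X : RSpace.{u})

lemma resSect_bijective (y : X.pt) (U : Set X.pt) (hU : U ⊆ X.up y) (hy : y ∈ U) :
    Function.Bijective (X.resSect y U hU) := by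
  constructor
  · intro c c' h
    have h1 := congrArg (fun g : X.sectRing U => g.1 ⟨y, hy⟩) h
    have h2 : X.res (hU hy) c = X.res (hU hy) c' := h1
    have e1 : X.res (hU hy) c = c := X.res_self y c
    have e2 : X.res (hU hy) c' = c' := X.res_self y c'
    rw [e1, e2] at h2
    exact h2
  · intro g
    refine ⟨g.1 ⟨y, hy⟩, Subtype.ext (funext fun q => ?_)⟩
    exact g.2 ⟨y, hy⟩ q (hU q.2)

end minimum

section primes

theorem exists_prime_tensor {A B C : Type u} [CommRing A] [CommRing B] [CommRing C]
    [Algebra A B] [Algebra A C] (P : PrimeSpectrum B) (Q : PrimeSpectrum C)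
    (h : PrimeSpectrum.comap (algebraMap A B) P = PrimeSpectrum.comap (algebraMap A C) Q) :
    ∃ 𝔯 : PrimeSpectrum (B ⊗[A] C),
      PrimeSpectrum.comap (Algebra.TensorProduct.includeLeft : B →ₐ[A] B ⊗[A] C).toRingHom 𝔯 = P ∧
      PrimeSpectrum.comap (Algebra.TensorProduct.includeRight : C →ₐ[A] B ⊗[A] C).toRingHom 𝔯 = Q := by
  have hQ : P.asIdeal.comap (algebraMap A B) = Q.asIdeal.comap (algebraMap A C) :=
    congrArg PrimeSpectrum.asIdeal h
  letI algKP : Algebra (P.asIdeal.comap (algebraMap A B)).ResidueField P.asIdeal.ResidueField :=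
    (Ideal.ResidueField.map (P.asIdeal.comap (algebraMap A B)) P.asIdeal (algebraMap A B) rfl).toAlgebra
  letI algKQ : Algebra (P.asIdeal.comap (algebraMap A B)).ResidueField Q.asIdeal.ResidueField :=
    (Ideal.ResidueField.map (P.asIdeal.comap (algebraMap A B)) Q.asIdeal (algebraMap A C) hQ).toAlgebra
  haveI : Nontrivial (P.asIdeal.ResidueField ⊗[(P.asIdeal.comap (algebraMap A B)).ResidueField]
      Q.asIdeal.ResidueField) := inferInstance
  obtain ⟨𝔪, h𝔪⟩ := Ideal.exists_maximal (P.asIdeal.ResidueField ⊗[(P.asIdeal.comap (algebraMap A B)).ResidueField]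
      Q.asIdeal.ResidueField)
  let νB : B →+* (P.asIdeal.ResidueField ⊗[(P.asIdeal.comap (algebraMap A B)).ResidueField]
      Q.asIdeal.ResidueField) :=
    (Algebra.TensorProduct.includeLeft : P.asIdeal.ResidueField →ₐ[(P.asIdeal.comap (algebraMap A B)).ResidueField]
      P.asIdeal.ResidueField ⊗[(P.asIdeal.comap (algebraMap A B)).ResidueField]
        Q.asIdeal.ResidueField).toRingHom.comp (algebraMap B P.asIdeal.ResidueField)
  let νC : C →+* (P.asIdeal.ResidueField ⊗[(P.asIdeal.comap (algebraMap A B)).ResidueField]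
      Q.asIdeal.ResidueField) :=
    (Algebra.TensorProduct.includeRight : Q.asIdeal.ResidueField →ₐ[(P.asIdeal.comap (algebraMap A B)).ResidueField]
      P.asIdeal.ResidueField ⊗[(P.asIdeal.comap (algebraMap A B)).ResidueField]
        Q.asIdeal.ResidueField).toRingHom.comp (algebraMap C Q.asIdeal.ResidueField)
  have hν : ∀ a : A, νB (algebraMap A B a) = νC (algebraMap A C a) := by
    intro a
    show (Algebra.TensorProduct.includeLeft : P.asIdeal.ResidueField →ₐ[(P.asIdeal.comap (algebraMap A B)).ResidueField]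
      P.asIdeal.ResidueField ⊗[(P.asIdeal.comap (algebraMap A B)).ResidueField]
        Q.asIdeal.ResidueField) (algebraMap B P.asIdeal.ResidueField (algebraMap A B a)) =
      (Algebra.TensorProduct.includeRight : Q.asIdeal.ResidueField →ₐ[(P.asIdeal.comap (algebraMap A B)).ResidueField]
      P.asIdeal.ResidueField ⊗[(P.asIdeal.comap (algebraMap A B)).ResidueField]
        Q.asIdeal.ResidueField) (algebraMap C Q.asIdeal.ResidueField (algebraMap A C a))
    have e1 : algebraMap B P.asIdeal.ResidueField (algebraMap A B a) =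
        algebraMap (P.asIdeal.comap (algebraMap A B)).ResidueField P.asIdeal.ResidueField
          (algebraMap A (P.asIdeal.comap (algebraMap A B)).ResidueField a) :=
      (Ideal.ResidueField.map_algebraMap (P.asIdeal.comap (algebraMap A B)) P.asIdeal
        (algebraMap A B) rfl a).symm
    have e2 : algebraMap C Q.asIdeal.ResidueField (algebraMap A C a) =
        algebraMap (P.asIdeal.comap (algebraMap A B)).ResidueField Q.asIdeal.ResidueField
          (algebraMap A (P.asIdeal.comap (algebraMap A B)).ResidueField a) :=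
      (Ideal.ResidueField.map_algebraMap (P.asIdeal.comap (algebraMap A B)) Q.asIdeal
        (algebraMap A C) hQ a).symm
    rw [e1, e2, AlgHom.commutes, AlgHom.commutes]
  letI algAT : Algebra A (P.asIdeal.ResidueField ⊗[(P.asIdeal.comap (algebraMap A B)).ResidueField]
      Q.asIdeal.ResidueField) := (νB.comp (algebraMap A B)).toAlgebra
  let νB' : B →ₐ[A] (P.asIdeal.ResidueField ⊗[(P.asIdeal.comap (algebraMap A B)).ResidueField]
      Q.asIdeal.ResidueField) := { νB with commutes' := fun a => rfl }
  let νC' : C →ₐ[A] (P.asIdeal.ResidueField ⊗[(P.asIdeal.comap (algebraMap A B)).ResidueField]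
      Q.asIdeal.ResidueField) := { νC with commutes' := fun a => (hν a).symm }
  let ν := Algebra.TensorProduct.productMap νB' νC'
  refine ⟨PrimeSpectrum.comap ν.toRingHom ⟨𝔪, h𝔪.isPrime⟩, ?_, ?_⟩
  · apply PrimeSpectrum.ext
    ext b
    show ν (b ⊗ₜ[A] (1 : C)) ∈ 𝔪 ↔ b ∈ P.asIdeal
    rw [Algebra.TensorProduct.productMap_apply_tmul, map_one, mul_one]
    show (Algebra.TensorProduct.includeLeft : P.asIdeal.ResidueField →ₐ[(P.asIdeal.comap (algebraMap A B)).ResidueField]
      P.asIdeal.ResidueField ⊗[(P.asIdeal.comap (algebraMap A B)).ResidueField]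
        Q.asIdeal.ResidueField) (algebraMap B P.asIdeal.ResidueField b) ∈ 𝔪 ↔ b ∈ P.asIdeal
    constructor
    · intro hmem
      by_contra hb
      have hne : algebraMap B P.asIdeal.ResidueField b ≠ 0 :=
        fun h0 => hb (Ideal.algebraMap_residueField_eq_zero.mp h0)
      have hu : IsUnit (algebraMap B P.asIdeal.ResidueField b) := IsUnit.mk0 _ hne
      exact h𝔪.ne_top (Ideal.eq_top_of_isUnit_mem _ hmem (hu.map _))
    · intro hb
      rw [Ideal.algebraMap_residueField_eq_zero.mpr hb, map_zero]
      exact zero_mem _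
  · apply PrimeSpectrum.ext
    ext c
    show ν ((1 : B) ⊗ₜ[A] c) ∈ 𝔪 ↔ c ∈ Q.asIdeal
    rw [Algebra.TensorProduct.productMap_apply_tmul, map_one, one_mul]
    show (Algebra.TensorProduct.includeRight : Q.asIdeal.ResidueField →ₐ[(P.asIdeal.comap (algebraMap A B)).ResidueField]
      P.asIdeal.ResidueField ⊗[(P.asIdeal.comap (algebraMap A B)).ResidueField]
        Q.asIdeal.ResidueField) (algebraMap C Q.asIdeal.ResidueField c) ∈ 𝔪 ↔ c ∈ Q.asIdeal
    constructor
    · intro hmem
      by_contra hc
      have hne : algebraMap C Q.asIdeal.ResidueField c ≠ 0 :=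
        fun h0 => hc (Ideal.algebraMap_residueField_eq_zero.mp h0)
      have hu : IsUnit (algebraMap C Q.asIdeal.ResidueField c) := IsUnit.mk0 _ hne
      exact h𝔪.ne_top (Ideal.eq_top_of_isUnit_mem _ hmem (hu.map _))
    · intro hc
      rw [Ideal.algebraMap_residueField_eq_zero.mpr hc, map_zero]
      exact zero_mem _

end primes

end Groth.Agent.Lib.Helper25.SchFinH0
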