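import Mathlib
import Groth.Agent.Lib.Helper2.Stk.Sky
import Groth.Agent.Lib.Helper25.PullFaithful
import Groth.Agent.Lib.Helper3.InvGen
import Groth.Prelude.Def_CxOX

/-!
# Extensions by zero of structure sheaves of opens: flat covers of arbitrary modules
-/

set_option autoImplicit false
set_option linter.style.haveILetI false
universe u

open CategoryTheory CategoryTheory.Limits AlgebraicGeometry TopologicalSpace Opposite
open Groth.Agent.Lib.Helper2.Stk Groth.Agent.Lib.Helper3

namespace Groth.Agent.Lib.Helper25.ExtZeroFlat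

/-- A morphism of modules which is surjective on all stalks is an epimorphism. -/
theorem epi_of_stalk_surjective {Y : Scheme.{u}} {M N : Y.Modules} (φ : M ⟶ N)
    (h : ∀ y : Y, Function.Surjective ((Φ y).map φ)) : Epi φ := by
  apply Preadditive.epi_of_cancel_zero
  intro P g hg
  apply Groth.Agent.Lib.Helper25.PullFaithful.eq_zero_of_stalk_zero
  intro y
  haveI : Epi ((Φ y).map φ) := (ModuleCat.epi_iff_surjective _).2 (h y)
  rw [← cancel_epi ((Φ y).map φ), ← CategoryTheory.Functor.map_comp, hg,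
    CategoryTheory.Functor.map_zero, comp_zero]

variable {X : Scheme.{u}}

/-- The map `j_! O_V ⟶ F` defined by a section of `F` over `V`. -/
noncomputable def homOfSecExt (F : X.Modules) (V : X.Opens) (s : Γ(F, V)) :
    CxOX.extZeroUnit V.ι ⟶ F :=
  ((CxOX.extZeroAdj V.ι).homEquiv _ _).symm (InvGen.homOfSec F V s)

/-- The tautological section of `j_! O_V` over `V`. -/
noncomputable def unitSec (V : X.Opens) : Γ(CxOX.extZeroUnit V.ι, V.ι ''ᵁ ⊤) :=
  InvGen.sec ((CxOX.extZeroAdj V.ι).unit.app (Coh.structureModule (V : Scheme.{u}))) ⊤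

theorem homOfSecExt_app_unitSec (F : X.Modules) (V : X.Opens) (s : Γ(F, V)) :
    (homOfSecExt F V s).app (V.ι ''ᵁ ⊤) (unitSec V) = QCSec.res F (V.ι_image_le ⊤) s := by
  have h1 : (CxOX.extZeroAdj V.ι).unit.app (Coh.structureModule (V : Scheme.{u})) ≫
      (Scheme.Modules.restrictFunctor V.ι).map (homOfSecExt F V s) = InvGen.homOfSec F V s := by
    have h0 := Equiv.apply_symm_apply ((CxOX.extZeroAdj V.ι).homEquiv _ _) (InvGen.homOfSec F V s)
    rw [Adjunction.homEquiv_unit] at h0
    exact h0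
  have h2 := InvGen.sec_comp ((CxOX.extZeroAdj V.ι).unit.app (Coh.structureModule (V : Scheme.{u})))
    ((Scheme.Modules.restrictFunctor V.ι).map (homOfSecExt F V s)) ⊤
  rw [h1] at h2
  have h3 := InvGen.sec_homOfSec F V s ⊤
  exact h2.symm.trans h3

/-- The stalk of `j_! O_V` at any point is a projective module. -/
theorem projective_stalk_extZeroUnit (V : X.Opens) (y : X) :
    Projective ((Φ y).obj (CxOX.extZeroUnit V.ι)) := by
  constructor
  intro T T' g ε hε
  let A := (CxOX.extZeroAdj V.ι).comp (stalkSkyAdj y)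
  let Rf := skyF y ⋙ Scheme.Modules.restrictFunctor V.ι
  let g' : Coh.structureModule (V : Scheme.{u}) ⟶ Rf.obj T' := A.homEquiv _ _ g
  let σ' := (Rf.obj T').unitHomEquiv g'
  have hsurj : Function.Surjective ε := (ModuleCat.epi_iff_surjective ε).1 hε
  let σ : (Rf.obj T).sections :=
    PresheafOfModules.sectionsMk
      (fun W => ((fun h => Function.surjInv hsurj
        ((σ'.val W : SkySec y T' (V.ι ''ᵁ W.unop)) h)) : SkySec y T (V.ι ''ᵁ W.unop)))
      (by
        intro W W' f
        funext h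
        have h4 := σ'.property f
        exact congrArg (Function.surjInv hsurj) (congrFun h4 h))
  have hσ : SheafOfModules.sectionsMap (Rf.map ε) σ = σ' := by
    apply PresheafOfModules.sections_ext
    intro W
    funext h
    exact Function.surjInv_eq hsurj _
  refine ⟨(A.homEquiv _ _).symm ((Rf.obj T).unitHomEquiv.symm σ), ?_⟩
  have h5 : (Rf.obj T).unitHomEquiv.symm σ ≫ Rf.map ε = (Rf.obj T').unitHomEquiv.symm σ' := by
    have h9 := SheafOfModules.unitHomEquiv_symm_comp σ (Rf.map ε)
    rw [hσ] at h9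
    exact h9
  have h6 := A.homEquiv_naturality_right_symm ((Rf.obj T).unitHomEquiv.symm σ) ε
  have h7 : (Rf.obj T').unitHomEquiv.symm σ' = g' := Equiv.symm_apply_apply _ g'
  have h8 : (A.homEquiv _ T').symm g' = g := Equiv.symm_apply_apply _ g
  exact h6.symm.trans ((congrArg (A.homEquiv _ T').symm (h5.trans h7)).trans h8)

/-- Every module is a quotient of a flat module of the form `∐ j_! O_U`. -/
theorem main (F : X.Modules) :
    ∃ (ι : Type u) (U : ι → X.Opens) (p : (∐ fun i => CxOX.extZeroUnit (U i).ι) ⟶ F),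
      Epi p ∧ FlatMod.IsFlat (∐ fun i => CxOX.extZeroUnit (U i).ι) := by
  let ι : Type u := Σ V : X.Opens, Γ(F, V)
  let U : ι → X.Opens := fun i => i.1
  let q : ∀ i : ι, CxOX.extZeroUnit (U i).ι ⟶ F := fun i => homOfSecExt F i.1 i.2
  refine ⟨ι, U, Sigma.desc q, ?_, ?_⟩
  · apply epi_of_stalk_surjective
    intro y m
    obtain ⟨(V : X.Opens), hyV, s, rfl⟩ := TopCat.Presheaf.exists_germ_eq F.presheaf m
    have hy' : y ∈ V.ι ''ᵁ ⊤ := by
      rw [Scheme.Opens.ι_image_top]; exact hyV
    let i : ι := ⟨V, s⟩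
    refine ⟨(Φ y).map (Sigma.ι (fun i => CxOX.extZeroUnit (U i).ι) i)
      ((CxOX.extZeroUnit V.ι).presheaf.germ (V.ι ''ᵁ ⊤) y hy' (unitSec V)), ?_⟩
    have h1 : (Φ y).map (Sigma.ι (fun i => CxOX.extZeroUnit (U i).ι) i) ≫ (Φ y).map (Sigma.desc q) =
        (Φ y).map (q i) := by
      rw [← CategoryTheory.Functor.map_comp, Sigma.ι_desc]
    have h2 := congrArg (fun k => k.hom
      ((CxOX.extZeroUnit V.ι).presheaf.germ (V.ι ''ᵁ ⊤) y hy' (unitSec V))) h1
    refine h2.trans ?_
    have h3 := DerSch.stalkFunctor_map_germ y (q i) (V.ι ''ᵁ ⊤) hy' (unitSec V)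
    refine h3.trans ?_
    have h4 : (q i).app (V.ι ''ᵁ ⊤) (unitSec V) = QCSec.res F (V.ι_image_le ⊤) s :=
      homOfSecExt_app_unitSec F V s
    rw [h4]
    exact TopCat.Presheaf.germ_res_apply F.presheaf (homOfLE (V.ι_image_le ⊤)) y hy' s
  · intro y
    haveI : ∀ i : ι, Projective ((Φ y).obj (CxOX.extZeroUnit (U i).ι)) :=
      fun i => projective_stalk_extZeroUnit (U i) y
    have e : (Φ y).obj (∐ fun i => CxOX.extZeroUnit (U i).ι) ≅
        ∐ fun i => (Φ y).obj (CxOX.extZeroUnit (U i).ι) :=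
      PreservesCoproduct.iso (Φ y) _
    haveI : Projective ((Φ y).obj (∐ fun i => CxOX.extZeroUnit (U i).ι)) :=
      Projective.of_iso e.symm inferInstance
    haveI : Module.Projective (X.presheaf.stalk y)
        ((∐ fun i => CxOX.extZeroUnit (U i).ι).presheaf.stalk y) :=
      (IsProjective.iff_projective _).2 this
    show Module.Flat (X.presheaf.stalk y) ((∐ fun i => CxOX.extZeroUnit (U i).ι).presheaf.stalk y)
    infer_instance

end Groth.Agent.Lib.Helper25.ExtZeroFlat
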