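import Mathlib
import Groth.Prelude

/-!
# Parabolic structures: the exact sequence of pieces of a parabolic extension (helper25)
-/

set_option autoImplicit false
universe v u
open CategoryTheory CategoryTheory.Limits

namespace Groth.Agent.Lib.Helper25.ParShA

section Abelian

variable {C : Type u} [Category.{v} C] [Abelian C]

/-- For a short exact sequence `0 → F → E → G → 0` and a subobject `T` of `E`, the sequence
`0 → i⁻¹ T → T → p(T) → 0` is short exact. -/
theorem shortExact_piece {F E G : C} (i : F ⟶ E) (p : E ⟶ G) (w : i ≫ p = 0)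
    (hS : (ShortComplex.mk i p w).ShortExact) (T : Subobject E) :
    ∃ w' : Subobject.pullbackπ i T ≫ factorThruImageSubobject (T.arrow ≫ p) = 0,
      (ShortComplex.mk (Subobject.pullbackπ i T) (factorThruImageSubobject (T.arrow ≫ p))
        w').ShortExact := by
  have hpb := Subobject.isPullback i T
  haveI : Mono i := hS.mono_f
  haveI : Mono (Subobject.pullbackπ i T) := by
    haveI : Mono (Subobject.pullbackπ i T ≫ T.arrow) := by
      rw [hpb.w]; infer_instance
    exact mono_of_mono _ T.arrow
  have w' : Subobject.pullbackπ i T ≫ factorThruImageSubobject (T.arrow ≫ p) = 0 := by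
    rw [← cancel_mono (imageSubobject (T.arrow ≫ p)).arrow, Category.assoc,
      imageSubobject_arrow_comp, ← Category.assoc, hpb.w, Category.assoc, w, comp_zero, zero_comp]
  refine ⟨w', ShortComplex.ShortExact.mk' ?_ (by dsimp; infer_instance) (by dsimp; infer_instance)⟩
  apply ShortComplex.exact_of_f_is_kernel
  dsimp
  refine KernelFork.IsLimit.ofι' _ _ (fun {A} t ht => ?_)
  have h1 : (t ≫ T.arrow) ≫ p = 0 := by
    rw [Category.assoc, ← imageSubobject_arrow_comp (T.arrow ≫ p), ← Category.assoc, ht, zero_comp]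
  have hk := hS.fIsKernel
  let s : A ⟶ F := hk.lift (KernelFork.ofι (t ≫ T.arrow) h1)
  have hs : s ≫ i = t ≫ T.arrow := Fork.IsLimit.lift_ι hk
  exact ⟨hpb.lift t s hs.symm, hpb.lift_fst _ _ _⟩

end Abelian

section PieceX

variable {C : Type u} [Category.{v} C]

theorem pieceX_induced [HasPullbacks C] {E F : C} (𝓔 : ParSh.Str E) (i : F ⟶ E)
    (j : Fin (𝓔.l + 2)) :
    (𝓔.induced i).pieceX j = (Subobject.pullback i).obj (𝓔.pieceX j) := by
  induction j using Fin.lastCases with
  | last =>
    rw [ParSh.Str.pieceX_last]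
    exact ((𝓔.induced i).pieceX_last)
  | cast j =>
    rw [ParSh.Str.pieceX_castSucc]
    exact ((𝓔.induced i).pieceX_castSucc j)

theorem pieceX_coinduced [HasImages C] [HasEqualizers C] [Balanced C] {E G : C} (𝓔 : ParSh.Str E)
    (p : E ⟶ G) [Epi p] (j : Fin (𝓔.l + 2)) :
    (𝓔.coinduced p).pieceX j = imageSubobject ((𝓔.pieceX j).arrow ≫ p) := by
  induction j using Fin.lastCases with
  | last =>
    rw [ParSh.Str.pieceX_last]
    exact ((𝓔.coinduced p).pieceX_last)
  | cast j =>
    rw [ParSh.Str.pieceX_castSucc]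
    exact ((𝓔.coinduced p).pieceX_castSucc j)

theorem parSum_eq {E : C} (𝓔 : ParSh.Str E) (f : C → ℝ) :
    𝓔.parSum f = f (𝓔.pieceX (Fin.last (𝓔.l + 1)) : C) +
      ∑ j : Fin (𝓔.l + 1), 𝓔.wt j * (f (𝓔.pieceX j.castSucc : C) - f (𝓔.pieceX j.succ : C)) := by
  unfold ParSh.Str.parSum
  simp only [ParSh.Str.pieceX_last, ParSh.Str.pieceX_castSucc]

end PieceX

end Groth.Agent.Lib.Helper25.ParShA
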