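import Mathlib
import Groth.Prelude
import Groth.Agent.Lib.Helper25.ParShA
import Groth.Agent.Lib.Helper23.HilbPA
import Groth.Agent.Lib.Helper23.HilbPH
import Groth.Agent.Lib.Helper17.DevBasic
import Groth.Agent.Lib.Helper17.ExactStage

/-!
# Parabolic Hilbert functions: additivity on the pieces of a parabolic extension (helper25)
-/

set_option autoImplicit false
set_option linter.style.haveILetI false
universe u
open CategoryTheory CategoryTheory.Limits AlgebraicGeometry

namespace Groth.Agent.Lib.Helper25.ParShB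

open Groth.Agent.Lib.Helper25.ParShA Groth.Agent.Lib.Helper3 Groth.Agent.Lib.Helper17
  Groth.Agent.Lib.Helper17.DevBasic

variable {X : Scheme.{u}}

theorem isQuasicoherent_of_iso' {M N : X.Modules} (e : M ≅ N) (hM : M.IsQuasicoherent) :
    N.IsQuasicoherent :=
  (SheafOfModules.isQuasicoherent X.ringCatSheaf).prop_of_iso e hM

/-- the image subobject of a morphism of quasi-coherent modules is quasi-coherent -/
theorem isQuasicoherent_imageSubobject {M N : X.Modules} (hM : M.IsQuasicoherent)
    (hN : N.IsQuasicoherent) (φ : M ⟶ N) :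
    ((imageSubobject φ : Subobject N) : X.Modules).IsQuasicoherent := by
  haveI := hM
  haveI := hN
  have h1 : (image φ : X.Modules).IsQuasicoherent := ExactStage.isQuasicoherent_image φ
  exact isQuasicoherent_of_iso' (imageSubobjectIso φ).symm h1

/-- the source of a kernel of a morphism of quasi-coherent modules is quasi-coherent -/
theorem isQuasicoherent_of_isKernel {K M N : X.Modules} (hM : M.IsQuasicoherent)
    (hN : N.IsQuasicoherent) (a : K ⟶ M) (b : M ⟶ N) (w : a ≫ b = 0)
    (h : IsLimit (KernelFork.ofι a w)) : K.IsQuasicoherent := by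
  haveI := hM
  haveI := hN
  have h1 : (kernel b : X.Modules).IsQuasicoherent := QCProps.isQuasicoherent_kernel b
  exact isQuasicoherent_of_iso' (IsLimit.conePointUniqueUpToIso (kernelIsKernel b) h) h1

/-- coherence of the pieces of the induced and coinduced filtrations -/
theorem isCoh_pieces (k : Type u) [Field k] (X : Scheme.{u}) [X.Over (Spec (CommRingCat.of k))]
    [IsProper (X ↘ Spec (CommRingCat.of k))] {F E G : X.Modules} (i : F ⟶ E) (p : E ⟶ G) (w : i ≫ p = 0)
    (hS : (ShortComplex.mk i p w).ShortExact) (hG : Coh.IsCoh G)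
    (T : Subobject E) (hT : Coh.IsCoh (T : X.Modules)) :
    Coh.IsCoh (((Subobject.pullback i).obj T : Subobject F) : X.Modules) ∧
      Coh.IsCoh ((imageSubobject (T.arrow ≫ p) : Subobject G) : X.Modules) := by
  haveI : IsNoetherian X := Groth.Agent.Lib.Helper23.HilbP.isNoetherian_of_isProper k X
  obtain ⟨w', hS'⟩ := shortExact_piece i p w hS T
  have hIq : ((imageSubobject (T.arrow ≫ p) : Subobject G) : X.Modules).IsQuasicoherent :=
    isQuasicoherent_imageSubobject hT.1 hG.1 _
  haveI : Mono (Subobject.pullbackπ i T) := hS'.mono_f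
  haveI : Epi (factorThruImageSubobject (T.arrow ≫ p)) := hS'.epi_g
  have hPq : (((Subobject.pullback i).obj T : Subobject F) : X.Modules).IsQuasicoherent :=
    isQuasicoherent_of_isKernel hT.1 hIq _ _ w' hS'.fIsKernel
  exact ⟨isCoh_of_mono (Subobject.pullbackπ i T) hPq hT,
    isCoh_of_epi (factorThruImageSubobject (T.arrow ≫ p)) hT hIq⟩

theorem euler_piece_add (k : Type u) [Field k] (X : Scheme.{u}) [X.Over (Spec (CommRingCat.of k))]
    [IsProper (X ↘ Spec (CommRingCat.of k))] (L : X.Modules) (hL : PicF.IsInvertible L)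
    {F E G : X.Modules} (i : F ⟶ E) (p : E ⟶ G) (w : i ≫ p = 0)
    (hS : (ShortComplex.mk i p w).ShortExact) (hG : Coh.IsCoh G)
    (T : Subobject E) (hT : Coh.IsCoh (T : X.Modules)) (m : ℕ) :
    (Curv2.euler k X (ShStab.twist X L
        (((Subobject.pullback i).obj T : Subobject F) : X.Modules) m) : ℝ) +
      (Curv2.euler k X (ShStab.twist X L
        ((imageSubobject (T.arrow ≫ p) : Subobject G) : X.Modules) m) : ℝ) =
      (Curv2.euler k X (ShStab.twist X L (T : X.Modules) m) : ℝ) := by
  obtain ⟨w', hS'⟩ := shortExact_piece i p w hS T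
  obtain ⟨h1, h3⟩ := isCoh_pieces k X i p w hS hG T hT
  have := Groth.Agent.Lib.Helper23.HilbP.euler_twist_add k X hL _ hS' h1 hT h3 m
  dsimp at this
  rw [this]
  push_cast
  ring

end Groth.Agent.Lib.Helper25.ParShB
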