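import Mathlib
import Groth.Prelude
import Groth.Agent.Lib.Helper25.ParShB
import Groth.Agent.Lib.Helper3.IdealMod
import Groth.Agent.Lib.Helper17.StalkExact
import Groth.Agent.Lib.Helper17.DevGM
import Groth.Agent.Lib.Helper17.DevKey
import Groth.Agent.Lib.Helper17.DevBasic
import Groth.Agent.Lib.Helper23.HilbPA
import Groth.Agent.Lib.Helper23.HilbPH
import Groth.Agent.Lib.Helper23.HilbPK

/-!
# Parabolic Hilbert polynomials: the difference of two pieces lives on the divisor (helper25)
-/

set_option autoImplicit false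
set_option linter.style.haveILetI false
universe u
open CategoryTheory CategoryTheory.Limits AlgebraicGeometry TopologicalSpace Opposite Polynomial

namespace Groth.Agent.Lib.Helper25.ParShC

open Groth.Agent.Lib.Helper3 Groth.Agent.Lib.Helper17 Groth.Agent.Lib.Helper17.StalkExact
  Groth.Agent.Lib.Helper17.DevBasic Groth.Agent.Lib.Helper17.DevKey
  Groth.Agent.Lib.Helper17.DevGM

variable {X : Scheme.{u}}

/-- section formula for the multiplication map `E ⊗ I ⟶ E` -/
theorem twistMap_app_tmul (I : X.IdealSheafData) (E : X.Modules) (V : X.Opens) (t : Γ(E, V))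
    (e : Γ(ClSub.idealMod I, V)) :
    (ParSh.twistMap I E).app V (SecTwist.tmul E (ClSub.idealMod I) V t e) =
      (IdealMod.val I e) • t := by
  unfold ParSh.twistMap
  change (SecTwist.unitorR E).hom.app V
    ((KoszTw.tensorMap (𝟙 E) (ClSub.idealModι I)).app V (SecTwist.tmul E (ClSub.idealMod I) V t e)) = _
  rw [KoszTw.tensorMap_tmul]
  exact SecTwist.unitorR_tmul E V t _

/-- off the support of `I`, the multiplication map `E ⊗ I ⟶ E` is surjective on stalks -/
theorem stalkLin_twistMap_surjective (I : X.IdealSheafData) (E : X.Modules) (y : X)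
    (hy : y ∉ (I.support : Set X)) :
    Function.Surjective (stalkLin (ParSh.twistMap I E) y) := by
  intro b
  obtain ⟨W, hyW, t, rfl⟩ := TopCat.Presheaf.exists_germ_eq E.presheaf b
  let U₀ : X.Opens := ⟨(I.support : Set X)ᶜ, I.support.isClosed.isOpen_compl⟩
  let V : X.Opens := W ⊓ U₀
  have hyV : y ∈ V := ⟨hyW, hy⟩
  have hVW : V ≤ W := inf_le_left
  have hdisj : Disjoint (V : Set X) (I.support : Set X) := by
    rw [Set.disjoint_left]
    intro x hx hxs
    exact hx.2 hxs
  obtain ⟨e, he⟩ := IdealMod.exists_val_eq_one I hdisj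
  refine ⟨(CohB1.tensorMod E (ClSub.idealMod I)).presheaf.germ V y hyV
    (SecTwist.tmul E (ClSub.idealMod I) V (E.presheaf.map (homOfLE hVW).op t) e), ?_⟩
  rw [stalkLin_apply, QS.stalkMap_germ, twistMap_app_tmul, he, one_smul]
  exact TopCat.Presheaf.germ_res_apply E.presheaf (homOfLE hVW) y hyV t

/-- for subobjects `I·E ≤ S ≤ T` of `E`, the quotient `T/S` is supported on `Supp E ∩ Supp I` -/
theorem support_cokernel_ofLE_subset (I : X.IdealSheafData) (E : X.Modules) (S T : Subobject E)
    (hST : S ≤ T) (hbot : ParSh.twistSub I E ≤ S) :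
    CohB1.support (cokernel (S.ofLE T hST)) ⊆ CohB1.support E ∩ (I.support : Set X) := by
  intro y hyQ
  refine ⟨?_, ?_⟩
  · exact support_subset_of_mono T.arrow (support_subset_of_epi (cokernel.π (S.ofLE T hST)) hyQ)
  · by_contra hy
    refine notMem_support_cokernel (S.ofLE T hST) y ?_ hyQ
    intro b
    obtain ⟨a, ha⟩ := stalkLin_twistMap_surjective I E y hy (stalkLin T.arrow y b)
    let g : CohB1.tensorMod E (ClSub.idealMod I) ⟶ (S : X.Modules) :=
      factorThruImageSubobject (ParSh.twistMap I E) ≫ Subobject.ofLE _ S hbot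
    have hg : g ≫ S.ofLE T hST ≫ T.arrow = ParSh.twistMap I E := by
      simp only [g, Category.assoc, Subobject.ofLE_arrow]
      exact imageSubobject_arrow_comp _
    refine ⟨stalkLin g y a, ?_⟩
    apply stalkLin_injective T.arrow y
    rw [← ha, ← stalkLin_comp_apply, ← stalkLin_comp_apply]
    exact stalkLin_congr (by rw [Category.assoc]; exact hg) y a

variable (k : Type u) [Field k] [X.Over (Spec (CommRingCat.of k))]
  [IsProper (X ↘ Spec (CommRingCat.of k))]

/-- **Lemma B.**  The difference of the Hilbert polynomials of two coherent pieces `I·E ≤ S ≤ T ≤ E`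
has degree `< d` when `dim (Supp E ∩ Supp I) < d`, and its coefficient of degree `d - 1` is `≥ 0`. -/
theorem coeff_sub (L : X.Modules) (hL : CohB1.IsAmple L) (I : X.IdealSheafData) (E : X.Modules)
    (S T : Subobject E) (hST : S ≤ T) (hbot : ParSh.twistSub I E ≤ S)
    (hS : Coh.IsCoh (S : X.Modules)) (hT : Coh.IsCoh (T : X.Modules)) (d : ℕ)
    (hsupp : topologicalKrullDim ↥(CohB1.support E ∩ (I.support : Set X)) < (d : WithBot ℕ∞))
    (PS PT : ℚ[X]) (hPS : ShStab.IsHilbPoly k X L (S : X.Modules) PS)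
    (hPT : ShStab.IsHilbPoly k X L (T : X.Modules) PT) :
    (∀ n, d ≤ n → (PT - PS).coeff n = 0) ∧ (1 ≤ d → 0 ≤ (PT - PS).coeff (d - 1)) := by
  have hSE := shortExact_of_mono (S.ofLE T hST)
  have hQc : Coh.IsCoh (cokernel (S.ofLE T hST)) := isCoh_cokernel (S.ofLE T hST) hS.1 hT
  have hQ : ShStab.IsHilbPoly k X L (cokernel (S.ofLE T hST)) (PT - PS) :=
    Groth.Agent.Lib.Helper23.HilbP.isHilbPoly_X₃ k hL.1 _ hSE hS hT hQc hPS hPT
  have hdim : topologicalKrullDim ↥(CohB1.support (cokernel (S.ofLE T hST))) < (d : WithBot ℕ∞) :=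
    lt_of_le_of_lt
      (Topology.IsEmbedding.inclusion
        (support_cokernel_ofLE_subset I E S T hST hbot)).isInducing.topologicalKrullDim_le hsupp
  have h1 : ∀ n, d ≤ n → (PT - PS).coeff n = 0 := fun n hn =>
    Groth.Agent.Lib.Helper23.HilbP.coeff_eq_zero_of_dim_lt k hL _ hQc hQ d hdim n hn
  refine ⟨h1, fun hd => ?_⟩
  rcases Groth.Agent.Lib.Helper23.HilbP.eq_zero_or_leadingCoeff_pos k hL _ hQc hQ with h0 | hpos
  · rw [h0, coeff_zero]
  · have hdeg : (PT - PS).natDegree ≤ d - 1 := by
      rw [natDegree_le_iff_coeff_eq_zero]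
      intro N hN
      exact h1 N (by omega)
    rcases hdeg.lt_or_eq with hlt | heq
    · rw [coeff_eq_zero_of_natDegree_lt hlt]
    · rw [← heq]
      exact hpos.le

end Groth.Agent.Lib.Helper25.ParShC
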