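import Mathlib
import Groth.Prelude
import Groth.Agent.Lib.Helper25.ParShC

/-!
# Parabolic Hilbert polynomials: coefficients (helper25)
-/

set_option autoImplicit false
set_option linter.style.haveILetI false
universe v u
open CategoryTheory CategoryTheory.Limits AlgebraicGeometry TopologicalSpace Opposite Polynomial

namespace Groth.Agent.Lib.Helper25.ParShD

section Generic

variable {C : Type u} [Category.{v} C] {E : C}

theorem pieceX_succ_le (𝓔 : ParSh.Str E) (j : Fin (𝓔.l + 1)) :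
    𝓔.pieceX j.succ ≤ 𝓔.pieceX j.castSucc := by
  rw [ParSh.Str.pieceX_castSucc]
  induction j using Fin.lastCases with
  | last => rw [ParSh.Str.pieceX_succ_last]; exact 𝓔.bot_le _
  | cast j' =>
    rw [ParSh.Str.pieceX_succ_castSucc]
    exact 𝓔.piece_anti (Fin.le_iff_val_le_val.mpr (by simp))

theorem pieceX_zero (𝓔 : ParSh.Str E) : 𝓔.pieceX 0 = ⊤ := by
  have : (0 : Fin (𝓔.l + 2)) = Fin.castSucc 0 := rfl
  rw [this, ParSh.Str.pieceX_castSucc, 𝓔.piece_zero]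

theorem wt_nonneg' (𝓔 : ParSh.Str E) (j : Fin (𝓔.l + 1)) : 0 ≤ 𝓔.wt j :=
  𝓔.wt_nonneg.trans (𝓔.wt_strictMono.monotone (Fin.zero_le j))

theorem wt_le_one (𝓔 : ParSh.Str E) (j : Fin (𝓔.l + 1)) : 𝓔.wt j ≤ 1 :=
  (𝓔.wt_strictMono.monotone (Fin.le_last j)).trans 𝓔.wt_lt_one.le

theorem rpoly_coeff (P : ℚ[X]) (n : ℕ) :
    (W4swparbununimod.rpoly P).coeff n = ((P.coeff n : ℚ) : ℝ) := by
  rw [coeff_map, eq_ratCast]

theorem parPoly_coeff (𝓔 : ParSh.Str E) (PX : Fin (𝓔.l + 2) → ℚ[X]) (n : ℕ) :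
    (W4swparbununimod.parPoly 𝓔 PX).coeff n =
      (((PX (Fin.last (𝓔.l + 1))).coeff n : ℚ) : ℝ) +
        ∑ j : Fin (𝓔.l + 1), 𝓔.wt j *
          ((((PX j.castSucc).coeff n : ℚ) : ℝ) - (((PX j.succ).coeff n : ℚ) : ℝ)) := by
  unfold W4swparbununimod.parPoly
  simp only [coeff_add, finsetSum_coeff, coeff_C_mul, coeff_sub, rpoly_coeff]

theorem tele (l : ℕ) (c : Fin (l + 2) → ℝ) :
    ∑ j : Fin (l + 1), (c j.castSucc - c j.succ) = c 0 - c (Fin.last (l + 1)) := by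
  rw [Finset.sum_sub_distrib]
  have h1 : ∑ i, c i = c 0 + ∑ j : Fin (l + 1), c j.succ := Fin.sum_univ_succ c
  have h2 : ∑ i, c i = ∑ j : Fin (l + 1), c j.castSucc + c (Fin.last _) := Fin.sum_univ_castSucc c
  linarith

theorem abstract_bounds (l : ℕ) (w : Fin (l + 1) → ℝ) (c : Fin (l + 2) → ℝ)
    (hw0 : ∀ j, 0 ≤ w j) (hw1 : ∀ j, w j ≤ 1)
    (hδ : ∀ j : Fin (l + 1), 0 ≤ c j.castSucc - c j.succ) :
    c (Fin.last (l + 1)) ≤ c (Fin.last (l + 1)) + ∑ j, w j * (c j.castSucc - c j.succ) ∧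
      c (Fin.last (l + 1)) + ∑ j, w j * (c j.castSucc - c j.succ) ≤ c 0 := by
  refine ⟨le_add_of_nonneg_right (Finset.sum_nonneg fun j _ => mul_nonneg (hw0 j) (hδ j)), ?_⟩
  have h1 : ∑ j, w j * (c j.castSucc - c j.succ) ≤ ∑ j : Fin (l + 1), (c j.castSucc - c j.succ) :=
    Finset.sum_le_sum fun j _ => mul_le_of_le_one_left (hδ j) (hw1 j)
  have h2 := tele l c
  linarith

end Generic

variable (k : Type u) [Field k] {X : Scheme.{u}} [X.Over (Spec (CommRingCat.of k))]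

theorem PX_zero_eq (L : X.Modules) (E : X.Modules) (𝓔 : ParSh.Str E) (P Q : ℚ[X])
    (hP : ShStab.IsHilbPoly k X L E P)
    (hQ : ShStab.IsHilbPoly k X L ((𝓔.pieceX 0 : Subobject E) : X.Modules) Q) : Q = P := by
  haveI : IsIso (𝓔.pieceX 0).arrow := (Subobject.isIso_arrow_iff_eq_top _).mpr (pieceX_zero 𝓔)
  exact Groth.Agent.Lib.Helper23.HilbP.isHilbPoly_unique k
    (Groth.Agent.Lib.Helper23.HilbP.isHilbPoly_of_iso k (asIso (𝓔.pieceX 0).arrow) hQ) hP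

variable [IsProper (X ↘ Spec (CommRingCat.of k))]

/-- each step of a filtration along `I` changes the Hilbert polynomial only in degrees `< d` -/
theorem step_coeff (L : X.Modules) (hL : CohB1.IsAmple L) (I : X.IdealSheafData) (E : X.Modules)
    (𝓔 : ParSh.Str E) (hbot : ParSh.twistSub I E ≤ 𝓔.bot)
    (hcoh : ∀ j, Coh.IsCoh ((𝓔.pieceX j : Subobject E) : X.Modules)) (d : ℕ)
    (hsupp : topologicalKrullDim ↥(CohB1.support E ∩ (I.support : Set X)) < (d : WithBot ℕ∞))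
    (PX : Fin (𝓔.l + 2) → ℚ[X])
    (hPX : ∀ j, ShStab.IsHilbPoly k X L ((𝓔.pieceX j : Subobject E) : X.Modules) (PX j))
    (j : Fin (𝓔.l + 1)) :
    (∀ n, d ≤ n → (PX j.castSucc - PX j.succ).coeff n = 0) ∧
      (1 ≤ d → 0 ≤ (PX j.castSucc - PX j.succ).coeff (d - 1)) :=
  Groth.Agent.Lib.Helper25.ParShC.coeff_sub k L hL I E (𝓔.pieceX j.succ) (𝓔.pieceX j.castSucc)
    (pieceX_succ_le 𝓔 j) (hbot.trans (𝓔.bot_le_pieceX _)) (hcoh _) (hcoh _) d hsupp _ _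
    (hPX _) (hPX _)

/-- the parabolic Hilbert polynomial agrees with the Hilbert polynomial in degrees `≥ d` -/
theorem parPoly_coeff_eq (L : X.Modules) (hL : CohB1.IsAmple L) (I : X.IdealSheafData)
    (E : X.Modules) (𝓔 : ParSh.Str E) (hbot : ParSh.twistSub I E ≤ 𝓔.bot)
    (hcoh : ∀ j, Coh.IsCoh ((𝓔.pieceX j : Subobject E) : X.Modules)) (d : ℕ)
    (hsupp : topologicalKrullDim ↥(CohB1.support E ∩ (I.support : Set X)) < (d : WithBot ℕ∞))
    (P : ℚ[X]) (hP : ShStab.IsHilbPoly k X L E P) (PX : Fin (𝓔.l + 2) → ℚ[X])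
    (hPX : ∀ j, ShStab.IsHilbPoly k X L ((𝓔.pieceX j : Subobject E) : X.Modules) (PX j))
    (n : ℕ) (hn : d ≤ n) :
    (W4swparbununimod.parPoly 𝓔 PX).coeff n = (W4swparbununimod.rpoly P).coeff n := by
  have hstep := fun j => step_coeff k L hL I E 𝓔 hbot hcoh d hsupp PX hPX j
  have hP0 : PX 0 = P := PX_zero_eq k L E 𝓔 P (PX 0) hP (hPX 0)
  rw [parPoly_coeff, rpoly_coeff, ← hP0]
  have hδ : ∀ j : Fin (𝓔.l + 1),
      (((PX j.castSucc).coeff n : ℚ) : ℝ) - (((PX j.succ).coeff n : ℚ) : ℝ) = 0 := by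
    intro j
    have h1 := (hstep j).1 n hn
    rw [Polynomial.coeff_sub] at h1
    have h2 : (PX j.castSucc).coeff n = (PX j.succ).coeff n := sub_eq_zero.mp h1
    rw [h2, sub_self]
  have htele := tele 𝓔.l (fun i => (((PX i).coeff n : ℚ) : ℝ))
  simp only [hδ, mul_zero, Finset.sum_const_zero, add_zero] at htele ⊢
  linarith

/-- bounds for the coefficient of degree `d - 1` of the parabolic Hilbert polynomial -/
theorem parPoly_coeff_bounds (L : X.Modules) (hL : CohB1.IsAmple L) (I : X.IdealSheafData)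
    (E : X.Modules) (𝓔 : ParSh.Str E) (hbot : ParSh.twistSub I E ≤ 𝓔.bot)
    (hcoh : ∀ j, Coh.IsCoh ((𝓔.pieceX j : Subobject E) : X.Modules)) (d : ℕ) (hd : 1 ≤ d)
    (hsupp : topologicalKrullDim ↥(CohB1.support E ∩ (I.support : Set X)) < (d : WithBot ℕ∞))
    (P : ℚ[X]) (hP : ShStab.IsHilbPoly k X L E P) (PX : Fin (𝓔.l + 2) → ℚ[X])
    (hPX : ∀ j, ShStab.IsHilbPoly k X L ((𝓔.pieceX j : Subobject E) : X.Modules) (PX j)) :
    (W4swparbununimod.rpoly (PX (Fin.last (𝓔.l + 1)))).coeff (d - 1) ≤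
        (W4swparbununimod.parPoly 𝓔 PX).coeff (d - 1) ∧
      (W4swparbununimod.parPoly 𝓔 PX).coeff (d - 1) ≤ (W4swparbununimod.rpoly P).coeff (d - 1) := by
  have hstep := fun j => step_coeff k L hL I E 𝓔 hbot hcoh d hsupp PX hPX j
  have hP0 : PX 0 = P := PX_zero_eq k L E 𝓔 P (PX 0) hP (hPX 0)
  rw [parPoly_coeff, rpoly_coeff, rpoly_coeff, ← hP0]
  refine abstract_bounds 𝓔.l 𝓔.wt (fun i => (((PX i).coeff (d - 1) : ℚ) : ℝ))
    (wt_nonneg' 𝓔) (wt_le_one 𝓔) (fun j => ?_)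
  have h1 := (hstep j).2 hd
  rw [Polynomial.coeff_sub] at h1
  have h3 : ((0 : ℚ) : ℝ) ≤
      (((PX j.castSucc).coeff (d - 1) - (PX j.succ).coeff (d - 1) : ℚ) : ℝ) := by
    exact_mod_cast h1
  push_cast at h3
  exact h3

end Groth.Agent.Lib.Helper25.ParShD
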