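import Mathlib
import Groth.Prelude
import Groth.Agent.Lib.Helper25.ParShD
import Groth.Agent.Lib.Helper7.TwFun

/-!
# Parabolic Hilbert polynomials of induced structures (helper25)
-/

set_option autoImplicit false
set_option linter.style.haveILetI false
universe v u
open CategoryTheory CategoryTheory.Limits AlgebraicGeometry TopologicalSpace Opposite Polynomial

namespace Groth.Agent.Lib.Helper25.ParShE

open Groth.Agent.Lib.Helper3 Groth.Agent.Lib.Helper17 Groth.Agent.Lib.Helper17.StalkExact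
  Groth.Agent.Lib.Helper17.DevBasic Groth.Agent.Lib.Helper17.DevKey
  Groth.Agent.Lib.Helper17.DevGM Groth.Agent.Lib.Helper25.ParShC Groth.Agent.Lib.Helper25.ParShD

section Generic

variable {C : Type u} [Category.{v} C]

theorem imageSubobject_le_pullback [HasPullbacks C] {A W E : C} (f : A ⟶ W) [HasImage f]
    (ι : W ⟶ E) (S' : Subobject E) (h : S'.Factors (f ≫ ι)) :
    imageSubobject f ≤ (Subobject.pullback ι).obj S' := by
  have hpb := Subobject.isPullback ι S'
  exact imageSubobject_le f (hpb.lift (S'.factorThru _ h) f (Subobject.factorThru_arrow _ _ h))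
    (hpb.lift_snd _ _ _)

theorem abel (l : ℕ) (w : Fin (l + 1) → ℝ) (wX : Fin (l + 2) → ℝ)
    (hc : ∀ j : Fin (l + 1), wX j.castSucc = w j) (hl : wX (Fin.last (l + 1)) = 1)
    (a : Fin (l + 2) → ℝ) (ha0 : a 0 = 0) (q : ℝ) :
    (q - a (Fin.last (l + 1))) + ∑ j : Fin (l + 1), w j * ((q - a j.castSucc) - (q - a j.succ)) =
      q - ∑ j : Fin (l + 1), (wX j.succ - wX j.castSucc) * a j.succ := by
  obtain ⟨g, hg⟩ : ∃ g : Fin (l + 2) → ℝ, ∀ i, g i = wX i * a i := ⟨_, fun _ => rfl⟩
  have hg1 : ∑ i, g i = g 0 + ∑ j : Fin (l + 1), g j.succ := Fin.sum_univ_succ g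
  have hg2 : ∑ i, g i = ∑ j : Fin (l + 1), g j.castSucc + g (Fin.last _) :=
    Fin.sum_univ_castSucc g
  have hg0 : g 0 = 0 := by rw [hg, ha0, mul_zero]
  have hgl : g (Fin.last (l + 1)) = a (Fin.last (l + 1)) := by rw [hg, hl, one_mul]
  have hL1 : ∑ j : Fin (l + 1), w j * ((q - a j.castSucc) - (q - a j.succ)) =
      ∑ j : Fin (l + 1), w j * a j.succ - ∑ j : Fin (l + 1), g j.castSucc := by
    rw [← Finset.sum_sub_distrib]
    refine Finset.sum_congr rfl (fun j _ => ?_)
    rw [hg, hc]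
    ring
  have hR1 : ∑ j : Fin (l + 1), (wX j.succ - wX j.castSucc) * a j.succ =
      ∑ j : Fin (l + 1), g j.succ - ∑ j : Fin (l + 1), w j * a j.succ := by
    rw [← Finset.sum_sub_distrib]
    refine Finset.sum_congr rfl (fun j _ => ?_)
    rw [hg, hc]
    ring
  rw [hL1, hR1]
  linarith

/-- a real polynomial of degree `≤ e` with negative coefficient of degree `e` is eventually
negative on the natural numbers -/
theorem eventually_neg (R : ℝ[X]) (e : ℕ) (hdeg : ∀ n, e < n → R.coeff n = 0)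
    (hneg : R.coeff e < 0) : ∃ M : ℕ, ∀ m : ℕ, M ≤ m → R.eval (m : ℝ) < 0 := by
  have h1 : R.natDegree ≤ e := natDegree_le_iff_coeff_eq_zero.mpr hdeg
  have h2 : e ≤ R.natDegree := le_natDegree_of_ne_zero hneg.ne
  have h3 : R.natDegree = e := le_antisymm h1 h2
  have hlc : R.leadingCoeff < 0 := by
    rw [leadingCoeff, h3]
    exact hneg
  rcases Nat.eq_zero_or_pos e with he | he
  · refine ⟨0, fun m _ => ?_⟩
    have h4 : R = C (R.coeff 0) := eq_C_of_natDegree_eq_zero (h3.trans he)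
    rw [h4, eval_C, ← he]
    exact hneg
  · have hdeg' : 0 < R.degree := natDegree_pos_iff_degree_pos.mp (by omega)
    have ht := (R.tendsto_atBot_of_leadingCoeff_nonpos hdeg' hlc.le).comp
      (tendsto_natCast_atTop_atTop (R := ℝ))
    have hev := ht.eventually_lt_atBot 0
    obtain ⟨M, hM⟩ := Filter.eventually_atTop.mp hev
    exact ⟨M, fun m hm => hM m hm⟩

theorem parPolyOne_coeff {E : C} (𝓔 : ParSh.Str E) (d : ℕ) (Q : ℚ[X])
    (QH H : Fin (𝓔.l + 2) → ℚ[X]) (n : ℕ) :
    (W4swparbununimod.parPolyOne 𝓔 d Q QH H).coeff n = ((Q.coeff n : ℚ) : ℝ) -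
      ∑ j : Fin (𝓔.l + 1), ((𝓔.wtX j.succ - 𝓔.wtX j.castSucc) *
        ((StabCat.alpha (d - 1) (QH j.succ) / StabCat.alpha (d - 1) (H j.succ) : ℚ) : ℝ)) *
          (((H j.succ).coeff n : ℚ) : ℝ) := by
  unfold W4swparbununimod.parPolyOne
  simp only [Polynomial.coeff_sub, finsetSum_coeff, coeff_C_mul, rpoly_coeff]

end Generic

variable {X : Scheme.{u}}

/-- naturality of the multiplication map `- ⊗ I ⟶ -` -/
theorem twistMap_naturality (I : X.IdealSheafData) {W E : X.Modules} (ι : W ⟶ E) :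
    ParSh.twistMap I W ≫ ι =
      KoszTw.tensorMap ι (𝟙 (ClSub.idealMod I)) ≫ ParSh.twistMap I E := by
  apply Groth.Agent.Lib.Helper7.TwFun.tensor_hom_ext
  intro U m n
  change ι.app U ((ParSh.twistMap I W).app U (SecTwist.tmul W (ClSub.idealMod I) U m n)) =
    (ParSh.twistMap I E).app U
      ((KoszTw.tensorMap ι (𝟙 (ClSub.idealMod I))).app U (SecTwist.tmul W (ClSub.idealMod I) U m n))
  rw [twistMap_app_tmul, KoszTw.tensorMap_tmul, Scheme.Modules.Hom.app_smul]
  exact (twistMap_app_tmul I E U (ι.app U m) n).symm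

theorem twistSub_le_pullback (I : X.IdealSheafData) {W E : X.Modules} (ι : W ⟶ E) :
    ParSh.twistSub I W ≤ (Subobject.pullback ι).obj (ParSh.twistSub I E) := by
  unfold ParSh.twistSub
  have h : (imageSubobject (ParSh.twistMap I E)).Factors (ParSh.twistMap I W ≫ ι) := by
    rw [twistMap_naturality]
    exact imageSubobject_factors_comp_self (f := ParSh.twistMap I E) (KoszTw.tensorMap ι (𝟙 (ClSub.idealMod I)))
  exact imageSubobject_le_pullback (ParSh.twistMap I W) ι _ h

theorem induced_hbot (I : X.IdealSheafData) {W E : X.Modules} (ι : W ⟶ E) (𝓔 : ParSh.Str E)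
    (h𝓔 : 𝓔.Along I) : ParSh.twistSub I W ≤ (𝓔.induced ι).bot := by
  change ParSh.twistSub I W ≤ (Subobject.pullback ι).obj 𝓔.bot
  rw [h𝓔]
  exact twistSub_le_pullback I ι

theorem induced_hsupp (I : X.IdealSheafData) {W E : X.Modules} (ι : W ⟶ E) [Mono ι] (d : ℕ)
    (hsupp : topologicalKrullDim ↥(CohB1.support E ∩ (I.support : Set X)) < (d : WithBot ℕ∞)) :
    topologicalKrullDim ↥(CohB1.support W ∩ (I.support : Set X)) < (d : WithBot ℕ∞) :=
  lt_of_le_of_lt
    (Topology.IsEmbedding.inclusion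
      (Set.inter_subset_inter_left _ (support_subset_of_mono ι))).isInducing.topologicalKrullDim_le
    hsupp

/-- for a subobject `I·E ≤ S` of `E`, the quotient `E/S` is supported on `Supp E ∩ Supp I` -/
theorem support_cokernel_arrow_subset (I : X.IdealSheafData) (E : X.Modules) (S : Subobject E)
    (hbot : ParSh.twistSub I E ≤ S) :
    CohB1.support (cokernel S.arrow) ⊆ CohB1.support E ∩ (I.support : Set X) := by
  intro y hyQ
  refine ⟨support_subset_of_epi (cokernel.π S.arrow) hyQ, ?_⟩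
  by_contra hy
  refine notMem_support_cokernel S.arrow y ?_ hyQ
  intro b
  obtain ⟨a, ha⟩ := stalkLin_twistMap_surjective I E y hy b
  let g : CohB1.tensorMod E (ClSub.idealMod I) ⟶ (S : X.Modules) :=
    factorThruImageSubobject (ParSh.twistMap I E) ≫ Subobject.ofLE _ S hbot
  have hg : g ≫ S.arrow = ParSh.twistMap I E := by
    simp only [g, Category.assoc, Subobject.ofLE_arrow]
    exact imageSubobject_arrow_comp _
  refine ⟨stalkLin g y a, ?_⟩
  rw [← ha, ← stalkLin_comp_apply]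
  exact stalkLin_congr hg y a

variable (k : Type u) [Field k] [X.Over (Spec (CommRingCat.of k))]
  [IsProper (X ↘ Spec (CommRingCat.of k))]

include k in
theorem induced_hcoh {W E : X.Modules} (ι : W ⟶ E) [Mono ι] (hW : Coh.IsCoh W) (hE : Coh.IsCoh E)
    (𝓔 : ParSh.Str E) (hcoh : ∀ j, Coh.IsCoh ((𝓔.pieceX j : Subobject E) : X.Modules))
    (j : Fin (𝓔.l + 2)) :
    Coh.IsCoh (((𝓔.induced ι).pieceX j : Subobject W) : X.Modules) := by
  rw [Groth.Agent.Lib.Helper25.ParShA.pieceX_induced]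
  exact (Groth.Agent.Lib.Helper25.ParShB.isCoh_pieces k X ι (cokernel.π ι) (cokernel.condition ι)
    (shortExact_of_mono ι) (isCoh_cokernel ι hW.1 hE) (𝓔.pieceX j) (hcoh j)).1

/-- the Hilbert polynomial of `E/S` for `I·E ≤ S` vanishes in degrees `≥ d` -/
theorem coeff_cokernel_arrow (L : X.Modules) (hL : CohB1.IsAmple L) (I : X.IdealSheafData)
    (E : X.Modules) (hE : Coh.IsCoh E) (S : Subobject E) (hbot : ParSh.twistSub I E ≤ S)
    (hS : Coh.IsCoh (S : X.Modules)) (d : ℕ)
    (hsupp : topologicalKrullDim ↥(CohB1.support E ∩ (I.support : Set X)) < (d : WithBot ℕ∞))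
    (H : ℚ[X]) (hH : ShStab.IsHilbPoly k X L (cokernel S.arrow) H) (n : ℕ) (hn : d ≤ n) :
    H.coeff n = 0 := by
  have hQc : Coh.IsCoh (cokernel S.arrow) := isCoh_cokernel S.arrow hS.1 hE
  have hdim : topologicalKrullDim ↥(CohB1.support (cokernel S.arrow)) < (d : WithBot ℕ∞) :=
    lt_of_le_of_lt
      (Topology.IsEmbedding.inclusion
        (support_cokernel_arrow_subset I E S hbot)).isInducing.topologicalKrullDim_le hsupp
  exact Groth.Agent.Lib.Helper23.HilbP.coeff_eq_zero_of_dim_lt k hL _ hQc hH d hdim n hn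

/-- the Hilbert polynomial of `E/S` is the difference of those of `E` and `S` -/
theorem hilb_cokernel_arrow (L : X.Modules) (hL : CohB1.IsAmple L)
    (E : X.Modules) (hE : Coh.IsCoh E) (S : Subobject E)
    (hS : Coh.IsCoh (S : X.Modules)) (P PS H : ℚ[X]) (hP : ShStab.IsHilbPoly k X L E P)
    (hPS : ShStab.IsHilbPoly k X L (S : X.Modules) PS)
    (hH : ShStab.IsHilbPoly k X L (cokernel S.arrow) H) : H = P - PS := by
  have hQc : Coh.IsCoh (cokernel S.arrow) := isCoh_cokernel S.arrow hS.1 hE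
  exact Groth.Agent.Lib.Helper23.HilbP.isHilbPoly_unique k hH
    (Groth.Agent.Lib.Helper23.HilbP.isHilbPoly_X₃ k hL.1 _ (shortExact_of_mono S.arrow) hS hE hQc
      hPS hP)

end Groth.Agent.Lib.Helper25.ParShE
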