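import Mathlib
import Groth.Prelude
import Groth.Agent.Lib.Helper23.FinSuppA
import Groth.Agent.Lib.Helper23.CurveG
import Groth.Agent.Lib.Helper25.ExtZeroFlat
import Groth.Agent.Lib.Helper25.ParShE
import Groth.Agent.Lib.Helper11.QFlat
import Groth.Agent.Lib.Helper3.InvAmple
import Groth.Agent.Lib.Helper3.SecLoc
import Groth.Agent.Lib.Helper17.TensorSec

/-!
# Submodules of a coherent module supported at finitely many closed points are coherent;
# every submodule of `E` containing `I·E` is coherent (helper25)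
-/

set_option autoImplicit false
set_option linter.style.haveILetI false
universe v u
open CategoryTheory CategoryTheory.Limits AlgebraicGeometry TopologicalSpace Opposite

namespace Groth.Agent.Lib.Helper25.ParShP

section Generic

variable {C : Type u} [Category.{v} C] [Abelian C]

theorem imageSubobject_epi_comp {A B D : C} (e : A ⟶ B) [Epi e] (f : B ⟶ D) :
    imageSubobject (e ≫ f) = imageSubobject f := by
  haveI : Epi (Subobject.ofLE _ _ (imageSubobject_comp_le e f)) :=
    imageSubobject_comp_le_epi_of_epi e f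
  haveI : IsIso (Subobject.ofLE _ _ (imageSubobject_comp_le e f)) := isIso_of_mono_of_epi _
  refine le_antisymm (imageSubobject_comp_le e f)
    (Subobject.le_of_comm (inv (Subobject.ofLE _ _ (imageSubobject_comp_le e f))) ?_)
  rw [IsIso.inv_comp_eq, Subobject.ofLE_arrow]

/-- a subobject whose elements lie, up to refinement, in the image of `g` is below the image -/
theorem le_imageSubobject_of_refinement {A' W Y : C} (P : Subobject Y) (e : A' ⟶ (P : C)) [Epi e]
    (x : A' ⟶ W) (g : W ⟶ Y) (h : e ≫ P.arrow = x ≫ g) : P ≤ imageSubobject g := by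
  have h1 : imageSubobject P.arrow = P := by
    rw [imageSubobject_mono, Subobject.mk_arrow]
  rw [← h1, ← imageSubobject_epi_comp e P.arrow, h]
  exact imageSubobject_comp_le x g

theorem le_of_refinement {A' Y : C} (P T : Subobject Y) (e : A' ⟶ (P : C)) [Epi e]
    (x : A' ⟶ (T : C)) (h : e ≫ P.arrow = x ≫ T.arrow) : P ≤ T := by
  have h1 : imageSubobject T.arrow = T := by
    rw [imageSubobject_mono, Subobject.mk_arrow]
  rw [← h1]
  exact le_imageSubobject_of_refinement P e x T.arrow h

theorem mono_cokernel_map_ofLE {G : C} (S S' : Subobject G) (h : S ≤ S')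
    (w : Subobject.ofLE S S' h ≫ S'.arrow = 𝟙 (S : C) ≫ S.arrow) :
    Mono (cokernel.map (Subobject.ofLE S S' h) S.arrow (𝟙 _) S'.arrow w) := by
  have sq : IsPullback (Subobject.ofLE S S' h) (𝟙 (S : C)) S'.arrow S.arrow := by
    refine IsPullback.mk ⟨w⟩ ⟨PullbackCone.IsLimit.mk w (fun s => s.snd) ?_ ?_ ?_⟩
    · intro s
      rw [← cancel_mono S'.arrow, Category.assoc, Subobject.ofLE_arrow, s.condition]
    · intro s
      exact Category.comp_id _
    · intro s m _ h2
      rw [← h2, Category.comp_id]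
  exact Abelian.mono_cokernel_map_of_isPullback sq

end Generic

open Groth.Agent.Lib.Helper3 Groth.Agent.Lib.Helper3.QCSec Groth.Agent.Lib.Helper3.InvGen
  Groth.Agent.Lib.Helper3.FreeBasis Groth.Agent.Lib.Helper3.InvAmple Groth.Agent.Lib.Helper3.SecLoc
open Groth.Agent.Lib.Helper17 Groth.Agent.Lib.Helper17.StalkExact Groth.Agent.Lib.Helper17.DevBasic
open Groth.Agent.Lib.Helper2.Stk Groth.Agent.Lib.Helper23 Groth.Agent.Lib.Helper23.Curve
open Groth.Agent.Lib.Helper25.ParShB Groth.Agent.Lib.Helper25.ParShE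

variable {X : Scheme.{u}}

/-- sections of a submodule vanish where those of the module do -/
theorem vanish_of_mono {S Q : X.Modules} (m : S ⟶ Q) [Mono m] (Z : Set X)
    (hQ : ∀ V : X.Opens, Disjoint (V : Set X) Z → ∀ t : Γ(Q, V), t = 0) :
    ∀ V : X.Opens, Disjoint (V : Set X) Z → ∀ t : Γ(S, V), t = 0 := by
  intro V hV t
  apply QCExact.injective_sections m V
  rw [hQ V hV (m.app V t)]
  exact (map_zero _).symm

theorem stalk_eq_zero_of_vanish (S : X.Modules) (Z : Set X) (hZ : IsClosed Z)
    (hS : ∀ V : X.Opens, Disjoint (V : Set X) Z → ∀ t : Γ(S, V), t = 0) (x : X) (hx : x ∉ Z)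
    (a : S.presheaf.stalk x) : a = 0 := by
  obtain ⟨W, hxW, s, rfl⟩ := TopCat.Presheaf.exists_germ_eq S.presheaf a
  let V : X.Opens := W ⊓ ⟨Zᶜ, hZ.isOpen_compl⟩
  have hxV : x ∈ V := ⟨hxW, hx⟩
  have h1 : S.presheaf.germ V x hxV (res S (inf_le_left : V ≤ W) s) =
      S.presheaf.germ W x hxW s :=
    TopCat.Presheaf.germ_res_apply S.presheaf (homOfLE (inf_le_left : V ≤ W)) x hxV s
  have hd : Disjoint (V : Set X) Z := by
    rw [Set.disjoint_left]
    intro y hy hyZ
    exact hy.2 hyZ
  rw [← h1, hS V hd (res S inf_le_left s)]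
  exact map_zero _

/-- **a submodule of a coherent module vanishing off a finite set of closed points is coherent** -/
theorem isCoh_of_mono_finSupp [IsLocallyNoetherian X] {S Q : X.Modules} (m : S ⟶ Q) (hm : Mono m)
    (hQ : Coh.IsCoh Q) (Z : Finset X) (hZcl : ∀ z ∈ Z, IsClosed ({z} : Set X))
    (hQZ : ∀ V : X.Opens, Disjoint (V : Set X) (Z : Set X) → ∀ t : Γ(Q, V), t = 0) :
    Coh.IsCoh S := by
  classical
  have hSZ := vanish_of_mono m (Z : Set X) hQZ
  have hZclosed : IsClosed (Z : Set X) := FinSupp.isClosed_coe Z hZcl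
  have hfin : ∀ z : X, Module.Finite (X.presheaf.stalk z) (S.presheaf.stalk z) := by
    intro z
    haveI := Groth.Agent.Lib.Helper11.QFlat.finite_stalk Q hQ z
    haveI : IsNoetherian (X.presheaf.stalk z) (Q.presheaf.stalk z) :=
      isNoetherian_of_isNoetherianRing_of_finite _ _
    exact Module.Finite.of_injective (stalkLin m z) (stalkLin_injective m z)
  have hgen : ∀ z : {z : X // z ∈ Z}, ∃ (n : ℕ) (g : Fin n → S.presheaf.stalk z.1),
      Submodule.span (X.presheaf.stalk z.1) (Set.range g) = ⊤ := fun z =>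
    haveI := hfin z.1
    Module.Finite.exists_fin
  choose n g hg using hgen
  have hlift : ∀ (j : Σ z : {z : X // z ∈ Z}, Fin (n z)), ∃ t : Γ(S, ⊤),
      S.presheaf.germ ⊤ j.1.1 trivial t = g j.1 j.2 := by
    intro j
    obtain ⟨t, ht⟩ := FinSupp.germZ_surjective S Z hZcl hSZ (Pi.single j.1 (g j.1 j.2))
    refine ⟨t, ?_⟩
    have := congrFun ht j.1
    rw [FinSupp.germZ_apply, Pi.single_eq_same] at this
    exact this
  choose tt htt using hlift
  let J := Σ z : {z : X // z ∈ Z}, Fin (n z)
  let N := Fintype.card J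
  let e : Fin N ≃ J := (Fintype.equivFin J).symm
  let f : FlatMod.freeMod X N ⟶ S := Sigma.desc (fun i => globalHom S (tt (e i)))
  have hf : ∀ i, inj X N i ≫ f = globalHom S (tt (e i)) := fun i => by
    unfold inj
    exact Sigma.ι_desc _ _
  have hsurj : ∀ y : X, Function.Surjective ((Φ y).map f) := by
    intro y
    by_cases hy : y ∈ Z
    · have hrange : LinearMap.range (stalkLin f y) = ⊤ := by
        rw [eq_top_iff, ← hg ⟨y, hy⟩, Submodule.span_le]
        rintro _ ⟨i, rfl⟩
        let i' : Fin N := e.symm ⟨⟨y, hy⟩, i⟩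
        refine ⟨(FlatMod.freeMod X N).presheaf.germ ⊤ y trivial (bsec N i' ⊤), ?_⟩
        rw [stalkLin_apply, QS.stalkMap_germ]
        have h1 : f.app ⊤ (bsec N i' ⊤) = tt ⟨⟨y, hy⟩, i⟩ := by
          unfold bsec
          rw [← sec_comp, hf i', sec_globalHom, res_self]
          exact congrArg tt (e.apply_symm_apply _)
        rw [h1]
        exact htt ⟨⟨y, hy⟩, i⟩
      have hb : ∀ b' : S.presheaf.stalk y, b' ∈ LinearMap.range (stalkLin f y) := fun b' => by
        rw [hrange]
        exact Submodule.mem_top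
      intro b
      obtain ⟨a, ha⟩ := hb b
      exact ⟨a, ha⟩
    · have hz : ∀ a : S.presheaf.stalk y, a = 0 :=
        stalk_eq_zero_of_vanish S (Z : Set X) hZclosed hSZ y hy
      intro b
      exact ⟨0, (hz _).trans (hz b).symm⟩
  haveI : Epi f := ExtZeroFlat.epi_of_stalk_surjective f hsurj
  have hfree : (FlatMod.freeMod X N).IsQuasicoherent := isQuasicoherent_flatFreeMod X N
  have hIq := isQuasicoherent_imageSubobject hfree hQ.1 (f ≫ m)
  have heq : imageSubobject (f ≫ m) = Subobject.mk m := by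
    rw [imageSubobject_epi_comp f m, imageSubobject_mono]
  have iso : ((imageSubobject (f ≫ m) : Subobject Q) : X.Modules) ≅ S :=
    Subobject.isoOfEq _ _ heq ≪≫ Subobject.underlyingIso m
  have hSq : S.IsQuasicoherent := isQuasicoherent_of_iso' iso hIq
  exact isCoh_of_mono m hSq hQ

/-- **every submodule of a coherent `E` containing `I·E` is coherent**, for `I` with finite
support consisting of closed points -/
theorem isCoh_of_twistSub_le [IsLocallyNoetherian X] (I : X.IdealSheafData)
    (hIq : (ClSub.idealMod I).IsQuasicoherent) {E : X.Modules} (hE : Coh.IsCoh E)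
    (Z : Finset X) (hZ : (I.support : Set X) ⊆ (Z : Set X))
    (hZcl : ∀ z ∈ Z, IsClosed ({z} : Set X))
    (T : Subobject E) (hT : ParSh.twistSub I E ≤ T) : Coh.IsCoh (T : X.Modules) := by
  have hTq0 : (CohB1.tensorMod E (ClSub.idealMod I)).IsQuasicoherent := by
    haveI := hE.1
    haveI := hIq
    exact TensorSec.isQuasicoherent_tensorMod E (ClSub.idealMod I)
  have hBq : ((ParSh.twistSub I E : Subobject E) : X.Modules).IsQuasicoherent :=
    isQuasicoherent_imageSubobject hTq0 hE.1 (ParSh.twistMap I E)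
  have hQ : Coh.IsCoh (cokernel (ParSh.twistSub I E).arrow) :=
    isCoh_cokernel (ParSh.twistSub I E).arrow hBq hE
  have hQZ : ∀ V : X.Opens, Disjoint (V : Set X) (Z : Set X) →
      ∀ t : Γ(cokernel (ParSh.twistSub I E).arrow, V), t = 0 := by
    intro V hV t
    have hsupp := support_cokernel_arrow_subset I E (ParSh.twistSub I E) le_rfl
    let D : X.Opens := ⟨(Z : Set X)ᶜ, (FinSupp.isClosed_coe Z hZcl).isOpen_compl⟩
    have hvan : VanishesOn (cokernel (ParSh.twistSub I E).arrow) D :=
      vanishesOn_of_support_subset _ D (fun x hx hxD => hxD (hZ (hsupp hx).2))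
    exact hvan V (fun x hx hxZ => Set.disjoint_left.1 hV hx hxZ) t
  have w : Subobject.ofLE (ParSh.twistSub I E) T hT ≫ T.arrow =
      𝟙 _ ≫ (ParSh.twistSub I E).arrow := by
    rw [Subobject.ofLE_arrow, Category.id_comp]
  have hmono := mono_cokernel_map_ofLE (ParSh.twistSub I E) T hT w
  have hC : Coh.IsCoh (cokernel (Subobject.ofLE (ParSh.twistSub I E) T hT)) :=
    isCoh_of_mono_finSupp _ hmono hQ Z hZcl hQZ
  haveI := hBq
  haveI := hC.1
  have hTq : (T : X.Modules).IsQuasicoherent :=
    QCExact.isQuasicoherent_of_shortExact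
      (ShortComplex.mk _ _ (cokernel.condition (Subobject.ofLE (ParSh.twistSub I E) T hT)))
      (Groth.Agent.Lib.Helper17.DevKey.shortExact_of_mono _)
  exact isCoh_of_mono T.arrow hTq hE

end Groth.Agent.Lib.Helper25.ParShP
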