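import Mathlib
import Groth.Prelude
import Groth.Agent.Lib.Helper23.EffCartDeg
import Groth.Agent.Lib.Helper23.VBMaps
import Groth.Agent.Lib.Helper23.LocFreeSub
import Groth.Agent.Lib.Helper3.LocFreeCrit
import Groth.Agent.Lib.Helper25.ParShP

/-!
# The submodule `I·W` of a vector bundle `W` on a curve: Euler characteristic, behaviour under
# quotients and saturated submodules; Euler characteristic comparisons (helper25)
-/

set_option autoImplicit false
set_option linter.style.haveILetI false
universe v u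
open CategoryTheory CategoryTheory.Limits AlgebraicGeometry TopologicalSpace Opposite
open Scheme.Modules

noncomputable section

namespace Groth.Agent.Lib.Helper25.ParShT

open Groth.Agent.Lib.Helper3 Groth.Agent.Lib.Helper3.QCSec Groth.Agent.Lib.Helper3.InvGen
  Groth.Agent.Lib.Helper3.IdealMod Groth.Agent.Lib.Helper3.InvMonoidal
  Groth.Agent.Lib.Helper3.InvTensor Groth.Agent.Lib.Helper3.FreeBasis
  Groth.Agent.Lib.Helper7.TwFun
open Groth.Agent.Lib.Helper23.T2 Groth.Agent.Lib.Helper23.Curve Groth.Agent.Lib.Helper23.Twist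
  Groth.Agent.Lib.Helper23.TwE Groth.Agent.Lib.Helper23.TensorPts Groth.Agent.Lib.Helper23.EffCart
open Groth.Agent.Lib.Helper17 Groth.Agent.Lib.Helper17.DevBasic Groth.Agent.Lib.Helper17.DevKey
open Groth.Agent.Lib.Helper25.ParShE Groth.Agent.Lib.Helper25.ParShP

variable {X : Scheme.{u}}

theorem kosz_tensorMap_eq {M M' N N' : X.Modules} (f : M ⟶ M') (g : N ⟶ N') :
    KoszTw.tensorMap f g = tensorMap f g := by
  apply tensor_hom_ext
  intro U m n
  rw [tensorMap_tm]
  exact KoszTw.tensorMap_tmul f g U m n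

/-- the multiplication map `E ⊗ I ⟶ E` is injective for `E` finite locally free -/
theorem mono_twistMap (I : X.IdealSheafData) {E : X.Modules} {n : ℕ}
    (hE : FlatMod.IsFinLocFreeOfRank n E) : Mono (ParSh.twistMap I E) := by
  haveI h1 : Mono (tensorMap (ClSub.idealModι I) (𝟙 E)) := mono_twE hE _
  have e : KoszTw.tensorMap (𝟙 E) (ClSub.idealModι I) =
      (braid E (ClSub.idealMod I)).hom ≫ tensorMap (ClSub.idealModι I) (𝟙 E) ≫
        (braid (Coh.structureModule X) E).hom := by
    apply tensor_hom_ext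
    intro U m n
    change (KoszTw.tensorMap (𝟙 E) (ClSub.idealModι I)).app U (tm _ _ U m n) =
      (braid _ E).hom.app U ((tensorMap (ClSub.idealModι I) (𝟙 E)).app U
        ((braid E _).hom.app U (tm _ _ U m n)))
    rw [braid_hom_tm, tensorMap_tm, braid_hom_tm]
    exact KoszTw.tensorMap_tmul _ _ U m n
  unfold ParSh.twistMap
  rw [e]
  haveI h2 : Mono (tensorMap (ClSub.idealModι I) (𝟙 E) ≫ (braid (Coh.structureModule X) E).hom) :=
    mono_comp _ _
  haveI h3 : Mono ((braid E (ClSub.idealMod I)).hom ≫ tensorMap (ClSub.idealModι I) (𝟙 E) ≫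
      (braid (Coh.structureModule X) E).hom) := mono_comp _ _
  exact mono_comp _ _

/-- constant rank of a finite locally free module on an integral scheme -/
theorem exists_rank_of_isFinLocFree [IsIntegral X] {M : X.Modules} (h : FlatMod.IsFinLocFree M) :
    ∃ n : ℕ, FlatMod.IsFinLocFreeOfRank n M := by
  obtain ⟨x₀⟩ : Nonempty X := inferInstance
  obtain ⟨U₀, n₀, e₀, hx₀, hb₀⟩ := LocFreeCrit.isFinLocFree_iff.mp h x₀
  refine ⟨n₀, isFinLocFreeOfRank_iff.mpr fun x => ?_⟩
  obtain ⟨U, n, e, hx, hb⟩ := LocFreeCrit.isFinLocFree_iff.mp h x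
  have hs : n = n₀ := Groth.Agent.Lib.Helper23.LocFreeSub.rank_unique M hb hb₀ ⟨x, hx⟩ ⟨x₀, hx₀⟩
  subst hs
  exact ⟨U, e, hx, hb⟩

/-- the image of `I·E` in a quotient `V` of `E` is `I·V` -/
theorem imageSubobject_twistSub_comp (I : X.IdealSheafData)
    (hI : PicF.IsInvertible (ClSub.idealMod I)) {E V : X.Modules} (q : E ⟶ V) [Epi q] :
    imageSubobject ((ParSh.twistSub I E).arrow ≫ q) = ParSh.twistSub I V := by
  unfold ParSh.twistSub
  haveI : Epi (tensorMap q (𝟙 (ClSub.idealMod I))) := epi_tw hI q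
  have h1 : imageSubobject (ParSh.twistMap I E ≫ q) =
      imageSubobject ((imageSubobject (ParSh.twistMap I E)).arrow ≫ q) := by
    have := imageSubobject_epi_comp (factorThruImageSubobject (ParSh.twistMap I E))
      ((imageSubobject (ParSh.twistMap I E)).arrow ≫ q)
    rwa [← Category.assoc, imageSubobject_arrow_comp] at this
  rw [← h1, twistMap_naturality, kosz_tensorMap_eq]
  exact imageSubobject_epi_comp _ _

/-- for a submodule `V' ⊆ F` with `F/V'` flat along `I`, `V' ∩ I·F = I·V'` -/
theorem pullback_twistSub_eq (I : X.IdealSheafData)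
    (hI : PicF.IsInvertible (ClSub.idealMod I)) {V' F : X.Modules} (ι : V' ⟶ F) [Mono ι]
    (hC : Mono (ParSh.twistMap I (cokernel ι))) :
    (Subobject.pullback ι).obj (ParSh.twistSub I F) = ParSh.twistSub I V' := by
  refine le_antisymm ?_ (twistSub_le_pullback I ι)
  unfold ParSh.twistSub
  have hpb := Subobject.isPullback ι (imageSubobject (ParSh.twistMap I F))
  obtain ⟨A₁, π₁, hπ₁, y, hy⟩ := surjective_up_to_refinements_of_epi
    (factorThruImageSubobject (ParSh.twistMap I F))
    (Subobject.pullbackπ ι (imageSubobject (ParSh.twistMap I F)))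
  have h1 : π₁ ≫ ((Subobject.pullback ι).obj (imageSubobject (ParSh.twistMap I F))).arrow ≫ ι =
      y ≫ ParSh.twistMap I F := by
    rw [← hpb.w, ← Category.assoc, hy, Category.assoc, imageSubobject_arrow_comp]
  have h2 : (y ≫ KoszTw.tensorMap (cokernel.π ι) (𝟙 (ClSub.idealMod I))) ≫
      ParSh.twistMap I (cokernel ι) = 0 := by
    rw [Category.assoc, ← twistMap_naturality, ← Category.assoc, ← h1, Category.assoc,
      Category.assoc, cokernel.condition, comp_zero, comp_zero]
  haveI := hC
  have h3 : y ≫ KoszTw.tensorMap (cokernel.π ι) (𝟙 (ClSub.idealMod I)) = 0 :=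
    zero_of_comp_mono _ h2
  let S : ShortComplex X.Modules := ShortComplex.mk ι (cokernel.π ι) (cokernel.condition ι)
  haveI : Mono S.f := inferInstanceAs (Mono ι)
  have hex : (S.map (twR (ClSub.idealMod I))).Exact :=
    exact_tw hI S (ShortComplex.exact_cokernel ι)
  have h3' : y ≫ (S.map (twR (ClSub.idealMod I))).g = 0 := by
    have e : (S.map (twR (ClSub.idealMod I))).g =
        KoszTw.tensorMap (cokernel.π ι) (𝟙 (ClSub.idealMod I)) :=
      (kosz_tensorMap_eq (cokernel.π ι) (𝟙 (ClSub.idealMod I))).symm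
    rw [e]
    exact h3
  obtain ⟨A₂, π₂, hπ₂, y₀, hy₀⟩ := hex.exact_up_to_refinements y h3'
  obtain ⟨y', hy''⟩ : ∃ y' : A₂ ⟶ CohB1.tensorMod V' (ClSub.idealMod I),
      π₂ ≫ y = y' ≫ KoszTw.tensorMap ι (𝟙 (ClSub.idealMod I)) := by
    have e : (S.map (twR (ClSub.idealMod I))).f = KoszTw.tensorMap ι (𝟙 (ClSub.idealMod I)) :=
      (kosz_tensorMap_eq ι (𝟙 (ClSub.idealMod I))).symm
    refine ⟨y₀, ?_⟩
    rw [← e]
    exact hy₀
  have h4 : (π₂ ≫ π₁) ≫
      ((Subobject.pullback ι).obj (imageSubobject (ParSh.twistMap I F))).arrow =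
      y' ≫ ParSh.twistMap I V' := by
    rw [← cancel_mono ι, Category.assoc, Category.assoc, h1, ← Category.assoc, hy'',
      Category.assoc, Category.assoc, twistMap_naturality]
  haveI : Epi (π₂ ≫ π₁) := epi_comp _ _
  exact le_imageSubobject_of_refinement _ (π₂ ≫ π₁) y' (ParSh.twistMap I V') h4

/-- for `I·E ≤ S`, the quotient `E/S` vanishes on opens disjoint from the support of `I` -/
theorem vanish_cokernel_arrow (I : X.IdealSheafData) (E : X.Modules) (S : Subobject E)
    (hbot : ParSh.twistSub I E ≤ S) (W : X.Opens)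
    (hW : Disjoint (W : Set X) (I.support : Set X)) (t : Γ(cokernel S.arrow, W)) : t = 0 := by
  have hsupp := support_cokernel_arrow_subset I E S hbot
  let D : X.Opens := ⟨(I.support : Set X)ᶜ, I.support.isClosed.isOpen_compl⟩
  have hvan : VanishesOn (cokernel S.arrow) D :=
    vanishesOn_of_support_subset _ D (fun x hx hxD => hxD (hsupp hx).2)
  exact hvan W (fun x hx hxZ => Set.disjoint_left.1 hW hx hxZ) t

section Euler

variable (k : Type u) [Field k] [X.Over (Spec (CommRingCat.of k))]
  [IsProper (X ↘ Spec (CommRingCat.of k))]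

/-- `χ(W) = χ(I·W) + n · χ(O/I)` for `W` finite locally free of rank `n` -/
theorem euler_twistSub (I : X.IdealSheafData) (hI : BlowUp.IsEffCartierIdeal I)
    (hfin : (I.support : Set X).Finite) (hpt : ∀ z ∈ (I.support : Set X), IsClosed ({z} : Set X))
    {W : X.Modules} {n : ℕ} (hW : FlatMod.IsFinLocFreeOfRank n W) :
    Curv2.euler k X W =
      Curv2.euler k X ((ParSh.twistSub I W : Subobject W) : X.Modules) +
        n * Curv2.euler k X (ClSub.quotMod I) := by
  unfold ParSh.twistSub
  haveI := isNoetherian_of_isProper k X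
  have hWcoh := isCoh_of_isFinLocFreeOfRank hW
  have hIcoh : Coh.IsCoh (ClSub.idealMod I) :=
    isCoh_of_isInvertible ((Groth.Agent.Lib.Helper17.EffCartMod.isInvertible_idealMod_iff I).mpr hI)
  have hOcoh : Coh.IsCoh (Coh.structureModule X) := Groth.Agent.Lib.Helper23.T2.isCoh_structureModule X
  have hQcoh : Coh.IsCoh (ClSub.quotMod I) := isCoh_quotMod I
  have hS := shortExact_twE hW _ (shortExact_ideal I)
  have hadd := euler_additive k X _ hS (isCoh_tensor X hIcoh hWcoh) (isCoh_tensor X hOcoh hWcoh)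
    (isCoh_tensor X hQcoh hWcoh)
  have hadd' : Curv2.euler k X (CohB1.tensorMod (Coh.structureModule X) W) =
      Curv2.euler k X (CohB1.tensorMod (ClSub.idealMod I) W) +
        Curv2.euler k X (CohB1.tensorMod (ClSub.quotMod I) W) := hadd
  have h2 : Curv2.euler k X (CohB1.tensorMod (Coh.structureModule X) W) = Curv2.euler k X W :=
    euler_eq_of_iso k (unitorL _) (isCoh_tensor X hOcoh hWcoh)
  haveI := mono_twistMap I hW
  haveI : Mono (factorThruImageSubobject (ParSh.twistMap I W)) :=
    mono_of_mono_fac (imageSubobject_arrow_comp (ParSh.twistMap I W))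
  haveI : IsIso (factorThruImageSubobject (ParSh.twistMap I W)) := isIso_of_mono_of_epi _
  let i1 : CohB1.tensorMod (ClSub.idealMod I) W ≅
      ((imageSubobject (ParSh.twistMap I W) : Subobject W) : X.Modules) :=
    braid _ _ ≪≫ asIso (factorThruImageSubobject (ParSh.twistMap I W))
  have h1 : Curv2.euler k X (CohB1.tensorMod (ClSub.idealMod I) W) =
      Curv2.euler k X ((imageSubobject (ParSh.twistMap I W) : Subobject W) : X.Modules) :=
    euler_eq_of_iso k i1 (isCoh_tensor X hIcoh hWcoh)
  have hvan : ∀ V : X.Opens, Disjoint (V : Set X) (I.support : Set X) →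
      ∀ t : Γ(ClSub.quotMod I, V), t = 0 := fun V hV t => quotMod_eq_zero_of_disjoint I V hV t
  have h3 : Curv2.euler k X (CohB1.tensorMod (ClSub.quotMod I) W) =
      n * Curv2.euler k X (ClSub.quotMod I) :=
    euler_tensor_of_vanishing k X _ hQcoh _ I.support.isClosed hfin hpt hvan n _ hW
  rw [← h2, hadd', h1, h3]

/-- a monomorphism whose cokernel vanishes off a finite set of closed points does not decrease
the Euler characteristic -/
theorem euler_le_of_mono_of_vanish {A B : X.Modules} (m : A ⟶ B) [Mono m] (hA : Coh.IsCoh A)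
    (hB : Coh.IsCoh B) (Z : Set X) (hZfin : Z.Finite) (hZcl : ∀ z ∈ Z, IsClosed ({z} : Set X))
    (hvan : ∀ V : X.Opens, Disjoint (V : Set X) Z → ∀ t : Γ(cokernel m, V), t = 0) :
    Curv2.euler k X A ≤ Curv2.euler k X B := by
  haveI := isNoetherian_of_isProper k X
  have hC : Coh.IsCoh (cokernel m) := isCoh_cokernel m hA.1 hB
  have hfl : IsFlq (cokernel m) := isFlq_of_vanishing_off_finite (cokernel m) Z hZfin hZcl hvan
  have he : Curv2.euler k X B = Curv2.euler k X A + Curv2.euler k X (cokernel m) :=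
    euler_additive k X (ShortComplex.mk m (cokernel.π m) (cokernel.condition m))
      (shortExact_of_mono m) hA hB hC
  have hnn := euler_nonneg_of_isFlq k X _ hC hfl
  linarith

theorem euler_le_of_le {G : X.Modules} (S S' : Subobject G) (h : S ≤ S')
    (hS : Coh.IsCoh (S : X.Modules)) (hS' : Coh.IsCoh (S' : X.Modules))
    (Z : Set X) (hZfin : Z.Finite) (hZcl : ∀ z ∈ Z, IsClosed ({z} : Set X))
    (hvan : ∀ V : X.Opens, Disjoint (V : Set X) Z → ∀ t : Γ(cokernel S.arrow, V), t = 0) :
    Curv2.euler k X (S : X.Modules) ≤ Curv2.euler k X (S' : X.Modules) := by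
  have w : Subobject.ofLE S S' h ≫ S'.arrow = 𝟙 _ ≫ S.arrow := by
    rw [Subobject.ofLE_arrow, Category.id_comp]
  haveI := mono_cokernel_map_ofLE S S' h w
  exact euler_le_of_mono_of_vanish k (Subobject.ofLE S S' h) hS hS' Z hZfin hZcl
    (vanish_of_mono (cokernel.map _ _ _ _ w) Z hvan)

theorem euler_pullback_le {W W' : X.Modules} (j : W ⟶ W') [Mono j] (S' : Subobject W')
    (hP : Coh.IsCoh (((Subobject.pullback j).obj S' : Subobject W) : X.Modules))
    (hS' : Coh.IsCoh (S' : X.Modules))
    (Z : Set X) (hZfin : Z.Finite) (hZcl : ∀ z ∈ Z, IsClosed ({z} : Set X))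
    (hvan : ∀ V : X.Opens, Disjoint (V : Set X) Z → ∀ t : Γ(cokernel j, V), t = 0) :
    Curv2.euler k X (((Subobject.pullback j).obj S' : Subobject W) : X.Modules) ≤
      Curv2.euler k X (S' : X.Modules) := by
  have hpb := Subobject.isPullback j S'
  haveI : Mono (Subobject.pullbackπ j S') := by
    haveI : Mono (Subobject.pullbackπ j S' ≫ S'.arrow) := by
      rw [hpb.w]
      infer_instance
    exact mono_of_mono _ S'.arrow
  haveI := Abelian.mono_cokernel_map_of_isPullback hpb
  exact euler_le_of_mono_of_vanish k (Subobject.pullbackπ j S') hP hS' Z hZfin hZcl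
    (vanish_of_mono (cokernel.map _ _ _ _ hpb.w) Z hvan)

end Euler

end Groth.Agent.Lib.Helper25.ParShT
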