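import Mathlib

/-!
# Transitivity of flatness through a tensor product
-/

set_option autoImplicit false
open TensorProduct

namespace Groth.Agent.Lib.Helper25.FlatTrans

/-- If `M` is flat over `A` and the `A`-module `N` is flat over `C` (with `A` a `C`-algebra), then
`M ⊗[A] N` is flat over `C`. -/
theorem flat_tensor {C A : Type*} [CommRing C] [CommRing A] [Algebra C A]
    (M N : Type*) [AddCommGroup M] [AddCommGroup N] [Module A M] [Module A N]
    [Module C M] [IsScalarTower C A M] [Module C N] [IsScalarTower C A N]
    [Module.Flat A M] [Module.Flat C N] : Module.Flat C (M ⊗[A] N) := by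
  rw [Module.Flat.iff_lTensor_preserves_injective_linearMap]
  intro Q' Q _ _ _ _ L hL
  have h1 : Function.Injective (AlgebraTensorModule.lTensor A N L) := by
    rw [AlgebraTensorModule.coe_lTensor]
    exact Module.Flat.lTensor_preserves_injective_linearMap L hL
  have h2 : Function.Injective ((AlgebraTensorModule.lTensor A N L).lTensor M) :=
    Module.Flat.lTensor_preserves_injective_linearMap _ h1
  have key : ∀ t : (M ⊗[A] N) ⊗[C] Q',
      AlgebraTensorModule.assoc C A A M N Q (L.lTensor (M ⊗[A] N) t) =
        (AlgebraTensorModule.lTensor A N L).lTensor M (AlgebraTensorModule.assoc C A A M N Q' t) := by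
    intro t
    induction t using TensorProduct.induction_on with
    | zero => simp
    | tmul x q =>
      induction x using TensorProduct.induction_on with
      | zero => simp
      | tmul m n => simp
      | add x y hx hy =>
        rw [add_tmul, map_add, map_add, hx, hy, map_add, map_add]
    | add t s ht hs => rw [map_add, map_add, ht, hs, map_add, map_add]
  intro a b hab
  apply (AlgebraTensorModule.assoc C A A M N Q').injective
  apply h2
  rw [← key, ← key, hab]

end Groth.Agent.Lib.Helper25.FlatTrans
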