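import Mathlib
import Groth.Prelude
import Groth.Agent.Lib.Helper25.FlatTrans
import Groth.Agent.Lib.Helper2.Stk.Pull
import Groth.Agent.Lib.Helper2.Stk.Tensor
import Groth.Agent.Lib.Helper17.FibreFlat

/-!
# Flatness of `F ⊗ q^*G'` over the base of `G'`
-/

set_option autoImplicit false
set_option linter.style.haveILetI false
universe u

open CategoryTheory CategoryTheory.Limits AlgebraicGeometry Opposite TensorProduct MonoidalCategory
open Groth.Agent.Lib.Helper2.Stk

namespace Groth.Agent.Lib.Helper25.FlatTransSch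

theorem isFlatOverAt_tensor_pullback {X' Y' Z : Scheme.{u}} (q : X' ⟶ Y') (h : Y' ⟶ Z)
    (F₁ : X'.Modules) (G' : Y'.Modules) (x' : X')
    (h1 : FlatMod.IsFlatOverAt q F₁ x') (h2 : FlatMod.IsFlatOverAt h G' (q.base x')) :
    FlatMod.IsFlatOverAt (q ≫ h)
      (CohB1.tensorMod F₁ ((Scheme.Modules.pullback q).obj G')) x' := by
  unfold FlatMod.IsFlatOverAt at h1 h2 ⊢
  -- the iso in `ModuleCat B'`
  let E : (Φ x').obj ((DCoh.tensorBi.obj F₁).obj ((Scheme.Modules.pullback q).obj G')) ≅
      (Φ x').obj F₁ ⊗ (ModuleCat.extendScalars (φst q x')).obj ((Φ (q.base x')).obj G') :=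
    (tensorIso F₁ ((Scheme.Modules.pullback q).obj G') x').symm ≪≫
      whiskerLeftIso ((Φ x').obj F₁) ((pullStalkIso q x').app G')
  -- instances
  letI aA'B' : Algebra (Y'.presheaf.stalk (q.base x')) (X'.presheaf.stalk x') :=
    (φst q x').toAlgebra
  letI aCA' : Algebra (Z.presheaf.stalk (h.base (q.base x'))) (Y'.presheaf.stalk (q.base x')) :=
    (h.stalkMap (q.base x')).hom.toAlgebra
  letI mA'M : Module (Y'.presheaf.stalk (q.base x')) (F₁.presheaf.stalk x') :=
    FlatMod.moduleStalkOver q F₁ x'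
  haveI t1 : IsScalarTower (Y'.presheaf.stalk (q.base x')) (X'.presheaf.stalk x')
      (F₁.presheaf.stalk x') := IsScalarTower.of_algebraMap_smul fun r m => rfl
  letI mCN : Module (Z.presheaf.stalk (h.base (q.base x'))) (G'.presheaf.stalk (q.base x')) :=
    FlatMod.moduleStalkOver h G' (q.base x')
  haveI t2 : IsScalarTower (Z.presheaf.stalk (h.base (q.base x')))
      (Y'.presheaf.stalk (q.base x')) (G'.presheaf.stalk (q.base x')) :=
    IsScalarTower.of_algebraMap_smul fun r m => rfl
  letI mCM : Module (Z.presheaf.stalk (h.base (q.base x'))) (F₁.presheaf.stalk x') :=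
    Module.compHom (F₁.presheaf.stalk x')
      (algebraMap (Z.presheaf.stalk (h.base (q.base x'))) (Y'.presheaf.stalk (q.base x')))
  haveI t3 : IsScalarTower (Z.presheaf.stalk (h.base (q.base x')))
      (Y'.presheaf.stalk (q.base x')) (F₁.presheaf.stalk x') :=
    IsScalarTower.of_algebraMap_smul fun r m => rfl
  haveI f1 : Module.Flat (Y'.presheaf.stalk (q.base x')) (F₁.presheaf.stalk x') := h1
  haveI f2 : Module.Flat (Z.presheaf.stalk (h.base (q.base x')))
      (G'.presheaf.stalk (q.base x')) := h2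
  have hflat : Module.Flat (Z.presheaf.stalk (h.base (q.base x')))
      (F₁.presheaf.stalk x' ⊗[Y'.presheaf.stalk (q.base x')] G'.presheaf.stalk (q.base x')) :=
    FlatTrans.flat_tensor (F₁.presheaf.stalk x') (G'.presheaf.stalk (q.base x'))
  -- the linear equivalence
  let e₀ : (CohB1.tensorMod F₁ ((Scheme.Modules.pullback q).obj G')).presheaf.stalk x'
      ≃ₗ[X'.presheaf.stalk x']
      (F₁.presheaf.stalk x' ⊗[X'.presheaf.stalk x']
        (X'.presheaf.stalk x' ⊗[Y'.presheaf.stalk (q.base x')] G'.presheaf.stalk (q.base x'))) :=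
    E.toLinearEquiv
  let e₁ : (F₁.presheaf.stalk x' ⊗[X'.presheaf.stalk x']
        (X'.presheaf.stalk x' ⊗[Y'.presheaf.stalk (q.base x')] G'.presheaf.stalk (q.base x')))
      ≃ₗ[X'.presheaf.stalk x']
      (F₁.presheaf.stalk x' ⊗[Y'.presheaf.stalk (q.base x')] G'.presheaf.stalk (q.base x')) :=
    AlgebraTensorModule.cancelBaseChange (Y'.presheaf.stalk (q.base x'))
      (X'.presheaf.stalk x') (X'.presheaf.stalk x') (F₁.presheaf.stalk x')
      (G'.presheaf.stalk (q.base x'))
  -- the `C`-structures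
  letI aCB' : Algebra (Z.presheaf.stalk (h.base (q.base x'))) (X'.presheaf.stalk x') :=
    ((q ≫ h).stalkMap x').hom.toAlgebra
  letI mCT : Module (Z.presheaf.stalk (h.base (q.base x')))
      ((CohB1.tensorMod F₁ ((Scheme.Modules.pullback q).obj G')).presheaf.stalk x') :=
    FlatMod.moduleStalkOver (q ≫ h) _ x'
  haveI t4 : IsScalarTower (Z.presheaf.stalk (h.base (q.base x'))) (X'.presheaf.stalk x')
      ((CohB1.tensorMod F₁ ((Scheme.Modules.pullback q).obj G')).presheaf.stalk x') :=
    IsScalarTower.of_algebraMap_smul fun r m => rfl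
  haveI t5 : IsScalarTower (Z.presheaf.stalk (h.base (q.base x'))) (X'.presheaf.stalk x')
      (F₁.presheaf.stalk x') := by
    refine IsScalarTower.of_algebraMap_smul fun c m => ?_
    show ((q ≫ h).stalkMap x').hom c • m =
      (q.stalkMap x').hom ((h.stalkMap (q.base x')).hom c) • m
    rw [Scheme.Hom.stalkMap_comp]
    rfl
  haveI := hflat
  have key : @Module.Flat (Z.presheaf.stalk (h.base (q.base x')))
      ((CohB1.tensorMod F₁ ((Scheme.Modules.pullback q).obj G')).presheaf.stalk x') _ _ mCT :=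
    Module.Flat.of_linearEquiv
      ((e₀ ≪≫ₗ e₁).restrictScalars (Z.presheaf.stalk (h.base (q.base x'))))
  exact key

end Groth.Agent.Lib.Helper25.FlatTransSch
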