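import Mathlib.RingTheory.HopfAlgebra.Convolution
import Mathlib.RingTheory.HopfAlgebra.TensorProduct

/-!
For a commutative Hopf algebra, the antipode is anti-comultiplicative:
`Δ (S a) = (S ⊗ S) (τ (Δ a))`.  Proof through the convolution group of algebra maps `A → A ⊗ A`.
-/

set_option autoImplicit false
universe u v

open TensorProduct Coalgebra HopfAlgebra WithConv

namespace Groth.Agent.Lib.Helper25.HopfLib

variable {k : Type u} [CommRing k] {A : Type v} [CommRing A] [HopfAlgebra k A]

theorem lift_comp_antipode_eq (x : A ⊗[k] A) :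
    Algebra.TensorProduct.lift
      ((Algebra.TensorProduct.includeRight : A →ₐ[k] A ⊗[k] A).comp (antipodeAlgHom k A))
      ((Algebra.TensorProduct.includeLeft : A →ₐ[k] A ⊗[k] A).comp (antipodeAlgHom k A))
      (fun _ _ => .all ..) x =
    TensorProduct.map (antipode k) (antipode k) (TensorProduct.comm k A A x) := by
  induction x using TensorProduct.induction_on with
  | zero => simp
  | tmul a b =>
    simp [Algebra.TensorProduct.lift_tmul, antipodeAlgHom]
  | add x y hx hy => simp only [map_add, hx, hy]

/-- The antipode of a commutative Hopf algebra is anti-comultiplicative. -/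
theorem comul_antipode (a : A) :
    comul (R := k) (antipode k a) =
      TensorProduct.map (antipode k) (antipode k) (TensorProduct.comm k A A (comul a)) := by
  have h1 : toConv (Bialgebra.comulAlgHom k A) =
      toConv (Algebra.TensorProduct.includeLeft : A →ₐ[k] A ⊗[k] A) *
        toConv (Algebra.TensorProduct.includeRight : A →ₐ[k] A ⊗[k] A) := by
    apply WithConv.ofConv_injective
    apply AlgHom.ext
    intro b
    change comul b = (toConv (Algebra.TensorProduct.includeLeft : A →ₐ[k] A ⊗[k] A) *
        toConv (Algebra.TensorProduct.includeRight : A →ₐ[k] A ⊗[k] A)) b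
    rw [AlgHom.convMul_apply]
    rw [Algebra.TensorProduct.lift_includeLeft_includeRight]
    rfl
  have h2 : (toConv (Bialgebra.comulAlgHom k A))⁻¹ =
      toConv ((Bialgebra.comulAlgHom k A).comp (antipodeAlgHom k A)) := rfl
  rw [h1] at h2
  have h2' : (toConv (Algebra.TensorProduct.includeRight : A →ₐ[k] A ⊗[k] A))⁻¹ *
      (toConv (Algebra.TensorProduct.includeLeft : A →ₐ[k] A ⊗[k] A))⁻¹ =
      toConv ((Bialgebra.comulAlgHom k A).comp (antipodeAlgHom k A)) :=
    (mul_inv_rev (G := WithConv (A →ₐ[k] A ⊗[k] A))
      (toConv (Algebra.TensorProduct.includeLeft : A →ₐ[k] A ⊗[k] A))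
      (toConv (Algebra.TensorProduct.includeRight : A →ₐ[k] A ⊗[k] A))).symm.trans h2
  have h3 := congrArg (fun f : WithConv (A →ₐ[k] A ⊗[k] A) => f.ofConv a) h2'
  simp only at h3
  have h4 : ((toConv (Algebra.TensorProduct.includeRight : A →ₐ[k] A ⊗[k] A))⁻¹ *
      (toConv (Algebra.TensorProduct.includeLeft : A →ₐ[k] A ⊗[k] A))⁻¹).ofConv a =
      TensorProduct.map (antipode k) (antipode k) (TensorProduct.comm k A A (comul a)) := by
    have := AlgHom.convMul_apply
      ((toConv (Algebra.TensorProduct.includeRight : A →ₐ[k] A ⊗[k] A))⁻¹)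
      ((toConv (Algebra.TensorProduct.includeLeft : A →ₐ[k] A ⊗[k] A))⁻¹) a
    rw [← lift_comp_antipode_eq]
    exact this
  rw [h4] at h3
  rw [h3]
  rfl

end Groth.Agent.Lib.Helper25.HopfLib
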