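import Mathlib
import Groth.Agent.Lib.Helper18.DRDesc
import Groth.Agent.Lib.Helper18.KosA
import Groth.Agent.Lib.Helper14.KoszulTop
import Groth.Agent.Lib.Helper14.KoszulDepth
import Groth.Agent.Lib.Helper14.KoszulLCI
import Groth.Agent.Lib.Helper18.DRExt2
import Groth.Agent.Lib.Helper18.DRChain
import Groth.Agent.Lib.Helper18.DRPerf

/-!
# Quotients by Koszul-regular ideals are perfect modules (helper25)

* `projective_koszulCx_X`: terms of the Koszul complex of a projective module are projective.
* `isPerfectModule_quot_of_koszulRegular`: `S ⧸ (l)` is a perfect `S`-module for a Koszul-regular list `l`.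
* `isPerfectModule_of_isKoszulRegularIdeal_ker`: if `P → B` is surjective with Koszul-regular kernel
  (`LCI.IsKoszulRegularIdeal`), then `B` is a perfect `P`-module.
-/

set_option autoImplicit false
set_option linter.style.haveILetI false
universe u
attribute [local instance] HasDerivedCategory.standard
open CategoryTheory CategoryTheory.Limits DerivedCategory TensorProduct CochainComplex
open Groth.Agent.Lib.Helper18.DR Groth.Agent.Lib.Helper14.KoszulFun CohIII

namespace Groth.Agent.Lib.Helper25.KoszulPerfect

variable {S : Type u} [CommRing S]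

/-- terms of the Koszul complex of a projective module are projective -/
theorem projective_koszulCx_X (M : ModuleCat.{u} S) [Module.Projective S M] :
    ∀ (l : List S) (i : ℤ), Module.Projective S ((koszulCx M l).X i)
  | [], i => by
    by_cases h : i = 0
    · subst h
      exact Module.Projective.of_equiv
        (HomologicalComplex.singleObjXSelf (ComplexShape.up ℤ) (0 : ℤ) M).symm.toLinearEquiv
    · haveI : Subsingleton ((koszulCx M []).X i) :=
        ModuleCat.subsingleton_of_isZero
          (HomologicalComplex.isZero_single_obj_X (ComplexShape.up ℤ) (0 : ℤ) M i h)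
      infer_instance
  | x :: l, i => by
    haveI h1 := projective_koszulCx_X M l (i + 1)
    haveI h2 := projective_koszulCx_X M l i
    show Module.Projective S ((CochainComplex.mappingCone (x • 𝟙 (koszulCx M l))).X i)
    let g : ((koszulCx M l).X (i + 1) × (koszulCx M l).X i) →ₗ[S]
        (CochainComplex.mappingCone (x • 𝟙 (koszulCx M l))).X i :=
      ((CochainComplex.mappingCone.inl (x • 𝟙 (koszulCx M l))).v (i + 1) i (by omega)).hom.coprod
        ((CochainComplex.mappingCone.inr (x • 𝟙 (koszulCx M l))).f i).hom
    let s : (CochainComplex.mappingCone (x • 𝟙 (koszulCx M l))).X i →ₗ[S]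
        ((koszulCx M l).X (i + 1) × (koszulCx M l).X i) :=
      (((CochainComplex.mappingCone.fst (x • 𝟙 (koszulCx M l))).1.v i (i + 1) rfl).hom).prod
        (((CochainComplex.mappingCone.snd (x • 𝟙 (koszulCx M l))).v i i (add_zero i)).hom)
    refine Module.Projective.of_split s g ?_
    ext y
    have hid := CochainComplex.mappingCone.id_X (x • 𝟙 (koszulCx M l)) i (i + 1) rfl
    have := congrArg (fun t => t.hom y) hid
    simpa [g, s] using this

/-- `S ⧸ (l)` is a perfect module when `l` is Koszul-regular: the Koszul complex is a finite free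
resolution. -/
theorem isPerfectModule_quot_of_koszulRegular (l : List S) (hl : LCI.IsKoszulRegularSeq S l) :
    DRing.IsPerfectModule S (S ⧸ Ideal.ofList l) := by
  have hl' := (isKoszulRegularSeq_iff S l).mp hl
  set E : DRing.Cx S := koszulCx (ModuleCat.of S S) l with hE
  haveI hGE : (DRing.toD E).IsGE 0 := by
    rw [DerivedCategory.isGE_iff]
    intro i hi
    exact (hl' i (by omega)).of_iso (HtoDIso E i)
  haveI hLE : (DRing.toD E).IsLE 0 := by
    rw [DerivedCategory.isLE_iff]
    intro i hi
    exact (hl' i (by omega)).of_iso (HtoDIso E i)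
  obtain ⟨A₀, ⟨eA⟩⟩ := DerivedCategory.exists_iso_singleFunctor_obj_of_isGE_of_isLE (DRing.toD E) 0
  obtain ⟨e0⟩ := nonempty_homology_zero_equiv (A := S) S l
  have e1 : A₀ ≅ E.homology 0 := ((H S 0).mapIso eA ≪≫ HSg 0 A₀).symm ≪≫ HtoDIso E 0
  have hsm : (Ideal.ofList l • (⊤ : Submodule S S)) = Ideal.ofList l := by
    rw [smul_eq_mul, Ideal.mul_top]
  have e2 : (E.homology 0 : ModuleCat.{u} S) ≃ₗ[S] (S ⧸ Ideal.ofList l) :=
    e0 ≪≫ₗ Submodule.quotEquivOfEq _ _ hsm
  refine ⟨E, -(l.length : ℤ), 0, ?_, ?_,
    ⟨eA ≪≫ (DerivedCategory.singleFunctor (ModuleCat.{u} S) 0).mapIso (e1 ≪≫ e2.toModuleIso)⟩⟩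
  · rintro i (hi | hi)
    · exact isZero_koszulCx_X_neg _ l i hi
    · exact isZero_koszulCx_X_pos _ l i hi
  · intro i
    exact ⟨Kos.finite_koszulCx_X (ModuleCat.of S S) l i,
      projective_koszulCx_X (ModuleCat.of S S) l i⟩

section main

variable {P B : Type u} [CommRing P] [CommRing B] [Algebra P B]

/-- local form: around every prime of `P`, the base change of `B` is perfect -/
theorem exists_isPerfect_away (hsurj : Function.Surjective (algebraMap P B))
    (hI : LCI.IsKoszulRegularIdeal (RingHom.ker (algebraMap P B))) (𝔭 : PrimeSpectrum P) :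
    ∃ g : P, g ∉ 𝔭.asIdeal ∧ DRing.IsPerfect (Localization.Away g)
      (Dual.inD (Localization.Away g) (Localization.Away g ⊗[P] B)) := by
  by_cases hle : RingHom.ker (algebraMap P B) ≤ 𝔭.asIdeal
  · obtain ⟨g, hg, l, hl, hspan⟩ := hI 𝔭 hle
    refine ⟨g, hg, ?_⟩
    have eB : (P ⧸ RingHom.ker (algebraMap P B)) ≃ₗ[P] B :=
      (Ideal.quotientKerAlgEquivOfSurjective (f := Algebra.ofId P B) hsurj).toLinearEquiv
    have e : (Localization.Away g ⊗[P] B) ≃ₗ[Localization.Away g]
        (Localization.Away g ⧸ Ideal.ofList l) :=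
      (TensorProduct.AlgebraTensorModule.congr
        (LinearEquiv.refl (Localization.Away g) (Localization.Away g)) eB.symm) ≪≫ₗ
      (Ideal.qoutMapEquivTensorQout (Localization.Away g)
        (I := RingHom.ker (algebraMap P B))).symm ≪≫ₗ
      Submodule.quotEquivOfEq _ _ hspan
    exact isPerfect_of_iso ((DerivedCategory.singleFunctor
      (ModuleCat.{u} (Localization.Away g)) 0).mapIso e.toModuleIso).symm
      (isPerfectModule_quot_of_koszulRegular l hl)
  · obtain ⟨g, hgI, hg⟩ := SetLike.not_le_iff_exists.mp hle
    refine ⟨g, hg, ?_⟩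
    have h0 : ∀ z : Localization.Away g ⊗[P] B, z = 0 := by
      intro z
      induction z using TensorProduct.induction_on with
      | zero => rfl
      | tmul x b =>
        have hx : x = g • (x * IsLocalization.Away.invSelf g) := by
          rw [Algebra.smul_def, mul_comm x, ← mul_assoc, IsLocalization.Away.mul_invSelf, one_mul]
        have hb : g • b = 0 := by
          rw [Algebra.smul_def, (RingHom.mem_ker).mp hgI, zero_mul]
        rw [hx, TensorProduct.smul_tmul, hb, TensorProduct.tmul_zero]
      | add x y hx hy => rw [hx, hy, add_zero]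
    haveI : Subsingleton (Localization.Away g ⊗[P] B) := ⟨fun a b => by rw [h0 a, h0 b]⟩
    exact isPerfect_of_isZero _ ((DerivedCategory.singleFunctor
      (ModuleCat.{u} (Localization.Away g)) 0).map_isZero (ModuleCat.isZero_of_subsingleton _))

/-- **A quotient by a Koszul-regular ideal is a perfect module.** -/
theorem isPerfectModule_of_isKoszulRegularIdeal_ker
    (hsurj : Function.Surjective (algebraMap P B))
    (hI : LCI.IsKoszulRegularIdeal (RingHom.ker (algebraMap P B))) :
    DRing.IsPerfectModule P B := by
  set T : Set P := {g | DRing.IsPerfect (Localization.Away g)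
      (Dual.inD (Localization.Away g) (Localization.Away g ⊗[P] B))} with hT
  have hTtop : Ideal.span T = ⊤ := by
    by_contra hne
    obtain ⟨𝔪, hmax, hle⟩ := Ideal.exists_le_maximal _ hne
    obtain ⟨g, hg, hgT⟩ := exists_isPerfect_away hsurj hI ⟨𝔪, hmax.isPrime⟩
    exact hg (hle (Ideal.subset_span hgT))
  obtain ⟨s, hsT, hs⟩ := (Ideal.span_eq_top_iff_finite T).mp hTtop
  let f : Fin s.card → P := fun i => (s.equivFin.symm i).1
  have hrange : Set.range f = (s : Set P) := by
    ext x
    constructor
    · rintro ⟨i, rfl⟩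
      exact (s.equivFin.symm i).2
    · intro hx
      exact ⟨s.equivFin ⟨x, hx⟩, by simp [f]⟩
  have hf : Ideal.span (Set.range f) = ⊤ := by rw [hrange]; exact hs
  have hfi : ∀ i, DRing.IsPerfect (Localization.Away (f i))
      (Dual.inD (Localization.Away (f i)) (Localization.Away (f i) ⊗[P] B)) :=
    fun i => hsT (s.equivFin.symm i).2
  exact (descFam_away f hf).isPerfect (Dual.inD P B)
    (fun i => isPerfect_of_iso (extDInDIso B).symm (hfi i))

end main

end Groth.Agent.Lib.Helper25.KoszulPerfect
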