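import Mathlib
import Groth.Agent.Lib.Helper25.ExtZeroFlat
import Groth.Agent.Lib.Helper25.LocGenSite
import Groth.Agent.Lib.Helper3.QCExact

/-!
# Epimorphisms from a filtered colimit onto a finite type module on a quasi-compact scheme
-/

set_option autoImplicit false
set_option linter.style.haveILetI false
universe u

open CategoryTheory CategoryTheory.Limits AlgebraicGeometry TopologicalSpace Opposite
open Groth.Agent.Lib.Helper2.Stk Groth.Agent.Lib.Helper3

namespace Groth.Agent.Lib.Helper25.EpiColim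

variable {X : Scheme.{u}}

/-- Germs of local generators span the stalk. -/
theorem span_germ_eq_top (M : X.Modules) (U : X.Opens) {ι : Type u} [Fintype ι]
    (s : ι → M.val.obj (op U)) (hs : Groth.Agent.Lib.Helper25.LocGenSite.LocSpanT M U s)
    (x : X) (hxU : x ∈ U) :
    Submodule.span (X.presheaf.stalk x)
      (Set.range fun i => M.presheaf.germ U x hxU (s i)) = ⊤ := by
  classical
  rw [eq_top_iff]
  rintro m -
  obtain ⟨W, hxW, t, rfl⟩ := TopCat.Presheaf.exists_germ_eq M.presheaf m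
  obtain ⟨W', hW', hxW', r, hr⟩ := hs (W ⊓ U) inf_le_right
    (Groth.Agent.Lib.Helper25.LocGenSite.res M inf_le_left t) x ⟨hxW, hxU⟩
  let g : M.val.obj (op W') →+ ↑(M.presheaf.stalk x) := (M.presheaf.germ W' x hxW').hom
  have h1 : M.presheaf.germ W x hxW t
      = g (Groth.Agent.Lib.Helper25.LocGenSite.res M hW'
          (Groth.Agent.Lib.Helper25.LocGenSite.res M inf_le_left t)) := by
    have a1 := TopCat.Presheaf.germ_res_apply M.presheaf
      (homOfLE (inf_le_left : W ⊓ U ≤ W)) x ⟨hxW, hxU⟩ t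
    have a2 := TopCat.Presheaf.germ_res_apply M.presheaf (homOfLE hW') x hxW'
      (Groth.Agent.Lib.Helper25.LocGenSite.res M inf_le_left t)
    exact a1.symm.trans a2.symm
  have hg_smul : ∀ (c : X.ringCatSheaf.obj.obj (op W')) (b : M.val.obj (op W')),
      g (c • b) = (X.presheaf.germ W' x hxW' c) • g b := fun c b => germ_smul' x M W' hxW' c b
  have key : ∀ T : Finset ι,
      g (∑ i ∈ T, r i • Groth.Agent.Lib.Helper25.LocGenSite.res M (hW'.trans inf_le_right) (s i)) ∈
        Submodule.span (X.presheaf.stalk x)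
          (Set.range fun i => M.presheaf.germ U x hxU (s i)) := by
    intro T
    induction T using Finset.induction_on with
    | empty =>
      rw [Finset.sum_empty, map_zero]
      exact Submodule.zero_mem _
    | insert j T hj ih =>
      rw [Finset.sum_insert hj, map_add]
      refine Submodule.add_mem _ ?_ ih
      rw [hg_smul]
      refine Submodule.smul_mem _ _ (Submodule.subset_span ?_)
      have h3 : g (Groth.Agent.Lib.Helper25.LocGenSite.res M (hW'.trans inf_le_right) (s j)) =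
          M.presheaf.germ U x hxU (s j) :=
        TopCat.Presheaf.germ_res_apply M.presheaf (homOfLE (hW'.trans inf_le_right)) x hxW' (s j)
      rw [h3]
      exact ⟨j, rfl⟩
  rw [h1, hr]
  exact key Finset.univ

section

variable {J : Type u} [SmallCategory J] [IsFiltered J] (D : J ⥤ X.Modules)
  (c : Cocone D) (hc : IsColimit c) {F : X.Modules} (u : c.pt ⟶ F)

include hc in
/-- A section of `F` lifts locally to some stage of the filtered system. -/
theorem exists_local_lift [Epi u] (x : X) (U : X.Opens) (hxU : x ∈ U) (g : Γ(F, U)) :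
    ∃ (j : J) (W : X.Opens) (hW : W ≤ U), x ∈ W ∧ ∃ t : Γ(D.obj j, W),
      (c.ι.app j ≫ u).app W t = QCSec.res F hW g := by
  obtain ⟨γ, hγ⟩ := Φ_map_surjective u x (F.presheaf.germ U x hxU g)
  have hcx : IsColimit ((Φ x).mapCocone c) := isColimitOfPreserves (Φ x) hc
  obtain ⟨j, γj, hγj⟩ := Concrete.isColimit_exists_rep (D ⋙ Φ x) hcx γ
  obtain ⟨(W0 : X.Opens), hxW0, t0, rfl⟩ :=
    TopCat.Presheaf.exists_germ_eq (D.obj j).presheaf γj
  have h1 : (Φ x).map (c.ι.app j ≫ u) ((D.obj j).presheaf.germ W0 x hxW0 t0) =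
      F.presheaf.germ U x hxU g := by
    rw [CategoryTheory.Functor.map_comp]
    exact (congrArg ((Φ x).map u) hγj).trans hγ
  have h2 := DerSch.stalkFunctor_map_germ x (c.ι.app j ≫ u) W0 hxW0 t0
  have h3 := h2.symm.trans h1
  obtain ⟨W, hxW, iU, iV, hres⟩ := TopCat.Presheaf.germ_eq F.presheaf x hxW0 hxU _ _ h3
  refine ⟨j, W, iV.le, hxW, QCSec.res (D.obj j) iU.le t0, ?_⟩
  have h4 := QCExact.app_res' (c.ι.app j ≫ u) iU.le t0
  exact h4.trans hres

/-- Transport a local lift to a later stage and a smaller open. -/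
theorem lift_transport {U W W' : X.Opens} (hW : W ≤ U) (hW' : W' ≤ W) (g : Γ(F, U)) {j j' : J}
    (f : j ⟶ j') (t : Γ(D.obj j, W)) (ht : (c.ι.app j ≫ u).app W t = QCSec.res F hW g) :
    ∃ t' : Γ(D.obj j', W'), (c.ι.app j' ≫ u).app W' t' = QCSec.res F (hW'.trans hW) g := by
  refine ⟨QCSec.res (D.obj j') hW' ((D.map f).app W t), ?_⟩
  rw [QCExact.app_res']
  have h1 : (c.ι.app j' ≫ u).app W ((D.map f).app W t) = (c.ι.app j ≫ u).app W t := by
    have h2 : D.map f ≫ c.ι.app j' ≫ u = c.ι.app j ≫ u := by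
      rw [← Category.assoc, c.w f]
    have h3 := congrArg (fun k => (Scheme.Modules.Hom.app k W) t) h2
    exact h3
  rw [h1, ht]
  exact QCSec.res_res F hW' hW g

include hc in
/-- Finitely many sections lift locally to a common stage. -/
theorem exists_local_lift_finset [Epi u] (x : X) (U : X.Opens) (hxU : x ∈ U) {ι : Type u}
    (S : Finset ι) (g : ι → Γ(F, U)) :
    ∃ (j : J) (W : X.Opens) (hW : W ≤ U), x ∈ W ∧ ∀ i ∈ S, ∃ t : Γ(D.obj j, W),
      (c.ι.app j ≫ u).app W t = QCSec.res F hW (g i) := by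
  classical
  induction S using Finset.induction_on with
  | empty =>
    exact ⟨Classical.choice IsFiltered.nonempty, U, le_rfl, hxU, fun i hi => by simp at hi⟩
  | insert a S ha ih =>
    obtain ⟨j1, W1, hW1, hxW1, h1⟩ := ih
    obtain ⟨j2, W2, hW2, hxW2, t2, ht2⟩ := exists_local_lift D c hc u x U hxU (g a)
    refine ⟨IsFiltered.max j1 j2, W1 ⊓ W2, inf_le_left.trans hW1, ⟨hxW1, hxW2⟩, ?_⟩
    intro i hi
    rcases Finset.mem_insert.1 hi with rfl | hi
    · exact lift_transport D c u hW2 inf_le_right (g i) (IsFiltered.rightToMax j1 j2) t2 ht2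
    · obtain ⟨t1, ht1⟩ := h1 i hi
      exact lift_transport D c u hW1 inf_le_left (g i) (IsFiltered.leftToMax j1 j2) t1 ht1

include hc in
/-- Near every point, all later stages surject onto the stalks of `F`. -/
theorem exists_nhd_stage [Epi u] (hF : SheafOfModules.IsFiniteType (R := X.ringCatSheaf) F)
    (x : X) :
    ∃ (W : X.Opens) (j : J), x ∈ W ∧ ∀ y ∈ W, ∀ j' : J, Nonempty (j ⟶ j') →
      Function.Surjective ((Φ y).map (c.ι.app j' ≫ u)) := by
  obtain ⟨U, hxU, ι, _, s, hs⟩ :=
    (Groth.Agent.Lib.Helper25.LocGenSite.isFiniteType_iff (R := X.ringCatSheaf) F).1 hF x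
  obtain ⟨j, W, hW, hxW, ht⟩ := exists_local_lift_finset D c hc u x U hxU Finset.univ s
  refine ⟨W, j, hxW, ?_⟩
  rintro y hy j' ⟨f⟩
  have hspan := span_germ_eq_top F U s hs y (hW hy)
  have hle : Submodule.span (X.presheaf.stalk y)
      (Set.range fun i => F.presheaf.germ U y (hW hy) (s i)) ≤
        LinearMap.range ((Φ y).map (c.ι.app j' ≫ u)).hom := by
    rw [Submodule.span_le]
    rintro _ ⟨i, rfl⟩
    obtain ⟨t, ht⟩ := ht i (Finset.mem_univ i)
    obtain ⟨t', ht'⟩ := lift_transport D c u hW le_rfl (s i) f t ht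
    refine ⟨(D.obj j').presheaf.germ W y hy t', ?_⟩
    have h2 := DerSch.stalkFunctor_map_germ y (c.ι.app j' ≫ u) W hy t'
    refine h2.trans ?_
    rw [ht']
    exact TopCat.Presheaf.germ_res_apply F.presheaf (homOfLE (le_rfl.trans hW)) y hy (s i)
  rw [hspan, top_le_iff] at hle
  exact LinearMap.range_eq_top.1 hle

include hc in
theorem main [CompactSpace X] (hF : SheafOfModules.IsFiniteType (R := X.ringCatSheaf) F) :
    Epi u ↔ ∃ j₀ : J, ∀ j : J, Nonempty (j₀ ⟶ j) → Epi (c.ι.app j ≫ u) := by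
  classical
  constructor
  · intro hu
    choose W j hx H using fun x => exists_nhd_stage D c hc u hF x
    obtain ⟨T, hT⟩ := isCompact_univ.elim_finite_subcover (fun x => (W x : Set X))
      (fun x => (W x).2) (fun y _ => Set.mem_iUnion.2 ⟨y, hx y⟩)
    obtain ⟨j₀, hj₀⟩ := IsFiltered.sup_objs_exists (T.image j)
    refine ⟨j₀, ?_⟩
    rintro j' ⟨f⟩
    apply Groth.Agent.Lib.Helper25.ExtZeroFlat.epi_of_stalk_surjective
    intro y
    obtain ⟨x, hxy⟩ := Set.mem_iUnion.1 (hT (Set.mem_univ y))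
    obtain ⟨hxT, hyW⟩ := Set.mem_iUnion.1 hxy
    obtain ⟨g⟩ := hj₀ (Finset.mem_image_of_mem j hxT)
    exact H x y hyW j' ⟨g ≫ f⟩
  · rintro ⟨j₀, h⟩
    haveI := h j₀ ⟨𝟙 j₀⟩
    exact epi_of_epi (c.ι.app j₀) u

end

end Groth.Agent.Lib.Helper25.EpiColim
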