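import Mathlib
import Groth.Agent.Lib.Helper25.EpiColim
import Groth.Agent.Lib.Helper25.SplitFibre
import Groth.Agent.Lib.Helper25.PullFaithful
import Groth.Agent.Lib.Helper25.LocGenRel
import Groth.Agent.Lib.Helper2.Stk.Pull
import Groth.Agent.Lib.Helper2.Stk.Exact
import Groth.Agent.Lib.Helper3.QCProps

/-!
# Descent of finite type along flat surjective open morphisms (arbitrary modules)
-/

set_option autoImplicit false
set_option linter.style.haveILetI false
universe u

open CategoryTheory CategoryTheory.Limits AlgebraicGeometry TopologicalSpace Opposite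
open Groth.Agent.Lib.Helper2.Stk Groth.Agent.Lib.Helper3
open Groth.Agent.Lib.Helper25

namespace Groth.Agent.Lib.Helper25.FTDescent

section Local

variable {X : Scheme.{u}}

lemma exists_opens_le_of_finite {ι : Type*} [Finite ι] (x : X) (V : ι → X.Opens)
    (hV : ∀ i, x ∈ V i) : ∃ U : X.Opens, x ∈ U ∧ ∀ i, U ≤ V i :=
  ⟨⟨⋂ i, (V i : Set X), isOpen_iInter_of_finite (fun i => (V i).2)⟩, Set.mem_iInter.2 hV,
    fun i _ hy => Set.mem_iInter.1 hy i⟩

/-- germ of a linear combination -/
theorem germ_sum_smul (M : X.Modules) {U W' : X.Opens} (h : W' ≤ U) {ι : Type u} [Fintype ι]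
    (s : ι → M.val.obj (op U)) (r : ι → X.ringCatSheaf.obj.obj (op W')) (x : X) (hx : x ∈ W') :
    M.presheaf.germ W' x hx (∑ i, r i • LocGenSite.res M h (s i)) =
      ∑ i, (X.presheaf.germ W' x hx (r i)) • M.presheaf.germ U x (h hx) (s i) := by
  classical
  let g : M.val.obj (op W') →+ ↑(M.presheaf.stalk x) := (M.presheaf.germ W' x hx).hom
  have hg_smul : ∀ (c : X.ringCatSheaf.obj.obj (op W')) (b : M.val.obj (op W')),
      g (c • b) = (X.presheaf.germ W' x hx c) • g b := fun c b => germ_smul' x M W' hx c b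
  have h3 : ∀ j, g (LocGenSite.res M h (s j)) = M.presheaf.germ U x (h hx) (s j) := fun j =>
    TopCat.Presheaf.germ_res_apply M.presheaf (homOfLE h) x hx (s j)
  show g (∑ i, r i • LocGenSite.res M h (s i)) = _
  rw [map_sum]
  refine Finset.sum_congr rfl (fun i _ => ?_)
  rw [hg_smul, h3]

/-- If the germ of `m` lies in the span of the germs of the `s i`, then `m` is locally a linear
combination of the `s i`. -/
theorem exists_local_comb (M : X.Modules) (U : X.Opens) {ι : Type u} [Fintype ι]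
    (s : ι → M.val.obj (op U)) (W : X.Opens) (hW : W ≤ U) (m : M.val.obj (op W)) (x : X)
    (hxW : x ∈ W)
    (hm : M.presheaf.germ W x hxW m ∈ Submodule.span (X.presheaf.stalk x)
      (Set.range fun i => M.presheaf.germ U x (hW hxW) (s i))) :
    ∃ (W' : X.Opens) (hW' : W' ≤ W), x ∈ W' ∧ ∃ r : ι → X.ringCatSheaf.obj.obj (op W'),
      LocGenSite.res M hW' m = ∑ i, r i • LocGenSite.res M (hW'.trans hW) (s i) := by
  classical
  obtain ⟨c, hc⟩ := (Submodule.mem_span_range_iff_exists_fun _).1 hm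
  have hrep : ∀ i, ∃ (V : X.Opens) (hxV : x ∈ V) (ρ : X.presheaf.obj (op V)),
      X.presheaf.germ V x hxV ρ = c i := fun i => TopCat.Presheaf.exists_germ_eq X.presheaf (c i)
  choose V hxV ρ hρ using hrep
  obtain ⟨W₁, hxW₁, hW₁V⟩ := exists_opens_le_of_finite x V hxV
  have hx₂ : x ∈ W₁ ⊓ W := ⟨hxW₁, hxW⟩
  let r : ι → X.ringCatSheaf.obj.obj (op (W₁ ⊓ W)) := fun i =>
    X.presheaf.map (homOfLE (inf_le_left.trans (hW₁V i))).op (ρ i)
  have hr : ∀ i, X.presheaf.germ (W₁ ⊓ W) x hx₂ (r i) = c i := fun i =>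
    (TopCat.Presheaf.germ_res_apply X.presheaf (homOfLE (inf_le_left.trans (hW₁V i))) x hx₂
      (ρ i)).trans (hρ i)
  let a : M.val.obj (op (W₁ ⊓ W)) := LocGenSite.res M inf_le_right m
  let b : M.val.obj (op (W₁ ⊓ W)) := ∑ i, r i • LocGenSite.res M (inf_le_right.trans hW) (s i)
  have ha : M.presheaf.germ (W₁ ⊓ W) x hx₂ a = M.presheaf.germ W x hxW m :=
    TopCat.Presheaf.germ_res_apply M.presheaf (homOfLE inf_le_right) x hx₂ m
  have hb : M.presheaf.germ (W₁ ⊓ W) x hx₂ b = M.presheaf.germ W x hxW m := by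
    have h1 := germ_sum_smul M (inf_le_right.trans hW) s r x hx₂
    have hsum : ∑ i, X.presheaf.germ (W₁ ⊓ W) x hx₂ (r i) • M.presheaf.germ U x (hW hxW) (s i) =
        ∑ i, c i • M.presheaf.germ U x (hW hxW) (s i) :=
      Finset.sum_congr rfl (fun i _ => by rw [hr i])
    exact (h1.trans hsum).trans hc
  obtain ⟨W', hxW', iU, iV, e⟩ :=
    TopCat.Presheaf.germ_eq M.presheaf x hx₂ hx₂ a b (ha.trans hb.symm)
  have hW'₂ : W' ≤ W₁ ⊓ W := iU.le
  have e1 : LocGenSite.res M hW'₂ a = LocGenSite.res M hW'₂ b := by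
    have h1 : iU = homOfLE hW'₂ := Subsingleton.elim _ _
    have h2 : iV = homOfLE hW'₂ := Subsingleton.elim _ _
    rw [h1, h2] at e
    exact e
  refine ⟨W', hW'₂.trans inf_le_right, hxW', fun i => LocGenSite.resR hW'₂ (r i), ?_⟩
  have e2 : LocGenSite.res M hW'₂ a = LocGenSite.res M (hW'₂.trans inf_le_right) m :=
    LocGenSite.res_res M inf_le_right hW'₂ m
  have e3 : LocGenSite.res M hW'₂ b = ∑ i, LocGenSite.resR hW'₂ (r i) •
      LocGenSite.res M ((hW'₂.trans inf_le_right).trans hW) (s i) := by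
    show LocGenSite.res M hW'₂ (∑ i, r i • LocGenSite.res M (inf_le_right.trans hW) (s i)) = _
    rw [map_sum]
    refine Finset.sum_congr rfl (fun i _ => ?_)
    rw [LocGenSite.res_smul, LocGenSite.res_res]
  exact e2.symm.trans (e1.trans e3)

/-- Sections whose germs span all stalks over `U` locally span. -/
theorem locSpanT_of_span_germ (M : X.Modules) (U : X.Opens) {ι : Type u} [Fintype ι]
    (s : ι → M.val.obj (op U))
    (h : ∀ (x : X) (hx : x ∈ U), Submodule.span (X.presheaf.stalk x)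
      (Set.range fun i => M.presheaf.germ U x hx (s i)) = ⊤) :
    LocGenSite.LocSpanT (R := X.ringCatSheaf) M U s := by
  intro W hW m y hy
  exact exists_local_comb M U s W hW m y hy (by rw [h y (hW hy)]; exact Submodule.mem_top)

/-- For a finite type module, spanning the stalk at a point is an open condition. -/
theorem exists_nhd_span_germ (M : X.Modules)
    (hM : SheafOfModules.IsFiniteType (R := X.ringCatSheaf) M) (U : X.Opens) {ι : Type u}
    [Fintype ι] (s : ι → M.val.obj (op U)) (x : X) (hxU : x ∈ U)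
    (h : Submodule.span (X.presheaf.stalk x)
      (Set.range fun i => M.presheaf.germ U x hxU (s i)) = ⊤) :
    ∃ (U' : X.Opens) (hU' : U' ≤ U), x ∈ U' ∧ ∀ (x' : X) (hx' : x' ∈ U'),
      Submodule.span (X.presheaf.stalk x')
        (Set.range fun i => M.presheaf.germ U x' (hU' hx') (s i)) = ⊤ := by
  classical
  obtain ⟨U₁, hxU₁, κ, _, t, ht⟩ :=
    (LocGenSite.isFiniteType_iff (R := X.ringCatSheaf) M).1 hM x
  have hk : ∀ k : κ, ∃ (W' : X.Opens) (hW' : W' ≤ U₁ ⊓ U), x ∈ W' ∧
      ∃ r : ι → X.ringCatSheaf.obj.obj (op W'),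
        LocGenSite.res M hW' (LocGenSite.res M inf_le_left (t k)) =
          ∑ i, r i • LocGenSite.res M (hW'.trans inf_le_right) (s i) := by
    intro k
    refine exists_local_comb M U s (U₁ ⊓ U) inf_le_right (LocGenSite.res M inf_le_left (t k)) x
      ⟨hxU₁, hxU⟩ ?_
    rw [h]
    exact Submodule.mem_top
  choose W hW hxW r hr using hk
  obtain ⟨U₂, hxU₂, hU₂W⟩ := exists_opens_le_of_finite x W hxW
  refine ⟨U₂ ⊓ (U₁ ⊓ U), inf_le_right.trans inf_le_right, ⟨hxU₂, hxU₁, hxU⟩, ?_⟩
  intro x' hx'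
  have hx'U₁ : x' ∈ U₁ := hx'.2.1
  rw [eq_top_iff, ← EpiColim.span_germ_eq_top M U₁ t ht x' hx'U₁, Submodule.span_le]
  rintro _ ⟨k, rfl⟩
  have hx'W : x' ∈ W k := hU₂W k hx'.1
  have e1 : M.presheaf.germ U₁ x' hx'U₁ (t k) =
      M.presheaf.germ (W k) x' hx'W
        (LocGenSite.res M (hW k) (LocGenSite.res M inf_le_left (t k))) := by
    have a1 := TopCat.Presheaf.germ_res_apply M.presheaf
      (homOfLE (inf_le_left : U₁ ⊓ U ≤ U₁)) x' ((hW k) hx'W) (t k)
    have a2 := TopCat.Presheaf.germ_res_apply M.presheaf (homOfLE (hW k)) x' hx'W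
      (LocGenSite.res M inf_le_left (t k))
    exact a1.symm.trans a2.symm
  show M.presheaf.germ U₁ x' hx'U₁ (t k) ∈ Submodule.span (X.presheaf.stalk x')
    (Set.range fun i => M.presheaf.germ U x' _ (s i))
  rw [e1, hr k]
  have e5 := germ_sum_smul M ((hW k).trans inf_le_right) s (r k) x' hx'W
  have hmem : (∑ i, (X.presheaf.germ (W k) x' hx'W (r k i)) •
      M.presheaf.germ U x' (((hW k).trans inf_le_right) hx'W) (s i)) ∈
      Submodule.span (X.presheaf.stalk x')
        (Set.range fun i => M.presheaf.germ U x' (((hW k).trans inf_le_right) hx'W) (s i)) :=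
    Submodule.sum_mem _ (fun i _ => Submodule.smul_mem _ _ (Submodule.subset_span ⟨i, rfl⟩))
  exact (congrArg (fun z => z ∈ Submodule.span (X.presheaf.stalk x')
    (Set.range fun i => M.presheaf.germ U x' (((hW k).trans inf_le_right) hx'W) (s i))) e5).mpr hmem

/-- A morphism out of the structure module is zero when its section is. -/
theorem eq_zero_of_sec {N : X.Modules} (k : Coh.structureModule X ⟶ N)
    (h : InvGen.sec k ⊤ = 0) : k = 0 := by
  apply Scheme.Modules.hom_ext
  intro U
  ext a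
  have h2 : InvGen.sec k U = 0 := by
    rw [← InvGen.res_sec k (le_top : U ≤ ⊤), h]
    exact map_zero _
  have h1 := InvGen.app_eq_smul_sec k U (InvGen.toFun U a)
  rw [h2, smul_zero] at h1
  exact h1

end Local

section Cok

variable {Y : Scheme.{u}} (F : Y.Modules) (V : Y.Opens) {ι : Type u} [Fintype ι]
  (s : ι → Γ(F, V)) (Ψ : (∐ fun _ : ι => CxOX.extZeroUnit V.ι) ⟶ F)
  (hΨ : ∀ j, Sigma.ι (fun _ : ι => CxOX.extZeroUnit V.ι) j ≫ Ψ = ExtZeroFlat.homOfSecExt F V (s j))

include hΨ in
/-- If the germs of the sections span the stalk, the cokernel of the associated map from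
`∐ j_! O_V` has vanishing stalk. -/
theorem isZero_of_span_germ_eq_top (y' : Y) (hy' : y' ∈ V)
    (hspan : Submodule.span (Y.presheaf.stalk y')
      (Set.range fun j => F.presheaf.germ V y' hy' (s j)) = ⊤) :
    IsZero ((Φ y').obj (cokernel Ψ)) := by
  have hy'' : y' ∈ V.ι ''ᵁ ⊤ := by
    rw [Scheme.Opens.ι_image_top]; exact hy'
  have hgen : ∀ j, (Φ y').map (cokernel.π Ψ) (F.presheaf.germ V y' hy' (s j)) = 0 := by
    intro j
    have e1 : F.presheaf.germ V y' hy' (s j) = F.presheaf.germ (V.ι ''ᵁ ⊤) y' hy''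
        (QCSec.res F (V.ι_image_le ⊤) (s j)) :=
      (TopCat.Presheaf.germ_res_apply F.presheaf (homOfLE (V.ι_image_le ⊤)) y' hy'' (s j)).symm
    have e2 := ExtZeroFlat.homOfSecExt_app_unitSec F V (s j)
    have e3 := DerSch.stalkFunctor_map_germ y' (ExtZeroFlat.homOfSecExt F V (s j)) (V.ι ''ᵁ ⊤) hy''
      (ExtZeroFlat.unitSec V)
    have e4 : (Φ y').map (ExtZeroFlat.homOfSecExt F V (s j)) ≫ (Φ y').map (cokernel.π Ψ) = 0 := by
      rw [← CategoryTheory.Functor.map_comp, ← hΨ j, Category.assoc, cokernel.condition, comp_zero,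
        CategoryTheory.Functor.map_zero]
    have e5 := congrArg (fun q => q.hom ((CxOX.extZeroUnit V.ι).presheaf.germ (V.ι ''ᵁ ⊤) y' hy''
      (ExtZeroFlat.unitSec V))) e4
    rw [e1, ← e2]
    refine Eq.trans ?_ e5
    exact congrArg (fun z => (Φ y').map (cokernel.π Ψ) z) e3.symm
  have hall : ∀ z : F.presheaf.stalk y', (Φ y').map (cokernel.π Ψ) z = 0 := by
    intro z
    have hzmem : z ∈ Submodule.span (Y.presheaf.stalk y')
        (Set.range fun j => F.presheaf.germ V y' hy' (s j)) := by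
      rw [hspan]; exact Submodule.mem_top
    refine Submodule.span_induction ?_ ?_ ?_ ?_ hzmem
    · rintro _ ⟨j, rfl⟩
      exact hgen j
    · exact map_zero _
    · intro a b _ _ ha hb
      have e : (Φ y').map (cokernel.π Ψ) (a + b) =
          (Φ y').map (cokernel.π Ψ) a + (Φ y').map (cokernel.π Ψ) b :=
        ((Φ y').map (cokernel.π Ψ)).hom.map_add a b
      rw [ha, hb, add_zero] at e
      exact e
    · intro r a _ ha
      have e : (Φ y').map (cokernel.π Ψ) (r • a) = r • (Φ y').map (cokernel.π Ψ) a :=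
        ((Φ y').map (cokernel.π Ψ)).hom.map_smul r a
      rw [ha, smul_zero] at e
      exact e
  have hsurj : Function.Surjective ((Φ y').map (cokernel.π Ψ)) := Φ_map_surjective _ y'
  haveI : Subsingleton ((Φ y').obj (cokernel Ψ)) := ⟨fun a b => by
    obtain ⟨a', rfl⟩ := hsurj a
    obtain ⟨b', rfl⟩ := hsurj b
    rw [hall a', hall b']⟩
  exact ModuleCat.isZero_of_subsingleton _

include hΨ in
/-- If the cokernel of the map from `∐ j_! O_V` has vanishing stalk at a point of `V`, the germs of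
the sections span the stalk. -/
theorem span_germ_eq_top_of_isZero (y' : Y) (hy' : y' ∈ V)
    (hz : IsZero ((Φ y').obj (cokernel Ψ))) :
    Submodule.span (Y.presheaf.stalk y')
      (Set.range fun j => F.presheaf.germ V y' hy' (s j)) = ⊤ := by
  let G : Submodule (Y.presheaf.stalk y') ((Φ y').obj F) :=
    Submodule.span (Y.presheaf.stalk y') (Set.range fun j => F.presheaf.germ V y' hy' (s j))
  let T : ModuleCat.{u} (Y.presheaf.stalk y') := ModuleCat.of _ (((Φ y').obj F) ⧸ G)
  let q : (Φ y').obj F ⟶ T := ModuleCat.ofHom G.mkQ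
  let θ : F ⟶ sky y' T := unitApp y' F ≫ skyMap y' q
  have hθ : (stalkSkyAdj y').homEquiv F T q = θ := Adjunction.homEquiv_unit _ _ _ _
  have hcomp : ∀ j, ExtZeroFlat.homOfSecExt F V (s j) ≫ θ = 0 := by
    intro j
    have hk' : InvGen.homOfSec F V (s j) ≫ (Scheme.Modules.restrictFunctor V.ι).map θ = 0 := by
      apply eq_zero_of_sec
      have h2 := InvGen.sec_comp (InvGen.homOfSec F V (s j))
        ((Scheme.Modules.restrictFunctor V.ι).map θ) ⊤
      have h3 := InvGen.sec_homOfSec F V (s j) ⊤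
      have h4 : ((Scheme.Modules.restrictFunctor V.ι).map θ).app ⊤
          (InvGen.sec (InvGen.homOfSec F V (s j)) ⊤) =
          θ.app (V.ι ''ᵁ ⊤) (QCSec.res F (V.ι_image_le ⊤) (s j)) :=
        congrArg (fun z => θ.app (V.ι ''ᵁ ⊤) z) h3
      refine (h2.trans h4).trans ?_
      show (θ.app (V.ι ''ᵁ ⊤) (QCSec.res F (V.ι_image_le ⊤) (s j)) :
        SkySec y' T (V.ι ''ᵁ ⊤)) = fun _ => 0
      funext hh
      show q (F.presheaf.germ (V.ι ''ᵁ ⊤) y' hh.down (QCSec.res F (V.ι_image_le ⊤) (s j))) = 0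
      have hg : F.presheaf.germ (V.ι ''ᵁ ⊤) y' hh.down (QCSec.res F (V.ι_image_le ⊤) (s j)) =
          F.presheaf.germ V y' hy' (s j) :=
        TopCat.Presheaf.germ_res_apply F.presheaf (homOfLE (V.ι_image_le ⊤)) y' hh.down (s j)
      rw [hg]
      exact (Submodule.Quotient.mk_eq_zero G).2 (Submodule.subset_span ⟨j, rfl⟩)
    have h5 := (CxOX.extZeroAdj V.ι).homEquiv_naturality_right_symm
      (InvGen.homOfSec F V (s j)) θ
    rw [hk'] at h5
    refine h5.symm.trans ?_
    rw [Adjunction.homEquiv_counit, CategoryTheory.Functor.map_zero, zero_comp]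
  have hΨθ : Ψ ≫ θ = 0 := by
    apply Sigma.hom_ext
    intro j
    rw [← Category.assoc, hΨ j, comp_zero]
    exact hcomp j
  let θ' : cokernel Ψ ⟶ sky y' T := cokernel.desc Ψ θ hΨθ
  have hπθ : cokernel.π Ψ ≫ θ' = θ := cokernel.π_desc _ _ _
  have hq : q = (Φ y').map (cokernel.π Ψ) ≫ ((stalkSkyAdj y').homEquiv _ T).symm θ' := by
    have h6 := (stalkSkyAdj y').homEquiv_naturality_left_symm (cokernel.π Ψ) θ'
    have a1 : q = ((stalkSkyAdj y').homEquiv F T).symm θ := by
      rw [← hθ, Equiv.symm_apply_apply]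
    have a2 : ((stalkSkyAdj y').homEquiv F T).symm θ =
        ((stalkSkyAdj y').homEquiv F T).symm (cokernel.π Ψ ≫ θ') := congrArg _ hπθ.symm
    exact a1.trans (a2.trans h6)
  have hq0 : q = 0 := by
    rw [hq, hz.eq_of_src (((stalkSkyAdj y').homEquiv _ T).symm θ') 0, comp_zero]
  rw [eq_top_iff]
  intro z _
  have hz0 : G.mkQ z = 0 := congrArg (fun a => a.hom z) hq0
  exact (Submodule.Quotient.mk_eq_zero G).1 hz0

end Cok

section Main

variable {X Y : Scheme.{u}} (f : X ⟶ Y)

theorem faithfullyFlat_φst [Flat f] (x : X) :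
    letI := (φst f x).toAlgebra
    Module.FaithfullyFlat (Y.presheaf.stalk (f.base x)) (X.presheaf.stalk x) := by
  letI := (φst f x).toAlgebra
  exact @Module.FaithfullyFlat.of_flat_of_isLocalHom _ _ _ _ _ _ _
      (Flat.stalkMap f x) (f.toLRSHom.prop x)

theorem isZero_of_isZero_extendScalars {R S : Type u} [CommRing R] [CommRing S] (g : R →+* S)
    (hff : letI := g.toAlgebra; Module.FaithfullyFlat R S) (N : ModuleCat.{u} R)
    (h : IsZero ((ModuleCat.extendScalars g).obj N)) : IsZero N := by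
  rw [IsZero.iff_id_eq_zero]
  apply PullFaithful.eq_zero_of_extendScalars g hff
  exact h.eq_of_src _ _

/-- Vanishing of the stalk of the pullback implies vanishing of the stalk (flat case). -/
theorem isZero_stalk_of_isZero_pullback [Flat f] (C : Y.Modules) (x : X)
    (h : IsZero ((Φ x).obj ((Scheme.Modules.pullback f).obj C))) :
    IsZero ((Φ (f.base x)).obj C) := by
  apply isZero_of_isZero_extendScalars (φst f x) (faithfullyFlat_φst f x)
  exact IsZero.of_iso h ((pullStalkIso f x).app C).symm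

/-- Vanishing of a stalk implies vanishing of the stalk of the pullback. -/
theorem isZero_pullback_of_isZero_stalk (C : Y.Modules) (x : X)
    (h : IsZero ((Φ (f.base x)).obj C)) :
    IsZero ((Φ x).obj ((Scheme.Modules.pullback f).obj C)) := by
  have h1 : IsZero ((ModuleCat.extendScalars (φst f x)).obj ((Φ (f.base x)).obj C)) :=
    (ModuleCat.extendScalars (φst f x)).map_isZero h
  exact IsZero.of_iso h1 ((pullStalkIso f x).app C)

theorem finite_stalk_of_finite_pullback [Flat f] (F : Y.Modules) (x : X)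
    (h : Module.Finite (X.presheaf.stalk x) ((Φ x).obj ((Scheme.Modules.pullback f).obj F))) :
    Module.Finite (Y.presheaf.stalk (f.base x)) ((Φ (f.base x)).obj F) := by
  letI := (φst f x).toAlgebra
  haveI := faithfullyFlat_φst f x
  haveI : Module.Finite (X.presheaf.stalk x) ((Scheme.Modules.pullback f ⋙ Φ x).obj F) := h
  have h1 : Module.Finite (X.presheaf.stalk x)
      ((ModuleCat.extendScalars (φst f x)).obj ((Φ (f.base x)).obj F)) :=
    Module.Finite.equiv ((pullStalkIso f x).app F).toLinearEquiv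
  haveI : Module.Finite (X.presheaf.stalk x)
      (TensorProduct (Y.presheaf.stalk (f.base x)) (X.presheaf.stalk x)
        ((Φ (f.base x)).obj F)) := h1
  exact Module.Finite.of_finite_tensorProduct_of_faithfullyFlat (X.presheaf.stalk x)

theorem main [Flat f] [Surjective f]
    (hf : IsOpenMap f.base) (F : Y.Modules)
    (h : SheafOfModules.IsFiniteType (R := X.ringCatSheaf) ((Scheme.Modules.pullback f).obj F)) :
    SheafOfModules.IsFiniteType (R := Y.ringCatSheaf) F := by
  classical
  rw [LocGenSite.isFiniteType_iff]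
  intro y
  obtain ⟨x, rfl⟩ := ‹Surjective f›.surj y
  haveI hfin : Module.Finite (Y.presheaf.stalk (f.base x)) (F.presheaf.stalk (f.base x)) :=
    finite_stalk_of_finite_pullback f F x (SplitFibre.finite_stalk_of_isFiniteType _ h x)
  obtain ⟨n, m, hm⟩ := Module.Finite.exists_fin (R := Y.presheaf.stalk (f.base x))
    (M := F.presheaf.stalk (f.base x))
  have hrep : ∀ j : Fin n, ∃ (V : Y.Opens) (hV : f.base x ∈ V) (σ : F.presheaf.obj (op V)),
      F.presheaf.germ V (f.base x) hV σ = m j :=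
    fun j => TopCat.Presheaf.exists_germ_eq F.presheaf (m j)
  choose V' hV' σ' hσ' using hrep
  obtain ⟨V, hyV, hVV'⟩ := exists_opens_le_of_finite (f.base x) V' hV'
  let s : ULift.{u} (Fin n) → Γ(F, V) := fun j =>
    F.presheaf.map (homOfLE (hVV' j.down)).op (σ' j.down)
  have hs : ∀ j, F.presheaf.germ V (f.base x) hyV (s j) = m j.down := fun j =>
    (TopCat.Presheaf.germ_res_apply F.presheaf (homOfLE (hVV' j.down)) (f.base x) hyV
      (σ' j.down)).trans (hσ' j.down)
  have hspan : Submodule.span (Y.presheaf.stalk (f.base x))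
      (Set.range fun j => F.presheaf.germ V (f.base x) hyV (s j)) = ⊤ := by
    rw [eq_top_iff, ← hm, Submodule.span_le]
    rintro _ ⟨j, rfl⟩
    exact Submodule.subset_span ⟨⟨j⟩, hs ⟨j⟩⟩
  let Ψ : (∐ fun _ : ULift.{u} (Fin n) => CxOX.extZeroUnit V.ι) ⟶ F :=
    Sigma.desc (fun j => ExtZeroFlat.homOfSecExt F V (s j))
  have hΨ : ∀ j, Sigma.ι (fun _ : ULift.{u} (Fin n) => CxOX.extZeroUnit V.ι) j ≫ Ψ =
      ExtZeroFlat.homOfSecExt F V (s j) := fun j => Sigma.ι_desc _ _
  have hCy : IsZero ((Φ (f.base x)).obj (cokernel Ψ)) :=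
    isZero_of_span_germ_eq_top F V s Ψ hΨ (f.base x) hyV hspan
  -- the pullback of the cokernel
  haveI : SheafOfModules.IsFiniteType (R := X.ringCatSheaf) ((Scheme.Modules.pullback f).obj F) := h
  haveI : (Scheme.Modules.pullback f).PreservesEpimorphisms :=
    Functor.preservesEpimorphisms_of_adjunction (Scheme.Modules.pullbackPushforwardAdjunction f)
  have hC' : SheafOfModules.IsFiniteType (R := X.ringCatSheaf)
      ((Scheme.Modules.pullback f).obj (cokernel Ψ)) :=
    QCProps.isFiniteType_of_epi ((Scheme.Modules.pullback f).map (cokernel.π Ψ))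
  have hC'x : IsZero ((Φ x).obj ((Scheme.Modules.pullback f).obj (cokernel Ψ))) :=
    isZero_pullback_of_isZero_stalk f (cokernel Ψ) x hCy
  haveI : Subsingleton (((Scheme.Modules.pullback f).obj (cokernel Ψ)).presheaf.stalk x) :=
    ModuleCat.subsingleton_of_isZero hC'x
  obtain ⟨U', hU'le, hxU', hU'⟩ := exists_nhd_span_germ ((Scheme.Modules.pullback f).obj (cokernel Ψ))
    hC' ⊤ (ι := PEmpty.{u + 1}) (fun e => e.elim) x trivial
    (eq_top_iff.2 (fun z _ => by
      rw [Subsingleton.elim z 0]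
      exact Submodule.zero_mem _))
  let W : Y.Opens := (⟨f.base '' (U' : Set X), hf _ U'.2⟩ : Y.Opens) ⊓ V
  have hyW : f.base x ∈ W := ⟨⟨x, hxU', rfl⟩, hyV⟩
  refine ⟨W, hyW, ULift.{u} (Fin n), inferInstance,
    fun j => LocGenSite.res F (inf_le_right : W ≤ V) (s j), ?_⟩
  apply locSpanT_of_span_germ
  intro y' hy'
  obtain ⟨⟨x', hx'U', rfl⟩, hy'V⟩ := hy'
  have hzero' : IsZero ((Φ x').obj ((Scheme.Modules.pullback f).obj (cokernel Ψ))) := by
    haveI : Subsingleton ((Φ x').obj ((Scheme.Modules.pullback f).obj (cokernel Ψ))) := by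
      refine ⟨fun a b => ?_⟩
      have hz : ∀ z : ((Scheme.Modules.pullback f).obj (cokernel Ψ)).presheaf.stalk x', z = 0 := by
        intro z
        have hz1 : z ∈ (⊤ : Submodule (X.presheaf.stalk x')
            (((Scheme.Modules.pullback f).obj (cokernel Ψ)).presheaf.stalk x')) := Submodule.mem_top
        rw [← hU' x' hx'U', Set.range_eq_empty, Submodule.span_empty, Submodule.mem_bot] at hz1
        exact hz1
      exact (hz a).trans (hz b).symm
    exact ModuleCat.isZero_of_subsingleton _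
  have hzero : IsZero ((Φ (f.base x')).obj (cokernel Ψ)) :=
    isZero_stalk_of_isZero_pullback f (cokernel Ψ) x' hzero'
  have hsp := span_germ_eq_top_of_isZero F V s Ψ hΨ (f.base x') hy'V hzero
  have hfun : (fun j => F.presheaf.germ W (f.base x') ⟨⟨x', hx'U', rfl⟩, hy'V⟩
      (LocGenSite.res F (inf_le_right : W ≤ V) (s j))) =
      fun j => F.presheaf.germ V (f.base x') hy'V (s j) :=
    funext fun j => TopCat.Presheaf.germ_res_apply F.presheaf
      (homOfLE (inf_le_right : W ≤ V)) (f.base x') ⟨⟨x', hx'U', rfl⟩, hy'V⟩ (s j)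
  rw [hfun]
  exact hsp

end Main

end Groth.Agent.Lib.Helper25.FTDescent
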