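import Mathlib
import Groth.Agent.Lib.Helper18.DRFib
import Groth.Agent.Lib.Helper18.DRTorC
import Groth.Agent.Lib.Helper18.DRTorZ2
import Groth.Agent.Lib.Helper18.DRPCRestr
import Groth.Agent.Lib.Helper18.DRPC3
import Groth.Agent.Lib.Helper18.DRDesc
import Groth.Agent.Lib.Helper18.DRNoeth
import Groth.Agent.Lib.Helper18.DRRel4
import Groth.Agent.Lib.Helper14.FlatStage.Interface

/-!
# Pseudo-coherence of finitely presented modules that are flat over the base (helper25)

* `exists_finite_free_resolution_le`: a pseudo-coherent object with cohomology in degrees `≤ b` is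
  represented by a complex of finite free modules in degrees `≤ b`.
* `isPseudoCoherentModule'_baseChange`: for a pushout square `C = κ ⊗_A B` with `B` flat over `A`,
  a pseudo-coherent `B`-module which is flat over `A` base changes to a pseudo-coherent `C`-module.
* `isPseudoCoherentModule'_of_flat_fp`: a finitely presented module over a polynomial ring
  `κ[x_1, …, x_n]` which is flat over `κ` is pseudo-coherent (Noetherian descent of flatness,
  helper14 `FlatStage.exists_fg_flat`).
* `isPseudoCoherentModule'_of_flat_fp_algebra`: same over any flat finitely presented `κ`-algebra.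
-/

set_option autoImplicit false
set_option linter.style.haveILetI false
universe u
open CategoryTheory CategoryTheory.Limits DerivedCategory TensorProduct

attribute [local instance] HasDerivedCategory.standard
attribute [local instance] MvPolynomial.algebraMvPolynomial

namespace Groth.Agent.Lib.Helper25.PCFlatFP

open Groth.Agent.Lib.Helper18.DR Groth.Agent.Lib.Helper14

section res

variable {R : Type u} [CommRing R]

theorem exists_finite_free_resolution_le (K : Dual.D R) (b : ℤ) [K.IsLE b]
    (hK : DRing.IsPseudoCoherent' R K) :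
    ∃ E : DRing.Cx R, DRing.VanishesAbove E b ∧ DRing.TermwiseFiniteFree E ∧
      Nonempty (DRing.toD E ≅ K) := by
  obtain ⟨K₁, _, ⟨e⟩⟩ := DerivedCategory.exists_iso_Q_obj_of_isLE K b
  exact ⟨resE K₁ b, vanishesAbove_resE K₁ b,
    fun i => ⟨finite_resE K₁ b
      (fun m => isPseudoCoherent_of_iso e (isPseudoCoherent_of_isPseudoCoherent' hK m)) i,
      free_resE K₁ b i⟩,
    ⟨asIso (DerivedCategory.Q.map (resα K₁ b)) ≪≫ e.symm⟩⟩

/-- `H^0` of a complex vanishing above `0` is the cokernel of `d^{-1}` -/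
noncomputable def h0IsoCok (P : DRing.Cx R) (hP : DRing.VanishesAbove P 0) :
    (H R 0).obj (DRing.toD P) ≅ ModuleCat.of R (cok P (-1) 0) :=
  have hd : P.d 0 1 = 0 := (hP 1 (by norm_num)).eq_of_tgt _ _
  (DerivedCategory.homologyFunctorFactors (ModuleCat.{u} R) 0).app P ≪≫
    P.isoHomologyι 0 1 (by simp) hd ≪≫ opcyclesIsoCok P (-1) 0 (by norm_num)

lemma isPseudoCoherentModule'_of_linearEquiv {M M' : Type u} [AddCommGroup M] [Module R M]
    [AddCommGroup M'] [Module R M'] (e : M ≃ₗ[R] M') (h : DRing.IsPseudoCoherentModule' R M) :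
    DRing.IsPseudoCoherentModule' R M' :=
  isPseudoCoherent'_of_iso ((singleFunctor (ModuleCat.{u} R) 0).mapIso e.toModuleIso) h

end res

section BC

/-- base change of a pseudo-coherent module which is flat over the base, along a pushout square
`C = κ ⊗_A B` with `B` flat over `A` -/
theorem isPseudoCoherentModule'_baseChange
    {A B κ C : Type u} [CommRing A] [CommRing B] [CommRing κ] [CommRing C]
    [Algebra A B] [Algebra A κ] [Algebra A C] [Algebra κ C] [Algebra B C]
    [IsScalarTower A κ C] [IsScalarTower A B C] [Algebra.IsPushout A κ B C] [Module.Flat A B]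
    (N : Type u) [AddCommGroup N] [Module B N] [Module A N] [IsScalarTower A B N]
    [Module.Flat A N] (hN : DRing.IsPseudoCoherentModule' B N) :
    DRing.IsPseudoCoherentModule' C (C ⊗[B] N) := by
  haveI : (Dual.inD B N).IsLE 0 := inferInstance
  obtain ⟨E, hE0, hEff, ⟨e⟩⟩ := exists_finite_free_resolution_le (Dual.inD B N) 0 hN
  have hEflat : DRing.TermwiseFlat E := fun i => by
    haveI := (hEff i).2
    infer_instance
  -- tor amplitude over `A`
  let eN : N ≃ₗ[A] resM (algebraMap A B) (ModuleCat.of B N) :=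
    { toFun := fun x => x
      invFun := fun x => x
      map_add' := fun _ _ => rfl
      map_smul' := fun a x => (algebraMap_smul B a x).symm.trans rfl
      left_inv := fun _ => rfl
      right_inv := fun _ => rfl }
  have hTA0 : DRing.HasTorAmplitudeIn A 0 0 (Dual.inD A N) := by
    have h := (hasTorDimLE_iff_hasTorAmplitudeIn_single A N 0).1.mp
      ((hasTorDimLE_iff_hasTorAmplitudeIn_single A N 0).2.mpr inferInstance)
    simpa using h
  have hTA : DRing.HasTorAmplitudeIn A 0 0
      ((DRing.restrictD (algebraMap A B)).obj (DRing.toD E)) :=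
    hasTorAmplitudeIn_of_iso
      ((singleFunctor (ModuleCat.{u} A) 0).mapIso eN.toModuleIso ≪≫
        (restrictDSgIso (algebraMap A B) 0 (ModuleCat.of B N)).symm ≪≫
        (DRing.restrictD (algebraMap A B)).mapIso e.symm) hTA0
  let G : DRing.Cx C :=
    ((extM (A := B) (B := C)).mapHomologicalComplex (ComplexShape.up ℤ)).obj E
  have hG0 : DRing.VanishesAbove G 0 := vanishesAbove_mapHC extM E 0 hE0
  have hGff : DRing.TermwiseFiniteFree G := fun i => by
    haveI := (hEff i).1
    haveI := (hEff i).2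
    exact ⟨finite_extM (B := C) (E.X i), free_extM (B := C) (E.X i)⟩
  have hGex : ∀ j : ℤ, j ≠ 0 → IsZero ((H C j).obj (DRing.toD G)) := by
    intro j hj
    rw [isZero_H_toD_iff G (j - 1) j (j + 1) (by omega) rfl]
    change Function.Exact ((extM (A := B) (B := C)).map (E.d (j - 1) j)).hom
      ((extM (A := B) (B := C)).map (E.d j (j + 1))).hom
    rw [(tensorLike_extM (A := B) (B := C)).exact_iff]
    exact lTensor_exact_of_pushout (A := A) (κ := κ) (C := C) (E.d (j - 1) j) (E.d j (j + 1))
      (exact_lTensor_restrict_of_hasTorAmplitudeIn E 0 hE0 hEflat 0 0 hTA κ (j - 1) j (j + 1)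
        (by omega) rfl (by omega))
  haveI : (DRing.toD G).IsLE 0 := by
    rw [DerivedCategory.isLE_iff]
    intro i hi
    exact hGex i (by omega)
  haveI : (DRing.toD G).IsGE 0 := by
    rw [DerivedCategory.isGE_iff]
    intro i hi
    exact hGex i (by omega)
  obtain ⟨X, ⟨eX⟩⟩ :=
    DerivedCategory.exists_iso_singleFunctor_obj_of_isGE_of_isLE (DRing.toD G) 0
  -- identify `X`
  let i1 : X ≅ (H C 0).obj (DRing.toD G) := (HSg 0 X).symm ≪≫ (H C 0).mapIso eX.symm
  let i2 : (H C 0).obj (DRing.toD G) ≅ ModuleCat.of C (cok G (-1) 0) := h0IsoCok G hG0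
  let l3 : cok G (-1) 0 ≃ₗ[C] C ⊗[B] cok E (-1) 0 := cokExtMEquiv (B := C) E (-1) 0
  let i4 : ModuleCat.of B (cok E (-1) 0) ≅ ModuleCat.of B N :=
    (h0IsoCok E hE0).symm ≪≫ (H B 0).mapIso e ≪≫ HSg 0 (ModuleCat.of B N)
  let l5 : C ⊗[B] cok E (-1) 0 ≃ₗ[C] C ⊗[B] N :=
    TensorProduct.AlgebraTensorModule.congr (LinearEquiv.refl C C) i4.toLinearEquiv
  let iX : X ≅ ModuleCat.of C (C ⊗[B] N) := i1 ≪≫ i2 ≪≫ (l3.trans l5).toModuleIso
  exact ⟨G, 0, hG0, hGff, ⟨eX ≪≫ (singleFunctor (ModuleCat.{u} C) 0).mapIso iX⟩⟩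

end BC

section poly

/-- a finitely presented module over a polynomial ring `κ[x_1, …, x_n]` which is flat over `κ`
is pseudo-coherent -/
theorem isPseudoCoherentModule'_of_flat_fp (κ : Type u) [CommRing κ] (n : ℕ)
    (M : Type u) [AddCommGroup M] [Module (MvPolynomial (Fin n) κ) M] [Module κ M]
    [IsScalarTower κ (MvPolynomial (Fin n) κ) M]
    [Module.FinitePresentation (MvPolynomial (Fin n) κ) M] [Module.Flat κ M] :
    DRing.IsPseudoCoherentModule' (MvPolynomial (Fin n) κ) M := by
  classical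
  obtain ⟨b, K, eK, hK⟩ := Module.FinitePresentation.exists_fin (MvPolynomial (Fin n) κ) M
  obtain ⟨e, ℓ, hℓ⟩ := Submodule.fg_iff_exists_fin_generating_family.1 hK
  subst hℓ
  obtain ⟨R₀, hR₀, L, hL⟩ := FlatStage.exists_coeff_ring κ ℓ
  have hKm : Submodule.span (MvPolynomial (Fin n) κ) (Set.range ℓ) = FlatStage.Km L κ := by
    unfold FlatStage.Km
    congr 2
    funext j
    exact (hL j).symm
  let eM : M ≃ₗ[MvPolynomial (Fin n) κ] FlatStage.Mm L κ :=
    eK ≪≫ₗ Submodule.quotEquivOfEq _ _ hKm
  haveI : Module.Flat κ (FlatStage.Mm L κ) :=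
    Module.Flat.of_linearEquiv (eM.restrictScalars κ).symm
  haveI : Algebra.FiniteType ℤ R₀ := (Subalgebra.fg_iff_finiteType R₀).1 hR₀
  haveI : IsNoetherianRing R₀ := Algebra.FiniteType.isNoetherianRing ℤ R₀
  obtain ⟨C₀, hC₀, hfl⟩ := FlatStage.exists_fg_flat L κ inferInstance
  haveI := hfl
  haveI : Algebra.FiniteType R₀ C₀ := (Subalgebra.fg_iff_finiteType C₀).1 hC₀
  haveI : IsNoetherianRing C₀ := Algebra.FiniteType.isNoetherianRing R₀ C₀
  have hN : DRing.IsPseudoCoherentModule' (MvPolynomial (Fin n) C₀) (FlatStage.Mm L C₀) :=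
    isPseudoCoherentModule'_of_finite_noetherian _
  have h1 := isPseudoCoherentModule'_baseChange (A := C₀) (κ := κ)
    (B := MvPolynomial (Fin n) C₀) (C := MvPolynomial (Fin n) κ) (FlatStage.Mm L C₀) hN
  exact isPseudoCoherentModule'_of_linearEquiv
    ((FlatStage.isBaseChange_mapM_poly L C₀ κ).equiv ≪≫ₗ eM.symm) h1

end poly

end Groth.Agent.Lib.Helper25.PCFlatFP
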