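import Mathlib
import Groth.Agent.Lib.Helper25.PCFlatFP

/-!
# Pseudo-coherence of finitely presented modules over flat finitely presented algebras (helper25)

`isPseudoCoherentModule'_of_flat_fp_algebra`: for a flat finitely presented `R`-algebra `B`, a
finitely presented `B`-module which is flat over `R` is a pseudo-coherent `B`-module.
-/

set_option autoImplicit false
set_option linter.style.haveILetI false
universe u
open CategoryTheory CategoryTheory.Limits DerivedCategory TensorProduct

attribute [local instance] HasDerivedCategory.standard

namespace Groth.Agent.Lib.Helper25.PCFlatFP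

open Groth.Agent.Lib.Helper18.DR

theorem isPseudoCoherentModule'_of_flat_fp_algebra (R B : Type u) [CommRing R] [CommRing B]
    [Algebra R B] [Module.Flat R B] [Algebra.FinitePresentation R B]
    (M : Type u) [AddCommGroup M] [Module B M] [Module R M] [IsScalarTower R B M]
    [Module.FinitePresentation B M] [Module.Flat R M] :
    DRing.IsPseudoCoherentModule' B M := by
  obtain ⟨n, φ, hφ, hker⟩ := Algebra.FinitePresentation.out (R := R) (A := B)
  letI : Algebra (MvPolynomial (Fin n) R) B := φ.toRingHom.toAlgebra
  haveI : IsScalarTower R (MvPolynomial (Fin n) R) B :=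
    IsScalarTower.of_algebraMap_eq (fun a => (φ.commutes a).symm)
  haveI : Module.FinitePresentation (MvPolynomial (Fin n) R) B := by
    refine Module.finitePresentation_of_surjective
      (Algebra.linearMap (MvPolynomial (Fin n) R) B) hφ ?_
    exact hker
  have hB : DRing.IsPseudoCoherentModule' (MvPolynomial (Fin n) R) B :=
    isPseudoCoherentModule'_of_flat_fp R n B
  letI : Module (MvPolynomial (Fin n) R) M := Module.compHom M φ.toRingHom
  haveI : IsScalarTower (MvPolynomial (Fin n) R) B M :=
    ⟨fun p c m => by
      show (φ p * c) • m = φ p • (c • m)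
      exact mul_smul _ _ _⟩
  haveI : IsScalarTower R (MvPolynomial (Fin n) R) M :=
    ⟨fun a p m => by
      show φ (a • p) • m = a • (φ p • m)
      rw [map_smul, smul_assoc]⟩
  haveI : Module.FinitePresentation (MvPolynomial (Fin n) R) M :=
    Module.FinitePresentation.trans (MvPolynomial (Fin n) R) M B
  have hM : DRing.IsPseudoCoherentModule' (MvPolynomial (Fin n) R) M :=
    isPseudoCoherentModule'_of_flat_fp R n M
  have key := (isPseudoCoherent_restrictD_iff_of_algebra hB (Dual.inD B M) 0).2
  change DRing.IsPseudoCoherent' B (Dual.inD B M)
  refine key.mpr ?_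
  let eM : M ≃ₗ[MvPolynomial (Fin n) R]
      resM (algebraMap (MvPolynomial (Fin n) R) B) (ModuleCat.of B M) :=
    { toFun := fun x => x
      invFun := fun x => x
      map_add' := fun _ _ => rfl
      map_smul' := fun _ _ => rfl
      left_inv := fun _ => rfl
      right_inv := fun _ => rfl }
  exact isPseudoCoherent'_of_iso
    ((singleFunctor (ModuleCat.{u} (MvPolynomial (Fin n) R)) 0).mapIso eM.toModuleIso ≪≫
      (restrictDSgIso (algebraMap (MvPolynomial (Fin n) R) B) 0 (ModuleCat.of B M)).symm) hM

end Groth.Agent.Lib.Helper25.PCFlatFP
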