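import Mathlib
import Groth.Agent.Lib.Helper25.PCFlatFP2
import Groth.Agent.Lib.Helper18.DRTorZ
import Groth.Agent.Lib.Helper18.DRGlDim

/-!
# Projective dimension equals tor dimension for finitely presented modules flat over the base
(helper25)

For a flat finitely presented `R`-algebra `B` and a finitely presented `B`-module `M` which is
flat over `R`: `HasTorDimLE B d M ↔ HasProjectiveDimensionLT (ModuleCat.of B M) (d + 1)`.
-/

set_option autoImplicit false
set_option linter.style.haveILetI false
universe u
open CategoryTheory CategoryTheory.Limits DerivedCategory TensorProduct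

attribute [local instance] HasDerivedCategory.standard

namespace Groth.Agent.Lib.Helper25.PCFlatFP

open Groth.Agent.Lib.Helper18.DR

section shift

variable {R : Type u} [CommRing R]

/-- dimension shifting for projective dimension along an exact spot of a complex -/
lemma pd_cok_shift (G : DRing.Cx R) (i j k : ℤ)
    (hex : Function.Exact (G.d i j).hom (G.d j k).hom) [Module.Projective R (G.X k)] (m : ℕ)
    (h : HasProjectiveDimensionLT (ModuleCat.of R (cok G i j)) (m + 1)) :
    HasProjectiveDimensionLT (ModuleCat.of R (cok G j k)) (m + 2) := by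
  let S : ShortComplex (ModuleCat.{u} R) :=
    ModuleCat.shortComplexOfCompEqZero (cokToNext G i j k) (LinearMap.range (G.d j k).hom).mkQ
      (by
        apply LinearMap.ext
        intro x
        exact ((cokToNext_exact (G := G) (i := i) (j := j) (k := k)) _).mpr ⟨x, rfl⟩)
  have hS : S.ShortExact := ModuleCat.shortComplex_shortExact S
    (cokToNext_exact (G := G) (i := i) (j := j) (k := k)) (cokToNext_injective hex)
    (Submodule.mkQ_surjective _)
  haveI : Projective S.X₂ := by
    change Projective (ModuleCat.of R (G.X k))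
    rw [← IsProjective.iff_projective]
    infer_instance
  exact hS.hasProjectiveDimensionLT_X₃ (m + 1) h
    (hasProjectiveDimensionLT_of_ge _ 1 (m + 1 + 1) (by omega))

lemma pd_cok_iter (E : DRing.Cx R) (hproj : ∀ i, Module.Projective R (E.X i))
    (hex : ∀ i j k : ℤ, i + 1 = j → j + 1 = k → j < 0 →
      Function.Exact (E.d i j).hom (E.d j k).hom) :
    ∀ (t : ℕ) (j : ℤ), j + t ≤ 0 →
      HasProjectiveDimensionLT (ModuleCat.of R (cok E (j - 1) j)) 1 →
      ∀ k : ℤ, k = j + t →
        HasProjectiveDimensionLT (ModuleCat.of R (cok E (k - 1) k)) (t + 1) := by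
  intro t
  induction t with
  | zero =>
    intro j _ hbase k hk
    obtain rfl : k = j := by simpa using hk
    exact hbase
  | succ t ih =>
    intro j hj hbase k hk
    have h1 := ih j (by push_cast at hj; omega) hbase (k - 1) (by push_cast at hk; omega)
    haveI := hproj k
    exact pd_cok_shift E (k - 1 - 1) (k - 1) k
      (hex (k - 1 - 1) (k - 1) k (by omega) (by omega) (by push_cast at hj hk; omega)) t h1

end shift

/-- for a flat finitely presented `R`-algebra `B` and a finitely presented `B`-module `M` flat
over `R`, tor dimension `≤ d` over `B` implies projective dimension `≤ d` over `B` -/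
theorem hasProjectiveDimensionLT_of_hasTorDimLE (R B : Type u) [CommRing R] [CommRing B]
    [Algebra R B] [Module.Flat R B] [Algebra.FinitePresentation R B]
    (M : Type u) [AddCommGroup M] [Module B M] [Module R M] [IsScalarTower R B M]
    [Module.FinitePresentation B M] [Module.Flat R M] (d : ℕ) (h : DRing.HasTorDimLE B d M) :
    HasProjectiveDimensionLT (ModuleCat.of B M) (d + 1) := by
  have hpc : DRing.IsPseudoCoherentModule' B M :=
    isPseudoCoherentModule'_of_flat_fp_algebra R B M
  haveI : (Dual.inD B M).IsLE 0 := inferInstance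
  obtain ⟨E, hE0, hEff, ⟨e⟩⟩ := exists_finite_free_resolution_le (Dual.inD B M) 0 hpc
  have hEflat : DRing.TermwiseFlat E := fun i => by
    haveI := (hEff i).2
    infer_instance
  have hEproj : ∀ i, Module.Projective B (E.X i) := fun i => by
    haveI := (hEff i).2
    infer_instance
  have hex : ∀ i j k : ℤ, i + 1 = j → j + 1 = k → j < 0 →
      Function.Exact (E.d i j).hom (E.d j k).hom := by
    intro i j k hij hjk hj
    rw [← isZero_H_toD_iff E i j k hij hjk]
    exact (isZero_of_isGE (Sg 0 (ModuleCat.of B M)) 0 j hj).of_iso ((H B j).mapIso e)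
  let eM : ModuleCat.of B (cok E (-1) 0) ≅ ModuleCat.of B M :=
    (h0IsoCok E hE0).symm ≪≫ (H B 0).mapIso e ≪≫ HSg 0 (ModuleCat.of B M)
  have hTA : DRing.HasTorAmplitudeIn B (-(d : ℤ)) 0 (DRing.toD E) :=
    hasTorAmplitudeIn_of_iso e.symm ((hasTorDimLE_iff_hasTorAmplitudeIn_single B M d).1.mp h)
  haveI hfl : Module.Flat B (cok E (-(d : ℤ) - 1) (-(d : ℤ))) :=
    flat_cok_of_flat_of_hasTorAmplitudeIn E 0 hE0 hEflat (-(d : ℤ)) 0 hTA
  haveI : Module.FinitePresentation B (cok E (-(d : ℤ) - 1) (-(d : ℤ))) := by
    haveI := (hEff (-(d : ℤ))).1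
    haveI := (hEff (-(d : ℤ))).2
    haveI := (hEff (-(d : ℤ) - 1)).1
    refine Module.finitePresentation_of_free_of_surjective
      (LinearMap.range (E.d (-(d : ℤ) - 1) (-(d : ℤ))).hom).mkQ (Submodule.mkQ_surjective _) ?_
    rw [Submodule.ker_mkQ, ← Module.Finite.iff_fg]
    exact Module.Finite.range _
  haveI : Module.Projective B (cok E (-(d : ℤ) - 1) (-(d : ℤ))) :=
    Module.Flat.projective_of_finitePresentation
  have hbase : HasProjectiveDimensionLT (ModuleCat.of B (cok E (-(d : ℤ) - 1) (-(d : ℤ)))) 1 := by
    haveI : Projective (ModuleCat.of B (cok E (-(d : ℤ) - 1) (-(d : ℤ)))) := by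
      rw [← IsProjective.iff_projective]
      infer_instance
    infer_instance
  have h1 := pd_cok_iter E hEproj hex d (-(d : ℤ)) (by omega) hbase 0 (by omega)
  have h2 : HasProjectiveDimensionLT (ModuleCat.of B (cok E (-1) 0)) (d + 1) := by
    simpa using h1
  exact hasProjectiveDimensionLT_of_iso eM (d + 1)

end Groth.Agent.Lib.Helper25.PCFlatFP
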