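import Mathlib

/-!
# Points of the projective plane and forms vanishing on them (helper25)

* `finrank_homog`: the space of ternary forms of degree `d` has dimension `C(d+2, 2)`.
* `linForm f`: the linear form (as a polynomial) of a linear functional on `k^3`.
* `exists_sep_form`: a linear form vanishing at `w` but not at `v` when `v, w` are independent.
* `exists_sep_prod`: a form of degree `#T` vanishing on `T` but not at `v`.
-/

set_option autoImplicit false

namespace Groth.Agent.Helper25.PointsP2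

open MvPolynomial

variable {k : Type*} [Field k]

theorem finrank_homog_fin (r d : ℕ) :
    Module.finrank k (homogeneousSubmodule (Fin (r + 1)) k d) = Nat.choose (d + r) r := by
  classical
  rw [homogeneousSubmodule_eq_finsupp_supported]
  have e := AddMonoidAlgebra.supportedEquivFinsupp (R := k) (S := k)
    {m : Fin (r + 1) →₀ ℕ | m.degree = d}
  rw [LinearEquiv.finrank_eq e]
  let eqv : ↥{m : Fin (r + 1) →₀ ℕ | m.degree = d} ≃
      ↥((Finset.univ : Finset (Fin (r + 1))).finsuppAntidiag d) :=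
    { toFun := fun m => ⟨m.1, by
        rw [Finset.mem_finsuppAntidiag]
        refine ⟨?_, Finset.subset_univ _⟩
        have := m.2
        rw [Set.mem_setOf_eq, Finsupp.degree_eq_sum] at this
        exact this⟩
      invFun := fun m => ⟨m.1, by
        have := (Finset.mem_finsuppAntidiag.1 m.2).1
        rw [Set.mem_setOf_eq, Finsupp.degree_eq_sum]
        exact this⟩
      left_inv := fun m => rfl
      right_inv := fun m => rfl }
  haveI : Fintype ↥{m : Fin (r + 1) →₀ ℕ | m.degree = d} := Fintype.ofEquiv _ eqv.symm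
  rw [Module.finrank_finsupp_self, Fintype.card_congr eqv, Fintype.card_coe,
    Finset.card_finsuppAntidiag_nat_eq_choose, Finset.card_univ, Fintype.card_fin]
  have h1 : r + 1 + d - 1 = d + r := by omega
  rw [h1, Nat.choose_symm_add]

theorem finrank_homog (d : ℕ) :
    Module.finrank k (homogeneousSubmodule (Fin 3) k d) = Nat.choose (d + 2) 2 :=
  finrank_homog_fin 2 d

/-- The polynomial of a linear functional on `k^3`. -/
noncomputable def linForm (f : (Fin 3 → k) →ₗ[k] k) : MvPolynomial (Fin 3) k :=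
  ∑ i : Fin 3, C (f (fun j => if i = j then 1 else 0)) * X i

theorem linForm_isHomogeneous (f : (Fin 3 → k) →ₗ[k] k) : (linForm f).IsHomogeneous 1 := by
  unfold linForm
  apply IsHomogeneous.sum
  intro i _
  have := (isHomogeneous_C (Fin 3) (f (fun j => if i = j then 1 else 0))).mul
    (isHomogeneous_X k i)
  simpa using this

theorem eval_linForm (f : (Fin 3 → k) →ₗ[k] k) (u : Fin 3 → k) :
    eval u (linForm f) = f u := by
  unfold linForm
  rw [map_sum, LinearMap.pi_apply_eq_sum_univ f u]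
  apply Finset.sum_congr rfl
  intro i _
  rw [map_mul, eval_C, eval_X, smul_eq_mul, mul_comm]

theorem exists_sep_form (v w : Fin 3 → k) (h : LinearIndependent k ![v, w]) :
    ∃ ℓ : MvPolynomial (Fin 3) k, ℓ.IsHomogeneous 1 ∧ eval w ℓ = 0 ∧ eval v ℓ ≠ 0 := by
  have hv : v ∉ (k ∙ w) := by
    intro hmem
    obtain ⟨c, hc⟩ := Submodule.mem_span_singleton.1 hmem
    have := LinearIndependent.pair_iff.1 h 1 (-c)
      (by rw [one_smul, neg_smul, hc, add_neg_cancel])
    exact one_ne_zero this.1
  obtain ⟨f, hfv, hfw⟩ := Submodule.exists_dual_map_eq_bot_of_notMem hv inferInstance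
  refine ⟨linForm f, linForm_isHomogeneous f, ?_, ?_⟩
  · rw [eval_linForm]
    exact (Submodule.eq_bot_iff _).1 hfw (f w)
      (Submodule.mem_map_of_mem (Submodule.mem_span_singleton_self w))
  · rw [eval_linForm]
    exact hfv

theorem exists_sep_prod (T : Finset (Fin 3 → k)) (v : Fin 3 → k)
    (h : ∀ w ∈ T, LinearIndependent k ![v, w]) :
    ∃ F : MvPolynomial (Fin 3) k, F.IsHomogeneous T.card ∧ eval v F ≠ 0 ∧
      ∀ w ∈ T, eval w F = 0 := by
  classical
  induction T using Finset.induction_on with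
  | empty =>
    refine ⟨1, ?_, ?_, ?_⟩
    · simpa using isHomogeneous_one (Fin 3) k
    · simp
    · intro w hw; simp at hw
  | insert a T ha ih =>
    obtain ⟨F, hF, hFv, hFT⟩ := ih (fun w hw => h w (Finset.mem_insert_of_mem hw))
    obtain ⟨ℓ, hℓ, hℓa, hℓv⟩ := exists_sep_form v a (h a (Finset.mem_insert_self a T))
    refine ⟨ℓ * F, ?_, ?_, ?_⟩
    · rw [Finset.card_insert_of_notMem ha, add_comm]
      exact hℓ.mul hF
    · rw [map_mul]
      exact mul_ne_zero hℓv hFv
    · intro w hw
      rw [map_mul]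
      rcases Finset.mem_insert.1 hw with rfl | hw
      · rw [hℓa, zero_mul]
      · rw [hFT w hw, mul_zero]

theorem linearIndependent_of_not_proportional (v w : Fin 3 → k) (hw : w ≠ 0)
    (h : ∀ c : k, v ≠ c • w) : LinearIndependent k ![v, w] := by
  rw [LinearIndependent.pair_iff]
  intro s t hst
  have hs : s = 0 := by
    by_contra hs
    apply h (-(s⁻¹ * t))
    have h1 : s • v = -(t • w) := eq_neg_of_add_eq_zero_left hst
    calc v = s⁻¹ • (s • v) := by rw [smul_smul, inv_mul_cancel₀ hs, one_smul]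
      _ = s⁻¹ • (-(t • w)) := by rw [h1]
      _ = (-(s⁻¹ * t)) • w := by rw [smul_neg, smul_smul, neg_smul]
  refine ⟨hs, ?_⟩
  rw [hs, zero_smul, zero_add] at hst
  exact (smul_eq_zero.1 hst).resolve_right hw

theorem span_pair_lt_top (x y : Fin 3 → k) : Submodule.span k ({x, y} : Set (Fin 3 → k)) < ⊤ := by
  classical
  rw [lt_top_iff_ne_top]
  intro htop
  have h1 : Module.finrank k (Submodule.span k ((({x, y} : Finset (Fin 3 → k)) : Set (Fin 3 → k)))) ≤
      ({x, y} : Finset (Fin 3 → k)).card :=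
    finrank_span_finset_le_card (R := k) ({x, y} : Finset (Fin 3 → k))
  rw [Finset.coe_insert, Finset.coe_singleton, htop, finrank_top, Module.finrank_fin_fun] at h1
  have h2 : ({x, y} : Finset (Fin 3 → k)).card ≤ 2 := Finset.card_le_two
  omega

/-- If `v` is not proportional to any of the `n` points of the non-collinear set `Λ'`, some form of
degree `n - 1` vanishes on `Λ'` but not at `v`. -/
theorem exists_form_of_not_proportional (Λ' : Finset (Fin 3 → k)) (n : ℕ) (hn : 3 ≤ n)
    (hcard' : Λ'.card = n) (h0' : ∀ v ∈ Λ', v ≠ 0)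
    (hline' : ¬ ∃ ℓ : (Fin 3 → k) →ₗ[k] k, ℓ ≠ 0 ∧ ∀ v ∈ Λ', ℓ v = 0)
    (v : Fin 3 → k) (hv : ∀ w ∈ Λ', ∀ c : k, v ≠ c • w) :
    ∃ F : MvPolynomial (Fin 3) k, F.IsHomogeneous (n - 1) ∧ (∀ w ∈ Λ', eval w F = 0) ∧
      eval v F ≠ 0 := by
  classical
  -- a pair of distinct points whose span misses v
  have hpair : ∃ x ∈ Λ', ∃ y ∈ Λ', x ≠ y ∧ v ∉ Submodule.span k ({x, y} : Set (Fin 3 → k)) := by
    obtain ⟨w1, hw1, w2, hw2, h12⟩ := Finset.one_lt_card.1 (by omega : 1 < Λ'.card)
    by_cases hv12 : v ∈ Submodule.span k ({w1, w2} : Set (Fin 3 → k))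
    · obtain ⟨ℓ, hℓ0, hℓ⟩ := Submodule.exists_dual_map_eq_bot_of_lt_top (span_pair_lt_top w1 w2)
        inferInstance
      have hℓz : ∀ z ∈ Submodule.span k ({w1, w2} : Set (Fin 3 → k)), ℓ z = 0 := fun z hz =>
        (Submodule.eq_bot_iff _).1 hℓ (ℓ z) (Submodule.mem_map_of_mem hz)
      push Not at hline'
      obtain ⟨w3, hw3, hℓ3⟩ := hline' ℓ hℓ0
      have h13 : w1 ≠ w3 := by
        rintro rfl
        exact hℓ3 (hℓz _ (Submodule.subset_span (by simp)))
      refine ⟨w1, hw1, w3, hw3, h13, ?_⟩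
      intro hv13
      obtain ⟨a, b, hab⟩ := Submodule.mem_span_pair.1 hv13
      have h1 : ℓ v = 0 := hℓz v hv12
      have h2 : ℓ w1 = 0 := hℓz _ (Submodule.subset_span (by simp))
      rw [← hab, map_add, map_smul, map_smul, h2, smul_zero, zero_add, smul_eq_mul] at h1
      have hb : b = 0 := (mul_eq_zero.1 h1).resolve_right hℓ3
      rw [hb, zero_smul, add_zero] at hab
      exact hv w1 hw1 a hab.symm
    · exact ⟨w1, hw1, w2, hw2, h12, hv12⟩
  obtain ⟨x, hx, y, hy, hxy, hvxy⟩ := hpair
  obtain ⟨f, hfv, hf⟩ := Submodule.exists_dual_map_eq_bot_of_notMem hvxy inferInstance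
  have hfz : ∀ z ∈ Submodule.span k ({x, y} : Set (Fin 3 → k)), f z = 0 := fun z hz =>
    (Submodule.eq_bot_iff _).1 hf (f z) (Submodule.mem_map_of_mem hz)
  obtain ⟨F0, hF0h, hF0v, hF0z⟩ := exists_sep_prod ((Λ'.erase x).erase y) v (fun w hw => by
    have hw' : w ∈ Λ' := Finset.mem_of_mem_erase (Finset.mem_of_mem_erase hw)
    exact linearIndependent_of_not_proportional v w (h0' w hw') (hv w hw'))
  have hc : ((Λ'.erase x).erase y).card = n - 2 := by
    rw [Finset.card_erase_of_mem (Finset.mem_erase.2 ⟨hxy.symm, hy⟩),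
      Finset.card_erase_of_mem hx, hcard']
    omega
  refine ⟨linForm f * F0, ?_, ?_, ?_⟩
  · have := (linForm_isHomogeneous f).mul hF0h
    rw [hc] at this
    have h3 : 1 + (n - 2) = n - 1 := by omega
    rwa [h3] at this
  · intro w hw
    rw [map_mul, eval_linForm]
    by_cases hwx : w = x
    · rw [hwx, hfz x (Submodule.subset_span (by simp)), zero_mul]
    · by_cases hwy : w = y
      · rw [hwy, hfz y (Submodule.subset_span (by simp)), zero_mul]
      · rw [hF0z w (Finset.mem_erase.2 ⟨hwy, Finset.mem_erase.2 ⟨hwx, hw⟩⟩), mul_zero]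
  · rw [map_mul, eval_linForm]
    exact mul_ne_zero hfv hF0v

end Groth.Agent.Helper25.PointsP2
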