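import Mathlib
import Groth.Agent.Lib.Helper21.CohenStructE
import Groth.Agent.Lib.Helper21.JacAdicB
import Groth.Agent.Lib.Helper21.SepSmoothE

/-!
# Regular ⟺ formally smooth for local rings essentially of finite type over a field
with separable residue field (helper25)
-/

set_option autoImplicit false
set_option linter.style.haveILetI false

namespace Groth.Agent.Lib.Helper25.RegSepSmooth

open IsLocalRing

universe u

/-- regular ⟺ formally smooth for ess. f.t. local `K`-algebras whose residue field is formally
smooth over `K`. -/
theorem isRegularLocalRing_iff_formallySmooth (K B : Type u) [Field K] [CommRing B] [Algebra K B]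
    [IsLocalRing B] [Algebra.EssFiniteType K B] [Algebra.FormallySmooth K (ResidueField B)] :
    IsRegularLocalRing B ↔ Algebra.FormallySmooth K B := by
  haveI : IsNoetherianRing B := Algebra.EssFiniteType.isNoetherianRing K B
  haveI : Algebra.FiniteType B (ResidueField B) :=
    Algebra.FiniteType.of_surjective (Algebra.ofId B (ResidueField B))
      IsLocalRing.residue_surjective
  haveI : Algebra.EssFiniteType K (ResidueField B) :=
    Algebra.EssFiniteType.comp K B (ResidueField B)
  haveI : Algebra.IsGeometricallyReduced K (ResidueField B) :=
    Groth.Agent.Lib.Helper21.SepSmooth.formallySmooth_iff_geomReduced.mp inferInstance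
  constructor
  · intro hreg
    have hadic : CAlgX.IsAdicFormallySmooth K B (maximalIdeal B) :=
      ((Groth.Agent.Lib.Helper21.CohenStruct.S2453_aux K B).out 3 0).mp hreg
    exact Groth.Agent.Lib.Helper21.JacAdic.formallySmooth_of_isAdicFormallySmooth_of_essFiniteType
      hadic
  · intro hsm
    haveI := hsm
    exact ((Groth.Agent.Lib.Helper21.CohenStruct.S2453_aux K B).out 0 3).mp
      (Groth.Agent.Lib.Helper21.CohenStruct.isAdicFormallySmooth_of_formallySmooth
        (maximalIdeal B))

/-- variant: the residue field is separable over a subfield `k` mapping to `K`. -/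
theorem isRegularLocalRing_iff_formallySmooth_of_isSeparable (k K B : Type u) [Field k] [Field K]
    [CommRing B] [Algebra K B] [IsLocalRing B] [Algebra.EssFiniteType K B] [algkK : Algebra k K]
    [algkκ : Algebra k (ResidueField B)] [tower : IsScalarTower k K (ResidueField B)]
    [sep : Algebra.IsSeparable k (ResidueField B)] :
    IsRegularLocalRing B ↔ Algebra.FormallySmooth K B := by
  haveI : Algebra.IsSeparable K (ResidueField B) :=
    Algebra.isSeparable_tower_top_of_isSeparable k K (ResidueField B)
  haveI : Algebra.FormallyEtale K (ResidueField B) :=
    Algebra.FormallyEtale.of_isSeparable K (ResidueField B)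
  exact isRegularLocalRing_iff_formallySmooth K B

end Groth.Agent.Lib.Helper25.RegSepSmooth
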