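import Mathlib
import Groth.Agent.Lib.Helper25.RegSepSmooth
import Groth.Agent.Lib.Helper11.GrpdK
import Groth.Agent.Lib.Helper16.GeomRed
import Groth.Agent.Lib.Helper6.GrpSmoothAC

/-!
# A group scheme locally of finite type over a field which is regular at the unit is smooth
(helper25)
-/

set_option autoImplicit false
set_option linter.style.haveILetI false

universe u

open CategoryTheory CategoryTheory.Limits AlgebraicGeometry MonoidalCategory
  CartesianMonoidalCategory MonObj

namespace Groth.Agent.Lib.Helper25.GrpRegSmooth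

/-- A regular point in the image of a section of `X → Spec k` is a smooth point. -/
theorem mem_smoothLocus_of_section {k : Type u} [Field k] {X : Scheme.{u}}
    (f : X ⟶ Spec (CommRingCat.of k)) [LocallyOfFinitePresentation f]
    (s : Spec (CommRingCat.of k) ⟶ X) (hs : s ≫ f = 𝟙 _) (pt : Spec (CommRingCat.of k))
    (hreg : IsRegularLocalRing (X.presheaf.stalk (s pt))) : s pt ∈ f.smoothLocus := by
  have hz : f (s pt) = genericPoint (Spec (CommRingCat.of k)) := Subsingleton.elim _ _
  have hK : IsField ((Spec (CommRingCat.of k)).presheaf.stalk (f (s pt))) := by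
    rw [hz]
    exact Field.toIsField (Spec (CommRingCat.of k)).functionField
  letI : Field ((Spec (CommRingCat.of k)).presheaf.stalk (f (s pt))) := hK.toField
  letI alg : Algebra ((Spec (CommRingCat.of k)).presheaf.stalk (f (s pt)))
      (X.presheaf.stalk (s pt)) := (f.stalkMap (s pt)).hom.toAlgebra
  haveI : LocallyOfFiniteType f := inferInstance
  haveI : Algebra.EssFiniteType ((Spec (CommRingCat.of k)).presheaf.stalk (f (s pt)))
      (X.presheaf.stalk (s pt)) := LocallyOfFiniteType.stalkMap f (s pt)
  haveI : IsIso (s ≫ f) := by rw [hs]; infer_instance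
  have hbij : Function.Bijective ((s ≫ f).stalkMap pt).hom :=
    (ConcreteCategory.isIso_iff_bijective _).mp inferInstance
  rw [Scheme.Hom.stalkMap_comp] at hbij
  have hsurj : Function.Surjective
      (algebraMap ((Spec (CommRingCat.of k)).presheaf.stalk (f (s pt)))
        (IsLocalRing.ResidueField (X.presheaf.stalk (s pt)))) := by
    intro y
    obtain ⟨b, rfl⟩ := IsLocalRing.residue_surjective y
    have key : ∀ (c : ↑((Spec (CommRingCat.of k)).presheaf.stalk (f (s pt)))),
        (s.stalkMap pt).hom ((f.stalkMap (s pt)).hom c) = (s.stalkMap pt).hom b →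
        IsLocalRing.residue _ ((f.stalkMap (s pt)).hom c) = IsLocalRing.residue _ b := by
      intro c hc'
      rw [← sub_eq_zero, ← map_sub, IsLocalRing.residue_eq_zero_iff,
        IsLocalRing.mem_maximalIdeal, mem_nonunits_iff]
      intro hu
      have hu' := hu.map (s.stalkMap pt).hom
      rw [map_sub, hc', sub_self] at hu'
      exact not_isUnit_zero hu'
    obtain ⟨c, hc⟩ := hbij.2 ((s.stalkMap pt).hom b)
    exact ⟨c, key c hc⟩
  haveI : Algebra.IsSeparable ((Spec (CommRingCat.of k)).presheaf.stalk (f (s pt)))
      (IsLocalRing.ResidueField (X.presheaf.stalk (s pt))) :=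
    ⟨fun y => by obtain ⟨c, rfl⟩ := hsurj y; exact isSeparable_algebraMap c⟩
  haveI : Algebra.FormallyEtale ((Spec (CommRingCat.of k)).presheaf.stalk (f (s pt)))
      (IsLocalRing.ResidueField (X.presheaf.stalk (s pt))) :=
    Algebra.FormallyEtale.of_isSeparable _ _
  rw [Scheme.Hom.mem_smoothLocus]
  change Algebra.FormallySmooth ((Spec (CommRingCat.of k)).presheaf.stalk (f (s pt)))
    (X.presheaf.stalk (s pt))
  exact (Groth.Agent.Lib.Helper25.RegSepSmooth.isRegularLocalRing_iff_formallySmooth _ _).mp hreg

/-- The local ring at a smooth point of a scheme over a field is reduced. -/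
theorem isReduced_stalk_of_mem_smoothLocus {K : Type u} [Field K] {X : Scheme.{u}}
    (f : X ⟶ Spec (CommRingCat.of K)) [LocallyOfFinitePresentation f] (x : X)
    (hx : x ∈ f.smoothLocus) : _root_.IsReduced (X.presheaf.stalk x) := by
  haveI : Smooth (f.smoothLocus.ι ≫ f) := Groth.Agent.Lib.Helper11.GrpdK.smooth_smoothLocus_ι f
  have h0 : _root_.IsReduced ((Spec (CommRingCat.of K)).presheaf.stalk
      ((f.smoothLocus.ι ≫ f) ⟨x, hx⟩)) := inferInstance
  haveI h1 := Groth.Agent.Lib.Helper16.GeomRed.isReduced_stalk_of_smooth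
    (f.smoothLocus.ι ≫ f) ⟨x, hx⟩ h0
  have hbij : Function.Bijective (f.smoothLocus.ι.stalkMap ⟨x, hx⟩).hom :=
    (ConcreteCategory.isIso_iff_bijective _).mp inferInstance
  exact isReduced_of_injective (f.smoothLocus.ι.stalkMap ⟨x, hx⟩).hom hbij.1

/-- compatibility of the unit section with base change -/
theorem unit_left_fst {X Y Z : Scheme.{u}} (f : X ⟶ Z) (g : Y ⟶ Z) [GrpObj (Over.mk f)] :
    letI := Over.grpObjMkPullbackSnd (f := f) (g := g)
    (η[Over.mk (pullback.snd f g)]).left ≫ pullback.fst f g = g ≫ (η[Over.mk f]).left := by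
  rw [Over.grpObjMkPullbackSnd_one]
  simp
  rw [pullback.lift_fst, ← Category.assoc (pullback.snd _ _), ← pullback.condition,
    Category.comp_id]

theorem smooth_of_isRegularLocalRing_unit {k : Type u} [Field k] {X : Scheme.{u}}
    (f : X ⟶ Spec (CommRingCat.of k)) [LocallyOfFiniteType f] [GrpObj (Over.mk f)]
    (pt : Spec (CommRingCat.of k))
    (hreg : IsRegularLocalRing (X.presheaf.stalk ((η[Over.mk f]).left pt))) : Smooth f := by
  haveI : IsNoetherianRing (CommRingCat.of k) := inferInstanceAs (IsNoetherianRing k)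
  haveI : LocallyOfFinitePresentation f := inferInstance
  have hs : (η[Over.mk f]).left ≫ f = 𝟙 _ := by
    have := Over.w η[Over.mk f]
    simpa using this
  have hsm := mem_smoothLocus_of_section f (η[Over.mk f]).left hs pt hreg
  let Ω : Type u := AlgebraicClosure k
  let g : Spec (.of Ω) ⟶ Spec (.of k) := Spec.map (CommRingCat.ofHom <| algebraMap k Ω)
  apply MorphismProperty.of_pullback_snd_of_descendsAlong
    (Q := @Surjective ⊓ @Flat ⊓ @QuasiCompact) (g := g)
  · exact ⟨⟨inferInstance, inferInstance⟩, inferInstance⟩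
  · letI : GrpObj (Over.mk (pullback.snd f g)) := Over.grpObjMkPullbackSnd
    haveI : LocallyOfFiniteType (Over.mk (pullback.snd f g)).hom :=
      inferInstanceAs (LocallyOfFiniteType (pullback.snd f g))
    haveI : IsNoetherianRing (CommRingCat.of Ω) := inferInstanceAs (IsNoetherianRing Ω)
    haveI : LocallyOfFinitePresentation (pullback.snd f g) := inferInstance
    refine Groth.Agent.Lib.Helper6.GrpSmoothAC.smooth_of_isReduced_stalk_unit
      (Over.mk (pullback.snd f g)) ?_
    have hcompat : (η[Over.mk (pullback.snd f g)]).left ≫ pullback.fst f g =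
        g ≫ (η[Over.mk f]).left := unit_left_fst f g
    have hpx : (pullback.fst f g)
        (Groth.Agent.Lib.Helper6.CartierStalk.x0 (Over.mk (pullback.snd f g))) =
        (η[Over.mk f]).left pt := by
      have h1 : (pullback.fst f g) ((η[Over.mk (pullback.snd f g)]).left
          (IsLocalRing.closedPoint (CommRingCat.of Ω))) =
          (η[Over.mk f]).left (g (IsLocalRing.closedPoint (CommRingCat.of Ω))) :=
        congrArg (fun φ : Spec (.of Ω) ⟶ X => φ (IsLocalRing.closedPoint (CommRingCat.of Ω)))
          hcompat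
      rw [show g (IsLocalRing.closedPoint (CommRingCat.of Ω)) = pt from Subsingleton.elim _ _]
        at h1
      exact h1
    have hmem : Groth.Agent.Lib.Helper6.CartierStalk.x0 (Over.mk (pullback.snd f g)) ∈
        (pullback.snd f g).smoothLocus := by
      apply Groth.Agent.Lib.Helper11.GrpdK.preimage_smoothLocus_le_of_isPullback
        (IsPullback.of_hasPullback f g)
      show (pullback.fst f g) _ ∈ f.smoothLocus
      rw [hpx]
      exact hsm
    exact isReduced_stalk_of_mem_smoothLocus (pullback.snd f g) _ hmem

end Groth.Agent.Lib.Helper25.GrpRegSmooth
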