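import Mathlib
import Groth.Agent.Lib.Helper8.SmoothFiberSch
import Groth.Agent.Lib.Helper5.RegQuot
import Groth.Agent.Lib.Helper6.FiberStalkIso
import Groth.Agent.Lib.Helper6.LocalDim
import Groth.Agent.Lib.Helper27.KosH1CI
import Groth.Agent.Lib.Helper21.KaehlerRank
import Groth.Agent.Lib.Helper14.GeomRegSmooth

/-!
# Sections of regular schemes land in the smooth locus (helper25)

* `isRegularLocalRing_quot_of_retraction`: `ψ : A → B` local, `σ : B → A'` with `σ ∘ ψ` bijective,
  `A'`, `B` regular local: then `B ⧸ 𝔪_A B` is a regular local ring.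
* `bijective_algebraMap_residueField_of_section`: a point in the image of a section of
  `F ⟶ Spec κ` has residue field `κ`.
* `mem_smoothLocus_of_section`: `p : X ⟶ Y` flat lfp, `s` a section, `O_{X, s t}` and `O_{Y,t}`
  regular: `p` is smooth at `s t`.
-/

set_option autoImplicit false
set_option linter.style.haveILetI false
set_option linter.unusedSectionVars false
set_option maxHeartbeats 400000
universe u

open CategoryTheory CategoryTheory.Limits AlgebraicGeometry IsLocalRing

namespace Groth.Agent.Lib.Helper25.SectionSmooth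

theorem isRegularLocalRing_quot_of_retraction {A A' B : Type u} [CommRing A] [CommRing A']
    [CommRing B] [IsLocalRing A] [IsNoetherianRing A] [IsRegularLocalRing A']
    [IsRegularLocalRing B] (ψ : A →+* B) [IsLocalHom ψ] (σ : B →+* A')
    (hσ : Function.Bijective (σ.comp ψ))
    [IsLocalRing (B ⧸ (maximalIdeal A).map ψ)] :
    IsRegularLocalRing (B ⧸ (maximalIdeal A).map ψ) := by
  have hσs : Function.Surjective σ := fun a' => by
    obtain ⟨a, ha⟩ := hσ.2 a'
    exact ⟨ψ a, ha⟩
  have hIne : RingHom.ker σ ≠ ⊤ := RingHom.ker_ne_top σ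
  let e : (B ⧸ RingHom.ker σ) ≃+* A' := RingHom.quotientKerEquivOfSurjective hσs
  haveI : IsRegularLocalRing (B ⧸ RingHom.ker σ) := IsRegularLocalRing.of_ringEquiv e.symm
  obtain ⟨rs, hreg, hIrs⟩ :=
    Groth.Agent.Lib.Helper5.RegQuot.exists_isRegular_of_quotient_regular B (RingHom.ker σ) hIne
  have hdim1 : ringKrullDim (B ⧸ Ideal.ofList rs) + rs.length = ringKrullDim B :=
    ringKrullDim_add_length_eq_ringKrullDim_of_isRegular rs hreg
  have hdimA : ringKrullDim (B ⧸ Ideal.ofList rs) = ringKrullDim A := by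
    rw [← hIrs]
    exact (ringKrullDim_eq_of_ringEquiv e).trans
      (ringKrullDim_eq_of_ringEquiv (RingEquiv.ofBijective _ hσ)).symm
  have hle : ringKrullDim B ≤ ringKrullDim A + ringKrullDim (B ⧸ (maximalIdeal A).map ψ) :=
    Groth.Agent.Lib.Helper6.ringKrullDim_le_add_quotient_of_isLocalHom ψ
  haveI : IsLocalHom σ := IsLocalHom.of_surjective σ hσs
  -- the maximal ideal of `B` is `𝔪_A B + I`
  have hmB : maximalIdeal B ≤ (maximalIdeal A).map ψ ⊔ RingHom.ker σ := by
    intro b hb
    obtain ⟨a, ha⟩ := hσ.2 (σ b)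
    have ham : a ∈ maximalIdeal A := by
      rw [mem_maximalIdeal, mem_nonunits_iff]
      intro hu
      have h1 : IsUnit (σ b) := by
        rw [← ha]
        exact (hu.map ψ).map σ
      exact ((mem_maximalIdeal b).mp hb) (isUnit_of_map_unit σ b h1)
    have h2 : b - ψ a ∈ RingHom.ker σ := by
      rw [RingHom.mem_ker, map_sub, sub_eq_zero]
      exact ha.symm
    have h3 : b = ψ a + (b - ψ a) := by ring
    rw [h3]
    exact Submodule.add_mem_sup (Ideal.mem_map_of_mem ψ ham) h2
  have hm : maximalIdeal (B ⧸ (maximalIdeal A).map ψ) ≤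
      (RingHom.ker σ).map (Ideal.Quotient.mk ((maximalIdeal A).map ψ)) := by
    intro z hz
    obtain ⟨b, rfl⟩ := Ideal.Quotient.mk_surjective z
    have hb : b ∈ maximalIdeal B := by
      rw [mem_maximalIdeal, mem_nonunits_iff]
      intro hu
      exact ((mem_maximalIdeal _).mp hz) (hu.map _)
    obtain ⟨c, hc, d, hd, rfl⟩ := Submodule.mem_sup.mp (hmB hb)
    rw [map_add, Ideal.Quotient.eq_zero_iff_mem.mpr hc, zero_add]
    exact Ideal.mem_map_of_mem _ hd
  have hm' : maximalIdeal (B ⧸ (maximalIdeal A).map ψ) =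
      (RingHom.ker σ).map (Ideal.Quotient.mk ((maximalIdeal A).map ψ)) := by
    refine le_antisymm hm ?_
    apply le_maximalIdeal
    intro htop
    have : maximalIdeal (B ⧸ (maximalIdeal A).map ψ) = ⊤ := by
      rw [eq_top_iff, ← htop]
      rw [Ideal.map_le_iff_le_comap]
      intro b hb
      rw [Ideal.mem_comap, mem_maximalIdeal, mem_nonunits_iff]
      intro hu
      haveI : IsLocalHom (Ideal.Quotient.mk ((maximalIdeal A).map ψ)) :=
        IsLocalHom.of_surjective _ Ideal.Quotient.mk_surjective
      have hub : IsUnit b := isUnit_of_map_unit (Ideal.Quotient.mk ((maximalIdeal A).map ψ)) b hu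
      have : IsUnit (σ b) := hub.map σ
      rw [(RingHom.mem_ker).mp hb] at this
      exact not_isUnit_zero this
    exact (maximalIdeal.isMaximal _).ne_top this
  haveI : IsNoetherianRing (B ⧸ (maximalIdeal A).map ψ) := inferInstance
  apply IsRegularLocalRing.of_spanFinrank_maximalIdeal_le
  obtain ⟨a, ha⟩ := Groth.Agent.Lib.Helper27.KosH1.exists_nat_dim A
  obtain ⟨c, hc⟩ := Groth.Agent.Lib.Helper27.KosH1.exists_nat_dim (B ⧸ (maximalIdeal A).map ψ)
  have h1 : ((maximalIdeal (B ⧸ (maximalIdeal A).map ψ)).spanFinrank) ≤ rs.length := by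
    rw [hm']
    refine (Ideal.spanFinrank_map_le_of_fg _ (IsNoetherian.noetherian _)).trans ?_
    rw [hIrs]
    exact Groth.Agent.Lib.Helper27.KosH1.spanFinrank_ofList_le rs
  have h2 : rs.length ≤ c := by
    rw [hdimA, ha] at hdim1
    rw [ha, hc, ← hdim1] at hle
    have h3 : a + rs.length ≤ a + c := by exact_mod_cast hle
    omega
  rw [hc]
  exact_mod_cast h1.trans h2

section residue

open Groth.Agent.Lib.Helper14.GeomRegSmooth

theorem bijective_algebraMap_residueField_of_section {κ : Type u} [Field κ] {F : Scheme.{u}}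
    (φ : F ⟶ Spec (CommRingCat.of κ)) (σ : Spec (CommRingCat.of κ) ⟶ F) (hσ : σ ≫ φ = 𝟙 _)
    (pt : Spec (CommRingCat.of κ)) (y : F) (hy : σ.base pt = y) :
    letI := (stalkStr φ y).toAlgebra
    Function.Bijective (algebraMap κ (IsLocalRing.ResidueField (F.presheaf.stalk y))) := by
  subst hy
  letI := (stalkStr φ (σ.base pt)).toAlgebra
  refine ⟨RingHom.injective _, ?_⟩
  haveI : IsIso (σ ≫ φ) := by rw [hσ]; infer_instance
  have hcomp : (σ ≫ φ).residueFieldMap pt =
      φ.residueFieldMap (σ.base pt) ≫ σ.residueFieldMap pt :=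
    Scheme.residueFieldMap_comp σ φ pt
  have hbij : Function.Bijective ((σ ≫ φ).residueFieldMap pt).hom :=
    ConcreteCategory.bijective_of_isIso _
  have hρ₁ : Function.Surjective (φ.residueFieldMap (σ.base pt)).hom := by
    intro z
    obtain ⟨w, hw⟩ := hbij.2 ((σ.residueFieldMap pt).hom z)
    refine ⟨w, ?_⟩
    apply (σ.residueFieldMap pt).hom.injective
    rw [← hw, hcomp]
    rfl
  intro z
  obtain ⟨w, hw⟩ := hρ₁ z
  obtain ⟨a, ha⟩ := IsLocalRing.residue_surjective w
  obtain ⟨c, hc⟩ := (toStalkSpec_bijective κ (φ.base (σ.base pt))).2 a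
  refine ⟨c, ?_⟩
  have h1 : algebraMap κ (IsLocalRing.ResidueField (F.presheaf.stalk (σ.base pt))) c =
      IsLocalRing.residue _ (stalkStr φ (σ.base pt) c) := rfl
  rw [h1, stalkStr_eq, RingHom.comp_apply, hc]
  have h2 := congr($(Scheme.residue_residueFieldMap φ (σ.base pt)) a)
  rw [← hw, ← ha]
  exact h2.symm

end residue

section main

open Groth.Agent.Lib.Helper14.GeomRegSmooth

theorem mem_smoothLocus_of_section {X Y : Scheme.{u}} (p : X ⟶ Y) [Flat p]
    [LocallyOfFinitePresentation p] (s : Y ⟶ X) (hs : s ≫ p = 𝟙 _) (t : Y)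
    (hX : IsRegularLocalRing (X.presheaf.stalk (s.base t)))
    (hY : ∀ y : Y, IsRegularLocalRing (Y.presheaf.stalk y)) :
    s.base t ∈ p.smoothLocus := by
  have hpx : p.base (s.base t) = t := by
    have h := congrArg (fun m : Y ⟶ Y => m.base t) hs
    simpa using h
  haveI hφ : LocallyOfFinitePresentation (p.fiberToSpecResidueField (p.base (s.base t))) := by
    change LocallyOfFinitePresentation
      (pullback.snd p (Y.fromSpecResidueField (p.base (s.base t))))
    infer_instance
  rw [Groth.Agent.Lib.Helper8.SmoothFiberSch.mem_smoothLocus_iff_flat_and_fiber p (s.base t)]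
  refine ⟨Flat.stalkMap p (s.base t), ?_⟩
  let φ : p.fiber (p.base (s.base t)) ⟶
      Spec (CommRingCat.of (Y.residueField (p.base (s.base t)))) :=
    p.fiberToSpecResidueField (p.base (s.base t))
  haveI : LocallyOfFinitePresentation φ := hφ
  refine mem_smoothLocus_of_formallySmooth_stalkStr φ (p.asFiber (s.base t)) ?_
  letI := (stalkStr φ (p.asFiber (s.base t))).toAlgebra
  show Algebra.FormallySmooth (Y.residueField (p.base (s.base t)))
    ((p.fiber (p.base (s.base t))).presheaf.stalk (p.asFiber (s.base t)))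
  haveI : Algebra.EssFiniteType (Y.residueField (p.base (s.base t)))
      ((p.fiber (p.base (s.base t))).presheaf.stalk (p.asFiber (s.base t))) := by
    rw [← RingHom.essFiniteType_algebraMap]
    exact essFiniteType_stalkStr φ _
  -- regularity of the local ring of the fibre
  have hregB : IsRegularLocalRing
      ((p.fiber (p.base (s.base t))).presheaf.stalk (p.asFiber (s.base t))) := by
    haveI := hX
    haveI := hY t
    haveI := hY (p.base (s.base t))
    haveI : IsIso (s ≫ p) := by rw [hs]; infer_instance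
    have hbij : Function.Bijective
        (((s.stalkMap t).hom).comp (p.stalkMap (s.base t)).hom) := by
      have h1 : (s ≫ p).stalkMap t = p.stalkMap (s.base t) ≫ s.stalkMap t :=
        Scheme.Hom.stalkMap_comp s p t
      have h2 : Function.Bijective ((s ≫ p).stalkMap t).hom :=
        ConcreteCategory.bijective_of_isIso _
      rw [h1] at h2
      exact h2
    haveI : IsLocalRing (X.presheaf.stalk (s.base t) ⧸
        (maximalIdeal (Y.presheaf.stalk (p.base (s.base t)))).map
          (p.stalkMap (s.base t)).hom) :=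
      (inferInstance : IsLocalRing (X.presheaf.stalk (s.base t) ⧸
        Groth.Agent.Lib.Helper6.fiberIdeal p (s.base t)))
    have h3 : IsRegularLocalRing (X.presheaf.stalk (s.base t) ⧸
        Groth.Agent.Lib.Helper6.fiberIdeal p (s.base t)) :=
      isRegularLocalRing_quot_of_retraction (p.stalkMap (s.base t)).hom (s.stalkMap t).hom hbij
    exact IsRegularLocalRing.of_ringEquiv
      (Groth.Agent.Lib.Helper6.fiberStalkEquiv p (s.base t)).symm
  -- the residue field
  let σ_f : Spec (CommRingCat.of (Y.residueField (p.base (s.base t)))) ⟶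
      p.fiber (p.base (s.base t)) :=
    pullback.lift (Y.fromSpecResidueField (p.base (s.base t)) ≫ s) (𝟙 _) (by
      rw [Category.assoc, hs, Category.comp_id, Category.id_comp])
  have hσ_f : σ_f ≫ φ = 𝟙 _ := pullback.lift_snd _ _ _
  have hσ_ι : σ_f ≫ p.fiberι (p.base (s.base t)) =
      Y.fromSpecResidueField (p.base (s.base t)) ≫ s := pullback.lift_fst _ _ _
  let pt : Spec (CommRingCat.of (Y.residueField (p.base (s.base t)))) :=
    IsLocalRing.closedPoint (Y.residueField (p.base (s.base t)))
  have hy : σ_f.base pt = p.asFiber (s.base t) := by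
    apply (p.fiberι (p.base (s.base t))).isEmbedding.injective
    rw [p.fiberι_asFiber]
    have h := congrArg (fun m : Spec (CommRingCat.of (Y.residueField (p.base (s.base t)))) ⟶ X =>
      m.base pt) hσ_ι
    simp only [Scheme.Hom.comp_base, TopCat.hom_comp, ContinuousMap.comp_apply] at h
    rw [h, Scheme.fromSpecResidueField_apply, hpx]
  have hres := bijective_algebraMap_residueField_of_section φ σ_f hσ_f pt
    (p.asFiber (s.base t)) hy
  exact Groth.Agent.Lib.Helper21.KaehlerRank.formallySmooth_of_isRegularLocalRing _ _ hres hregB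

end main

end Groth.Agent.Lib.Helper25.SectionSmooth
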