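import Mathlib

/-!
# helper25: C0 — a closed subscheme of a closed subscheme is (isomorphic to) a closed subscheme

For `J` an ideal sheaf on `X` and `Γ` an ideal sheaf on `J.subscheme`, the composite closed immersion
`g = Γ.subschemeι ≫ J.subschemeι` identifies `Γ.subscheme` with `g.ker.subscheme`, compatibly with the
inclusions into `X`; integrality and topological Krull dimension transfer along the isomorphism.
-/

set_option autoImplicit false
set_option linter.style.haveILetI false
universe u
open CategoryTheory CategoryTheory.Limits AlgebraicGeometry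

namespace Groth.Agent.Lib.Helper25.RelNefC0

/-- for a closed immersion `g : Z ⟶ X`, `Z ≅ g.ker.subscheme` over `X`. -/
theorem exists_iso_ker_subscheme {Z X : Scheme.{u}} (g : Z ⟶ X) [IsClosedImmersion g] :
    ∃ e : Z ≅ g.ker.subscheme, e.hom ≫ g.ker.subschemeι = g :=
  ⟨asIso g.toImage, g.toImage_imageι⟩

/-- C0. -/
theorem exists_iso_subscheme {X : Scheme.{u}} (J : X.IdealSheafData)
    (Γ : J.subscheme.IdealSheafData) :
    ∃ e : Γ.subscheme ≅ ((Γ.subschemeι ≫ J.subschemeι).ker).subscheme,
      e.hom ≫ ((Γ.subschemeι ≫ J.subschemeι).ker).subschemeι = Γ.subschemeι ≫ J.subschemeι :=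
  exists_iso_ker_subscheme (Γ.subschemeι ≫ J.subschemeι)

/-- integrality transfers along an isomorphism of schemes. -/
theorem isIntegral_of_iso {Z W : Scheme.{u}} (e : Z ≅ W) (h : IsIntegral Z) : IsIntegral W := by
  haveI := h
  haveI : Nonempty ↥W := ⟨e.hom.base (Nonempty.some inferInstance)⟩
  exact isIntegral_of_isOpenImmersion e.inv

/-- topological Krull dimension transfers along an isomorphism of schemes. -/
theorem topologicalKrullDim_eq_of_iso {Z W : Scheme.{u}} (e : Z ≅ W) :
    topologicalKrullDim ↥Z = topologicalKrullDim ↥W :=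
  (IsHomeomorph.topologicalKrullDim_eq (f := e.hom.base) (Scheme.homeoOfIso e).isHomeomorph)

end Groth.Agent.Lib.Helper25.RelNefC0
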