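import Mathlib
import Groth.Prelude
import Groth.Agent.Lib.Helper23.FBC5
import Groth.Agent.Lib.Helper7.PushLinear
import Groth.Agent.Lib.Helper3.PbBasic
import Groth.Agent.Lib.Helper25.RelNefC0

/-!
# helper25: (C) of S19496 — nefness passes to closed subschemes

* `deg_pullback_of_isIso`: `Curv2.deg` is invariant under an isomorphism of schemes over the base field;
* `C_nef_sub`: exact stub of helper23's (C).
-/

set_option autoImplicit false
set_option linter.style.haveILetI false
universe u
open CategoryTheory CategoryTheory.Limits AlgebraicGeometry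

namespace Groth.Agent.Lib.Helper25.RelNefC

open Groth.Agent.Lib.Helper25.RelNefC0

/-- pushforward along an isomorphism of schemes is an equivalence. -/
noncomputable def pushEquivalence {Z W : Scheme.{u}} (e : Z ≅ W) : Z.Modules ≌ W.Modules :=
  CategoryTheory.Equivalence.mk (Scheme.Modules.pushforward e.hom)
    (Scheme.Modules.pushforward e.inv)
    ((Scheme.Modules.pushforwardId Z).symm ≪≫ Scheme.Modules.pushforwardCongr e.hom_inv_id.symm ≪≫
      (Scheme.Modules.pushforwardComp e.hom e.inv).symm)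
    (Scheme.Modules.pushforwardComp e.inv e.hom ≪≫ Scheme.Modules.pushforwardCongr e.inv_hom_id ≪≫
      Scheme.Modules.pushforwardId W)

lemma isEquivalence_pushforward {Z W : Scheme.{u}} (e : Z ⟶ W) [IsIso e] :
    (Scheme.Modules.pushforward e).IsEquivalence :=
  (pushEquivalence (asIso e)).isEquivalence_functor

lemma isIso_unit_app {Z W : Scheme.{u}} (e : Z ⟶ W) [IsIso e] (N : W.Modules) :
    IsIso ((Scheme.Modules.pullbackPushforwardAdjunction e).unit.app N) := by
  haveI := isEquivalence_pushforward e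
  haveI : (Scheme.Modules.pullback e).IsEquivalence :=
    (Scheme.Modules.pullbackPushforwardAdjunction e).isEquivalence_left_of_isEquivalence_right
  infer_instance

theorem euler_pullback_of_isIso (K : Type u) [Field K] {Z W : Scheme.{u}}
    [Z.Over (Spec (CommRingCat.of K))] [W.Over (Spec (CommRingCat.of K))] (e : Z ⟶ W) [IsIso e]
    (hov : Z ↘ Spec (CommRingCat.of K) = e ≫ (W ↘ Spec (CommRingCat.of K))) (N : W.Modules) :
    Curv2.euler K Z ((Scheme.Modules.pullback e).obj N) = Curv2.euler K W N := by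
  haveI := isIso_unit_app e N
  have h1 : Curv2.euler K Z ((Scheme.Modules.pullback e).obj N) =
      Curv2.euler K W
        ((Scheme.Modules.pushforward e).obj ((Scheme.Modules.pullback e).obj N)) := by
    unfold Curv2.euler
    refine finsum_congr fun i => ?_
    rw [Groth.Agent.Lib.Helper7.PushLinear.finrank_push e _ K hov i]
  rw [h1]
  exact (Groth.Agent.Lib.Helper23.FBC.euler_eq_of_iso' K
    (asIso ((Scheme.Modules.pullbackPushforwardAdjunction e).unit.app N))).symm

theorem deg_eq_of_iso (K : Type u) [Field K] {Z : Scheme.{u}} [Z.Over (Spec (CommRingCat.of K))]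
    {M N : Z.Modules} (i : M ≅ N) (n : ℕ) : Curv2.deg K Z M n = Curv2.deg K Z N n := by
  unfold Curv2.deg
  rw [Groth.Agent.Lib.Helper23.FBC.euler_eq_of_iso' K i]

/-- `Curv2.deg` is invariant under an isomorphism of schemes over the base field. -/
theorem deg_pullback_of_isIso (K : Type u) [Field K] {Z W : Scheme.{u}}
    [Z.Over (Spec (CommRingCat.of K))] [W.Over (Spec (CommRingCat.of K))] (e : Z ⟶ W) [IsIso e]
    (hov : Z ↘ Spec (CommRingCat.of K) = e ≫ (W ↘ Spec (CommRingCat.of K))) (N : W.Modules)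
    (n : ℕ) :
    Curv2.deg K Z ((Scheme.Modules.pullback e).obj N) n = Curv2.deg K W N n := by
  unfold Curv2.deg
  rw [euler_pullback_of_isIso K e hov N,
    ← Groth.Agent.Lib.Helper23.FBC.euler_eq_of_iso' K (Groth.Agent.Lib.Helper3.PbBasic.pbUnit e),
    euler_pullback_of_isIso K e hov (Coh.structureModule W)]

/-- (C) nefness passes to closed subschemes (exact stub of helper23). -/
theorem C_nef_sub {A : Type u} [CommRing A] {X : Scheme.{u}}
    (f : X ⟶ Spec (CommRingCat.of A)) {K : Type u} [Field K] (i : A →+* K)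
    (J : X.IdealSheafData) (t : J.subscheme ⟶ Spec (CommRingCat.of K))
    (ht : t ≫ Spec.map (CommRingCat.ofHom i) = J.subschemeι ≫ f) (L : X.Modules)
    (hnef : ∀ (K : Type u) [Field K] (i : A →+* K) (J : X.IdealSheafData)
      (t : J.subscheme ⟶ Spec (CommRingCat.of K)),
      AlgebraicGeometry.IsIntegral J.subscheme → topologicalKrullDim ↥J.subscheme = 1 →
      t ≫ Spec.map (CommRingCat.ofHom i) = J.subschemeι ≫ f →
      0 ≤ @Curv2.deg K _ J.subscheme ⟨t⟩ ((Scheme.Modules.pullback J.subschemeι).obj L) 1) :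
    ∀ Γ : J.subscheme.IdealSheafData, AlgebraicGeometry.IsIntegral Γ.subscheme →
      topologicalKrullDim ↥Γ.subscheme = 1 →
      0 ≤ @Curv2.deg K _ Γ.subscheme ⟨Γ.subschemeι ≫ t⟩
        ((Scheme.Modules.pullback Γ.subschemeι).obj
          ((Scheme.Modules.pullback J.subschemeι).obj L)) 1 := by
  intro Γ hΓi hΓd
  obtain ⟨e, he⟩ := exists_iso_subscheme J Γ
  have h3 : e.hom ≫ (Γ.subschemeι ≫ J.subschemeι).ker.subschemeι ≫ f =
      Γ.subschemeι ≫ J.subschemeι ≫ f := by
    simpa only [Category.assoc] using he =≫ f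
  have hcomp : (e.inv ≫ Γ.subschemeι ≫ t) ≫ Spec.map (CommRingCat.ofHom i) =
      (Γ.subschemeι ≫ J.subschemeι).ker.subschemeι ≫ f := by
    rw [Category.assoc, Category.assoc, ht, ← h3, e.inv_hom_id_assoc]
  have h2 := hnef K i (Γ.subschemeι ≫ J.subschemeι).ker (e.inv ≫ Γ.subschemeι ≫ t)
    (isIntegral_of_iso e hΓi) ((topologicalKrullDim_eq_of_iso e).symm.trans hΓd) hcomp
  letI : Γ.subscheme.Over (Spec (CommRingCat.of K)) := ⟨Γ.subschemeι ≫ t⟩
  letI : (Γ.subschemeι ≫ J.subschemeι).ker.subscheme.Over (Spec (CommRingCat.of K)) :=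
    ⟨e.inv ≫ Γ.subschemeι ≫ t⟩
  have hov : (Γ.subscheme ↘ Spec (CommRingCat.of K)) =
      e.hom ≫ ((Γ.subschemeι ≫ J.subschemeι).ker.subscheme ↘ Spec (CommRingCat.of K)) := by
    show Γ.subschemeι ≫ t = e.hom ≫ e.inv ≫ Γ.subschemeι ≫ t
    rw [e.hom_inv_id_assoc]
  have iso : (Scheme.Modules.pullback Γ.subschemeι).obj
        ((Scheme.Modules.pullback J.subschemeι).obj L) ≅
      (Scheme.Modules.pullback e.hom).obj
        ((Scheme.Modules.pullback (Γ.subschemeι ≫ J.subschemeι).ker.subschemeι).obj L) :=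
    (Scheme.Modules.pullbackComp Γ.subschemeι J.subschemeι).app L ≪≫
      (Scheme.Modules.pullbackCongr he.symm).app L ≪≫
      ((Scheme.Modules.pullbackComp e.hom (Γ.subschemeι ≫ J.subschemeι).ker.subschemeι).app L).symm
  rw [deg_eq_of_iso K iso 1, deg_pullback_of_isIso K e.hom hov _ 1]
  exact h2

end Groth.Agent.Lib.Helper25.RelNefC
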