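import Mathlib
import Groth.Agent.Lib.Helper25.SchFinH0

/-!
# Elementwise criterion for flatness of a localization, ascent/descent along flat algebra maps

* `flat_localized_iff`: `M_U` (`U ⊆ S`, `M` an `S`-module, `R → S`) is `R`-flat iff every element of
  `ker (M ⊗ h)` (`h` injective `R`-linear) is killed by an element of `U`.
* `asc`, `desc`: for `A' → B' → C'` with `C'` flat over `B'`, `r` a prime of `C'` over `q`:
  `M'_q` is `A'`-flat iff `(C' ⊗[B'] M')_r` is.
* `flat_localized_congr`: transport along a linear equivalence.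
* `exists_prime_pushout`: primes of a pushout lying over a compatible pair of primes.
-/

set_option autoImplicit false
universe u

namespace Groth.Agent.Lib.Helper25.FlatAtCrit

open TensorProduct

section Crit

variable {R S : Type u} [CommRing R] [CommRing S] [Algebra R S] (M : Type u) [AddCommGroup M]
  [Module R M] [Module S M] [IsScalarTower R S M] (U : Submonoid S)

theorem flat_localized_iff :
    Module.Flat R (LocalizedModule U M) ↔
      ∀ (P₁ P₂ : Type u) [AddCommGroup P₁] [AddCommGroup P₂] [Module R P₁] [Module R P₂]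
        (h : P₁ →ₗ[R] P₂), Function.Injective h → ∀ z : M ⊗[R] P₁, (h.lTensor M) z = 0 →
          ∃ s ∈ U, s • z = 0 := by
  constructor
  · intro hflat P₁ P₂ _ _ _ _ h hh z hz
    have hinj : Function.Injective (h.lTensor (LocalizedModule U M)) :=
      Module.Flat.lTensor_preserves_injective_linearMap h hh
    have hcomm : (h.lTensor (LocalizedModule U M))
        ((((LocalizedModule.mkLinearMap U M).restrictScalars R).rTensor P₁) z) =
        (((LocalizedModule.mkLinearMap U M).restrictScalars R).rTensor P₂) ((h.lTensor M) z) := by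
      rw [← LinearMap.comp_apply, ← LinearMap.comp_apply, LinearMap.lTensor_comp_rTensor,
        LinearMap.rTensor_comp_lTensor]
    have hloc : (AlgebraTensorModule.rTensor R P₁ (LocalizedModule.mkLinearMap U M)) z = 0 := by
      apply hinj
      rw [map_zero]
      exact hcomm.trans (by rw [hz, map_zero])
    obtain ⟨s, hs⟩ := (IsLocalizedModule.eq_zero_iff U
      (AlgebraTensorModule.rTensor R P₁ (LocalizedModule.mkLinearMap U M))).mp hloc
    exact ⟨s.1, s.2, hs⟩
  · intro H
    rw [Module.Flat.iff_lTensor_preserves_injective_linearMap]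
    intro P₁ P₂ _ _ _ _ h hh
    rw [injective_iff_map_eq_zero]
    intro w hw
    obtain ⟨⟨z, u⟩, hzu⟩ := IsLocalizedModule.surj U
      (AlgebraTensorModule.rTensor R P₁ (LocalizedModule.mkLinearMap U M)) w
    have hzu' : u • w = (AlgebraTensorModule.rTensor R P₁ (LocalizedModule.mkLinearMap U M)) z :=
      hzu
    have hnat : ∀ x, (h.lTensor (LocalizedModule U M))
        ((AlgebraTensorModule.rTensor R P₁ (LocalizedModule.mkLinearMap U M)) x) =
        (AlgebraTensorModule.rTensor R P₂ (LocalizedModule.mkLinearMap U M)) ((h.lTensor M) x) := by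
      intro x
      show (h.lTensor (LocalizedModule U M))
        ((((LocalizedModule.mkLinearMap U M).restrictScalars R).rTensor P₁) x) =
        (((LocalizedModule.mkLinearMap U M).restrictScalars R).rTensor P₂) ((h.lTensor M) x)
      rw [← LinearMap.comp_apply, ← LinearMap.comp_apply, LinearMap.lTensor_comp_rTensor,
        LinearMap.rTensor_comp_lTensor]
    have h1 : (AlgebraTensorModule.rTensor R P₂ (LocalizedModule.mkLinearMap U M))
        ((h.lTensor M) z) = 0 := by
      rw [← hnat, ← hzu']
      show (AlgebraTensorModule.lTensor S (LocalizedModule U M) h) (u • w) = 0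
      rw [Submonoid.smul_def, map_smul]
      rw [show (AlgebraTensorModule.lTensor S (LocalizedModule U M) h) w = 0 from hw, smul_zero]
    obtain ⟨u', hu'⟩ := (IsLocalizedModule.eq_zero_iff U
      (AlgebraTensorModule.rTensor R P₂ (LocalizedModule.mkLinearMap U M))).mp h1
    have h2 : (h.lTensor M) ((u' : S) • z) = 0 := by
      show (AlgebraTensorModule.lTensor S M h) ((u' : S) • z) = 0
      rw [map_smul]
      exact hu'
    obtain ⟨s, hsU, hs⟩ := H P₁ P₂ h hh _ h2
    have h3 : (AlgebraTensorModule.rTensor R P₁ (LocalizedModule.mkLinearMap U M)) z = 0 := by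
      rw [IsLocalizedModule.eq_zero_iff U]
      refine ⟨⟨s, hsU⟩ * u', ?_⟩
      rw [Submonoid.smul_def, Submonoid.coe_mul, mul_smul]
      exact hs
    rw [h3] at hzu'
    have hunit := IsLocalizedModule.map_units
      (AlgebraTensorModule.rTensor R P₁ (LocalizedModule.mkLinearMap U M)) u
    have hinj := ((Module.End.isUnit_iff _).mp hunit).1
    apply hinj
    rw [map_zero, Module.algebraMap_end_apply]
    exact hzu'

end Crit

section Congr

theorem flat_localized_congr {A' C' : Type u} [CommRing A'] [CommRing C'] [Algebra A' C']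
    {X Y : Type u} [AddCommGroup X] [AddCommGroup Y] [Module A' X] [Module C' X]
    [IsScalarTower A' C' X] [Module A' Y] [Module C' Y] [IsScalarTower A' C' Y]
    (e : X ≃ₗ[C'] Y) (U : Submonoid C') :
    Module.Flat A' (LocalizedModule U X) ↔ Module.Flat A' (LocalizedModule U Y) := by
  haveI : IsLocalizedModule U ((LocalizedModule.mkLinearMap U Y) ∘ₗ e.toLinearMap) :=
    inferInstance
  exact Module.Flat.equiv_iff
    ((IsLocalizedModule.iso U ((LocalizedModule.mkLinearMap U Y) ∘ₗ e.toLinearMap)).restrictScalars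
      A')

end Congr

section AscDesc

variable {A' B' C' : Type u} [CommRing A'] [CommRing B'] [CommRing C'] [Algebra A' B']
  [Algebra B' C'] [Algebra A' C'] [IsScalarTower A' B' C']
  (M' : Type u) [AddCommGroup M'] [Module A' M'] [Module B' M'] [IsScalarTower A' B' M']

theorem assoc_lTensor {P₁ P₂ : Type u} [AddCommGroup P₁] [AddCommGroup P₂] [Module A' P₁]
    [Module A' P₂] (h : P₁ →ₗ[A'] P₂) (w : (C' ⊗[B'] M') ⊗[A'] P₁) :
    AlgebraTensorModule.assoc A' B' C' C' M' P₂ ((h.lTensor (C' ⊗[B'] M')) w) =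
      ((AlgebraTensorModule.lTensor B' M' h).lTensor C')
        (AlgebraTensorModule.assoc A' B' C' C' M' P₁ w) := by
  induction w using TensorProduct.induction_on with
  | zero => simp
  | add x y hx hy => simp only [map_add, hx, hy]
  | tmul a p =>
    induction a using TensorProduct.induction_on with
    | zero => simp
    | add x y hx hy => simp only [add_tmul, map_add, hx, hy]
    | tmul t m => simp

variable [Module.Flat B' C']

theorem asc (r : Ideal C') [r.IsPrime] (q : Ideal B') [q.IsPrime]
    (hq : q = r.comap (algebraMap B' C'))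
    (hflat : Module.Flat A' (LocalizedModule q.primeCompl M')) :
    Module.Flat A' (LocalizedModule r.primeCompl (C' ⊗[B'] M')) := by
  rw [flat_localized_iff] at hflat ⊢
  intro P₁ P₂ _ _ _ _ h hh w hw
  have h1 : ((AlgebraTensorModule.lTensor B' M' h).lTensor C')
      (AlgebraTensorModule.assoc A' B' C' C' M' P₁ w) = 0 := by
    rw [← assoc_lTensor, hw, map_zero]
  have hex' := Module.Flat.lTensor_exact C'
    (LinearMap.exact_subtype_ker_map (AlgebraTensorModule.lTensor B' M' h))
  obtain ⟨v, hv⟩ := (hex' _).mp h1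
  have key : ∀ v : C' ⊗[B'] (LinearMap.ker (AlgebraTensorModule.lTensor B' M' h)),
      ∃ s ∈ q.primeCompl, s • v = 0 := by
    intro v
    induction v using TensorProduct.induction_on with
    | zero => exact ⟨1, Submonoid.one_mem _, smul_zero _⟩
    | tmul c k =>
      obtain ⟨s, hs, hsk⟩ := hflat P₁ P₂ h hh k.1 k.2
      refine ⟨s, hs, ?_⟩
      have hk0 : s • k = 0 := Subtype.ext hsk
      rw [TensorProduct.smul_tmul', TensorProduct.smul_tmul, hk0, tmul_zero]
    | add x y hx hy =>
      obtain ⟨s₁, hs₁, h₁⟩ := hx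
      obtain ⟨s₂, hs₂, h₂⟩ := hy
      refine ⟨s₁ * s₂, Submonoid.mul_mem _ hs₁ hs₂, ?_⟩
      have e1 : (s₁ * s₂) • x = 0 := by rw [mul_comm, mul_smul, h₁, smul_zero]
      have e2 : (s₁ * s₂) • y = 0 := by rw [mul_smul, h₂, smul_zero]
      rw [smul_add, e1, e2, add_zero]
  obtain ⟨s, hs, hsv⟩ := key v
  refine ⟨algebraMap B' C' s, ?_, ?_⟩
  · show algebraMap B' C' s ∉ r
    intro hmem
    apply hs
    rw [hq]
    exact hmem
  · apply (AlgebraTensorModule.assoc A' B' C' C' M' P₁).injective
    rw [map_smul, map_zero, ← hv, algebraMap_smul, ← map_smul, hsv, map_zero]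

theorem desc (r : Ideal C') [r.IsPrime] (q : Ideal B') [q.IsPrime]
    (hq : q = r.comap (algebraMap B' C'))
    (hflat : Module.Flat A' (LocalizedModule r.primeCompl (C' ⊗[B'] M'))) :
    Module.Flat A' (LocalizedModule q.primeCompl M') := by
  rw [flat_localized_iff] at hflat ⊢
  intro P₁ P₂ _ _ _ _ h hh z hz
  obtain ⟨t, ht, htw⟩ := hflat P₁ P₂ h hh
    ((AlgebraTensorModule.assoc A' B' C' C' M' P₁).symm ((1 : C') ⊗ₜ[B'] z)) (by
      apply (AlgebraTensorModule.assoc A' B' C' C' M' P₂).injective
      rw [assoc_lTensor, LinearEquiv.apply_symm_apply, map_zero, LinearMap.lTensor_tmul]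
      rw [show (AlgebraTensorModule.lTensor B' M' h) z = 0 from hz, tmul_zero])
  have h1 : t ⊗ₜ[B'] z = (0 : C' ⊗[B'] (M' ⊗[A'] P₁)) := by
    have := congrArg (AlgebraTensorModule.assoc A' B' C' C' M' P₁) htw
    rw [map_smul, LinearEquiv.apply_symm_apply, map_zero, TensorProduct.smul_tmul', smul_eq_mul,
      mul_one] at this
    exact this
  by_contra hcon
  push_neg at hcon
  have h𝔞 : LinearMap.ker (LinearMap.toSpanSingleton B' (M' ⊗[A'] P₁) z) ≤ q := by
    intro b hb
    by_contra hbq
    refine hcon b hbq ?_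
    have : (LinearMap.toSpanSingleton B' (M' ⊗[A'] P₁) z) b = 0 := hb
    rwa [LinearMap.toSpanSingleton_apply] at this
  have hex' := Module.Flat.lTensor_exact C'
    (LinearMap.exact_subtype_ker_map (LinearMap.toSpanSingleton B' (M' ⊗[A'] P₁) z))
  have h2 : ((LinearMap.toSpanSingleton B' (M' ⊗[A'] P₁) z).lTensor C') (t ⊗ₜ[B'] (1 : B')) = 0 := by
    rw [LinearMap.lTensor_tmul, LinearMap.toSpanSingleton_apply, one_smul]
    exact h1
  obtain ⟨v, hv⟩ := (hex' _).mp h2
  have key : ∀ v : C' ⊗[B'] (LinearMap.ker (LinearMap.toSpanSingleton B' (M' ⊗[A'] P₁) z)),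
      (TensorProduct.rid B' C')
        (((LinearMap.ker (LinearMap.toSpanSingleton B' (M' ⊗[A'] P₁) z)).subtype.lTensor C') v)
        ∈ r := by
    intro v
    induction v using TensorProduct.induction_on with
    | zero => simp
    | tmul x a =>
      rw [LinearMap.lTensor_tmul, TensorProduct.rid_tmul, Submodule.subtype_apply,
        Algebra.smul_def]
      refine Ideal.mul_mem_right _ _ ?_
      have := h𝔞 a.2
      rw [hq] at this
      exact this
    | add x y hx hy =>
      rw [map_add, map_add]
      exact add_mem hx hy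
  have := key v
  rw [hv, TensorProduct.rid_tmul, one_smul] at this
  exact ht this

end AscDesc

section Primes

theorem exists_prime_pushout {R S R' S' : Type u} [CommRing R] [CommRing S] [CommRing R']
    [CommRing S'] [Algebra R S] [Algebra R R'] [Algebra S S'] [Algebra R' S'] [Algebra R S']
    [IsScalarTower R S S'] [IsScalarTower R R' S'] [Algebra.IsPushout R S R' S']
    (q : Ideal S) [q.IsPrime] (p' : Ideal R') [p'.IsPrime]
    (h : q.comap (algebraMap R S) = p'.comap (algebraMap R R')) :
    ∃ (q' : Ideal S') (_ : q'.IsPrime), q'.comap (algebraMap S S') = q ∧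
      q'.comap (algebraMap R' S') = p' := by
  obtain ⟨𝔯, h1, h2⟩ := Groth.Agent.Lib.Helper25.SchFinH0.exists_prime_tensor (A := R) (B := S)
    (C := R') ⟨q, inferInstance⟩ ⟨p', inferInstance⟩ (PrimeSpectrum.ext h)
  have hq : ∀ x : S, x ⊗ₜ[R] (1 : R') ∈ 𝔯.asIdeal ↔ x ∈ q :=
    fun x => Ideal.ext_iff.mp (congrArg PrimeSpectrum.asIdeal h1) x
  have hp : ∀ y : R', (1 : S) ⊗ₜ[R] y ∈ 𝔯.asIdeal ↔ y ∈ p' :=
    fun y => Ideal.ext_iff.mp (congrArg PrimeSpectrum.asIdeal h2) y
  refine ⟨𝔯.asIdeal.comap ((Algebra.IsPushout.equiv R S R' S').symm : S' →+* S ⊗[R] R'),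
    Ideal.comap_isPrime _ _, ?_, ?_⟩
  · ext x
    rw [Ideal.mem_comap, Ideal.mem_comap]
    show (Algebra.IsPushout.equiv R S R' S').symm (algebraMap S S' x) ∈ 𝔯.asIdeal ↔ x ∈ q
    rw [Algebra.IsPushout.equiv_symm_algebraMap_left]
    exact hq x
  · ext y
    rw [Ideal.mem_comap, Ideal.mem_comap]
    show (Algebra.IsPushout.equiv R S R' S').symm (algebraMap R' S' y) ∈ 𝔯.asIdeal ↔ y ∈ p'
    rw [Algebra.IsPushout.equiv_symm_algebraMap_right]
    exact hp y

end Primes

end Groth.Agent.Lib.Helper25.FlatAtCrit
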