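import Mathlib
import Groth.Agent.Lib.Helper14.LCF.FibreMapStalk

/-!
# Fibre inclusions of `Spec A → Spec V` factor through `Spec (A/JA)` (helper25)

* `fromSpecResidueField_appTop_eq_zero`: a function in the prime `s` dies in `κ(s)`.
* `exists_fiberι_factor`: for `J ≤ s.asIdeal`, the inclusion of the fibre of `Spec A → Spec V`
  over `s` factors through the closed subscheme `Spec (A/JA)`.
* `pasting`: base change in stages for a property stable under base change.
* `flat_fiberMap_of_flat_snd`: flatness of the fibre map from flatness of the base change to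
  `Spec (A/JA)`.
-/

set_option autoImplicit false
set_option linter.style.haveILetI false

universe u

open CategoryTheory CategoryTheory.Limits AlgebraicGeometry

namespace Groth.Agent.Lib.Helper25.AdicFlat

theorem fromSpecResidueField_appTop_eq_zero {V : Type u} [CommRing V]
    (s : ↥(Spec (CommRingCat.of V))) (v : V) (hv : v ∈ s.asIdeal) :
    ((Spec (CommRingCat.of V)).fromSpecResidueField s).appTop.hom
      ((Scheme.ΓSpecIso (CommRingCat.of V)).inv.hom v) = 0 := by
  have h1 : ((Spec (CommRingCat.of V)).fromSpecResidueField s).appTop ≫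
      (Scheme.ΓSpecIso ((Spec (CommRingCat.of V)).residueField s)).hom =
      (Spec (CommRingCat.of V)).Γevaluation s := by
    unfold Scheme.fromSpecResidueField
    rw [Scheme.Hom.comp_appTop, Scheme.fromSpecStalk_appTop]
    simp only [Category.assoc]
    rw [Scheme.ΓSpecIso_naturality]
    simp
    rfl
  have h2 : ((Spec (CommRingCat.of V)).Γevaluation s).hom
      ((Scheme.ΓSpecIso (CommRingCat.of V)).inv.hom v) = 0 := by
    rw [Scheme.evaluation_eq_zero_iff_notMem_basicOpen]
    erw [basicOpen_eq_of_affine (R := CommRingCat.of V) v]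
    intro hmem
    exact hmem hv
  have h3 : (Scheme.ΓSpecIso ((Spec (CommRingCat.of V)).residueField s)).hom.hom
      (((Spec (CommRingCat.of V)).fromSpecResidueField s).appTop.hom
        ((Scheme.ΓSpecIso (CommRingCat.of V)).inv.hom v)) = 0 := by
    have := congr($(h1).hom ((Scheme.ΓSpecIso (CommRingCat.of V)).inv.hom v))
    rw [h2] at this
    exact this
  have hinj : Function.Injective
      (Scheme.ΓSpecIso ((Spec (CommRingCat.of V)).residueField s)).hom.hom :=
    (ConcreteCategory.bijective_of_isIso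
      (Scheme.ΓSpecIso ((Spec (CommRingCat.of V)).residueField s)).hom).1
  apply hinj
  rw [h3, map_zero]


theorem exists_fiberι_factor {V A : Type u} [CommRing V] [CommRing A] [Algebra V A]
    (s : ↥(Spec (CommRingCat.of V))) (J : Ideal V) (hJ : J ≤ s.asIdeal) :
    ∃ j : (Spec.map (CommRingCat.ofHom (algebraMap V A))).fiber s ⟶
        Spec (CommRingCat.of (A ⧸ J.map (algebraMap V A))),
      j ≫ Spec.map (CommRingCat.ofHom (Ideal.Quotient.mk (J.map (algebraMap V A)))) =
        (Spec.map (CommRingCat.ofHom (algebraMap V A))).fiberι s := by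
  set g := Spec.map (CommRingCat.ofHom (algebraMap V A)) with hg
  set I := J.map (algebraMap V A) with hI
  set i := Spec.map (CommRingCat.ofHom (Ideal.Quotient.mk I)) with hi
  haveI : IsClosedImmersion i :=
    IsClosedImmersion.spec_of_surjective _ Ideal.Quotient.mk_surjective
  -- the ring map `A → Γ(fibre)`
  let ψ : A →+* Γ(g.fiber s, ⊤) :=
    ((Scheme.ΓSpecIso (CommRingCat.of A)).inv ≫ (g.fiberι s).appTop).hom
  have hψ : I ≤ RingHom.ker ψ := by
    rw [hI, Ideal.map_le_iff_le_comap]
    intro v hv
    rw [Ideal.mem_comap, RingHom.mem_ker]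
    have e1 : CommRingCat.ofHom (algebraMap V A) ≫ (Scheme.ΓSpecIso (CommRingCat.of A)).inv ≫
        (g.fiberι s).appTop =
        (Scheme.ΓSpecIso (CommRingCat.of V)).inv ≫
          ((Spec (CommRingCat.of V)).fromSpecResidueField s).appTop ≫
          (g.fiberToSpecResidueField s).appTop := by
      rw [← Category.assoc, Scheme.ΓSpecIso_inv_naturality, Category.assoc,
        ← Scheme.Hom.comp_appTop, ← Scheme.Hom.comp_appTop, g.fiber_fac s]
    have e2 := congr($(e1).hom v)
    change ψ (algebraMap V A v) = _ at e2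
    rw [e2]
    change (g.fiberToSpecResidueField s).appTop.hom
      (((Spec (CommRingCat.of V)).fromSpecResidueField s).appTop.hom
        ((Scheme.ΓSpecIso (CommRingCat.of V)).inv.hom v)) = 0
    rw [fromSpecResidueField_appTop_eq_zero s v (hJ hv), map_zero]
  have H : i.ker ≤ (g.fiberι s).ker := by
    rw [Scheme.ker_of_isAffine, Scheme.ker_of_isAffine]
    rw [← Scheme.IdealSheafData.equivOfIsAffine_symm_apply,
      ← Scheme.IdealSheafData.equivOfIsAffine_symm_apply, map_le_map_iff]
    intro x hx
    rw [RingHom.mem_ker] at hx ⊢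
    -- `x = ΓSpecIso.inv a` with `a ∈ I`
    set a : A := (Scheme.ΓSpecIso (CommRingCat.of A)).hom.hom x with ha
    have hxa : x = (Scheme.ΓSpecIso (CommRingCat.of A)).inv.hom a := by
      rw [ha]
      change x = ((Scheme.ΓSpecIso (CommRingCat.of A)).hom ≫
        (Scheme.ΓSpecIso (CommRingCat.of A)).inv).hom x
      rw [Iso.hom_inv_id]
      rfl
    have haI : a ∈ I := by
      have h1 := congr($(Scheme.ΓSpecIso_naturality
        (CommRingCat.ofHom (Ideal.Quotient.mk I))).hom x)
      change (Scheme.ΓSpecIso (CommRingCat.of (A ⧸ I))).hom.hom (i.appTop.hom x) =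
        Ideal.Quotient.mk I a at h1
      rw [hx, map_zero] at h1
      exact Ideal.Quotient.eq_zero_iff_mem.mp h1.symm
    have h2 : ψ a = 0 := hψ haI
    rw [hxa]
    exact h2
  exact ⟨IsClosedImmersion.lift i (g.fiberι s) H, IsClosedImmersion.lift_fac _ _ _⟩


/-- Base change in stages: if `i = e ≫ c` then `pullback.snd h i` is a base change of
`pullback.snd h c`. -/
theorem pasting (P : MorphismProperty Scheme.{u}) [P.IsStableUnderBaseChange]
    {X Y Y' Y'' : Scheme.{u}} (h : X ⟶ Y) (c : Y' ⟶ Y) (e : Y'' ⟶ Y') (i : Y'' ⟶ Y)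
    (hi : e ≫ c = i) (hP : P (pullback.snd h c)) : P (pullback.snd h i) := by
  subst hi
  have P2 : IsPullback (pullback.fst h c) (pullback.snd h c) h c := IsPullback.of_hasPullback h c
  have P1 : IsPullback (pullback.fst h (e ≫ c)) (pullback.snd h (e ≫ c)) h (e ≫ c) :=
    IsPullback.of_hasPullback h (e ≫ c)
  have hw : pullback.fst h (e ≫ c) ≫ h = (pullback.snd h (e ≫ c) ≫ e) ≫ c := by
    rw [Category.assoc]; exact P1.w
  let l : pullback h (e ≫ c) ⟶ pullback h c :=
    pullback.lift (pullback.fst h (e ≫ c)) (pullback.snd h (e ≫ c) ≫ e) hw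
  have hl1 : l ≫ pullback.fst h c = pullback.fst h (e ≫ c) := pullback.lift_fst _ _ _
  have hl2 : l ≫ pullback.snd h c = pullback.snd h (e ≫ c) ≫ e := pullback.lift_snd _ _ _
  have P1' : IsPullback (l ≫ pullback.fst h c) (pullback.snd h (e ≫ c)) h (e ≫ c) := by
    rw [hl1]; exact P1
  have P3 : IsPullback l (pullback.snd h (e ≫ c)) (pullback.snd h c) e :=
    IsPullback.of_right P1' hl2 P2
  exact MorphismProperty.of_isPullback P3 hP

/-- Flatness of the map of fibres over a point `s` of `Spec V` with `J ≤ s`, from flatness of the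
base change to `Spec (A/JA)`. -/
theorem flat_fiberMap_of_flat_snd {V A : Type u} [CommRing V] [CommRing A] [Algebra V A]
    {X : Scheme.{u}} (h : X ⟶ Spec (CommRingCat.of A))
    (s : ↥(Spec (CommRingCat.of V))) (J : Ideal V) (hJ : J ≤ s.asIdeal)
    (hfl : Flat (pullback.snd h (Spec.map (CommRingCat.ofHom
      (Ideal.Quotient.mk (J.map (algebraMap V A))))))) :
    Flat (MoreMor.fiberMap h (Spec.map (CommRingCat.ofHom (algebraMap V A))) s) := by
  set g := Spec.map (CommRingCat.ofHom (algebraMap V A)) with hg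
  set i := Spec.map (CommRingCat.ofHom (Ideal.Quotient.mk (J.map (algebraMap V A)))) with hi
  obtain ⟨j, hj⟩ := exists_fiberι_factor (A := A) s J hJ
  have P1 : IsPullback ((h ≫ g).fiberι s) (MoreMor.fiberMap h g s) h (g.fiberι s) :=
    Groth.Agent.Lib.Helper14.LCF.isPullback_fiberMap h g s
  have P2 : IsPullback (pullback.fst h i) (pullback.snd h i) h i := IsPullback.of_hasPullback h i
  have hw : (h ≫ g).fiberι s ≫ h = (MoreMor.fiberMap h g s ≫ j) ≫ i := by
    rw [Category.assoc, hj]; exact P1.w
  let l : (h ≫ g).fiber s ⟶ pullback h i :=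
    pullback.lift ((h ≫ g).fiberι s) (MoreMor.fiberMap h g s ≫ j) hw
  have hl1 : l ≫ pullback.fst h i = (h ≫ g).fiberι s := pullback.lift_fst _ _ _
  have hl2 : l ≫ pullback.snd h i = MoreMor.fiberMap h g s ≫ j := pullback.lift_snd _ _ _
  have P1' : IsPullback (l ≫ pullback.fst h i) (MoreMor.fiberMap h g s) h (j ≫ i) := by
    rw [hl1, hj]; exact P1
  have P3 : IsPullback l (MoreMor.fiberMap h g s) (pullback.snd h i) j :=
    IsPullback.of_right P1' hl2 P2
  exact MorphismProperty.of_isPullback (P := @Flat) P3 hfl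

end Groth.Agent.Lib.Helper25.AdicFlat
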