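import Mathlib
import Groth.Agent.Lib.Helper25.AdicFlatA

/-!
# Flatness of a proper morphism near the closed fibre vs. after adic completion (helper25)
-/

set_option autoImplicit false
set_option linter.style.haveILetI false

universe u

open CategoryTheory CategoryTheory.Limits AlgebraicGeometry

namespace Groth.Agent.Lib.Helper25.AdicFlat

theorem SpecMap_asIdeal {R S : Type u} [CommRing R] [CommRing S] (φ : R →+* S)
    (p : ↥(Spec (CommRingCat.of S))) :
    ((Spec.map (CommRingCat.ofHom φ)) p).asIdeal = p.asIdeal.comap φ := rfl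

/-- Any ring map out of a field is flat. -/
theorem flat_of_isField {T M : Type u} [CommRing T] [CommRing M] (hT : IsField T) (φ : T →+* M) :
    φ.Flat := by
  letI := hT.toField
  algebraize [φ]
  show Module.Flat T M
  infer_instance

/-- The local ring of `Spec V` at the generic point of a domain is a field. -/
theorem isField_stalk_of_asIdeal_eq_bot {V : Type u} [CommRing V] [IsDomain V]
    (s : ↥(Spec (CommRingCat.of V))) (hs : s.asIdeal = ⊥) :
    IsField ((Spec (CommRingCat.of V)).presheaf.stalk s) := by
  have hloc : IsLocalization.AtPrime ((Spec.structureSheaf V).presheaf.stalk s) s.asIdeal :=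
    StructureSheaf.IsLocalization.to_stalk V s
  haveI : IsLocalRing ((Spec.structureSheaf V).presheaf.stalk s) :=
    IsLocalization.AtPrime.isLocalRing _ s.asIdeal
  have h1 := IsLocalization.AtPrime.map_eq_maximalIdeal s.asIdeal
    ((Spec.structureSheaf V).presheaf.stalk s)
  rw [hs, Ideal.map_bot] at h1
  exact IsLocalRing.isField_iff_maximalIdeal_eq.mpr h1.symm

/-- **Flatness near the closed fibre vs. flatness after `𝔪A`-adic completion**, for a proper
morphism to the spectrum of a smooth algebra over a discrete valuation ring. -/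
theorem main
    (V : Type u) [CommRing V] [IsDomain V] [IsDiscreteValuationRing V]
    (A : Type u) [CommRing A] [Algebra V A] [Algebra.Smooth V A]
    (X : Scheme.{u}) (h : X ⟶ Spec (CommRingCat.of A)) [IsProper h] :
    (Flat (h ≫ Spec.map (CommRingCat.ofHom (algebraMap V A))) ∧
        Flat (pullback.snd h (Spec.map (CommRingCat.ofHom
          (Ideal.Quotient.mk ((IsLocalRing.maximalIdeal V).map (algebraMap V A))))))) ↔
      Flat (pullback.snd h (Spec.map (CommRingCat.ofHom
          (algebraMap A (AdicCompletion ((IsLocalRing.maximalIdeal V).map (algebraMap V A)) A))))) := by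
  set 𝔪 : Ideal V := IsLocalRing.maximalIdeal V with h𝔪
  set I : Ideal A := 𝔪.map (algebraMap V A) with hI
  set g : Spec (CommRingCat.of A) ⟶ Spec (CommRingCat.of V) :=
    Spec.map (CommRingCat.ofHom (algebraMap V A)) with hg
  set i : Spec (CommRingCat.of (A ⧸ I)) ⟶ Spec (CommRingCat.of A) :=
    Spec.map (CommRingCat.ofHom (Ideal.Quotient.mk I)) with hi
  set c : Spec (CommRingCat.of (AdicCompletion I A)) ⟶ Spec (CommRingCat.of A) :=
    Spec.map (CommRingCat.ofHom (algebraMap A (AdicCompletion I A))) with hc
  haveI hAnoeth : IsNoetherianRing A := Algebra.FiniteType.isNoetherianRing V A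
  have fg : I.FG := IsNoetherian.noetherian I
  haveI hlfp : LocallyOfFinitePresentation h :=
    LocallyOfFinitePresentation.iff_locallyOfFiniteType.mpr inferInstance
  haveI hglfp : LocallyOfFinitePresentation g :=
    (HasRingHomProperty.Spec_iff (P := @LocallyOfFinitePresentation)).mpr
      (RingHom.finitePresentation_algebraMap.mpr inferInstance)
  haveI hgflat : Flat g := Flat.SpecMap_iff.mpr (RingHom.flat_algebraMap_iff.mpr inferInstance)
  haveI hcflat : Flat c := Flat.SpecMap_iff.mpr (RingHom.flat_algebraMap_iff.mpr inferInstance)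
  have hgstalk : ∀ y, (g.stalkMap y).hom.Flat := (Flat.iff_flat_stalkMap g).mp hgflat
  have hg_as : ∀ y : ↥(Spec (CommRingCat.of A)),
      (g y).asIdeal = y.asIdeal.comap (algebraMap V A) := fun _ => rfl
  have hc_as : ∀ y : ↥(Spec (CommRingCat.of (AdicCompletion I A))),
      (c y).asIdeal = y.asIdeal.comap (algebraMap A (AdicCompletion I A)) := fun _ => rfl
  constructor
  · rintro ⟨hF1, hF2⟩
    -- Step 1: `h` is flat at the points over the closed point of `Spec V`
    have step1 : ∀ x : X, 𝔪 ≤ (g (h x)).asIdeal → (h.stalkMap x).hom.Flat := by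
      intro x hx
      have hfib : Flat (MoreMor.fiberMap h g (g (h x))) :=
        flat_fiberMap_of_flat_snd h (g (h x)) 𝔪 hx hF2
      exact ((Groth.Agent.Lib.Helper14.LCF.flat_fiberMap_iff h g x).mp
        ⟨(Flat.iff_flat_stalkMap _).mp hF1 x, (Flat.iff_flat_stalkMap _).mp hfib _⟩).2
    -- Step 2: the base change is flat at the points over `V(I Â)`
    have step2 : ∀ z : ↑(pullback h c), I.map (algebraMap A (AdicCompletion I A)) ≤
        ((pullback.snd h c) z).asIdeal → ((pullback.snd h c).stalkMap z).hom.Flat := by
      intro z hz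
      have hpt : h ((pullback.fst h c) z) = c ((pullback.snd h c) z) := by
        rw [← Scheme.Hom.comp_apply, ← Scheme.Hom.comp_apply, pullback.condition]
      have hm : 𝔪 ≤ (g (h ((pullback.fst h c) z))).asIdeal := by
        rw [hpt]
        intro v hv
        rw [hg_as, hc_as, Ideal.mem_comap, Ideal.mem_comap]
        exact hz (Ideal.mem_map_of_mem _ (Ideal.mem_map_of_mem _ hv))
      exact Groth.Agent.Lib.Helper17.FibreFlat.flat_stalkMap_baseChange
        (IsPullback.of_hasPullback h c).flip z (step1 _ hm)
    -- Step 3: the non-flat locus is closed, and its closed image would meet `V(I Â)`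
    rw [Flat.iff_flat_stalkMap]
    by_contra hcon
    push_neg at hcon
    obtain ⟨z0, hz0⟩ := hcon
    haveI : LocallyOfFinitePresentation (pullback.snd h c) :=
      MorphismProperty.pullback_snd _ _ hlfp
    haveI : IsProper (pullback.snd h c) := MorphismProperty.pullback_snd _ _ inferInstance
    have hopen : IsOpen {z : ↑(pullback h c) | ((pullback.snd h c).stalkMap z).hom.Flat} :=
      Groth.Agent.Lib.Helper14.FlatOpen.isOpen_flat_stalkMap (pullback.snd h c)
    have hclosed : IsClosed ((pullback.snd h c) ''
        {z : ↑(pullback h c) | ¬ ((pullback.snd h c).stalkMap z).hom.Flat}) := by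
      refine (pullback.snd h c).isClosedMap _ ?_
      have : {z : ↑(pullback h c) | ¬ ((pullback.snd h c).stalkMap z).hom.Flat} =
          {z : ↑(pullback h c) | ((pullback.snd h c).stalkMap z).hom.Flat}ᶜ := rfl
      rw [this]
      exact hopen.isClosed_compl
    obtain ⟨𝔫, h𝔫max, h𝔫le⟩ := Ideal.exists_le_maximal ((pullback.snd h c) z0).asIdeal
      ((pullback.snd h c) z0).isPrime.ne_top
    let n : ↥(Spec (CommRingCat.of (AdicCompletion I A))) :=
      (⟨𝔫, h𝔫max.isPrime⟩ : PrimeSpectrum (AdicCompletion I A))
    have hspec : ((pullback.snd h c) z0) ⤳ n :=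
      (PrimeSpectrum.le_iff_specializes
        (((pullback.snd h c) z0 : PrimeSpectrum (AdicCompletion I A))) n).mp h𝔫le
    have hn_mem : n ∈ (pullback.snd h c) ''
        {z : ↑(pullback h c) | ¬ ((pullback.snd h c).stalkMap z).hom.Flat} :=
      hspec.mem_closed hclosed ⟨z0, hz0, rfl⟩
    obtain ⟨z1, hz1, hz1n⟩ := hn_mem
    apply hz1
    apply step2
    rw [hz1n]
    show I.map (algebraMap A (AdicCompletion I A)) ≤ 𝔫
    haveI := AdicCompletion.isAdicComplete_self I fg
    exact (IsAdicComplete.le_jacobson_bot (I.map (algebraMap A (AdicCompletion I A)))).trans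
      (sInf_le ⟨bot_le, h𝔫max⟩)
  · intro hF
    haveI : Flat (pullback.snd h c) := hF
    -- (a) the closed fibre
    let e : Spec (CommRingCat.of (A ⧸ I)) ⟶ Spec (CommRingCat.of (AdicCompletion I A)) :=
      Spec.map (CommRingCat.ofHom (AdicCompletion.evalOneₐ I).toRingHom)
    have hei : e ≫ c = i := by
      show Spec.map (CommRingCat.ofHom (AdicCompletion.evalOneₐ I).toRingHom) ≫
        Spec.map (CommRingCat.ofHom (algebraMap A (AdicCompletion I A))) =
        Spec.map (CommRingCat.ofHom (Ideal.Quotient.mk I))
      rw [← Spec.map_comp, ← CommRingCat.ofHom_comp,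
        AdicCompletion.evalOneₐ_comp_algebraMap_eq_mk]
    have hFi : Flat (pullback.snd h i) := pasting @Flat h c e i hei hF
    -- (b) `h` is flat at the points over the closed point of `Spec V`
    have stepb : ∀ x : X, 𝔪 ≤ (g (h x)).asIdeal → (h.stalkMap x).hom.Flat := by
      intro x hx
      have hIx : I ≤ (h x).asIdeal := by
        rw [hI, Ideal.map_le_iff_le_comap]
        exact hx
      have hxr : (h x : PrimeSpectrum A) ∈
          Set.range (PrimeSpectrum.comap (Ideal.Quotient.mk I)) := by
        rw [range_comap_of_surjective _ _ Ideal.Quotient.mk_surjective,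
          Ideal.mk_ker]
        exact (PrimeSpectrum.mem_zeroLocus _ _).mpr (SetLike.coe_subset_coe.mpr hIx)
      obtain ⟨pbar, hpbar⟩ := hxr
      have hcy : h x = c (e pbar) := by
        rw [← Scheme.Hom.comp_apply, hei]
        exact hpbar.symm
      obtain ⟨z, rfl, hz2⟩ := Scheme.Pullback.exists_preimage_pullback x (e pbar) hcy
      have hqh : Flat (pullback.fst h c ≫ h) := by
        rw [pullback.condition]
        infer_instance
      haveI hq : Flat (pullback.fst h c) := MorphismProperty.pullback_fst _ _ hcflat
      exact Groth.Agent.Lib.Helper14.LCF.flat_stalkMap_of_comp (pullback.fst h c) h z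
        ((Flat.iff_flat_stalkMap _).mp hqh z) ((Flat.iff_flat_stalkMap _).mp hq z)
    -- (c) flatness over `V`
    refine ⟨?_, hFi⟩
    rw [Flat.iff_flat_stalkMap]
    intro x
    by_cases hs : (g (h x)).asIdeal = ⊥
    · exact flat_of_isField (isField_stalk_of_asIdeal_eq_bot ((h ≫ g) x) hs) _
    · haveI : (g (h x)).asIdeal.IsPrime := (g (h x)).isPrime
      have hmax : (g (h x)).asIdeal.IsMaximal := IsPrime.to_maximal_ideal hs
      have heq : (g (h x)).asIdeal = 𝔪 := IsLocalRing.eq_maximalIdeal hmax
      rw [Scheme.Hom.stalkMap_comp]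
      exact RingHom.Flat.comp (hgstalk (h x)) (stepb x heq.ge)

end Groth.Agent.Lib.Helper25.AdicFlat
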