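import Mathlib
import Groth.Agent.Lib.Helper25.AdicFlatB
import Groth.Agent.Lib.Helper8.SmoothLocusBC

/-!
# Smoothness of a proper morphism near the closed fibre vs. after adic completion (helper25)
-/

set_option autoImplicit false
set_option linter.style.haveILetI false

universe u

open CategoryTheory CategoryTheory.Limits AlgebraicGeometry

namespace Groth.Agent.Lib.Helper25.AdicFlat

/-- Base change in stages: the comparison square. -/
theorem pasting_isPullback {X Y Y' Y'' : Scheme.{u}} (h : X ⟶ Y) (c : Y' ⟶ Y) (e : Y'' ⟶ Y')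
    (i : Y'' ⟶ Y) (hi : e ≫ c = i) :
    ∃ l : pullback h i ⟶ pullback h c,
      IsPullback l (pullback.snd h i) (pullback.snd h c) e := by
  subst hi
  have P2 : IsPullback (pullback.fst h c) (pullback.snd h c) h c := IsPullback.of_hasPullback h c
  have P1 : IsPullback (pullback.fst h (e ≫ c)) (pullback.snd h (e ≫ c)) h (e ≫ c) :=
    IsPullback.of_hasPullback h (e ≫ c)
  have hw : pullback.fst h (e ≫ c) ≫ h = (pullback.snd h (e ≫ c) ≫ e) ≫ c := by
    rw [Category.assoc]; exact P1.w
  let l : pullback h (e ≫ c) ⟶ pullback h c :=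
    pullback.lift (pullback.fst h (e ≫ c)) (pullback.snd h (e ≫ c) ≫ e) hw
  have hl1 : l ≫ pullback.fst h c = pullback.fst h (e ≫ c) := pullback.lift_fst _ _ _
  have hl2 : l ≫ pullback.snd h c = pullback.snd h (e ≫ c) ≫ e := pullback.lift_snd _ _ _
  have P1' : IsPullback (l ≫ pullback.fst h c) (pullback.snd h (e ≫ c)) h (e ≫ c) := by
    rw [hl1]; exact P1
  exact ⟨l, IsPullback.of_right P1' hl2 P2⟩

/-- **Smoothness near the closed fibre vs. smoothness after `𝔪A`-adic completion**, for a proper
morphism to the spectrum of a smooth algebra over a discrete valuation ring. -/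
theorem main_smooth
    (V : Type u) [CommRing V] [IsDomain V] [IsDiscreteValuationRing V]
    (A : Type u) [CommRing A] [Algebra V A] [Algebra.Smooth V A]
    (X : Scheme.{u}) (h : X ⟶ Spec (CommRingCat.of A)) [IsProper h] :
    (Flat (h ≫ Spec.map (CommRingCat.ofHom (algebraMap V A))) ∧
        Smooth (pullback.snd h (Spec.map (CommRingCat.ofHom
          (Ideal.Quotient.mk ((IsLocalRing.maximalIdeal V).map (algebraMap V A))))))) ↔
      Smooth (pullback.snd h (Spec.map (CommRingCat.ofHom
          (algebraMap A (AdicCompletion ((IsLocalRing.maximalIdeal V).map (algebraMap V A)) A))))) := by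
  have hflatiff := main V A X h
  set 𝔪 : Ideal V := IsLocalRing.maximalIdeal V with h𝔪
  set I : Ideal A := 𝔪.map (algebraMap V A) with hI
  set g : Spec (CommRingCat.of A) ⟶ Spec (CommRingCat.of V) :=
    Spec.map (CommRingCat.ofHom (algebraMap V A)) with hg
  set i : Spec (CommRingCat.of (A ⧸ I)) ⟶ Spec (CommRingCat.of A) :=
    Spec.map (CommRingCat.ofHom (Ideal.Quotient.mk I)) with hi
  set c : Spec (CommRingCat.of (AdicCompletion I A)) ⟶ Spec (CommRingCat.of A) :=
    Spec.map (CommRingCat.ofHom (algebraMap A (AdicCompletion I A))) with hc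
  haveI hAnoeth : IsNoetherianRing A := Algebra.FiniteType.isNoetherianRing V A
  have fg : I.FG := IsNoetherian.noetherian I
  haveI hlfp : LocallyOfFinitePresentation h :=
    LocallyOfFinitePresentation.iff_locallyOfFiniteType.mpr inferInstance
  let e : Spec (CommRingCat.of (A ⧸ I)) ⟶ Spec (CommRingCat.of (AdicCompletion I A)) :=
    Spec.map (CommRingCat.ofHom (AdicCompletion.evalOneₐ I).toRingHom)
  have hei : e ≫ c = i := by
    show Spec.map (CommRingCat.ofHom (AdicCompletion.evalOneₐ I).toRingHom) ≫
      Spec.map (CommRingCat.ofHom (algebraMap A (AdicCompletion I A))) =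
      Spec.map (CommRingCat.ofHom (Ideal.Quotient.mk I))
    rw [← Spec.map_comp, ← CommRingCat.ofHom_comp,
      AdicCompletion.evalOneₐ_comp_algebraMap_eq_mk]
  constructor
  · rintro ⟨hF1, hS2⟩
    haveI : Smooth (pullback.snd h i) := hS2
    have hF2 : Flat (pullback.snd h i) := inferInstance
    have hF : Flat (pullback.snd h c) := hflatiff.mp ⟨hF1, hF2⟩
    haveI : LocallyOfFinitePresentation (pullback.snd h c) :=
      MorphismProperty.pullback_snd _ _ hlfp
    haveI : LocallyOfFinitePresentation (pullback.snd h i) :=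
      MorphismProperty.pullback_snd _ _ hlfp
    haveI : IsProper (pullback.snd h c) := MorphismProperty.pullback_snd _ _ inferInstance
    obtain ⟨l, hl⟩ := pasting_isPullback h c e i hei
    -- the points over the range of `e` are smooth points
    have key : ∀ z : ↑(pullback h c), (pullback.snd h c) z ∈ Set.range e →
        z ∈ (pullback.snd h c).smoothLocus := by
      rintro z ⟨y, hy⟩
      obtain ⟨w, hw1, hw2⟩ := Scheme.Pullback.exists_preimage_pullback
        (f := pullback.snd h c) (g := e) z y hy.symm
      have hlw : l (hl.isoPullback.inv w) = z := by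
        rw [← Scheme.Hom.comp_apply, IsPullback.isoPullback_inv_fst]
        exact hw1
      rw [← hlw, ← Groth.Agent.Lib.Helper8.SmoothLocusBC.mem_smoothLocus_iff_of_isPullback
        (pullback.snd h c) e (pullback.snd h i) l hl (Or.inl hF),
        Scheme.Hom.smoothLocus_eq_top]
      exact TopologicalSpace.Opens.mem_top _
    rw [← Scheme.Hom.smoothLocus_eq_top_iff]
    by_contra hcon
    have hex : ∃ z0, z0 ∉ (pullback.snd h c).smoothLocus := by
      by_contra hall
      push_neg at hall
      exact hcon (eq_top_iff.mpr (fun z _ => hall z))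
    obtain ⟨z0, hz0⟩ := hex
    have hclosed : IsClosed ((pullback.snd h c) ''
        ((pullback.snd h c).smoothLocus : Set ↑(pullback h c))ᶜ) :=
      (pullback.snd h c).isClosedMap _ (pullback.snd h c).smoothLocus.isOpen.isClosed_compl
    obtain ⟨𝔫, h𝔫max, h𝔫le⟩ := Ideal.exists_le_maximal ((pullback.snd h c) z0).asIdeal
      ((pullback.snd h c) z0).isPrime.ne_top
    let n : ↥(Spec (CommRingCat.of (AdicCompletion I A))) :=
      (⟨𝔫, h𝔫max.isPrime⟩ : PrimeSpectrum (AdicCompletion I A))
    have hspec : ((pullback.snd h c) z0) ⤳ n :=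
      (PrimeSpectrum.le_iff_specializes
        (((pullback.snd h c) z0 : PrimeSpectrum (AdicCompletion I A))) n).mp h𝔫le
    have hn_mem : n ∈ (pullback.snd h c) ''
        ((pullback.snd h c).smoothLocus : Set ↑(pullback h c))ᶜ :=
      hspec.mem_closed hclosed ⟨z0, hz0, rfl⟩
    obtain ⟨z1, hz1, hz1n⟩ := hn_mem
    apply hz1
    apply key
    rw [hz1n]
    have hIn : I.map (algebraMap A (AdicCompletion I A)) ≤ 𝔫 := by
      haveI := AdicCompletion.isAdicComplete_self I fg
      exact (IsAdicComplete.le_jacobson_bot (I.map (algebraMap A (AdicCompletion I A)))).trans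
        (sInf_le ⟨bot_le, h𝔫max⟩)
    have hnr : (n : PrimeSpectrum (AdicCompletion I A)) ∈
        Set.range (PrimeSpectrum.comap (AdicCompletion.evalOneₐ I).toRingHom) := by
      rw [range_comap_of_surjective _ _ (AdicCompletion.evalOneₐ_surjective I),
        AdicCompletion.ker_evalOneₐ_eq_map I fg]
      exact (PrimeSpectrum.mem_zeroLocus _ _).mpr (SetLike.coe_subset_coe.mpr hIn)
    obtain ⟨y, hy⟩ := hnr
    exact ⟨y, hy⟩
  · intro hS
    haveI : Smooth (pullback.snd h c) := hS
    have hF : Flat (pullback.snd h c) := inferInstance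
    exact ⟨(hflatiff.mpr hF).1, pasting @Smooth h c e i hei hS⟩

end Groth.Agent.Lib.Helper25.AdicFlat
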