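import Mathlib
import Groth.Agent.Lib.Helper25.SmoothDescent

/-! # Étaleness / formal unramifiedness descend along étale surjections on the source (helper25) -/

set_option autoImplicit false
set_option linter.style.haveILetI false
universe u
open CategoryTheory AlgebraicGeometry
open scoped TensorProduct

namespace Groth.Agent.Lib.Helper25.EtaleDescent

theorem fu_source : RingHom.StableUnderCompositionWithLocalizationAwaySource
    @RingHom.FormallyUnramified := by
  intro R S T _ _ _ _ r _ f hf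
  exact RingHom.FormallyUnramified.stableUnderComposition _ _
    (RingHom.FormallyUnramified.holdsForLocalizationAway S r) hf

/-- `R → A → B` with `A → B` étale and surjective on spectra, `R → B` formally unramified
⟹ `R → A` formally unramified. -/
theorem fu_desc {R A B : Type u} [CommRing R] [CommRing A] [CommRing B] (φ : R →+* A)
    (ψ : A →+* B) (h0 : ψ.Flat) (h1 : ψ.Etale)
    (h3 : Function.Surjective (PrimeSpectrum.comap ψ))
    (h4 : (ψ.comp φ).FormallyUnramified) : φ.FormallyUnramified := by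
  letI := φ.toAlgebra
  letI := ψ.toAlgebra
  letI := (ψ.comp φ).toAlgebra
  haveI : IsScalarTower R A B := IsScalarTower.of_algebraMap_eq (fun _ => rfl)
  haveI : Module.Flat A B := h0
  haveI : Module.FaithfullyFlat A B := Module.FaithfullyFlat.of_comap_surjective h3
  haveI : Algebra.Etale A B := h1
  haveI : Algebra.FormallyUnramified R B := h4
  show Algebra.FormallyUnramified R A
  rw [Algebra.formallyUnramified_iff]
  have e := KaehlerDifferential.tensorKaehlerEquivOfFormallyEtale R A B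
  haveI : Subsingleton (B ⊗[A] Ω[A⁄R]) := e.toEquiv.subsingleton
  exact Module.FaithfullyFlat.lTensor_reflects_triviality A B _

theorem fu_core {Y S : Scheme.{u}} (q : Y ⟶ S)
    (H : ∀ y : Y, ∃ (X : Scheme.{u}) (f : X ⟶ Y) (x : X), f x = y ∧ Etale f ∧
      FormallyUnramified (f ≫ q)) : FormallyUnramified q := by
  rw [HasRingHomProperty.iff_exists_appLE (P := @FormallyUnramified) fu_source]
  intro y
  obtain ⟨X, f, x, rfl, hfe, h⟩ := H y
  obtain ⟨U, hU, hqU, -⟩ := exists_isAffineOpen_mem_and_subset (x := q (f x)) (U := ⊤) trivial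
  obtain ⟨V, hV, hxV, hVU⟩ :=
    exists_isAffineOpen_mem_and_subset (x := f x) (U := q ⁻¹ᵁ U) hqU
  obtain ⟨W, hW, hxW, hWV⟩ := exists_isAffineOpen_mem_and_subset (x := x) (U := f ⁻¹ᵁ V) hxV
  have hfW : IsOpen (f '' (W : Set X)) := f.isOpenMap _ W.2
  let O : Y.Opens := ⟨f '' (W : Set X), hfW⟩
  have hxO : f x ∈ O := ⟨x, hxW, rfl⟩
  obtain ⟨g, hg1, hg2⟩ := hV.exists_basicOpen_le (V := O) ⟨f x, hxO⟩ hxV
  have hV' : IsAffineOpen (Y.basicOpen g) := hV.basicOpen g
  have hV'V : Y.basicOpen g ≤ V := Y.basicOpen_le g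
  have hWV' : W ≤ f ⁻¹ᵁ V := hWV
  have hVU' : V ≤ q ⁻¹ᵁ U := hVU
  set g' := f.appLE V W hWV' g with hg'
  have hW' : IsAffineOpen (X.basicOpen g') := hW.basicOpen g'
  have hW'eq : X.basicOpen g' = W ⊓ f ⁻¹ᵁ (Y.basicOpen g) := Scheme.basicOpen_appLE f W V hWV' g
  have e2 : X.basicOpen g' ≤ f ⁻¹ᵁ (Y.basicOpen g) := by rw [hW'eq]; exact inf_le_right
  have e1 : Y.basicOpen g ≤ q ⁻¹ᵁ U := hV'V.trans hVU'
  refine ⟨⟨U, hU⟩, ⟨Y.basicOpen g, hV'⟩, hg2, e1, ?_⟩
  have hcomp := HasRingHomProperty.appLE (P := @FormallyUnramified) (f ≫ q) h ⟨U, hU⟩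
    ⟨X.basicOpen g', hW'⟩
    (e2.trans ((TopologicalSpace.Opens.map f.base).map (homOfLE e1)).le)
  rw [← Scheme.Hom.appLE_comp_appLE f q U (Y.basicOpen g) (X.basicOpen g') e1 e2] at hcomp
  rw [CommRingCat.hom_comp] at hcomp
  refine fu_desc _ _ ?_ ?_ ?_ hcomp
  · exact HasRingHomProperty.appLE (P := @Flat) f inferInstance ⟨_, hV'⟩ ⟨_, hW'⟩ e2
  · exact HasRingHomProperty.appLE (P := @Etale) f hfe ⟨_, hV'⟩ ⟨_, hW'⟩ e2
  · intro 𝔭
    have hvV' : hV'.fromSpec 𝔭 ∈ Y.basicOpen g := by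
      have : hV'.fromSpec 𝔭 ∈ Set.range hV'.fromSpec := ⟨𝔭, rfl⟩
      rw [hV'.range_fromSpec] at this
      exact this
    obtain ⟨w, hwW, hw⟩ := hg1 hvV'
    have hwW' : w ∈ X.basicOpen g' := by
      rw [hW'eq]
      refine ⟨hwW, ?_⟩
      show f w ∈ Y.basicOpen g
      rw [hw]; exact hvV'
    refine ⟨hW'.primeIdealOf ⟨w, hwW'⟩, ?_⟩
    apply hV'.fromSpec.isOpenEmbedding.injective
    have h := IsAffineOpen.SpecMap_appLE_fromSpec f hV' hW' e2
    have h1 : (Spec.map (f.appLE (Y.basicOpen g) (X.basicOpen g') e2) ≫ hV'.fromSpec)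
        (hW'.primeIdealOf ⟨w, hwW'⟩) = (hW'.fromSpec ≫ f) (hW'.primeIdealOf ⟨w, hwW'⟩) := by
      rw [h]
    rw [Scheme.Hom.comp_apply, Scheme.Hom.comp_apply, hW'.fromSpec_primeIdealOf, hw] at h1
    exact h1

/-- Formal unramifiedness descends along étale surjections on the source. -/
theorem formallyUnramified_of_comp {X Y S : Scheme.{u}} (f : X ⟶ Y) (q : Y ⟶ S) [Surjective f]
    [hf : Etale f] [h : FormallyUnramified (f ≫ q)] : FormallyUnramified q :=
  fu_core q (fun y => by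
    obtain ⟨x, rfl⟩ := f.surjective y
    exact ⟨X, f, x, rfl, hf, h⟩)

/-- Étaleness descends along étale surjections on the source. -/
theorem etale_of_comp {X Y S : Scheme.{u}} (f : X ⟶ Y) (q : Y ⟶ S) [Surjective f]
    [hf : Etale f] [h : Etale (f ≫ q)] : Etale q := by
  haveI : Smooth q := Groth.Agent.Lib.Helper25.SmoothDescent.smooth_of_comp f q
  haveI : FormallyUnramified q := formallyUnramified_of_comp f q
  rw [Etale.iff_flat_and_formallyUnramified]
  exact ⟨inferInstance, inferInstance, inferInstance⟩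

end Groth.Agent.Lib.Helper25.EtaleDescent
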