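import Groth.Agent.Lib.Helper15.LocalAtSourceMain
import Groth.Agent.Lib.Helper25.EtaleDescent

/-!
# Smooth / étale morphisms: descent along covers of the source (schemes and algebraic spaces) (helper25)

* `smooth_of_forall_comp`, `etale_of_forall_comp`: for a jointly surjective family `R` of flat lfp
  morphisms `g : U ⟶ X`, if all `g ≫ f` are smooth (étale) then `f` is smooth (étale).
* `smooth_isLocalAtSource_smooth`, `etale_isLocalAtSource_etale`.
* `locP_of_fppf_cover`: transfer to algebraic spaces (one direction only).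
-/

set_option autoImplicit false
set_option linter.style.haveILetI false
universe u
open CategoryTheory CategoryTheory.Limits AlgebraicGeometry Opposite MorphismProperty

namespace Groth.Agent.Lib.Helper25.AlgSpSrc

open AlgSp Groth.Agent.Lib.Helper15 Groth.Agent.Lib.Helper16

/-- scheme level: smoothness descends along fppf covers of the source. -/
theorem smooth_of_forall_comp {X Y : Scheme.{u}} {f : X ⟶ Y} {R : Presieve X}
    (hR : R ∈ Scheme.precoverage (@Flat ⊓ @LocallyOfFinitePresentation) X)
    (H : ∀ ⦃U : Scheme.{u}⦄ ⦃g : U ⟶ X⦄, R g → Smooth (g ≫ f)) : Smooth f := by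
  have key : ∀ x : X, ∃ (U : Scheme.{u}) (g : U ⟶ X) (u : U), g u = x ∧ Flat g ∧
      LocallyOfFinitePresentation g ∧ Smooth (g ≫ f) := by
    intro x
    obtain ⟨U, g, hg, u, hu⟩ :=
      (Presieve.mem_comap_jointlySurjectivePrecoverage_iff Scheme.forget).mp hR.1 x
    have hgP : (@Flat ⊓ @LocallyOfFinitePresentation : MorphismProperty Scheme.{u}) g := hR.2 hg
    exact ⟨U, g, u, hu, hgP.1, hgP.2, H hg⟩
  haveI : LocallyOfFinitePresentation f :=
    Groth.Agent.Lib.Helper9.FppfSource.core' (P := @LocallyOfFinitePresentation)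
      Groth.Agent.Lib.Helper9.FppfSource.fp_source
      (fun φ ψ => Groth.Agent.Lib.Helper9.FppfSource.fp_desc φ ψ) f (fun x => by
        obtain ⟨U, g, u, hu, h1, h2, h3⟩ := key x
        exact ⟨U, g, u, hu, h1, h2, inferInstance⟩)
  exact Groth.Agent.Lib.Helper25.SmoothDescent.core_lfp f key

/-- scheme level: étaleness descends along fppf covers of the source. -/
theorem etale_of_forall_comp {X Y : Scheme.{u}} {f : X ⟶ Y} {R : Presieve X}
    (hR : R ∈ Scheme.precoverage (@Flat ⊓ @LocallyOfFinitePresentation) X)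
    (H : ∀ ⦃U : Scheme.{u}⦄ ⦃g : U ⟶ X⦄, R g → Etale (g ≫ f)) : Etale f := by
  haveI : Smooth f := smooth_of_forall_comp hR (fun U g hg => by haveI := H hg; infer_instance)
  haveI : FormallyUnramified f := by
    refine Groth.Agent.Lib.Helper25.EtaleDescent.fu_core f (fun x => ?_)
    obtain ⟨U, g, hg, u, hu⟩ :=
      (Presieve.mem_comap_jointlySurjectivePrecoverage_iff Scheme.forget).mp hR.1 x
    have hgP : (@Flat ⊓ @LocallyOfFinitePresentation : MorphismProperty Scheme.{u}) g := hR.2 hg
    haveI : Flat g := hgP.1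
    haveI : LocallyOfFinitePresentation g := hgP.2
    haveI : Etale (g ≫ f) := H hg
    haveI : FormallyUnramified g := FormallyUnramified.of_comp g f
    haveI : Etale g := Etale.of_formallyUnramified_of_flat g
    exact ⟨U, g, u, hu, inferInstance, inferInstance⟩
  rw [Etale.iff_flat_and_formallyUnramified]
  exact ⟨inferInstance, inferInstance, inferInstance⟩

theorem smooth_isLocalAtSource_smooth :
    MorphismProperty.IsLocalAtSource (@Smooth : MorphismProperty Scheme.{u})
      (Scheme.precoverage @Smooth) := by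
  refine MorphismProperty.IsLocalAtSource.mk_of_iff ?_
  intro X Y f R hR
  constructor
  · intro hf U g hg
    haveI : Smooth g := hR.2 hg
    haveI : Smooth f := hf
    show Smooth (g ≫ f)
    infer_instance
  · intro H
    refine smooth_of_forall_comp (R := R) ⟨hR.1, fun U g hg => ?_⟩ H
    haveI : Smooth g := hR.2 hg
    exact ⟨inferInstance, inferInstance⟩

theorem etale_isLocalAtSource_etale :
    MorphismProperty.IsLocalAtSource (@Etale : MorphismProperty Scheme.{u})
      (Scheme.precoverage @Etale) := by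
  refine MorphismProperty.IsLocalAtSource.mk_of_iff ?_
  intro X Y f R hR
  constructor
  · intro hf U g hg
    haveI : Etale g := hR.2 hg
    haveI : Etale f := hf
    show Etale (g ≫ f)
    infer_instance
  · intro H
    refine etale_of_forall_comp (R := R) ⟨hR.1, fun U g hg => ?_⟩ H
    haveI : Etale g := hR.2 hg
    exact ⟨inferInstance, inferInstance⟩

variable {S : Scheme.{u}}

/-- one-directional variant of helper15's `locP_of_forall_comp_of_isLocalAtSource`. -/
theorem locP_of_forall_comp' {P : MorphismProperty Scheme.{u}} {K : Precoverage Scheme.{u}}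
    (hP : ∀ {X Y : Scheme.{u}} {f : X ⟶ Y} {R : Presieve X}, R ∈ K X →
      (∀ ⦃U : Scheme.{u}⦄ ⦃g : U ⟶ X⦄, R g → P (g ≫ f)) → P f)
    {ι : Type u} {X Y : Sp S} (Xi : ι → Sp S) (g : ∀ i, Xi i ⟶ X) (f : X ⟶ Y)
    (hlift : ∀ (U : Over S) (a : (yon S).obj U ⟶ X), RepWith @Etale a →
      ∃ (κ : Type u) (T : κ → Over S) (e : ∀ k, T k ⟶ U) (i : κ → ι)
        (l : ∀ k, (yon S).obj (T k) ⟶ Xi (i k)),
        (∀ k, RepWith @Etale (l k)) ∧ (∀ k, l k ≫ g (i k) = (yon S).map (e k) ≫ a) ∧
        Presieve.ofArrows (fun k => (T k).left) (fun k => (e k).left) ∈ K U.left)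
    (H : ∀ i, LocP P (g i ≫ f)) : LocP P f := by
  intro U V a b h ha hb comm
  obtain ⟨κ, T, e, i, l, hl, hle, hmem⟩ := hlift U a ha
  refine hP hmem ?_
  rintro _ _ ⟨k⟩
  have := H (i k) (l k) b (e k ≫ h) (hl k) hb (by
    rw [← Category.assoc, hle, Category.assoc, comm, Functor.map_comp, Category.assoc])
  rwa [Over.comp_left] at this

/-- A property of morphisms of schemes which descends along fppf covers of the source: the induced
property of morphisms of algebraic spaces descends along fppf covers of the source. -/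
theorem locP_of_fppf_cover {P : MorphismProperty Scheme.{u}}
    (hP : ∀ {X Y : Scheme.{u}} {f : X ⟶ Y} {R : Presieve X},
      R ∈ Scheme.precoverage (@Flat ⊓ @LocallyOfFinitePresentation) X →
      (∀ ⦃U : Scheme.{u}⦄ ⦃g : U ⟶ X⦄, R g → P (g ≫ f)) → P f)
    {ι : Type u} {X Y : Sp S} (Xi : ι → Sp S) (g : ∀ i, Xi i ⟶ X) (hX : IsAlgSpace X)
    (hXi : ∀ i, IsAlgSpace (Xi i)) (hcov : IsFppfCover Xi g) (f : X ⟶ Y)
    (H : ∀ i, LocP P (g i ≫ f)) : LocP P f := by
  have hQ := etLocalST_flat.inf etLocalST_locallyOfFinitePresentation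
  refine locP_of_forall_comp' (K := Scheme.precoverage (@Flat ⊓ @LocallyOfFinitePresentation))
    hP Xi g f
    (fun U a ha => exists_lift_precoverage hQ le_rfl hX Xi hXi g (fun i => ?_) hcov.2 U a ha) H
  exact fun U V a b k ha hb comm =>
    ⟨(hcov.1 i).1 a b k ha hb comm, (hcov.1 i).2 a b k ha hb comm⟩

end Groth.Agent.Lib.Helper25.AlgSpSrc
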