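import Mathlib

/-!
# Prime avoidance construction: elements of `I` cutting out `V(I)` in low height (helper25)

`exists_fin_height_le` : in a Noetherian ring, for an ideal `I` and `r : ℕ` there are `f : Fin r → R` in `I`
such that every prime containing the `f i` but not `I` has height at least `r`.
-/

set_option autoImplicit false

universe u

namespace Groth.Agent.Lib.Helper25.ArithRank

theorem exists_fin_height_le (R : Type u) [CommRing R] [IsNoetherianRing R] (I : Ideal R) (r : ℕ) :
    ∃ f : Fin r → R, (∀ i, f i ∈ I) ∧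
      ∀ (p : Ideal R) [p.IsPrime], Ideal.span (Set.range f) ≤ p → ¬ I ≤ p → (r : ℕ∞) ≤ p.height := by
  classical
  induction r with
  | zero =>
    exact ⟨Fin.elim0, fun i => i.elim0, fun p _ _ _ => by simp⟩
  | succ r ih =>
    obtain ⟨f, hfI, hf⟩ := ih
    set J := Ideal.span (Set.range f) with hJ
    have hfin : (J.minimalPrimes).Finite := J.finite_minimalPrimes_of_isNoetherianRing R
    set Q : Finset (Ideal R) := hfin.toFinset.filter (fun q => ¬ I ≤ q) with hQ
    -- prime avoidance
    obtain ⟨g, hgI, hg⟩ : ∃ g ∈ I, ∀ q ∈ Q, g ∉ q := by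
      by_contra hcon
      push Not at hcon
      have hsub : (I : Set R) ⊆ ⋃ q ∈ (↑Q : Set (Ideal R)), (id q : Ideal R) := by
        intro x hx
        obtain ⟨q, hq, hxq⟩ := hcon x hx
        exact Set.mem_biUnion hq hxq
      have hprime : ∀ q ∈ Q, q ≠ (⊤ : Ideal R) → q ≠ (⊤ : Ideal R) → (id q : Ideal R).IsPrime := by
        intro q hq _ _
        have : q ∈ J.minimalPrimes := by
          have := (Finset.mem_filter.1 hq).1
          exact hfin.mem_toFinset.1 this
        exact this.1.1
      obtain ⟨q, hq, hIq⟩ := (Ideal.subset_union_prime (⊤ : Ideal R) (⊤ : Ideal R) hprime).1 hsub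
      exact (Finset.mem_filter.1 hq).2 hIq
    refine ⟨Fin.snoc f g, ?_, ?_⟩
    · intro i
      refine Fin.lastCases ?_ (fun j => ?_) i
      · simpa using hgI
      · simpa using hfI j
    · intro p _ hp hIp
      have hJp : J ≤ p := by
        refine le_trans (Ideal.span_mono ?_) hp
        rintro _ ⟨j, rfl⟩
        exact ⟨Fin.castSucc j, by simp⟩
      have hgp : g ∈ p := by
        apply hp
        apply Ideal.subset_span
        exact ⟨Fin.last r, by simp⟩
      obtain ⟨q, hqmin, hqp⟩ := Ideal.exists_minimalPrimes_le hJp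
      have hqprime : q.IsPrime := hqmin.1.1
      have hIq : ¬ I ≤ q := fun h => hIp (h.trans hqp)
      have hqQ : q ∈ Q := Finset.mem_filter.2 ⟨hfin.mem_toFinset.2 hqmin, hIq⟩
      have hgq : g ∉ q := hg q hqQ
      have hlt : q < p := lt_of_le_of_ne hqp (fun h => hgq (h ▸ hgp))
      have h1 : (r : ℕ∞) ≤ q.height := hf q hqmin.1.2 hIq
      have h2 : q.height < p.height := Ideal.height_strict_mono_of_isPrime hlt
      calc ((r + 1 : ℕ) : ℕ∞) = (r : ℕ∞) + 1 := by push_cast; rfl
        _ ≤ q.height + 1 := by gcongr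
        _ ≤ p.height := Order.add_one_le_of_lt h2

end Groth.Agent.Lib.Helper25.ArithRank
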