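import Mathlib

/-!
# Signs of Bernoulli numbers and eventual negativity of polynomials (helper25)
-/

set_option autoImplicit false

namespace Groth.Agent.Lib.Helper25.BernSign

open Polynomial Filter

/-- `(-1)^(k+1) B_{2k} > 0` for `k ≥ 1` (from the positivity of `ζ(2k)`). -/
theorem bernoulli_sign {k : ℕ} (hk : k ≠ 0) : 0 < (-1 : ℚ) ^ (k + 1) * _root_.bernoulli (2 * k) := by
  have h := hasSum_zeta_nat hk
  have hpos : 0 < (-1 : ℝ) ^ (k + 1) * (2 : ℝ) ^ (2 * k - 1) * Real.pi ^ (2 * k) *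
      _root_.bernoulli (2 * k) / (2 * k).factorial := by
    have h1 := le_hasSum h 1 (fun i _ => by positivity)
    have h2 : (0 : ℝ) < 1 / ((1 : ℕ) : ℝ) ^ (2 * k) := by simp
    exact lt_of_lt_of_le h2 h1
  have hc : 0 < (2 : ℝ) ^ (2 * k - 1) * Real.pi ^ (2 * k) / (2 * k).factorial := by positivity
  have hfac : (-1 : ℝ) ^ (k + 1) * 2 ^ (2 * k - 1) * Real.pi ^ (2 * k) * _root_.bernoulli (2 * k) /
      (2 * k).factorial = ((-1 : ℝ) ^ (k + 1) * _root_.bernoulli (2 * k)) *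
      (2 ^ (2 * k - 1) * Real.pi ^ (2 * k) / (2 * k).factorial) := by ring
  rw [hfac] at hpos
  have : 0 < ((-1 : ℝ) ^ (k + 1) * _root_.bernoulli (2 * k)) := by
    by_contra hneg
    push Not at hneg
    exact absurd hpos (not_lt.2 (mul_nonpos_of_nonpos_of_nonneg hneg hc.le))
  exact_mod_cast this

theorem bernoulli'_four_mul_neg {j : ℕ} (hj : 1 ≤ j) : bernoulli' (4 * j) < 0 := by
  have h := bernoulli_sign (k := 2 * j) (by omega)
  have e : 2 * (2 * j) = 4 * j := by ring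
  rw [e] at h
  have hpow : (-1 : ℚ) ^ (2 * j + 1) = -1 := by
    rw [pow_succ, pow_mul]; norm_num
  rw [hpow] at h
  rw [← bernoulli_eq_bernoulli'_of_ne_one (by omega)]
  linarith

theorem bernoulli'_four_mul_add_two_pos (j : ℕ) : 0 < bernoulli' (4 * j + 2) := by
  have h := bernoulli_sign (k := 2 * j + 1) (by omega)
  have e : 2 * (2 * j + 1) = 4 * j + 2 := by ring
  rw [e] at h
  have hpow : (-1 : ℚ) ^ (2 * j + 1 + 1) = 1 := by
    rw [show 2 * j + 1 + 1 = 2 * (j + 1) by ring, pow_mul]; norm_num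
  rw [hpow, one_mul] at h
  rw [← bernoulli_eq_bernoulli'_of_ne_one (by omega)]
  exact h

/-- A polynomial with negative leading coefficient and positive degree is eventually negative on
the naturals. -/
theorem eventually_neg (Q : ℚ[X]) (hdeg : 0 < Q.degree) (hlc : Q.leadingCoeff < 0) :
    ∃ N : ℕ, ∀ p : ℕ, N ≤ p → Q.eval (p : ℚ) < 0 := by
  have h1 := Polynomial.tendsto_atBot_of_leadingCoeff_nonpos Q hdeg hlc.le
  have h2 : Tendsto (fun p : ℕ => Q.eval (p : ℚ)) atTop atBot :=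
    h1.comp tendsto_natCast_atTop_atTop
  have h3 := h2.eventually (eventually_lt_atBot (0 : ℚ))
  obtain ⟨N, hN⟩ := Filter.eventually_atTop.1 h3
  exact ⟨N, hN⟩

theorem eventually_neg_lead (m : ℕ) (c : ℚ) (hc : c < 0) (P : ℚ[X]) (hP : P.natDegree ≤ m) :
    ∃ N : ℕ, ∀ p : ℕ, N ≤ p → c * (p : ℚ) ^ (m + 1) + P.eval (p : ℚ) < 0 := by
  have hdegP : P.degree < (C c * X ^ (m + 1) : ℚ[X]).degree := by
    rw [degree_C_mul_X_pow _ hc.ne]
    exact lt_of_le_of_lt degree_le_natDegree (by exact_mod_cast Nat.lt_succ_of_le hP)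
  have hdeg : (C c * X ^ (m + 1) + P : ℚ[X]).degree = ((m + 1 : ℕ) : WithBot ℕ) := by
    rw [degree_add_eq_left_of_degree_lt hdegP, degree_C_mul_X_pow _ hc.ne]
  have hlc : (C c * X ^ (m + 1) + P : ℚ[X]).leadingCoeff = c := by
    rw [leadingCoeff_add_of_degree_lt' hdegP, leadingCoeff_mul, leadingCoeff_C,
      leadingCoeff_X_pow, mul_one]
  obtain ⟨N, hN⟩ := eventually_neg (C c * X ^ (m + 1) + P)
    (by rw [hdeg]; exact_mod_cast Nat.succ_pos m) (by rw [hlc]; exact hc)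
  refine ⟨N, fun p hp => ?_⟩
  have := hN p hp
  simpa using this

end Groth.Agent.Lib.Helper25.BernSign
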