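import Mathlib
import Groth.Prelude.Def_W4stkremschemesLRS

/-!
# A closed embedding of schemes has kernel locally generated by sections
-/

set_option autoImplicit false
set_option linter.style.haveILetI false
universe u
open CategoryTheory AlgebraicGeometry TopologicalSpace Opposite

namespace Groth.Agent.Lib.Helper25.ClImmLRS

theorem quasiCompact_of_isClosedEmbedding {X Y : Scheme.{u}} (f : X ⟶ Y)
    (h1 : Topology.IsClosedEmbedding f) : QuasiCompact f := by
  constructor
  intro U _ hUc
  exact h1.isCompact_preimage hUc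

theorem kerLocallyGenerated {X Y : Scheme.{u}} (f : X ⟶ Y) (h1 : Topology.IsClosedEmbedding f) :
    LRSImm.KerLocallyGenerated f.toLRSHom := by
  haveI : QuasiCompact f := quasiCompact_of_isClosedEmbedding f h1
  intro y
  obtain ⟨U, hU, hyU⟩ : ∃ U : Y.Opens, IsAffineOpen U ∧ y ∈ U := by
    obtain ⟨U, hU, hxU, -⟩ := TopologicalSpace.Opens.isBasis_iff_nbhd.mp (Y.isBasis_affineOpens)
      (show y ∈ (⊤ : Y.Opens) from trivial)
    exact ⟨U, hU, hxU⟩
  refine ⟨U, hyU, RingHom.ker (f.app U).hom, fun j => (j : Γ(Y, U)),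
    fun j => RingHom.mem_ker.mp j.2, fun y' hy' => ?_⟩
  change Ideal.span (Set.range fun j : RingHom.ker (f.app U).hom =>
      (Y.presheaf.germ U y' hy').hom (j : Γ(Y, U))) =
    RingHom.ker ((TopCat.Presheaf.stalkFunctor CommRingCat y').map f.c).hom
  apply le_antisymm
  · rw [Ideal.span_le]
    rintro _ ⟨j, rfl⟩
    change ((TopCat.Presheaf.stalkFunctor CommRingCat y').map f.c).hom
      ((Y.presheaf.germ U y' hy').hom (j : Γ(Y, U))) = 0
    have e1 := TopCat.Presheaf.stalkFunctor_map_germ_apply U y' hy' f.c (j : Γ(Y, U))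
    refine e1.trans ?_
    have e2 : (f.c.app (op U)).hom (j : Γ(Y, U)) = 0 := RingHom.mem_ker.mp j.2
    change ((f.base _* X.presheaf).germ U y' hy').hom ((f.c.app (op U)).hom (j : Γ(Y, U))) = 0
    rw [e2, map_zero]
  · intro t ht
    replace ht : ((TopCat.Presheaf.stalkFunctor CommRingCat y').map f.c).hom t = 0 := ht
    obtain ⟨V, hyV, t', rfl⟩ := Y.presheaf.exists_germ_eq t
    have e1 := TopCat.Presheaf.stalkFunctor_map_germ_apply V y' hyV f.c t'
    have ht' : ((f.base _* X.presheaf).germ V y' hyV).hom ((f.c.app (op V)).hom t') = 0 :=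
      e1.symm.trans ht
    have e0 : ((f.base _* X.presheaf).germ V y' hyV).hom (0 : Γ(X, f ⁻¹ᵁ V)) = 0 := map_zero _
    obtain ⟨W, hyW, iU, iV, hW⟩ := (f.base _* X.presheaf).germ_eq y' hyV hyV
      ((f.c.app (op V)).hom t') (0 : Γ(X, f ⁻¹ᵁ V)) (ht'.trans e0.symm)
    obtain ⟨h, hle, hyh⟩ := hU.exists_basicOpen_le ⟨y', hyW⟩ hy'
    have hDU : Y.basicOpen h ≤ U := Y.basicOpen_le h
    have hDV : Y.basicOpen h ≤ V := hle.trans iU.le
    have hW' : (X.presheaf.map ((Opens.map f.base).map iU).op).hom ((f.app V).hom t') = 0 := by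
      have h0 : (X.presheaf.map ((Opens.map f.base).map iV).op).hom (0 : Γ(X, f ⁻¹ᵁ V)) = 0 :=
        map_zero _
      exact hW.trans h0
    have hker : (Y.presheaf.map (homOfLE hDV).op).hom t' ∈
        RingHom.ker (f.app (Y.basicOpen h)).hom := by
      rw [RingHom.mem_ker]
      have n1 := congr($(f.naturality (homOfLE hDV).op).hom t')
      simp only [CommRingCat.hom_comp, RingHom.comp_apply] at n1
      rw [n1]
      have fac : X.presheaf.map ((Opens.map f.base).map (homOfLE hDV).op.unop).op =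
          X.presheaf.map ((Opens.map f.base).map iU).op ≫
            X.presheaf.map ((Opens.map f.base).map (homOfLE hle)).op := by
        rw [← Functor.map_comp]
        rfl
      rw [fac, CommRingCat.comp_apply, hW', map_zero]
    have hcoh : RingHom.ker (f.app (Y.basicOpen h)).hom =
        (RingHom.ker (f.app U).hom).map (Y.presheaf.map (homOfLE hDU).op).hom := by
      have e2 := f.ker.map_ideal_basicOpen ⟨U, hU⟩ h
      rw [Scheme.Hom.ker_apply, Scheme.Hom.ker_apply] at e2
      exact e2.symm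
    rw [hcoh] at hker
    have hgerm : (Y.presheaf.germ V y' hyV).hom t' =
        (Y.presheaf.germ (Y.basicOpen h) y' hyh).hom ((Y.presheaf.map (homOfLE hDV).op).hom t') :=
      (congr($(Y.presheaf.germ_res (homOfLE hDV) y' hyh).hom t')).symm
    have h3 := Ideal.mem_map_of_mem (Y.presheaf.germ (Y.basicOpen h) y' hyh).hom hker
    rw [Ideal.map_map] at h3
    have hcomp : (Y.presheaf.germ (Y.basicOpen h) y' hyh).hom.comp
        (Y.presheaf.map (homOfLE hDU).op).hom = (Y.presheaf.germ U y' hy').hom := by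
      rw [← CommRingCat.hom_comp, Y.presheaf.germ_res]
    rw [hcomp] at h3
    have hle2 : Ideal.map (Y.presheaf.germ U y' hy').hom (RingHom.ker (f.app U).hom) ≤
        Ideal.span (Set.range fun j : RingHom.ker (f.app U).hom =>
          (Y.presheaf.germ U y' hy').hom (j : Γ(Y, U))) := by
      rw [Ideal.map_le_iff_le_comap]
      intro a ha
      exact Ideal.subset_span ⟨⟨a, ha⟩, rfl⟩
    change (Y.presheaf.germ V y' hyV).hom t' ∈ _
    rw [hgerm]
    exact hle2 h3

end Groth.Agent.Lib.Helper25.ClImmLRS
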