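import Mathlib

/-!
# Lattice index computations for sum/diagonal maps on `ℤⁿ` (helper25)

Abstract index identities in abelian groups (`abstractA/B/C`) and their concrete instances for
`S = ∑ xᵢ`, `D = diag δ` on `Fin n → ℤ`.
-/

set_option autoImplicit false
open Finset

namespace Groth.Agent.Lib.Helper25.CompLat

theorem card_quot_eq_relIndex {M : Type*} [AddCommGroup M] (K R : Submodule ℤ M) :
    Nat.card (↥K ⧸ R.comap K.subtype) = R.toAddSubgroup.relIndex K.toAddSubgroup := rfl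

theorem abstractA {L : Type*} [AddCommGroup L] (S : L →+ ℤ) (hS : Function.Surjective S)
    (D : L →+ L) (hD : Function.Injective D) (I : AddSubgroup L) (hI : I ≤ (S.comp D).ker) :
    I.relIndex (S.comp D).ker * D.range.index =
      (D.range.map S).index * (I.map D).relIndex S.ker := by
  have h1 : (I.map D).relIndex ((S.comp D).ker.map D) = I.relIndex (S.comp D).ker :=
    AddSubgroup.relIndex_map_map_of_injective _ _ hD
  have h2 : (S.comp D).ker.map D = D.range ⊓ S.ker := by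
    rw [← AddMonoidHom.comap_ker, AddSubgroup.map_comap_eq]
  have h3 : (I.map D).relIndex (D.range ⊓ S.ker) * (D.range ⊓ S.ker).relIndex S.ker =
      (I.map D).relIndex S.ker :=
    AddSubgroup.relIndex_mul_relIndex _ _ _ (by rw [← h2]; exact AddSubgroup.map_mono hI)
      inf_le_right
  have h4 : (D.range ⊓ S.ker).relIndex S.ker = D.range.relIndex S.ker :=
    AddSubgroup.inf_relIndex_right _ _
  have h5 : D.range.relIndex (S.ker ⊔ D.range) = D.range.relIndex S.ker :=
    AddSubgroup.relIndex_sup_right _ _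
  have h6 : D.range.relIndex (S.ker ⊔ D.range) * (S.ker ⊔ D.range).index = D.range.index :=
    AddSubgroup.relIndex_mul_index le_sup_right
  have h7 : (S.ker ⊔ D.range).index = (D.range.map S).index := by
    rw [← AddSubgroup.index_comap_of_surjective (D.range.map S) hS, AddSubgroup.comap_map_eq,
      sup_comm]
  rw [← h1, h2, ← h3, h4, ← h6, h5, h7]
  ring

theorem abstractB {L : Type*} [AddCommGroup L] (f : L →+ L) (H K : AddSubgroup L)
    (hK : f.range ≤ K) :
    (H.map f).relIndex K = (H ⊔ f.ker).index * f.range.relIndex K := by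
  have h1 : (H.map f).relIndex f.range = (H ⊔ f.ker).index := by
    rw [AddMonoidHom.range_eq_map, AddSubgroup.relIndex_map_map, top_sup_eq,
      AddSubgroup.relIndex_top_right]
  rw [← h1]
  exact (AddSubgroup.relIndex_mul_relIndex _ _ _ (AddSubgroup.map_le_range f H) hK).symm

theorem abstractC {L : Type*} [AddCommGroup L] (H : AddSubgroup L) (φ : ℤ →+ L) :
    (H.comap φ).index * (H ⊔ φ.range).index = H.index := by
  have h1 : H.relIndex (H ⊔ φ.range) * (H ⊔ φ.range).index = H.index :=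
    AddSubgroup.relIndex_mul_index le_sup_left
  have h2 : H.relIndex (H ⊔ φ.range) = H.relIndex φ.range := AddSubgroup.relIndex_sup_left _ _
  have h3 : H.relIndex φ.range = (H.comap φ).index := by
    rw [AddMonoidHom.range_eq_map, ← AddSubgroup.relIndex_comap, AddSubgroup.relIndex_top_right]
  rw [← h3, ← h2, h1]

variable {n : ℕ}

/-- sum of coordinates -/
noncomputable abbrev SL (n : ℕ) : (Fin n → ℤ) →ₗ[ℤ] ℤ :=
  ∑ i : Fin n, (LinearMap.proj i : (Fin n → ℤ) →ₗ[ℤ] ℤ)

/-- diagonal map -/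
noncomputable abbrev DL (δ : Fin n → ℤ) : (Fin n → ℤ) →ₗ[ℤ] (Fin n → ℤ) :=
  Matrix.mulVecLin (Matrix.diagonal δ)

theorem SL_apply (x : Fin n → ℤ) : SL n x = ∑ i, x i := by simp [SL]

theorem DL_apply (δ x : Fin n → ℤ) (i : Fin n) : DL δ x i = δ i * x i := by
  simp [DL, Matrix.mulVec_diagonal]

noncomputable def Sa (n : ℕ) : (Fin n → ℤ) →+ ℤ := (SL n).toAddMonoidHom
noncomputable def Da (δ : Fin n → ℤ) : (Fin n → ℤ) →+ (Fin n → ℤ) := (DL δ).toAddMonoidHom

theorem Sa_apply (x : Fin n → ℤ) : Sa n x = ∑ i, x i := SL_apply x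
theorem Da_apply (δ x : Fin n → ℤ) (i : Fin n) : Da δ x i = δ i * x i := DL_apply δ x i

theorem Sa_surj (hn : 0 < n) : Function.Surjective (Sa n) := fun c =>
  ⟨Pi.single ⟨0, hn⟩ c, by rw [Sa_apply]; simp⟩

theorem Da_inj {δ : Fin n → ℤ} (hδ : ∀ i, δ i ≠ 0) : Function.Injective (Da δ) := fun x y h => by
  funext i
  have h1 := congrFun h i
  rw [Da_apply, Da_apply] at h1
  exact mul_left_cancel₀ (hδ i) h1

theorem index_range_Da (δ : Fin n → ℤ) (hδ : ∀ i, δ i ≠ 0) :
    (Da δ).range.index = (∏ i, δ i).natAbs := by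
  have hinj : Function.Injective (DL δ) := Da_inj hδ
  have h := Submodule.natAbs_det_equiv (LinearMap.range (DL δ))
    (LinearEquiv.ofInjective (DL δ) hinj)
  have key : (LinearMap.det (DL δ)).natAbs =
      Nat.card ((Fin n → ℤ) ⧸ LinearMap.range (DL δ)) := by
    rw [← h]; congr 2
  have hdet : LinearMap.det (DL δ) = ∏ i, δ i := by
    rw [show DL δ = Matrix.toLin' (Matrix.diagonal δ) from rfl, LinearMap.det_toLin',
      Matrix.det_diagonal]
  rw [← hdet, key]
  rfl

theorem map_Sa_range_Da (δ : Fin n → ℤ) :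
    (Da δ).range.map (Sa n) = AddSubgroup.zmultiples (univ.gcd δ) := by
  ext x
  simp only [AddSubgroup.mem_map, AddMonoidHom.mem_range, AddSubgroup.mem_zmultiples_iff]
  constructor
  · rintro ⟨_, ⟨y, rfl⟩, rfl⟩
    rw [Sa_apply]
    simp only [Da_apply]
    have h1 : univ.gcd δ ∣ ∑ i, δ i * y i :=
      Finset.dvd_sum (fun i _ => Dvd.dvd.mul_right (Finset.gcd_dvd (mem_univ i)) _)
    obtain ⟨c, hc⟩ := h1
    exact ⟨c, by rw [hc, smul_eq_mul, mul_comm]⟩
  · rintro ⟨m, rfl⟩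
    obtain ⟨g, hg⟩ := Finset.gcd_eq_sum_mul univ δ
    refine ⟨_, ⟨fun i => m * g i, rfl⟩, ?_⟩
    rw [Sa_apply, hg, smul_eq_mul, Finset.mul_sum]
    simp only [Da_apply]
    exact Finset.sum_congr rfl (fun i _ => by ring)

/-- The first index identity, in `ℕ`. -/
theorem index_identity (hn : 0 < n) (δ : Fin n → ℤ) (hδ : ∀ i, δ i ≠ 0)
    (I : AddSubgroup (Fin n → ℤ)) (hI : I ≤ ((Sa n).comp (Da δ)).ker) :
    I.relIndex ((Sa n).comp (Da δ)).ker * (∏ i, δ i).natAbs =
      (univ.gcd δ).natAbs * (I.map (Da δ)).relIndex (Sa n).ker := by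
  have key := abstractA (Sa n) (Sa_surj hn) (Da δ) (Da_inj hδ) I hI
  rwa [index_range_Da δ hδ, map_Sa_range_Da, Int.index_zmultiples] at key

/-- primitive vector `δ / gcd δ` -/
noncomputable def prim (δ : Fin n → ℤ) : Fin n → ℤ := fun i => δ i / univ.gcd δ

theorem gcd_mul_prim (δ : Fin n → ℤ) (i : Fin n) : univ.gcd δ * prim δ i = δ i :=
  Int.mul_ediv_cancel' (Finset.gcd_dvd (mem_univ i))

theorem gcd_ne_zero (hn : 0 < n) {δ : Fin n → ℤ} (hδ : ∀ i, δ i ≠ 0) : univ.gcd δ ≠ 0 := by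
  intro h
  rw [Finset.gcd_eq_zero_iff] at h
  exact hδ ⟨0, hn⟩ (h _ (mem_univ _))

theorem prim_bezout (hn : 0 < n) {δ : Fin n → ℤ} (hδ : ∀ i, δ i ≠ 0) :
    ∃ c : Fin n → ℤ, ∑ i, c i * prim δ i = 1 := by
  obtain ⟨g, hg⟩ := Finset.gcd_eq_sum_mul univ δ
  refine ⟨g, ?_⟩
  have h1 : univ.gcd δ * ∑ i, g i * prim δ i = univ.gcd δ * 1 := by
    rw [mul_one, Finset.mul_sum]
    conv_rhs => rw [hg]
    exact Finset.sum_congr rfl (fun i _ => by rw [← gcd_mul_prim δ i]; ring)
  exact mul_left_cancel₀ (gcd_ne_zero hn hδ) h1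

theorem ker_le_range (hn : 0 < n) (δ : Fin n → ℤ) (hδ : ∀ i, δ i ≠ 0)
    (A : Matrix (Fin n) (Fin n) ℤ) (hA : A.rank = n - 1) (hAδ : A.mulVecLin δ = 0)
    (x : Fin n → ℤ) (hx : A.mulVecLin x = 0) : ∃ m : ℤ, m • prim δ = x := by
  have hfr : Module.finrank ℤ (LinearMap.ker A.mulVecLin) = 1 := by
    have h1 := Submodule.finrank_quotient_add_finrank (LinearMap.ker A.mulVecLin)
    rw [A.mulVecLin.quotKerEquivRange.finrank_eq] at h1
    have h2 : Module.finrank ℤ (LinearMap.range A.mulVecLin) = n - 1 := hA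
    rw [h2, Module.finrank_fin_fun] at h1
    omega
  have hnotLI : ¬ LinearIndependent ℤ
      ![(⟨δ, hAδ⟩ : LinearMap.ker A.mulVecLin), ⟨x, hx⟩] := by
    intro hli
    have h1 := hli.fintype_card_le_finrank
    rw [hfr] at h1
    simp at h1
  rw [LinearIndependent.pair_iff] at hnotLI
  push Not at hnotLI
  obtain ⟨s, t, hst, hne⟩ := hnotLI
  have hst' : s • δ + t • x = 0 := congrArg Subtype.val hst
  have hδ0 : δ ≠ 0 := fun h => hδ ⟨0, hn⟩ (by rw [h]; rfl)
  have ht : t ≠ 0 := by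
    intro ht
    rw [ht, zero_smul, add_zero, smul_eq_zero] at hst'
    rcases hst' with h | h
    · exact hne h ht
    · exact hδ0 h
  obtain ⟨c, hc⟩ := prim_bezout hn hδ
  refine ⟨∑ j, c j * x j, ?_⟩
  funext i
  have hi : ∀ j, t * x j = - (s * univ.gcd δ * prim δ j) := by
    intro j
    have h1 := congrFun hst' j
    simp only [Pi.add_apply, Pi.smul_apply, smul_eq_mul, Pi.zero_apply] at h1
    rw [← gcd_mul_prim δ j] at h1
    linear_combination h1
  apply mul_left_cancel₀ ht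
  simp only [Pi.smul_apply, smul_eq_mul]
  rw [hi i, ← mul_assoc, Finset.mul_sum]
  have h2 : ∑ j, t * (c j * x j) = ∑ j, c j * (-(s * univ.gcd δ * prim δ j)) :=
    Finset.sum_congr rfl (fun j _ => by rw [← hi j]; ring)
  have h3 : ∑ j, c j * (-(s * univ.gcd δ * prim δ j)) =
      -(s * univ.gcd δ) * ∑ j, c j * prim δ j := by
    rw [Finset.mul_sum]; exact Finset.sum_congr rfl (fun j _ => by ring)
  rw [h2, h3, hc]; ring

theorem comap_prim (hn : 0 < n) (δ : Fin n → ℤ) (hδ : ∀ i, δ i ≠ 0) :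
    (Da δ).range.comap (zmultiplesHom (Fin n → ℤ) (prim δ)) =
      AddSubgroup.zmultiples (univ.gcd δ) := by
  ext m
  simp only [AddSubgroup.mem_comap, AddMonoidHom.mem_range, zmultiplesHom_apply,
    AddSubgroup.mem_zmultiples_iff]
  constructor
  · rintro ⟨y, hy⟩
    have h0 := congrFun hy ⟨0, hn⟩
    rw [Da_apply] at h0
    simp only [Pi.smul_apply, smul_eq_mul] at h0
    have hv0 : prim δ ⟨0, hn⟩ ≠ 0 := fun h => hδ ⟨0, hn⟩ (by rw [← gcd_mul_prim δ ⟨0, hn⟩, h, mul_zero])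
    refine ⟨y ⟨0, hn⟩, ?_⟩
    apply mul_right_cancel₀ hv0
    rw [smul_eq_mul, ← h0, ← gcd_mul_prim δ ⟨0, hn⟩]; ring
  · rintro ⟨q, rfl⟩
    refine ⟨fun _ => q, ?_⟩
    funext i
    rw [Da_apply]; simp only [Pi.smul_apply, smul_eq_mul]
    rw [← gcd_mul_prim δ i]; ring

/-- The twisted index identity, in `ℕ`. -/
theorem twisted_index (hn : 0 < n) (δ δ' : Fin n → ℤ) (hδ : ∀ i, δ i ≠ 0) (hδ' : ∀ i, δ' i ≠ 0)
    (A : Matrix (Fin n) (Fin n) ℤ) (hA : A.rank = n - 1)
    (hAδ' : A.mulVecLin δ' = 0) (K : AddSubgroup (Fin n → ℤ))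
    (hK : ((Da δ).comp A.mulVecLin.toAddMonoidHom).range ≤ K) :
    (((Da δ').range).map ((Da δ).comp A.mulVecLin.toAddMonoidHom)).relIndex K *
        (univ.gcd δ').natAbs =
      (∏ i, δ' i).natAbs * ((Da δ).comp A.mulVecLin.toAddMonoidHom).range.relIndex K := by
  have hB := abstractB ((Da δ).comp A.mulVecLin.toAddMonoidHom) (Da δ').range K hK
  have hker : ((Da δ).comp A.mulVecLin.toAddMonoidHom).ker =
      (zmultiplesHom (Fin n → ℤ) (prim δ')).range := by
    ext x
    simp only [AddMonoidHom.mem_ker, AddMonoidHom.mem_range, zmultiplesHom_apply]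
    constructor
    · intro hx
      have hx' : A.mulVecLin x = 0 := Da_inj hδ (by rw [map_zero]; exact hx)
      exact ker_le_range hn δ' hδ' A hA hAδ' x hx'
    · rintro ⟨m, rfl⟩
      have hv : A.mulVecLin (prim δ') = 0 := by
        have h1 : univ.gcd δ' • A.mulVecLin (prim δ') = 0 := by
          rw [← map_smul]
          have h2 : univ.gcd δ' • prim δ' = δ' := funext (fun i => gcd_mul_prim δ' i)
          rw [h2, hAδ']
        exact (smul_eq_zero.1 h1).resolve_left (gcd_ne_zero hn hδ')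
      show Da δ (A.mulVecLin (m • prim δ')) = 0
      rw [map_smul, hv, smul_zero, map_zero]
  have hC := abstractC (Da δ').range (zmultiplesHom (Fin n → ℤ) (prim δ'))
  rw [comap_prim hn δ' hδ', Int.index_zmultiples, index_range_Da δ' hδ', ← hker] at hC
  rw [hB, ← hC]; ring

end Groth.Agent.Lib.Helper25.CompLat
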