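import Groth.Prelude.Def_Conn
import Mathlib.LinearAlgebra.FreeModule.Finite.Basic
import Mathlib.LinearAlgebra.Basis.Defs

/-!
Helper lemmas on connections (namespace `Conn` of the prelude): horizontality on pure tensors,
the shuffles `swapR` and `assoc`, and joint injectivity of the evaluation maps
`Hom(E,G) ⊗ Ω → G ⊗ Ω` for `Ω` finite free.
-/

set_option autoImplicit false
universe v u

open TensorProduct

namespace Groth.Agent.Lib.Helper25.ConnLib

section basic

variable {A : Type v} {B Ω M M' N : Type u} [CommRing A] [CommRing B] [Algebra A B]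
  [AddCommGroup Ω] [Module B Ω] [Module A Ω] [IsScalarTower A B Ω]
  [AddCommGroup M] [Module B M] [Module A M] [IsScalarTower A B M]
  [AddCommGroup M'] [Module B M'] [Module A M'] [IsScalarTower A B M']
  [AddCommGroup N] [Module B N] [Module A N] [IsScalarTower A B N]

/-- Horizontality of a map out of a tensor product can be checked on pure tensors. -/
theorem isHorizontal_of_tmul (nT : M ⊗[B] M' →ₗ[A] (M ⊗[B] M') ⊗[B] Ω)
    (nN : N →ₗ[A] N ⊗[B] Ω) (φ : M ⊗[B] M' →ₗ[B] N)
    (h : ∀ (m : M) (m' : M'), nN (φ (m ⊗ₜ[B] m')) =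
      TensorProduct.map φ LinearMap.id (nT (m ⊗ₜ[B] m'))) :
    Conn.IsHorizontal nT nN φ := by
  intro x
  induction x using TensorProduct.induction_on with
  | zero => simp
  | tmul m m' => exact h m m'
  | add x y hx hy => simp only [map_add, hx, hy]

omit [Module A Ω] [IsScalarTower A B Ω] [Module A M] [IsScalarTower A B M]
  [Module A M'] [IsScalarTower A B M'] [Module A N] [IsScalarTower A B N] in
/-- `(f ⊗ 1) (swapR (y ⊗ m')) = ((f ∘ (· ⊗ m')) ⊗ 1) y`. -/
theorem map_swapR_tmul (f : M ⊗[B] M' →ₗ[B] N) (y : M ⊗[B] Ω) (m' : M') :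
    TensorProduct.map f (LinearMap.id : Ω →ₗ[B] Ω) (Conn.swapR (y ⊗ₜ[B] m')) =
      TensorProduct.map (f ∘ₗ (TensorProduct.mk B M M').flip m') LinearMap.id y := by
  induction y using TensorProduct.induction_on with
  | zero => simp
  | tmul m ω => simp [Conn.swapR_tmul]
  | add x y hx hy => simp only [add_tmul, map_add, hx, hy]

omit [Module A Ω] [IsScalarTower A B Ω] [Module A M] [IsScalarTower A B M]
  [Module A M'] [IsScalarTower A B M'] [Module A N] [IsScalarTower A B N] in
/-- `(f ⊗ 1) (assoc⁻¹ (m ⊗ z)) = ((f ∘ (m ⊗ ·)) ⊗ 1) z`. -/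
theorem map_assoc_symm_tmul (f : M ⊗[B] M' →ₗ[B] N) (m : M) (z : M' ⊗[B] Ω) :
    TensorProduct.map f (LinearMap.id : Ω →ₗ[B] Ω)
      ((TensorProduct.assoc B M M' Ω).symm (m ⊗ₜ[B] z)) =
      TensorProduct.map (f ∘ₗ TensorProduct.mk B M M' m) LinearMap.id z := by
  induction z using TensorProduct.induction_on with
  | zero => simp
  | tmul m' ω => simp
  | add x y hx hy => simp only [tmul_add, map_add, hx, hy]

omit [Module A Ω] [IsScalarTower A B Ω] [Module A M] [IsScalarTower A B M]
  [Module A M'] [IsScalarTower A B M'] [Module A N] [IsScalarTower A B N] in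
theorem map_map_id (g : M' →ₗ[B] N) (f : M →ₗ[B] M') (y : M ⊗[B] Ω) :
    TensorProduct.map g (LinearMap.id : Ω →ₗ[B] Ω) (TensorProduct.map f LinearMap.id y) =
      TensorProduct.map (g ∘ₗ f) LinearMap.id y := by
  rw [← LinearMap.comp_apply, ← TensorProduct.map_comp]
  simp

end basic

section inj

variable {B Ω E G : Type u} [CommRing B]
  [AddCommGroup Ω] [Module B Ω] [Module.Finite B Ω] [Module.Free B Ω]
  [AddCommGroup E] [Module B E] [AddCommGroup G] [Module B G]

/-- the `j`-th coordinate of an element of `N ⊗ Ω` with respect to a basis of `Ω`. -/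
noncomputable def coordOf {ι : Type*} (b : Module.Basis ι B Ω) (N : Type u) [AddCommGroup N]
    [Module B N] (j : ι) : N ⊗[B] Ω →ₗ[B] N :=
  (TensorProduct.rid B N).toLinearMap ∘ₗ TensorProduct.map LinearMap.id (b.coord j)

theorem coordOf_tmul {ι : Type*} (b : Module.Basis ι B Ω) (N : Type u) [AddCommGroup N]
    [Module B N] (j : ι) (n : N) (ω : Ω) : coordOf b N j (n ⊗ₜ[B] ω) = b.repr ω j • n := by
  simp [coordOf]

theorem eq_sum_coordOf {ι : Type*} [Fintype ι] (b : Module.Basis ι B Ω) (N : Type u)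
    [AddCommGroup N] [Module B N] (x : N ⊗[B] Ω) :
    x = ∑ j, coordOf b N j x ⊗ₜ[B] b j := by
  induction x using TensorProduct.induction_on with
  | zero => simp
  | tmul n ω =>
    simp only [coordOf_tmul]
    conv_lhs => rw [← b.sum_repr ω, tmul_sum]
    apply Finset.sum_congr rfl
    intro j _
    rw [smul_tmul]
  | add x y hx hy =>
    conv_lhs => rw [hx, hy]
    rw [← Finset.sum_add_distrib]
    apply Finset.sum_congr rfl
    intro j _
    rw [map_add, add_tmul]

theorem coordOf_map_applyₗ {ι : Type*} (b : Module.Basis ι B Ω) (j : ι)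
    (x : (E →ₗ[B] G) ⊗[B] Ω) (e : E) :
    coordOf b G j (TensorProduct.map (LinearMap.applyₗ e) LinearMap.id x) =
      (coordOf b (E →ₗ[B] G) j x) e := by
  induction x using TensorProduct.induction_on with
  | zero => simp
  | tmul ψ ω => simp [coordOf_tmul]
  | add x y hx hy => simp only [map_add, hx, hy, LinearMap.add_apply]

/-- Joint injectivity of evaluations on `Hom(E,G) ⊗ Ω` for `Ω` finite free. -/
theorem eq_of_forall_map_applyₗ_eq (x y : (E →ₗ[B] G) ⊗[B] Ω)
    (h : ∀ e : E, TensorProduct.map (LinearMap.applyₗ e) LinearMap.id x =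
      TensorProduct.map (LinearMap.applyₗ e) (LinearMap.id : Ω →ₗ[B] Ω) y) : x = y := by
  classical
  let b := Module.Free.chooseBasis B Ω
  rw [eq_sum_coordOf b _ x, eq_sum_coordOf b _ y]
  apply Finset.sum_congr rfl
  intro j _
  congr 1
  apply LinearMap.ext
  intro e
  rw [← coordOf_map_applyₗ, ← coordOf_map_applyₗ, h e]

end inj

end Groth.Agent.Lib.Helper25.ConnLib

namespace Groth.Agent.Lib.Helper25.ConnLib

section along

variable {A : Type v} {B Ω M M' : Type u} [CommRing A] [CommRing B] [Algebra A B]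
  [AddCommGroup Ω] [Module B Ω] [Module A Ω] [IsScalarTower A B Ω]
  [AddCommGroup M] [Module B M] [Module A M] [IsScalarTower A B M]
  [AddCommGroup M'] [Module B M'] [Module A M'] [IsScalarTower A B M']

omit [Module A Ω] [IsScalarTower A B Ω] [Module A M] [IsScalarTower A B M]
  [Module A M'] [IsScalarTower A B M'] in
theorem rid_map_id_applyₗ (θ : Ω →ₗ[B] B) (x : (M →ₗ[B] M') ⊗[B] Ω) (m : M) :
    (TensorProduct.rid B (M →ₗ[B] M') (TensorProduct.map LinearMap.id θ x)) m =
      TensorProduct.rid B M' (TensorProduct.map LinearMap.id θ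
        (TensorProduct.map (LinearMap.applyₗ m) LinearMap.id x)) := by
  induction x using TensorProduct.induction_on with
  | zero => simp
  | tmul ψ ω => simp
  | add x y hx hy => simp only [map_add, LinearMap.add_apply, hx, hy]

omit [Module A Ω] [IsScalarTower A B Ω] [Module A M] [IsScalarTower A B M]
  [Module A M'] [IsScalarTower A B M'] in
theorem rid_map_id_map (θ : Ω →ₗ[B] B) (ψ : M →ₗ[B] M') (y : M ⊗[B] Ω) :
    TensorProduct.rid B M' (TensorProduct.map LinearMap.id θ
        (TensorProduct.map ψ LinearMap.id y)) =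
      ψ (TensorProduct.rid B M (TensorProduct.map LinearMap.id θ y)) := by
  induction y using TensorProduct.induction_on with
  | zero => simp
  | tmul m ω => simp
  | add x y hx hy => simp only [map_add, hx, hy]

omit [Module A Ω] [IsScalarTower A B Ω] in
/-- The covariant derivative of the Hom connection, evaluated. -/
theorem along_homConn_apply {nabla : M →ₗ[A] M ⊗[B] Ω} {nabla' : M' →ₗ[A] M' ⊗[B] Ω}
    {nablaH : (M →ₗ[B] M') →ₗ[A] (M →ₗ[B] M') ⊗[B] Ω} (hH : Conn.IsHomConn nabla nabla' nablaH)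
    (θ : Ω →ₗ[B] B) (ψ : M →ₗ[B] M') (m : M) :
    (Conn.along nablaH θ ψ) m = Conn.along nabla' θ (ψ m) - ψ (Conn.along nabla θ m) := by
  rw [Conn.along_apply, Conn.along_apply, Conn.along_apply, rid_map_id_applyₗ, hH ψ m, map_sub,
    map_sub, rid_map_id_map]

end along

section leibniz

variable {A : Type v} {B Ω M : Type u} [CommRing A] [CommRing B] [Algebra A B]
  [AddCommGroup Ω] [Module B Ω] [Module A Ω] [IsScalarTower A B Ω]
  [AddCommGroup M] [Module B M] [Module A M] [IsScalarTower A B M]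

omit [Module A Ω] [IsScalarTower A B Ω] in
/-- Leibniz rule for composition, for the covariant derivative of the endomorphism connection. -/
theorem along_endConn_comp {nabla : M →ₗ[A] M ⊗[B] Ω}
    {nablaE : (M →ₗ[B] M) →ₗ[A] (M →ₗ[B] M) ⊗[B] Ω} (hE : Conn.IsHomConn nabla nabla nablaE)
    (θ : Ω →ₗ[B] B) (φ ψ : M →ₗ[B] M) :
    Conn.along nablaE θ (φ ∘ₗ ψ) =
      Conn.along nablaE θ φ ∘ₗ ψ + φ ∘ₗ Conn.along nablaE θ ψ := by
  apply LinearMap.ext
  intro m
  rw [LinearMap.add_apply, LinearMap.comp_apply, LinearMap.comp_apply,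
    along_homConn_apply hE, along_homConn_apply hE, along_homConn_apply hE,
    LinearMap.comp_apply, LinearMap.comp_apply, map_sub]
  abel

end leibniz

end Groth.Agent.Lib.Helper25.ConnLib
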