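import Groth.Agent.Lib.Helper25.ConnLib
import Mathlib.LinearAlgebra.Trace

/-!
The trace `End_B(M) → B` is horizontal for the endomorphism connection (M finite free).
-/

set_option autoImplicit false
universe v u

open TensorProduct

namespace Groth.Agent.Lib.Helper25.ConnLib

section trace

variable {A : Type v} {B Ω M : Type u} [CommRing A] [CommRing B] [Algebra A B]
  [AddCommGroup Ω] [Module B Ω] [Module A Ω] [IsScalarTower A B Ω]
  [AddCommGroup M] [Module B M] [Module A M] [IsScalarTower A B M]

omit [Module A Ω] [IsScalarTower A B Ω] [Module A M] [IsScalarTower A B M] in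
theorem map_sum_id {N : Type u} [AddCommGroup N] [Module B N] {ι : Type*} (s : Finset ι)
    (f : ι → (M →ₗ[B] N)) (y : M ⊗[B] Ω) :
    TensorProduct.map (∑ i ∈ s, f i) (LinearMap.id : Ω →ₗ[B] Ω) y =
      ∑ i ∈ s, TensorProduct.map (f i) LinearMap.id y := by
  have : TensorProduct.map (∑ i ∈ s, f i) (LinearMap.id : Ω →ₗ[B] Ω) =
      ∑ i ∈ s, TensorProduct.map (f i) LinearMap.id := by
    change LinearMap.rTensorHom Ω (∑ i ∈ s, f i) = ∑ i ∈ s, LinearMap.rTensorHom Ω (f i)
    rw [map_sum]
  rw [this, LinearMap.sum_apply]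

omit [Module A Ω] [IsScalarTower A B Ω] [Module A M] [IsScalarTower A B M] in
theorem map_smul_id {N : Type u} [AddCommGroup N] [Module B N] (a : B)
    (f : M →ₗ[B] N) (y : M ⊗[B] Ω) :
    TensorProduct.map (a • f) (LinearMap.id : Ω →ₗ[B] Ω) y =
      a • TensorProduct.map f LinearMap.id y := by
  have : TensorProduct.map (a • f) (LinearMap.id : Ω →ₗ[B] Ω) =
      a • TensorProduct.map f LinearMap.id := by
    change LinearMap.rTensorHom Ω (a • f) = a • LinearMap.rTensorHom Ω f
    rw [map_smul]
  rw [this, LinearMap.smul_apply]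

/-- A connection applied to a finite linear combination. -/
theorem isConn_sum_smul {δ : Derivation A B Ω} {nabla : M →ₗ[A] M ⊗[B] Ω}
    (hc : Conn.IsConn δ nabla) {ι : Type*} (s : Finset ι) (a : ι → B) (m : ι → M) :
    nabla (∑ j ∈ s, a j • m j) = ∑ j ∈ s, (a j • nabla (m j) + m j ⊗ₜ[B] δ (a j)) := by
  rw [map_sum]
  exact Finset.sum_congr rfl fun j _ => hc (a j) (m j)

/-- The trace is horizontal. -/
theorem isHorizontal_trace [Module.Finite B M] [Module.Free B M]
    (δ : Derivation A B Ω) (nabla : M →ₗ[A] M ⊗[B] Ω) (hc : Conn.IsConn δ nabla)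
    (nablaE : (M →ₗ[B] M) →ₗ[A] (M →ₗ[B] M) ⊗[B] Ω) (hE : Conn.IsHomConn nabla nabla nablaE) :
    Conn.IsHorizontal nablaE (Conn.triv δ) (LinearMap.trace B M) := by
  classical
  intro φ
  let b := Module.Free.chooseBasis B M
  -- the trace as a sum of coordinate evaluations
  have htr : LinearMap.trace B M = ∑ i, (b.coord i) ∘ₗ (LinearMap.applyₗ (b i)) := by
    apply LinearMap.ext
    intro ψ
    rw [LinearMap.trace_eq_matrix_trace B b ψ, Matrix.trace, LinearMap.sum_apply]
    apply Finset.sum_congr rfl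
    intro i _
    simp [LinearMap.toMatrix_apply]
  -- matrix entries of `φ`
  let a : Module.Free.ChooseBasisIndex B M → Module.Free.ChooseBasisIndex B M → B :=
    fun j i => b.coord j (φ (b i))
  -- connection coefficients
  let T : Module.Free.ChooseBasisIndex B M → Module.Free.ChooseBasisIndex B M → B ⊗[B] Ω :=
    fun i j => TensorProduct.map (b.coord i) LinearMap.id (nabla (b j))
  have hφb : ∀ i, φ (b i) = ∑ j, a j i • b j := by
    intro i
    conv_lhs => rw [← b.sum_repr (φ (b i))]
    rfl
  have hcφ : ∀ i, (b.coord i) ∘ₗ φ = ∑ j, a i j • b.coord j := by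
    intro i
    apply b.ext
    intro l
    rw [LinearMap.comp_apply, LinearMap.sum_apply, Finset.sum_eq_single l]
    · simp [a]
    · intro j _ hjl
      simp [Finsupp.single_eq_of_ne hjl]
    · intro h; exact absurd (Finset.mem_univ l) h
  have h1 : ∀ i, TensorProduct.map (b.coord i) LinearMap.id (nabla (φ (b i))) =
      ∑ j, a j i • T i j + (1 : B) ⊗ₜ[B] δ (a i i) := by
    intro i
    rw [hφb i, isConn_sum_smul hc, map_sum]
    simp only [map_add, map_smul, TensorProduct.map_tmul, LinearMap.id_apply]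
    rw [Finset.sum_add_distrib]
    congr 1
    rw [Finset.sum_eq_single i]
    · simp
    · intro j _ hji
      simp [Finsupp.single_apply, hji]
    · intro h; exact absurd (Finset.mem_univ i) h
  have h2 : ∀ i, TensorProduct.map ((b.coord i) ∘ₗ φ) LinearMap.id (nabla (b i)) =
      ∑ j, a i j • T j i := by
    intro i
    rw [hcφ i, map_sum_id]
    apply Finset.sum_congr rfl
    intro j _
    rw [map_smul_id]
  rw [htr, map_sum_id]
  have h3 : ∀ i, TensorProduct.map ((b.coord i) ∘ₗ (LinearMap.applyₗ (b i))) LinearMap.id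
      (nablaE φ) = ∑ j, a j i • T i j + (1 : B) ⊗ₜ[B] δ (a i i) - ∑ j, a i j • T j i := by
    intro i
    rw [← map_map_id, hE φ (b i), map_sub, h1, map_map_id, h2]
  have hPR : ∑ i, ∑ j, a j i • T i j = ∑ i, ∑ j, a i j • T j i := Finset.sum_comm
  have h5 : (LinearMap.trace B M) φ = ∑ i, a i i := by
    rw [htr, LinearMap.sum_apply]
    rfl
  rw [Finset.sum_congr rfl fun i _ => h3 i, Finset.sum_sub_distrib, Finset.sum_add_distrib, hPR,
    add_sub_cancel_left, ← htr, Conn.triv_apply, h5, map_sum, tmul_sum]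

end trace

end Groth.Agent.Lib.Helper25.ConnLib
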