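import Mathlib
import Groth.Prelude
import Groth.Agent.Lib.Helper25.ConormBC
import Groth.Agent.Lib.Helper1.ConormSES
import Groth.Agent.Lib.Helper1.ConormReg
import Groth.Agent.Lib.Helper1.KoszulConcat
import Groth.Agent.Lib.Helper27.KoszulRel2

/-!
# Conormal sheaf of an intersection: algebra and charts (helper25)
-/

set_option autoImplicit false
set_option linter.style.haveILetI false
set_option linter.unusedSectionVars false
universe u
open CategoryTheory CategoryTheory.Limits AlgebraicGeometry TopologicalSpace Opposite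

namespace Groth.Agent.Lib.Helper25.ConormSum

open Groth.Agent.Lib.Helper1.PbSect Groth.Agent.Lib.Helper3 Groth.Agent.Lib.Helper1.ConormMap
open Groth.Agent.Lib.Helper1

section Algebra

/-- if relations among `f` have coefficients in `I = (f)`, then linear combinations lying in `I²`
have coefficients in `I` -/
theorem coeff_mem_of_sum_mem_sq' {R : Type u} [CommRing R] {c : ℕ} (f : Fin c → R)
    (hf : ∀ a : Fin c → R, ∑ i, a i * f i = 0 → ∀ i, a i ∈ Ideal.span (Set.range f))
    (b : Fin c → R) (h : ∑ i, b i * f i ∈ Ideal.span (Set.range f) ^ 2) (k : Fin c) :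
    b k ∈ Ideal.span (Set.range f) := by
  set I := Ideal.span (Set.range f) with hI
  have h1 : ∑ i, b i * f i ∈ I • (Submodule.span R (Set.range f)) := by
    rw [pow_two] at h
    exact h
  rw [Submodule.mem_ideal_smul_span_iff_exists_sum] at h1
  obtain ⟨a, haI, hsum⟩ := h1
  have hsum' : ∑ i, a i * f i = ∑ i, b i * f i := by
    rw [← hsum, Finsupp.sum_fintype _ _ (fun i => by simp)]
    rfl
  have hrel : ∑ i, (b i - a i) * f i = 0 := by
    simp only [sub_mul, Finset.sum_sub_distrib, hsum', sub_self]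
  have h2 := hf (fun i => b i - a i) hrel k
  have h3 : b k = (b k - a k) + a k := by ring
  rw [h3]
  exact Ideal.add_mem _ h2 (haI k)

/-- transfer of the coefficient property between two generating families of the same size -/
theorem coeff_transfer {A : Type u} [CommRing A] {n : ℕ} {κ : Type} [Fintype κ] [DecidableEq κ]
    (hcard : Fintype.card κ = n) (I : Ideal A) (h : Fin n → A)
    (hI : I = Ideal.span (Set.range h))
    (hcoef : ∀ b : Fin n → A, ∑ k, b k * h k ∈ I ^ 2 → ∀ k, b k ∈ I)
    (G : κ → A) (hG : I = Ideal.span (Set.range G))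
    (b : κ → A) (hb : ∑ m, b m * G m ∈ I ^ 2) (m : κ) : b m ∈ I := by
  classical
  have hGmem : ∀ m, G m ∈ Ideal.span (Set.range h) := fun m => by
    rw [← hI, hG]; exact Ideal.subset_span ⟨m, rfl⟩
  have hhmem : ∀ k, h k ∈ Ideal.span (Set.range G) := fun k => by
    rw [← hG, hI]; exact Ideal.subset_span ⟨k, rfl⟩
  choose P hP using fun m => Ideal.mem_span_range_iff_exists_fun.mp (hGmem m)
  choose Q hQ using fun k => Ideal.mem_span_range_iff_exists_fun.mp (hhmem k)
  have hexp : ∀ c : κ → A, ∑ m, c m * G m = ∑ k, (∑ m, c m * P m k) * h k := by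
    intro c
    calc ∑ m, c m * G m = ∑ m, c m * ∑ k, P m k * h k := by simp only [hP]
      _ = ∑ m, ∑ k, c m * P m k * h k := by simp only [Finset.mul_sum, mul_assoc]
      _ = ∑ k, ∑ m, c m * P m k * h k := Finset.sum_comm
      _ = ∑ k, (∑ m, c m * P m k) * h k := by simp only [Finset.sum_mul]
  have hQP : ∀ k k', (∑ m, Q k m * P m k') - (if k = k' then 1 else 0) ∈ I := by
    intro k
    have h0 : ∑ k', ((∑ m, Q k m * P m k') - (if k = k' then 1 else 0)) * h k' = 0 := by
      simp only [sub_mul, Finset.sum_sub_distrib]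
      rw [← hexp (Q k), hQ k]
      simp
    exact hcoef _ (by rw [h0]; exact Ideal.zero_mem _)
  let π := Ideal.Quotient.mk I
  let Pm : Matrix κ (Fin n) (A ⧸ I) := fun m k => π (P m k)
  let Qm : Matrix (Fin n) κ (A ⧸ I) := fun k m => π (Q k m)
  have hQPm : Qm * Pm = 1 := by
    ext k k'
    rw [Matrix.mul_apply, Matrix.one_apply]
    have e1 : ∑ m, Qm k m * Pm m k' = π (∑ m, Q k m * P m k') := by
      rw [map_sum]
      refine Finset.sum_congr rfl fun m _ => ?_
      rw [map_mul]
    rw [e1, Ideal.Quotient.eq.mpr (hQP k k')]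
    split_ifs <;> simp
  have hPQm : Pm * Qm = 1 :=
    (Matrix.mul_eq_one_comm_of_card_eq (Fin n) κ (A ⧸ I)
      (by rw [Fintype.card_fin, hcard])).mp hQPm
  have hbP : ∀ k, ∑ m, π (b m) * Pm m k = 0 := by
    intro k
    have h1 : (∑ m, b m * P m k) ∈ I :=
      hcoef (fun k => ∑ m, b m * P m k) (by
        show ∑ k, (∑ m, b m * P m k) * h k ∈ I ^ 2
        rw [← hexp b]; exact hb) k
    have h2 : π (∑ m, b m * P m k) = 0 := Ideal.Quotient.eq_zero_iff_mem.mpr h1
    rw [map_sum] at h2
    rw [← h2]
    refine Finset.sum_congr rfl fun m _ => ?_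
    rw [map_mul]
  have key : π (b m) = 0 := by
    calc π (b m) = ∑ m', π (b m') * (1 : Matrix κ κ (A ⧸ I)) m' m := by
          simp [Matrix.one_apply]
      _ = ∑ m', π (b m') * (Pm * Qm) m' m := by rw [hPQm]
      _ = ∑ m', π (b m') * ∑ k, Pm m' k * Qm k m := by simp only [Matrix.mul_apply]
      _ = ∑ m', ∑ k, π (b m') * Pm m' k * Qm k m := by simp only [Finset.mul_sum, mul_assoc]
      _ = ∑ k, ∑ m', π (b m') * Pm m' k * Qm k m := Finset.sum_comm
      _ = ∑ k, (∑ m', π (b m') * Pm m' k) * Qm k m := by simp only [Finset.sum_mul]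
      _ = 0 := by simp only [hbP, zero_mul, Finset.sum_const_zero]
  exact Ideal.Quotient.eq_zero_iff_mem.mp key

end Algebra

section Chart

variable {Z Y : Scheme.{u}} (j : Z ⟶ Y) [QuasiCompact j]

/-- the kernel on a smaller affine open is the extension of the kernel -/
theorem ker_app_le {V V' : Y.Opens} (hV : IsAffineOpen V) (hV' : IsAffineOpen V')
    (hle : V' ≤ V) :
    RingHom.ker (j.app V').hom =
      (RingHom.ker (j.app V).hom).map (Y.presheaf.map (homOfLE hle).op).hom := by
  have h1 := Scheme.Hom.ker_apply j ⟨V', hV'⟩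
  have h2 := Scheme.Hom.ker_apply j ⟨V, hV⟩
  have h3 := j.ker.map_ideal (U := ⟨V', hV'⟩) (V := ⟨V, hV⟩) hle
  calc RingHom.ker (j.app V').hom = j.ker.ideal ⟨V', hV'⟩ := h1.symm
    _ = (j.ker.ideal ⟨V, hV⟩).map (Y.presheaf.map (homOfLE hle).op).hom := h3.symm
    _ = (RingHom.ker (j.app V).hom).map (Y.presheaf.map (homOfLE hle).op).hom := by rw [h2]

/-- generators of the kernel restrict to generators -/
theorem ker_app_le_span {V V' : Y.Opens} (hV : IsAffineOpen V) (hV' : IsAffineOpen V')
    (hle : V' ≤ V) (rs : List Γ(Y, V)) (hker : RingHom.ker (j.app V).hom = Ideal.ofList rs) :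
    RingHom.ker (j.app V').hom = Ideal.span (Set.range
      (fun k : Fin rs.length => (Y.presheaf.map (homOfLE hle).op).hom (rs.get k))) := by
  rw [ker_app_le j hV hV' hle, hker, ConormReg.ofList_eq_span_range, Ideal.map_span,
    ← Set.range_comp]
  rfl

end Chart

end Groth.Agent.Lib.Helper25.ConormSum
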