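import Mathlib
import Groth.Prelude
import Groth.Agent.Lib.Helper25.ConormSumA
import Groth.Agent.Lib.Helper17.CoprodSec

/-!
# Conormal sheaf of an intersection (helper25)

For closed subschemes `X_l` of `X` (Koszul-regular of codimension `d_l`) with schematic
intersection `Y` (Koszul-regular of codimension `∑ d_l`), the sum of the canonical maps
`∐_l g_l^* C_{X_l/X} ⟶ C_{Y/X}` is an isomorphism.
-/

set_option autoImplicit false
set_option linter.style.haveILetI false
set_option linter.unusedSectionVars false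
set_option linter.unusedVariables false
universe u
open CategoryTheory CategoryTheory.Limits AlgebraicGeometry TopologicalSpace Opposite

namespace Groth.Agent.Lib.Helper25.ConormSum

open Groth.Agent.Lib.Helper1.PbSect Groth.Agent.Lib.Helper3 Groth.Agent.Lib.Helper1.ConormMap
open Groth.Agent.Lib.Helper1 Groth.Agent.Lib.Helper17

theorem app_sum {Y : Scheme.{u}} {M N : Y.Modules} (φ : M ⟶ N) (W : Y.Opens) {ι : Type*}
    (s : Finset ι) (f : ι → Γ(M, W)) :
    φ.app W (∑ k ∈ s, f k) = ∑ k ∈ s, φ.app W (f k) := by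
  classical
  induction s using Finset.induction_on with
  | empty => rw [Finset.sum_empty, Finset.sum_empty]; exact QCExact.app_zero φ W
  | insert a s ha ih => rw [Finset.sum_insert ha, Finset.sum_insert ha, QCExact.app_add, ih]

variable {X Y : Scheme.{u}} {r : ℕ} {Xs : Fin r → Scheme.{u}} (j : ∀ l, Xs l ⟶ X)
  [∀ l, IsClosedImmersion (j l)] (d : Fin r → ℕ) (i : Y ⟶ X) [IsClosedImmersion i]
  (g : ∀ l, Y ⟶ Xs l) (hg : ∀ l, g l ≫ j l = i)

include hg in
theorem hw (l : Fin r) : g l ≫ j l = i ≫ 𝟙 X := by rw [Category.comp_id]; exact hg l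

/-- the summands -/
noncomputable abbrev F (l : Fin r) : Y.Modules :=
  (Scheme.Modules.pullback (g l)).obj (Omega.conormal (j l))

/-- the canonical map of the `l`-th summand -/
noncomputable def phi (l : Fin r) : F j g l ⟶ Omega.conormal i :=
  ConormMapEx.conormalMap i (j l) (𝟙 X) (g l) (hw j i g hg l)

theorem isConormalMap_phi (l : Fin r) :
    OmegaSh.IsConormalMap i (j l) (𝟙 X) (g l) (phi j i g hg l) :=
  ConormMapEx.isConormalMap_conormalMap i (j l) (𝟙 X) (g l) (hw j i g hg l)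

/-- the sum of the canonical maps -/
noncomputable def Phi : (∐ F j g) ⟶ Omega.conormal i := Sigma.desc (phi j i g hg)

include hg in
theorem exists_chart
    (hj : ∀ l, RegImm.IsRegularImmersionOfCodim RegImm.Kind.koszul (d l) (j l))
    (hi : RegImm.IsRegularImmersionOfCodim RegImm.Kind.koszul (∑ l, d l) i)
    (y : Y) (W₀ : X.Opens) (hy : i y ∈ W₀) :
    ∃ V : X.Opens, IsAffineOpen V ∧ i y ∈ V ∧ V ≤ W₀ ∧
      ∃ (n : ℕ) (hh : Fin n → Γ(X, V)) (c : Fin r → ℕ) (G : ∀ l, Fin (c l) → Γ(X, V)),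
        ∑ l, c l = n ∧
        RingHom.ker (i.app V).hom = Ideal.span (Set.range hh) ∧
        (∀ b : Fin n → Γ(X, V), ∑ k, b k * hh k ∈ (RingHom.ker (i.app V).hom) ^ 2 →
          ∀ k, b k ∈ RingHom.ker (i.app V).hom) ∧
        ∀ l, RingHom.ker ((j l).app V).hom = Ideal.span (Set.range (G l)) := by
  obtain ⟨⟨U₀, hU₀⟩, hyU₀, -, rs, hlen, hks, hker⟩ := hi.2 y
  choose U hzU _hcl rsl hlenl _hseq hkerl using fun l => (hj l).2 (g l y)
  have hzU' : ∀ l, i y ∈ (U l).1 := by
    intro l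
    have h1 : (j l) ((g l) y) = i y := by
      have := congrArg (fun ψ => ψ.base y) (hg l)
      exact this
    rw [← h1]; exact hzU l
  let W₁ : X.Opens := ⟨⋂ l, ((U l).1 : Set X), isOpen_iInter_of_finite fun l => (U l).1.2⟩
  have hyW₁ : i y ∈ W₀ ⊓ W₁ := ⟨hy, Set.mem_iInter.mpr hzU'⟩
  obtain ⟨b, hbW, hyb⟩ := hU₀.exists_basicOpen_le (V := W₀ ⊓ W₁) ⟨i y, hyW₁⟩ hyU₀
  have hV : IsAffineOpen (X.basicOpen b) := hU₀.basicOpen b
  have hVU₀ : X.basicOpen b ≤ U₀ := X.basicOpen_le b
  have hVU : ∀ l, X.basicOpen b ≤ (U l).1 := fun l x hx => Set.mem_iInter.mp (hbW hx).2 l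
  obtain ⟨hhf, hhf_def⟩ : ∃ f : Fin rs.length → Γ(X, X.basicOpen b),
      f = fun k => (X.presheaf.map (homOfLE hVU₀).op).hom (rs.get k) := ⟨_, rfl⟩
  have hkerV : RingHom.ker (i.app (X.basicOpen b)).hom = Ideal.span (Set.range hhf) := by
    rw [hhf_def]; exact ker_app_le_span i hU₀ hV hVU₀ rs hker
  refine ⟨X.basicOpen b, hV, hyb, hbW.trans inf_le_left, rs.length, hhf,
    fun l => (rsl l).length,
    fun l k => (X.presheaf.map (homOfLE (hVU l)).op).hom ((rsl l).get k), ?_, hkerV, ?_, ?_⟩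
  · rw [hlen]; exact Finset.sum_congr rfl fun l _ => hlenl l
  · letI : Algebra Γ(X, U₀) Γ(X, X.basicOpen b) :=
      (X.presheaf.map (homOfLE hVU₀).op).hom.toAlgebra
    haveI : IsLocalization.Away b Γ(X, X.basicOpen b) := hU₀.isLocalization_basicOpen b
    haveI : Module.Flat Γ(X, U₀) Γ(X, X.basicOpen b) :=
      IsLocalization.flat Γ(X, X.basicOpen b) (Submonoid.powers b)
    have hks' : LCI.IsKoszulRegularSeq Γ(X, U₀) rs := hks
    have hreg := KoszulConcat.isKoszulRegularSeq_map_of_flat (B := Γ(X, X.basicOpen b)) rs hks'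
    have hof : List.ofFn hhf = rs.map (algebraMap Γ(X, U₀) Γ(X, X.basicOpen b)) := by
      have : hhf = (algebraMap Γ(X, U₀) Γ(X, X.basicOpen b)) ∘ rs.get := by
        rw [hhf_def]; rfl
      rw [this, ← List.map_ofFn, List.ofFn_get]
    rw [hkerV]
    intro bb hbb k
    exact coeff_mem_of_sum_mem_sq' hhf
      (fun a ha => Groth.Agent.Lib.Helper27.KRel.rel_mem _ hhf (by rw [hof]; exact hreg) a ha)
      bb hbb k
  · intro l
    exact ker_app_le_span (j l) (U l).2 hV (hVU l) (rsl l) (hkerl l)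

end Groth.Agent.Lib.Helper25.ConormSum
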