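import Mathlib
import Groth.Prelude
import Groth.Agent.Lib.Helper25.ConormSumB

/-!
# Conormal sheaf of an intersection: the isomorphism (helper25)
-/

set_option autoImplicit false
set_option linter.style.haveILetI false
set_option linter.unusedSectionVars false
set_option linter.unusedVariables false
universe u
open CategoryTheory CategoryTheory.Limits AlgebraicGeometry TopologicalSpace Opposite

namespace Groth.Agent.Lib.Helper25.ConormSum

open Groth.Agent.Lib.Helper1.PbSect Groth.Agent.Lib.Helper3 Groth.Agent.Lib.Helper1.ConormMap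
open Groth.Agent.Lib.Helper1 Groth.Agent.Lib.Helper17

theorem conormalSect_sum {Z X : Scheme.{u}} (i : Z ⟶ X) (V : X.Opens) {ι : Type*}
    (s : Finset ι) (f : ι → Γ(ClSub.idealMod i.ker, V)) :
    OmegaSh.conormalSect i V (∑ k ∈ s, f k) = ∑ k ∈ s, OmegaSh.conormalSect i V (f k) :=
  map_sum _ f s

variable {X Y : Scheme.{u}} {r : ℕ} {Xs : Fin r → Scheme.{u}} (j : ∀ l, Xs l ⟶ X)
  [∀ l, IsClosedImmersion (j l)] (d : Fin r → ℕ) (i : Y ⟶ X) [IsClosedImmersion i]
  (g : ∀ l, Y ⟶ Xs l) (hg : ∀ l, g l ≫ j l = i)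

theorem inj_surj_on_chart
    (hY : ∀ U : X.affineOpens, i.ker.ideal U = ⨆ l, (j l).ker.ideal U)
    {V : X.Opens} (hV : IsAffineOpen V) {n : ℕ} (hh : Fin n → Γ(X, V))
    (hI : RingHom.ker (i.app V).hom = Ideal.span (Set.range hh))
    (hcoef : ∀ b : Fin n → Γ(X, V), ∑ k, b k * hh k ∈ (RingHom.ker (i.app V).hom) ^ 2 →
      ∀ k, b k ∈ RingHom.ker (i.app V).hom)
    {c : Fin r → ℕ} (G : ∀ l, Fin (c l) → Γ(X, V)) (hcn : ∑ l, c l = n)
    (hGl : ∀ l, RingHom.ker ((j l).app V).hom = Ideal.span (Set.range (G l))) :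
    (∀ t, (Phi j i g hg).app (i ⁻¹ᵁ V) t = 0 → t = 0) ∧
      Function.Surjective ((Phi j i g hg).app (i ⁻¹ᵁ V)) := by
  classical
  have hUU : V ≤ (𝟙 X) ⁻¹ᵁ V := le_rfl
  obtain ⟨hiV, his⟩ := good_of_le_coborderRange i hV (ConormSES.le_coborderRange i V)
  have hjV : ∀ l, IsAffineOpen ((j l) ⁻¹ᵁ V) ∧ Function.Surjective ((j l).app V) := fun l =>
    good_of_le_coborderRange (j l) hV (ConormSES.le_coborderRange (j l) V)
  have e1 : (𝟙 X : X ⟶ X).appLE V V hUU = 𝟙 _ := Conorm.appLE_refl (𝟙 X) V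
  have hGmem : ∀ l k, G l k ∈ RingHom.ker ((j l).app V).hom := fun l k => by
    rw [hGl l]; exact Ideal.subset_span ⟨k, rfl⟩
  choose sg hsg using fun l k => Conorm.exists_val_eq (j l) hV (G l k) (hGmem l k)
  obtain ⟨T, hT⟩ : ∃ T : ∀ l, Fin (c l) → Γ(F j g l, i ⁻¹ᵁ V), ∀ l k, T l k =
      ConormBC.T i (j l) (𝟙 X) (g l) (hw j i g hg l) hUU (sg l k) := ⟨_, fun _ _ => rfl⟩
  obtain ⟨Ls, hLsd⟩ : ∃ Ls : ∀ l, Fin (c l) → Γ(ClSub.idealMod i.ker, V), ∀ l k, Ls l k =
      ConormBC.L i (j l) (𝟙 X) (g l) (hw j i g hg l) hUU (sg l k) := ⟨_, fun _ _ => rfl⟩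
  have hLs : ∀ l k, IdealMod.val i.ker (Ls l k) = G l k := by
    intro l k
    rw [hLsd, ConormBC.val_L, e1]
    exact hsg l k
  have hφT : ∀ l k, (phi j i g hg l).app (i ⁻¹ᵁ V) (T l k) =
      OmegaSh.conormalSect i V (Ls l k) := by
    intro l k
    rw [hT, hLsd]
    exact ConormBC.phi_T i (j l) (𝟙 X) (g l) (hw j i g hg l) (phi j i g hg l)
      (isConormalMap_phi j i g hg l) hUU (sg l k)
  have hΦι : ∀ l (x : Γ(F j g l, i ⁻¹ᵁ V)),
      (Phi j i g hg).app (i ⁻¹ᵁ V) ((Sigma.ι (F j g) l).app (i ⁻¹ᵁ V) x) =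
        (phi j i g hg l).app (i ⁻¹ᵁ V) x := by
    intro l x
    have e : Sigma.ι (F j g) l ≫ Phi j i g hg = phi j i g hg l := Sigma.ι_desc _ _
    rw [← e]
    rfl
  have hcomp : ∀ a : ∀ l, Fin (c l) → Γ(X, V),
      (Phi j i g hg).app (i ⁻¹ᵁ V) (∑ l, (Sigma.ι (F j g) l).app (i ⁻¹ᵁ V)
        (∑ k, i.app V (a l k) • T l k)) =
        OmegaSh.conormalSect i V (∑ l, ∑ k, a l k • Ls l k) := by
    intro a
    rw [app_sum, conormalSect_sum]
    refine Finset.sum_congr rfl fun l _ => ?_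
    rw [hΦι, app_sum, conormalSect_sum]
    refine Finset.sum_congr rfl fun k _ => ?_
    rw [Scheme.Modules.Hom.app_smul, hφT, Conorm.conormalSect_smul]
  have hvalS : ∀ a : ∀ l, Fin (c l) → Γ(X, V),
      IdealMod.val i.ker (∑ l, ∑ k, a l k • Ls l k) =
        ∑ m : (Σ l, Fin (c l)), a m.1 m.2 * G m.1 m.2 := by
    intro a
    rw [ConormReg.val_sum, Fintype.sum_sigma]
    refine Finset.sum_congr rfl fun l _ => ?_
    rw [ConormReg.val_sum]
    refine Finset.sum_congr rfl fun k _ => ?_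
    show IdealMod.val i.ker (a l k • Ls l k) = a l k * G l k
    rw [IdealMod.val_smul, hLs]
  have hspan : RingHom.ker (i.app V).hom =
      Ideal.span (Set.range (fun m : (Σ l, Fin (c l)) => G m.1 m.2)) := by
    have h1 := hY ⟨V, hV⟩
    rw [Scheme.Hom.ker_apply] at h1
    have h1' : RingHom.ker (i.app V).hom = ⨆ l, (j l).ker.ideal ⟨V, hV⟩ := h1
    rw [h1', Set.range_sigma_eq_iUnion_range, Ideal.span_iUnion]
    refine iSup_congr fun l => ?_
    rw [Scheme.Hom.ker_apply]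
    exact hGl l
  have hcard : Fintype.card (Σ l, Fin (c l)) = n := by
    rw [Fintype.card_sigma]; simp only [Fintype.card_fin]; exact hcn
  have hspanT : ∀ l (t : Γ(F j g l, i ⁻¹ᵁ V)),
      ∃ a : Fin (c l) → Γ(X, V), t = ∑ k, i.app V (a k) • T l k := by
    intro l t
    have hmem : t ∈ Submodule.span Γ(Y, i ⁻¹ᵁ V)
        (Set.range (pullRes (g l) (Omega.conormal (j l))
          (ConormBC.le₁ i (j l) (𝟙 X) (g l) (hw j i g hg l) hUU))) := by
      rw [span_range_pullRes (g l) (Omega.conormal (j l)) (hjV l).1 hiV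
        (ConormBC.le₁ i (j l) (𝟙 X) (g l) (hw j i g hg l) hUU)]; trivial
    induction hmem using Submodule.span_induction with
    | mem x hx =>
      obtain ⟨c', rfl⟩ := hx
      obtain ⟨s', rfl⟩ := Conorm.conormalSect_surjective (j l) hV (hjV l).1 (hjV l).2 c'
      have hs'mem := Conorm.val_mem_ker (j l) hV s'
      rw [hGl l] at hs'mem
      obtain ⟨a, ha⟩ := Ideal.mem_span_range_iff_exists_fun.mp hs'mem
      have hs' : s' = ∑ k, a k • sg l k := by
        apply IdealMod.val_injective (j l).ker V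
        rw [ConormReg.val_sum, ← ha]
        refine Finset.sum_congr rfl fun k _ => ?_
        rw [IdealMod.val_smul, hsg l k]
      refine ⟨a, ?_⟩
      rw [hs', conormalSect_sum,
        map_sum (pullRes (g l) (Omega.conormal (j l))
          (ConormBC.le₁ i (j l) (𝟙 X) (g l) (hw j i g hg l) hUU))]
      refine Finset.sum_congr rfl fun k _ => ?_
      rw [Conorm.conormalSect_smul, pullRes_smul]
      have hscal : ((g l).appLE ((j l) ⁻¹ᵁ V) (i ⁻¹ᵁ V)
          (ConormBC.le₁ i (j l) (𝟙 X) (g l) (hw j i g hg l) hUU)).hom ((j l).app V (a k)) =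
          i.app V (a k) := by
        have hsq := ConormBC.sq_app i (j l) (𝟙 X) (g l) (hw j i g hg l) hUU (a k)
        rw [e1] at hsq
        exact hsq.symm
      rw [hscal, hT]
      rfl
    | zero => exact ⟨0, by simp⟩
    | add x y _ _ hx hy =>
      obtain ⟨a₁, rfl⟩ := hx
      obtain ⟨a₂, rfl⟩ := hy
      refine ⟨a₁ + a₂, ?_⟩
      rw [← Finset.sum_add_distrib]
      refine Finset.sum_congr rfl fun k _ => ?_
      rw [Pi.add_apply, map_add, add_smul]
    | smul c₀ x _ hx =>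
      obtain ⟨a₁, rfl⟩ := hx
      obtain ⟨a', rfl⟩ := his c₀
      refine ⟨fun k => a' * a₁ k, ?_⟩
      rw [Finset.smul_sum]
      refine Finset.sum_congr rfl fun k _ => ?_
      rw [map_mul, mul_smul]
  have hgen : ∀ t : Γ((∐ F j g : Y.Modules), i ⁻¹ᵁ V),
      ∃ a : ∀ l, Fin (c l) → Γ(X, V), t = ∑ l, (Sigma.ι (F j g) l).app (i ⁻¹ᵁ V)
        (∑ k, i.app V (a l k) • T l k) := by
    intro t
    have h1 : t = ∑ l, (Sigma.ι (F j g) l).app (i ⁻¹ᵁ V)
        ((CoprodSec.proj (F j g) l).app (i ⁻¹ᵁ V) t) := by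
      have := congrArg (fun ψ : (∐ F j g) ⟶ (∐ F j g) => ψ.app (i ⁻¹ᵁ V) t)
        (CoprodSec.sum_proj_ι (F j g))
      simp only at this
      rw [CoprodSec.sum_app] at this
      exact this.symm
    choose a ha using fun l => hspanT l ((CoprodSec.proj (F j g) l).app (i ⁻¹ᵁ V) t)
    refine ⟨a, ?_⟩
    conv_lhs => rw [h1]
    refine Finset.sum_congr rfl fun l _ => ?_
    rw [← ha l]
  refine ⟨?_, ?_⟩
  · intro t ht
    obtain ⟨a, rfl⟩ := hgen t
    rw [hcomp] at ht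
    have h2 := (Conorm.conormalSect_eq_zero_iff i hV hiV his _).mp ht
    rw [hvalS] at h2
    have h3 : ∀ m : (Σ l, Fin (c l)), a m.1 m.2 ∈ RingHom.ker (i.app V).hom := fun m =>
      coeff_transfer hcard (RingHom.ker (i.app V).hom) hh hI hcoef (fun m => G m.1 m.2) hspan
        (fun m => a m.1 m.2) h2 m
    have h4 : ∀ l k, i.app V (a l k) = 0 := fun l k => RingHom.mem_ker.mp (h3 ⟨l, k⟩)
    refine Finset.sum_eq_zero fun l _ => ?_
    have h5 : (∑ k, i.app V (a l k) • T l k) = 0 :=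
      Finset.sum_eq_zero fun k _ => by rw [h4, zero_smul]
    rw [h5]
    exact QCExact.app_zero _ _
  · intro y
    obtain ⟨s, rfl⟩ := Conorm.conormalSect_surjective i hV hiV his y
    have hs := Conorm.val_mem_ker i hV s
    rw [hspan] at hs
    obtain ⟨a', ha'⟩ := Ideal.mem_span_range_iff_exists_fun.mp hs
    refine ⟨∑ l, (Sigma.ι (F j g) l).app (i ⁻¹ᵁ V) (∑ k, i.app V (a' ⟨l, k⟩) • T l k), ?_⟩
    rw [hcomp (fun l k => a' ⟨l, k⟩)]
    congr 1
    apply IdealMod.val_injective i.ker V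
    rw [hvalS, ← ha']

include hg in
theorem isIso_Phi
    (hY : ∀ U : X.affineOpens, i.ker.ideal U = ⨆ l, (j l).ker.ideal U)
    (hj : ∀ l, RegImm.IsRegularImmersionOfCodim RegImm.Kind.koszul (d l) (j l))
    (hi : RegImm.IsRegularImmersionOfCodim RegImm.Kind.koszul (∑ l, d l) i) :
    IsIso (Phi j i g hg) := by
  haveI : (Omega.conormal i).IsQuasicoherent :=
    Groth.Agent.Lib.Helper17.PbStalk.isQuasicoherent_pullback i (ClSub.idealMod i.ker)
  haveI : Mono (Phi j i g hg) := by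
    apply ModBasis.mono_of_injective_on_basis
    intro W z hz
    obtain ⟨W₀, hW₀⟩ := ConormOpen.exists_preimage_eq i W
    have hz' : i z ∈ W₀ := by
      have : z ∈ i ⁻¹ᵁ W₀ := by rw [hW₀]; exact hz
      exact this
    obtain ⟨V, hV, hzV, hVW, n, hh, c, G, hcn, hI, hcoef, hGl⟩ :=
      exists_chart j d i g hg hj hi z W₀ hz'
    refine ⟨i ⁻¹ᵁ V, hzV, ?_, ?_⟩
    · rw [← hW₀]; exact i.preimage_mono hVW
    · exact (inj_surj_on_chart j i g hg hY hV hh hI hcoef G hcn hGl).1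
  haveI : Epi (Phi j i g hg) := by
    apply QCExact.epi_of_surjective_on_affine_cover
    intro z
    obtain ⟨V, hV, hzV, -, n, hh, c, G, hcn, hI, hcoef, hGl⟩ :=
      exists_chart j d i g hg hj hi z ⊤ trivial
    exact ⟨i ⁻¹ᵁ V, (good_of_le_coborderRange i hV (ConormSES.le_coborderRange i V)).1, hzV,
      (inj_surj_on_chart j i g hg hY hV hh hI hcoef G hcn hGl).2⟩
  exact isIso_of_mono_of_epi _

end Groth.Agent.Lib.Helper25.ConormSum
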