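import Mathlib

/-!
# Length of a full-rank quotient over a PID = order of the determinant; trace/discriminant of a
full-rank subalgebra (helper25)
-/

set_option autoImplicit false
open Module Matrix

namespace Groth.Agent.Lib.Helper25.CrimpLen

/-- Over a PID, the length of `M ⧸ N` for `N` free of full rank is the order of vanishing of the
determinant of a basis of `N` w.r.t. a basis of `M`. -/
theorem length_quot_eq_ord_det {R M ι : Type*} [CommRing R] [IsDomain R] [IsPrincipalIdealRing R]
    [AddCommGroup M] [Module R M] [Fintype ι] [DecidableEq ι]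
    (b : Basis ι R M) (N : Submodule R M) (bN : Basis ι R N) :
    Module.length R (M ⧸ N) = Ring.ord R (b.det ((↑) ∘ bN)) := by
  have h : Module.finrank R N = Module.finrank R M := by
    rw [Module.finrank_eq_card_basis bN, Module.finrank_eq_card_basis b]
  have ab_eq : ∀ i, (Submodule.smithNormalFormBotBasis b h i : M) =
      Submodule.smithNormalFormCoeffs b h i • Submodule.smithNormalFormTopBasis b h i :=
    Submodule.smithNormalFormBotBasis_def b h
  have ha0 : ∀ i, Submodule.smithNormalFormCoeffs b h i ≠ 0 := by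
    intro i hi
    have h1 : (Submodule.smithNormalFormBotBasis b h i : M) = 0 := by rw [ab_eq, hi, zero_smul]
    exact (Submodule.smithNormalFormBotBasis b h).ne_zero i (Subtype.ext h1)
  have hlen : Module.length R (M ⧸ N) =
      ∑ i, Ring.ord R (Submodule.smithNormalFormCoeffs b h i) := by
    rw [(N.quotientEquivPiSpan b h).length_eq, Module.length_pi_of_fintype]
    rfl
  have hprod : ∀ s : Finset ι, Ring.ord R (∏ i ∈ s, Submodule.smithNormalFormCoeffs b h i) =
      ∑ i ∈ s, Ring.ord R (Submodule.smithNormalFormCoeffs b h i) := by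
    intro s
    induction s using Finset.induction_on with
    | empty => simp [Ring.ord_one]
    | insert j s hj ih =>
      rw [Finset.prod_insert hj, Finset.sum_insert hj, Ring.ord_mul, ih]
      exact mem_nonZeroDivisors_of_ne_zero (Finset.prod_ne_zero_iff.2 (fun i _ => ha0 i))
  have hdet : Associated (b.det ((↑) ∘ bN)) (∏ i, Submodule.smithNormalFormCoeffs b h i) := by
    let e' : M ≃ₗ[R] N := (Submodule.smithNormalFormTopBasis b h).equiv
      (Submodule.smithNormalFormBotBasis b h) (Equiv.refl _)
    let f : M →ₗ[R] M := N.subtype ∘ₗ (e' : M →ₗ[R] N)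
    have hf : ∀ i, f (Submodule.smithNormalFormTopBasis b h i) =
        Submodule.smithNormalFormCoeffs b h i • Submodule.smithNormalFormTopBasis b h i := by
      intro i
      show (N.subtype (e' (Submodule.smithNormalFormTopBasis b h i))) = _
      rw [Basis.equiv_apply, Equiv.refl_apply]
      exact ab_eq i
    have h1 : LinearMap.det f = ∏ i, Submodule.smithNormalFormCoeffs b h i := by
      rw [← LinearMap.det_toMatrix (Submodule.smithNormalFormTopBasis b h)]
      have h2 : LinearMap.toMatrix (Submodule.smithNormalFormTopBasis b h)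
          (Submodule.smithNormalFormTopBasis b h) f =
          Matrix.diagonal (Submodule.smithNormalFormCoeffs b h) := by
        ext i j
        rw [LinearMap.toMatrix_apply, hf, map_smul, Basis.repr_self, Finsupp.smul_single,
          smul_eq_mul, mul_one]
        by_cases hij : i = j
        · rw [hij, Matrix.diagonal_apply_eq, Finsupp.single_eq_same]
        · rw [Matrix.diagonal_apply_ne _ hij, Finsupp.single_eq_of_ne hij]
      rw [h2, Matrix.det_diagonal]
    have h2 : b.det ((↑) ∘ bN) =
        LinearMap.det (N.subtype ∘ₗ ((b.equiv bN (Equiv.refl ι)) : M →ₗ[R] N)) := by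
      rw [← Basis.det_comp_basis]; rfl
    rw [h2, ← h1]
    exact LinearMap.associated_det_comp_equiv _ _ _
  rw [hlen, Ring.ord_eq_of_associated hdet, hprod]

section Subalg

variable {R St ι : Type*} [CommRing R] [IsDomain R] [CommRing St] [Algebra R St]
  [Fintype ι] [DecidableEq ι]

/-- matrix of the inclusion of a subalgebra with respect to bases -/
noncomputable def Q (bt : Basis ι R St) (S : Subalgebra R St) (bS : Basis ι R S) :
    Matrix ι ι R := LinearMap.toMatrix bS bt S.val.toLinearMap

theorem Q_eq (bt : Basis ι R St) (S : Subalgebra R St) (bS : Basis ι R S) :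
    Q bt S bS = bt.toMatrix (fun i => (bS i : St)) := by
  ext i j
  rw [Q, LinearMap.toMatrix_apply, Basis.toMatrix_apply]
  rfl

theorem detQ_ne_zero (bt : Basis ι R St) (S : Subalgebra R St) (bS : Basis ι R S) :
    (Q bt S bS).det ≠ 0 := by
  intro h0
  obtain ⟨v, hv, hQv⟩ := Matrix.exists_mulVec_eq_zero_iff.2 h0
  apply hv
  have h1 : LinearMap.toMatrix bS bt S.val.toLinearMap *ᵥ (bS.repr (bS.equivFun.symm v)) =
      bt.repr (S.val.toLinearMap (bS.equivFun.symm v)) :=
    LinearMap.toMatrix_mulVec_repr bS bt _ _
  have h2 : ⇑(bS.repr (bS.equivFun.symm v)) = v := bS.equivFun.apply_symm_apply v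
  rw [h2] at h1
  have h1' : (0 : ι → R) = bt.repr (S.val.toLinearMap (bS.equivFun.symm v)) := by
    rw [← h1]; exact hQv.symm
  have h3 : S.val.toLinearMap (bS.equivFun.symm v) = 0 := by
    have h4 : bt.repr (S.val.toLinearMap (bS.equivFun.symm v)) = 0 := by
      ext i; exact (congrFun h1' i).symm
    exact bt.repr.map_eq_zero_iff.1 h4
  have h4 : bS.equivFun.symm v = 0 := Subtype.ext h3
  have h5 := congrArg bS.equivFun h4
  rwa [LinearEquiv.apply_symm_apply, map_zero] at h5

theorem trace_eq (bt : Basis ι R St) (S : Subalgebra R St) (bS : Basis ι R S) (x : S) :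
    Algebra.trace R S x = Algebra.trace R St (x : St) := by
  have hQdet := detQ_ne_zero bt S bS
  have hcomm : Q bt S bS * Algebra.leftMulMatrix bS x =
      Algebra.leftMulMatrix bt (x : St) * Q bt S bS := by
    rw [Algebra.leftMulMatrix_apply, Algebra.leftMulMatrix_apply, Q,
      ← LinearMap.toMatrix_comp bS bS bt, ← LinearMap.toMatrix_comp bS bt bt]
    congr 1
  rw [Algebra.trace_eq_matrix_trace bS, Algebra.trace_eq_matrix_trace bt]
  apply mul_left_cancel₀ hQdet
  have h1 : (Q bt S bS).det • Algebra.leftMulMatrix bS x =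
      (Q bt S bS).adjugate * (Algebra.leftMulMatrix bt (x : St)) * Q bt S bS := by
    rw [Matrix.mul_assoc, ← hcomm, ← Matrix.mul_assoc, Matrix.adjugate_mul, Matrix.smul_mul,
      Matrix.one_mul]
  have h2 : (Q bt S bS).det * Matrix.trace (Algebra.leftMulMatrix bS x) =
      Matrix.trace ((Q bt S bS).det • Algebra.leftMulMatrix bS x) := by
    rw [Matrix.trace_smul, smul_eq_mul]
  rw [h2, h1, Matrix.trace_mul_comm, ← Matrix.mul_assoc, Matrix.mul_adjugate, Matrix.smul_mul,
    Matrix.one_mul, Matrix.trace_smul, smul_eq_mul]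

theorem discr_rel (bt : Basis ι R St) (S : Subalgebra R St) (bS : Basis ι R S) :
    Algebra.discr R ⇑bS = (Q bt S bS).det ^ 2 * Algebra.discr R ⇑bt := by
  have e1 : Algebra.discr R ⇑bS = Algebra.discr R (fun i => (bS i : St)) := by
    rw [Algebra.discr_def, Algebra.discr_def]
    congr 1
    ext i j
    rw [Algebra.traceMatrix_apply, Algebra.traceMatrix_apply, Algebra.traceForm_apply,
      Algebra.traceForm_apply, trace_eq bt S bS]
    rfl
  rw [e1, ← Algebra.discr_of_matrix_vecMul, Q_eq, Basis.toMatrix_map_vecMul]

theorem det_smul_mem (bt : Basis ι R St) (S : Subalgebra R St) (bS : Basis ι R S) (y : St) :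
    (Q bt S bS).det • y ∈ Subalgebra.toSubmodule S := by
  have h1 : Matrix.toLin bt bt (Q bt S bS * (Q bt S bS).adjugate) =
      S.val.toLinearMap ∘ₗ Matrix.toLin bt bS (Q bt S bS).adjugate := by
    rw [Matrix.toLin_mul bt bS bt, Q, Matrix.toLin_toMatrix]
  rw [Matrix.mul_adjugate, map_smul, Matrix.toLin_one] at h1
  have h2 := LinearMap.congr_fun h1 y
  simp only [LinearMap.smul_apply, LinearMap.id_apply, LinearMap.comp_apply] at h2
  rw [h2]
  exact (Matrix.toLin bt bS (Q bt S bS).adjugate y).2

end Subalg

end Groth.Agent.Lib.Helper25.CrimpLen
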