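import Mathlib
import Groth.Agent.Lib.Helper16.EtDim

/-!
# Closed points of one-dimensional integral schemes have codimension one (helper25)
-/

set_option autoImplicit false
set_option linter.style.haveILetI false

universe u

open CategoryTheory AlgebraicGeometry

namespace Groth.Agent.Lib.Helper25.CurveDim

theorem coheight_eq_one_of_isClosed (X : Scheme.{u}) [IsIntegral X]
    (hdim : topologicalKrullDim X = 1) (x : X) (hx : IsClosed ({x} : Set X)) :
    Order.coheight x = 1 := by
  have hle : (Order.coheight x : WithBot ℕ∞) ≤ 1 := by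
    rw [← hdim, Groth.Agent.Lib.Helper16.EtDim.topologicalKrullDim_eq_krullDim X]
    exact Order.coheight_le_krullDim x
  have hne : Order.coheight x ≠ 0 := by
    intro h0
    rw [Order.coheight_eq_zero] at h0
    have hle' : x ≤ genericPoint X := Scheme.le_iff_specializes.mpr (genericPoint_specializes x)
    have hxg : x ⤳ genericPoint X := Scheme.le_iff_specializes.mp (h0 hle')
    have hmem : genericPoint X ∈ closure ({x} : Set X) := specializes_iff_mem_closure.mp hxg
    rw [hx.closure_eq, Set.mem_singleton_iff] at hmem
    have huniv : ({x} : Set X) = Set.univ := by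
      rw [← hx.closure_eq, ← hmem]
      exact genericPoint_spec X
    haveI : Subsingleton X := by
      refine ⟨fun a b => ?_⟩
      have ha : a ∈ ({x} : Set X) := huniv ▸ Set.mem_univ a
      have hb : b ∈ ({x} : Set X) := huniv ▸ Set.mem_univ b
      rw [Set.mem_singleton_iff] at ha hb
      rw [ha, hb]
    have h00 : topologicalKrullDim X ≤ 0 := topologicalKrullDim_zero_of_discreteTopology X
    rw [hdim] at h00
    have h01 : ((1 : ℕ∞) : WithBot ℕ∞) ≤ ((0 : ℕ∞) : WithBot ℕ∞) := h00
    rw [WithBot.coe_le_coe] at h01
    exact absurd h01 (by simp)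
  exact le_antisymm (by exact_mod_cast hle) (Order.one_le_iff_ne_zero.mpr hne)

theorem ringKrullDim_stalk_eq_one_of_isClosed (X : Scheme.{u}) [IsIntegral X]
    (hdim : topologicalKrullDim X = 1) (x : X) (hx : IsClosed ({x} : Set X)) :
    ringKrullDim (X.presheaf.stalk x) = 1 := by
  rw [AlgebraicGeometry.ringKrullDim_stalk_eq_coheight, coheight_eq_one_of_isClosed X hdim x hx]
  rfl

end Groth.Agent.Lib.Helper25.CurveDim
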