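import Groth.Agent.Lib.Helper25.CycLoc
import Groth.Agent.Lib.Helper25.ExtPowTw

/-!
# The cycles of the Koszul complex of `n` copies of an invertible ideal `𝓘`:
# `Z_q ≅ Λ^q O^{n-1} ⊗ 𝓘^{⊗ q}`
-/

set_option autoImplicit false
set_option linter.style.haveILetI false
universe u
open CategoryTheory CategoryTheory.Limits AlgebraicGeometry TopologicalSpace Opposite
open Scheme.Modules exteriorPower

namespace Groth.Agent.Lib.Helper25.CycIso

open Groth.Agent.Lib.Helper3 Groth.Agent.Lib.Helper3.QCSec Groth.Agent.Lib.Helper3.InvGen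
  Groth.Agent.Lib.Helper3.InvTensor
  Groth.Agent.Lib.Helper3.FreeBasis Groth.Agent.Lib.Helper3.IdealMod Groth.Agent.Lib.Helper17
open Groth.Agent.Lib.Helper25.TorSec Groth.Agent.Lib.Helper25 Groth.Agent.Lib.Helper25.KoszExt
  Groth.Agent.Lib.Helper25.CycRing Groth.Agent.Lib.Helper25.TwKoszRing
  Groth.Agent.Lib.Helper25.TwKosz

variable {X : Scheme.{u}} (A : X.IdealSheafData) (n : ℕ)

/-- the difference vectors `e_j - e_last` -/
noncomputable def vv (V : X.Opens) (e : Γ(ClSub.idealMod A, V)) (j : Fin (n - 1)) :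
    Γ(∐ fun _ : Fin n => ClSub.idealMod A, V) :=
  (Sigma.ι (fun _ : Fin n => ClSub.idealMod A) (emb j)).app V e -
    (Sigma.ι (fun _ : Fin n => ClSub.idealMod A) (lst j)).app V e

theorem vv_res {V V' : X.Opens} (h : V' ≤ V) (e : Γ(ClSub.idealMod A, V)) (j : Fin (n - 1)) :
    res _ h (vv A n V e j) = vv A n V' (res (ClSub.idealMod A) h e) j := by
  unfold vv
  rw [res_sub, ← QCExact.app_res', ← QCExact.app_res']

theorem vv_smul (V : X.Opens) (a : Γ(X, V)) (e : Γ(ClSub.idealMod A, V)) (j : Fin (n - 1)) :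
    vv A n V (a • e) j = a • vv A n V e j := by
  unfold vv
  rw [Scheme.Modules.Hom.app_smul, Scheme.Modules.Hom.app_smul, smul_sub]

/-- the local parametrisation of the kernel of the cosection -/
noncomputable def lamV (V : X.Opens) (e : Γ(ClSub.idealMod A, V)) :
    Γ(FlatMod.freeMod X (n - 1), V) →ₗ[Γ(X, V)] Γ(∐ fun _ : Fin n => ClSub.idealMod A, V) :=
  ∑ j : Fin (n - 1), (KoszSh.secForm (FreeBasis.proj X (n - 1) j) V).smulRight (vv A n V e j)

theorem lamV_apply (V : X.Opens) (e : Γ(ClSub.idealMod A, V))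
    (t : Γ(FlatMod.freeMod X (n - 1), V)) :
    lamV A n V e t =
      ∑ j : Fin (n - 1), KoszSh.secForm (FreeBasis.proj X (n - 1) j) V t • vv A n V e j := by
  unfold lamV
  rw [LinearMap.sum_apply]
  exact Finset.sum_congr rfl (fun j _ => LinearMap.smulRight_apply _ _ _)

theorem lamV_bsec (V : X.Opens) (e : Γ(ClSub.idealMod A, V)) (k : Fin (n - 1)) :
    lamV A n V e (bsec (n - 1) k V) = vv A n V e k := by
  rw [lamV_apply, Finset.sum_eq_single k]
  · have h1 : KoszSh.secForm (FreeBasis.proj X (n - 1) k) V (bsec (n - 1) k V) = 1 := by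
      rw [KoszSh.secForm_apply, proj_bsec, if_pos rfl]
      rfl
    rw [h1, one_smul]
  · intro j _ hjk
    have h1 : KoszSh.secForm (FreeBasis.proj X (n - 1) j) V (bsec (n - 1) k V) = 0 := by
      rw [KoszSh.secForm_apply, proj_bsec, if_neg (Ne.symm hjk)]
      exact _root_.map_zero _
    rw [h1, zero_smul]
  · intro h
    exact absurd (Finset.mem_univ k) h

theorem lamV_res {V V' : X.Opens} (h : V' ≤ V) (e : Γ(ClSub.idealMod A, V))
    (t : Γ(FlatMod.freeMod X (n - 1), V)) :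
    res _ h (lamV A n V e t) =
      lamV A n V' (res (ClSub.idealMod A) h e) (res (FlatMod.freeMod X (n - 1)) h t) := by
  rw [lamV_apply, lamV_apply, KoszExact.res_sum]
  refine Finset.sum_congr rfl (fun j _ => ?_)
  rw [res_smul, vv_res]
  congr 1
  rw [KoszSh.secForm_apply, KoszSh.secForm_apply, QCExact.app_res']
  rfl

theorem lamV_smul (V : X.Opens) (a : Γ(X, V)) (e : Γ(ClSub.idealMod A, V)) :
    lamV A n V (a • e) = a • lamV A n V e := by
  apply LinearMap.ext
  intro t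
  rw [LinearMap.smul_apply, lamV_apply, lamV_apply, Finset.smul_sum]
  refine Finset.sum_congr rfl (fun j _ => ?_)
  rw [vv_smul, smul_comm]

/-- the ring-level data over an affine open where `𝓐` is generated -/
theorem exists_bases (V : X.affineOpens) (e : Γ(ClSub.idealMod A, V.1))
    (hg : IsGen (ClSub.idealMod A) V.1 e) :
    ∃ (bW : Module.Basis (Fin n) Γ(X, V.1) Γ(∐ fun _ : Fin n => ClSub.idealMod A, V.1))
      (cW : Module.Basis (Fin (n - 1)) Γ(X, V.1) Γ(FlatMod.freeMod X (n - 1), V.1)),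
      KoszSh.secForm (Limits.Sigma.desc fun _ : Fin n => ClSub.idealModι A) V.1 =
        val A e • chi bW ∧
      ∀ j, lamV A n V.1 e (cW j) = bW (emb j) - bW (lst j) := by
  classical
  obtain ⟨bW, hbW, hsec⟩ := CycLoc.local_data A n V e hg
  have hc := (isBasis_bsec (X := X) (n - 1) V.1).self
  let cW : Module.Basis (Fin (n - 1)) Γ(X, V.1) Γ(FlatMod.freeMod X (n - 1), V.1) :=
    NormAlg.basisOfBijective _ hc
  have hcW : ∀ j, cW j = bsec (n - 1) j V.1 := NormAlg.basisOfBijective_apply _ hc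
  refine ⟨bW, cW, hsec, ?_⟩
  intro j
  rw [hcW, lamV_bsec, hbW, hbW]
  rfl

section Psi

variable {A n}
variable (C : KoszSh.Cx (∐ fun _ : Fin n => ClSub.idealMod A)
    (Limits.Sigma.desc fun _ : Fin n => ClSub.idealModι A))
  (q : ℕ) {L : X.Modules}
  (locL : ∀ U : X.affineOpens,
    Γ(L, U.1) ≃ₗ[Γ(X, U.1)] ↥(⋀[Γ(X, U.1)]^q Γ(FlatMod.freeMod X (n - 1), U.1)))

/-- the local map `L ⊗ 𝓐^q → K_q` -/
noncomputable def psiV (V : X.affineOpens) {e : Γ(ClSub.idealMod A, V.1)}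
    (hg : IsGen (ClSub.idealMod A) V.1 e) :
    Γ(CohB1.tensorMod L (CohB1.tensorPow (ClSub.idealMod A) q), V.1) →ₗ[Γ(X, V.1)]
      Γ(C.K.X q, V.1) :=
  (C.loc q V).symm.toLinearMap ∘ₗ exteriorPower.map q (lamV A n V.1 e) ∘ₗ
    (locL V).toLinearMap ∘ₗ (tauEquiv L (isGen_lpow hg q)).symm.toLinearMap

theorem psiV_apply (V : X.affineOpens) {e : Γ(ClSub.idealMod A, V.1)}
    (hg : IsGen (ClSub.idealMod A) V.1 e)
    (σ : Γ(CohB1.tensorMod L (CohB1.tensorPow (ClSub.idealMod A) q), V.1)) :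
    psiV C q locL V hg σ = (C.loc q V).symm (exteriorPower.map q (lamV A n V.1 e)
      (locL V ((tauEquiv L (isGen_lpow hg q)).symm σ))) := rfl

theorem psiV_gen (V : X.affineOpens) {e : Γ(ClSub.idealMod A, V.1)}
    (hg : IsGen (ClSub.idealMod A) V.1 e) (t : Fin q → Γ(FlatMod.freeMod X (n - 1), V.1)) :
    psiV C q locL V hg (tm L (CohB1.tensorPow (ClSub.idealMod A) q) V.1
        ((locL V).symm (ιMulti _ q t)) (lpow (ClSub.idealMod A) e q)) =
      (C.loc q V).symm (ιMulti _ q (fun i => lamV A n V.1 e (t i))) := by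
  rw [psiV_apply]
  have h1 : (tauEquiv L (isGen_lpow hg q)).symm
      (tm L (CohB1.tensorPow (ClSub.idealMod A) q) V.1
        ((locL V).symm (ιMulti _ q t)) (lpow (ClSub.idealMod A) e q)) =
      (locL V).symm (ιMulti _ q t) := by
    rw [← tauEquiv_apply L (isGen_lpow hg q), LinearEquiv.symm_apply_apply]
  rw [h1, LinearEquiv.apply_symm_apply, exteriorPower.map_apply_ιMulti]
  rfl

theorem psiV_indep (V : X.affineOpens) {e e' : Γ(ClSub.idealMod A, V.1)}
    (hg : IsGen (ClSub.idealMod A) V.1 e) (hg' : IsGen (ClSub.idealMod A) V.1 e')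
    (σ : Γ(CohB1.tensorMod L (CohB1.tensorPow (ClSub.idealMod A) q), V.1)) :
    psiV C q locL V hg' σ = psiV C q locL V hg σ := by
  obtain ⟨u, hu, rfl⟩ := hg.self.exists_unit hg'.self
  obtain ⟨w, hw⟩ := hu.exists_left_inv
  have h1 : (tauEquiv L (isGen_lpow hg' q)).symm σ =
      w ^ q • (tauEquiv L (isGen_lpow hg q)).symm σ := by
    apply (tauEquiv L (isGen_lpow hg' q)).injective
    rw [LinearEquiv.apply_symm_apply, _root_.map_smul, tauEquiv_apply, lpow_smul, tm_smul_right,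
      ← tauEquiv_apply L (isGen_lpow hg q), LinearEquiv.apply_symm_apply, smul_smul, ← mul_pow,
      hw, one_pow, one_smul]
  rw [psiV_apply, psiV_apply, h1, lamV_smul, ExtPowTw.map_smul_pow]
  have h2 : (u ^ q • exteriorPower.map q (lamV A n V.1 e))
      (locL V (w ^ q • (tauEquiv L (isGen_lpow hg q)).symm σ)) =
      exteriorPower.map q (lamV A n V.1 e)
        (locL V ((tauEquiv L (isGen_lpow hg q)).symm σ)) := by
    rw [LinearMap.smul_apply, (locL V).map_smul,
      (exteriorPower.map q (lamV A n V.1 e)).map_smul, smul_smul, ← mul_pow, mul_comm, hw,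
      one_pow, one_smul]
  rw [h2]

theorem exists_rep (V : X.affineOpens) {e : Γ(ClSub.idealMod A, V.1)}
    (hg : IsGen (ClSub.idealMod A) V.1 e)
    (σ : Γ(CohB1.tensorMod L (CohB1.tensorPow (ClSub.idealMod A) q), V.1)) :
    ∃ y : ⋀[Γ(X, V.1)]^q Γ(FlatMod.freeMod X (n - 1), V.1),
      σ = tm L (CohB1.tensorPow (ClSub.idealMod A) q) V.1 ((locL V).symm y)
        (lpow (ClSub.idealMod A) e q) := by
  refine ⟨locL V ((tauEquiv L (isGen_lpow hg q)).symm σ), ?_⟩
  rw [LinearEquiv.symm_apply_apply, ← tauEquiv_apply L (isGen_lpow hg q),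
    LinearEquiv.apply_symm_apply]

theorem psiV_res
    (hL : ∀ (U V : X.affineOpens) (h : V.1 ≤ U.1)
      (t : Fin q → Γ(FlatMod.freeMod X (n - 1), U.1)),
      res L h ((locL U).symm (ιMulti _ q t)) =
        (locL V).symm (ιMulti _ q (fun j => res (FlatMod.freeMod X (n - 1)) h (t j))))
    {V V' : X.affineOpens} (h : V'.1 ≤ V.1) {e : Γ(ClSub.idealMod A, V.1)}
    (hg : IsGen (ClSub.idealMod A) V.1 e)
    (σ : Γ(CohB1.tensorMod L (CohB1.tensorPow (ClSub.idealMod A) q), V.1)) :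
    res (C.K.X q) h (psiV C q locL V hg σ) =
      psiV C q locL V' (hg.mono h) (res _ h σ) := by
  obtain ⟨y, rfl⟩ := exists_rep q locL V hg σ
  revert y
  apply extPow_induction
  · simp only [_root_.map_zero, tm_zero_left, res_zero]
  · intro t
    rw [psiV_gen, KoszMap.loc_res', tm_res, lpow_res, hL V V' h t, psiV_gen]
    have e2 : (fun j => res _ h (lamV A n V.1 e (t j))) =
        fun i => lamV A n V'.1 (res (ClSub.idealMod A) h e)
          (res (FlatMod.freeMod X (n - 1)) h (t i)) :=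
      funext (fun i => lamV_res A n h e (t i))
    rw [e2]
  · intro x y hx hy
    rw [(locL V).symm.map_add, tm_add_left, _root_.map_add, QCExact.res_add, hx, hy,
      QCExact.res_add, _root_.map_add]
  · intro r x hx
    rw [(locL V).symm.map_smul, tm_smul_left, _root_.map_smul, res_smul, hx, res_smul,
      _root_.map_smul]

theorem psiV_d (j : ℕ) (hj : (ComplexShape.down ℕ).next q = j) (V : X.affineOpens)
    {e : Γ(ClSub.idealMod A, V.1)} (hg : IsGen (ClSub.idealMod A) V.1 e)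
    (σ : Γ(CohB1.tensorMod L (CohB1.tensorPow (ClSub.idealMod A) q), V.1)) :
    (C.K.d q j).app V.1 (psiV C q locL V hg σ) = 0 := by
  classical
  obtain ⟨bW, cW, hsec, hlam⟩ := exists_bases A n V e hg
  obtain ⟨-, h2, -⟩ := CycRing.part1 bW cW (lamV A n V.1 e) hlam q
  rw [CycLoc.d_eq_zero_iff C q j hj V, psiV_apply, LinearEquiv.apply_symm_apply, hsec, dd_smul,
    h2, smul_zero]

theorem psiV_injective (V : X.affineOpens) {e : Γ(ClSub.idealMod A, V.1)}
    (hg : IsGen (ClSub.idealMod A) V.1 e) : Function.Injective (psiV C q locL V hg) := by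
  classical
  obtain ⟨bW, cW, hsec, hlam⟩ := exists_bases A n V e hg
  obtain ⟨h1, -, -⟩ := CycRing.part1 bW cW (lamV A n V.1 e) hlam q
  show Function.Injective (⇑(C.loc q V).symm ∘ ⇑(exteriorPower.map q (lamV A n V.1 e)) ∘
    ⇑(locL V) ∘ ⇑(tauEquiv L (isGen_lpow hg q)).symm)
  exact (C.loc q V).symm.injective.comp (h1.comp ((locL V).injective.comp
    (tauEquiv L (isGen_lpow hg q)).symm.injective))

theorem psiV_surj (j : ℕ) (hj : (ComplexShape.down ℕ).next q = j) (V : X.affineOpens)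
    {e : Γ(ClSub.idealMod A, V.1)} (hg : IsGen (ClSub.idealMod A) V.1 e)
    (y : Γ(C.K.X q, V.1)) (hy : (C.K.d q j).app V.1 y = 0) :
    ∃ σ, psiV C q locL V hg σ = y := by
  classical
  obtain ⟨bW, cW, hsec, hlam⟩ := exists_bases A n V e hg
  obtain ⟨hx_nzd, -⟩ := EffCartMod.span_of_isGenAt A V e hg.self
  have hnz : ∀ r : Γ(X, V.1), r * val A e = 0 → r = 0 :=
    fun r hr => (mem_nonZeroDivisors_iff_right.mp hx_nzd) r hr
  haveI : Module.Projective Γ(X, V.1) Γ(∐ fun _ : Fin n => ClSub.idealMod A, V.1) :=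
    Module.Projective.of_basis bW
  obtain ⟨-, -, h3⟩ := CycRing.part1 bW cW (lamV A n V.1 e) hlam q
  rw [CycLoc.d_eq_zero_iff C q j hj V, hsec, dd_smul] at hy
  have hy2 := dd_eq_zero_of_smul (chi bW) (val A e) hnz q (Subtype.property (C.loc q V y)) hy
  obtain ⟨y', hy'⟩ := h3 (C.loc q V y) hy2
  refine ⟨tm L (CohB1.tensorPow (ClSub.idealMod A) q) V.1 ((locL V).symm y')
    (lpow (ClSub.idealMod A) e q), ?_⟩
  rw [psiV_apply, ← tauEquiv_apply L (isGen_lpow hg q), LinearEquiv.symm_apply_apply,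
    LinearEquiv.apply_symm_apply, hy', LinearEquiv.symm_apply_apply]

/-- **`Λ^q O^{n-1} ⊗ 𝓐^{⊗ q} ≅ Z_q`** -/
theorem cycles_iso (hA : PicF.IsInvertible (ClSub.idealMod A))
    (hL : ∀ (U V : X.affineOpens) (h : V.1 ≤ U.1)
      (t : Fin q → Γ(FlatMod.freeMod X (n - 1), U.1)),
      res L h ((locL U).symm (ιMulti _ q t)) =
        (locL V).symm (ιMulti _ q (fun j => res (FlatMod.freeMod X (n - 1)) h (t j)))) :
    Nonempty (CohB1.tensorMod L (CohB1.tensorPow (ClSub.idealMod A) q) ≅ C.K.cycles q) := by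
  classical
  let Small : X.Opens → Prop := fun V => IsAffineOpen V ∧
    ∃ e : Γ(ClSub.idealMod A, V), IsGen (ClSub.idealMod A) V e
  have hcov : ∀ (W : X.Opens) (x : X), x ∈ W → ∃ V : X.Opens, Small V ∧ x ∈ V ∧ V ≤ W := by
    intro W x hx
    obtain ⟨U, e, hU, hxU, hUW, hg⟩ := exists_affine_isGen_le hA x W hx
    exact ⟨U, ⟨hU, e, hg⟩, hxU, hUW⟩
  obtain ⟨Ψ, hΨ⟩ := ExtPowTw.exists_hom_of_basis
    (M := CohB1.tensorMod L (CohB1.tensorPow (ClSub.idealMod A) q)) (N := C.K.X q) Small hcov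
    (fun V hV => psiV C q locL ⟨V, hV.1⟩ hV.2.choose_spec)
    (fun V hV s s' => _root_.map_add _ s s')
    (fun V hV a s => _root_.map_smul _ a s)
    (fun {V V'} h hV hV' s =>
      (psiV_res C q locL hL (V := ⟨V, hV.1⟩) (V' := ⟨V', hV'.1⟩) h hV.2.choose_spec s).trans
        (psiV_indep C q locL ⟨V', hV'.1⟩ (hV.2.choose_spec.mono h) hV'.2.choose_spec _).symm)
  obtain ⟨j, hj⟩ : ∃ j, (ComplexShape.down ℕ).next q = j := ⟨_, rfl⟩
  have hd : Ψ ≫ C.K.d q j = 0 := by
    apply ModGlue.hom_ext_of_small Small hcov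
    intro V hV σ
    show (C.K.d q j).app V (Ψ.app V σ) = 0
    rw [hΨ V hV σ]
    exact psiV_d C q locL j hj ⟨V, hV.1⟩ hV.2.choose_spec σ
  obtain ⟨Ψ', hΨ'⟩ : ∃ Ψ' : CohB1.tensorMod L (CohB1.tensorPow (ClSub.idealMod A) q) ⟶
      C.K.cycles q, Ψ' ≫ C.K.iCycles q = Ψ :=
    ⟨C.K.liftCycles Ψ j hj hd, C.K.liftCycles_i Ψ j hj hd⟩
  haveI : Mono Ψ' := by
    apply ModBasis.mono_of_injective_on_basis
    intro W x hx
    obtain ⟨V, hV, hxV, hVW⟩ := hcov W x hx
    refine ⟨V, hxV, hVW, fun t ht => ?_⟩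
    have h1 : (C.K.iCycles q).app V (Ψ'.app V t) = Ψ.app V t := app_congr hΨ' V t
    rw [ht, _root_.map_zero, hΨ V hV t] at h1
    exact psiV_injective C q locL ⟨V, hV.1⟩ hV.2.choose_spec
      (h1.symm.trans (_root_.map_zero _).symm)
  haveI : Epi Ψ' := by
    apply ModBasis.epi_of_surjective_on_basis
    intro W x hx
    obtain ⟨V, hV, hxV, hVW⟩ := hcov W x hx
    refine ⟨V, hxV, hVW, fun z => ?_⟩
    have hz : (C.K.d q j).app V ((C.K.iCycles q).app V z) = 0 :=
      app_congr (C.K.iCycles_d q j) V z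
    obtain ⟨σ, hσ⟩ := psiV_surj C q locL j hj ⟨V, hV.1⟩ hV.2.choose_spec _ hz
    refine ⟨σ, ?_⟩
    apply QCExact.injective_sections (C.K.iCycles q) V
    have h1 : (C.K.iCycles q).app V (Ψ'.app V σ) = Ψ.app V σ := app_congr hΨ' V σ
    rw [h1, hΨ V hV σ, hσ]
  haveI : IsIso Ψ' := isIso_of_mono_of_epi Ψ'
  exact ⟨asIso Ψ'⟩

end Psi

end Groth.Agent.Lib.Helper25.CycIso
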