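import Groth.Agent.Lib.Helper3.AffExt
import Groth.Prelude.Def_KoszulSh

/-!
# Morphisms of Koszul complexes induced by a morphism of modules compatible with cosections
-/

set_option autoImplicit false
universe u
open CategoryTheory CategoryTheory.Limits AlgebraicGeometry TopologicalSpace Opposite
open Scheme.Modules exteriorPower

namespace Groth.Agent.Lib.Helper25.KoszMap

open Groth.Agent.Lib.Helper3 Groth.Agent.Lib.Helper3.QCSec Groth.Agent.Lib.Helper3.AffExt

section RingLevel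

variable {R : Type*} [CommRing R] {M N : Type*} [AddCommGroup M] [Module R M]
  [AddCommGroup N] [Module R N]

theorem map_dGen (φ : M →ₗ[R] R) (ψ : N →ₗ[R] R) (g : M →ₗ[R] N) (h : ∀ m, ψ (g m) = φ m)
    (p : ℕ) (e : Fin (p + 1) → M) :
    exteriorPower.map p g (KoszSh.dGen φ p e) = KoszSh.dGen ψ p (fun j => g (e j)) := by
  unfold KoszSh.dGen
  rw [map_sum]
  refine Finset.sum_congr rfl (fun i _ => ?_)
  rw [_root_.map_smul, exteriorPower.map_apply_ιMulti]
  have h1 : ((-1 : R) ^ (i : ℕ) * φ (e i)) = ((-1 : R) ^ (i : ℕ) * ψ (g (e i))) := by rw [h]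
  rw [h1]
  rfl

end RingLevel

variable {X : Scheme.{u}}

/-- a morphism of modules on sections, as a linear map -/
noncomputable def appLin {E F : X.Modules} (f : E ⟶ F) (U : X.Opens) :
    Γ(E, U) →ₗ[Γ(X, U)] Γ(F, U) where
  toFun e := f.app U e
  map_add' a b := map_add _ a b
  map_smul' r a := Scheme.Modules.Hom.app_smul f r a

@[simp] theorem appLin_apply {E F : X.Modules} (f : E ⟶ F) (U : X.Opens) (e : Γ(E, U)) :
    appLin f U e = f.app U e := rfl

variable {E F : X.Modules} {s : E ⟶ Coh.structureModule X} {t : F ⟶ Coh.structureModule X}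

theorem loc_induction (C : KoszSh.Cx E s) (p : ℕ) (U : X.affineOpens)
    (P : Γ(C.K.X p, U.1) → Prop) (h0 : P 0)
    (hgen : ∀ e : Fin p → Γ(E, U.1), P ((C.loc p U).symm (ιMulti _ p e)))
    (hadd : ∀ x y, P x → P y → P (x + y))
    (hsmul : ∀ (r : Γ(X, U.1)) x, P x → P (r • x)) : ∀ x, P x := by
  intro x
  have hx : C.loc p U x ∈ Submodule.span Γ(X, U.1)
      (Set.range (ιMulti Γ(X, U.1) p (M := Γ(E, U.1)))) := by
    rw [ιMulti_span]; trivial
  have key : ∀ w ∈ Submodule.span Γ(X, U.1) (Set.range (ιMulti Γ(X, U.1) p (M := Γ(E, U.1)))),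
      P ((C.loc p U).symm w) := by
    intro w hw
    induction hw using Submodule.span_induction with
    | mem w hw => obtain ⟨e, rfl⟩ := hw; exact hgen e
    | zero => rw [map_zero]; exact h0
    | add a b _ _ ha hb => rw [map_add]; exact hadd _ _ ha hb
    | smul r a _ ha => rw [_root_.map_smul]; exact hsmul r _ ha
  have h := key _ hx
  rwa [LinearEquiv.symm_apply_apply] at h

/-- the sectionwise map of exterior powers -/
noncomputable def locMap (C : KoszSh.Cx E s) (D : KoszSh.Cx F t) (f : E ⟶ F) (p : ℕ)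
    (U : X.affineOpens) : Γ(C.K.X p, U.1) →ₗ[Γ(X, U.1)] Γ(D.K.X p, U.1) :=
  (D.loc p U).symm.toLinearMap ∘ₗ exteriorPower.map p (appLin f U.1) ∘ₗ (C.loc p U).toLinearMap

theorem locMap_apply (C : KoszSh.Cx E s) (D : KoszSh.Cx F t) (f : E ⟶ F) (p : ℕ)
    (U : X.affineOpens) (x : Γ(C.K.X p, U.1)) :
    locMap C D f p U x = (D.loc p U).symm (exteriorPower.map p (appLin f U.1) (C.loc p U x)) :=
  rfl

theorem locMap_gen (C : KoszSh.Cx E s) (D : KoszSh.Cx F t) (f : E ⟶ F) (p : ℕ)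
    (U : X.affineOpens) (e : Fin p → Γ(E, U.1)) :
    locMap C D f p U ((C.loc p U).symm (ιMulti _ p e)) =
      (D.loc p U).symm (ιMulti _ p (fun j => f.app U.1 (e j))) := by
  rw [locMap_apply, LinearEquiv.apply_symm_apply, exteriorPower.map_apply_ιMulti]
  rfl

theorem res_zero (M : X.Modules) {A B : X.Opens} (h : A ≤ B) : res M h (0 : Γ(M, B)) = 0 :=
  _root_.map_zero _

theorem loc_res' (C : KoszSh.Cx E s) (p : ℕ) (U V : X.affineOpens) (h : V.1 ≤ U.1)
    (e : Fin p → Γ(E, U.1)) :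
    res (C.K.X p) h ((C.loc p U).symm (ιMulti _ p e)) =
      (C.loc p V).symm (ιMulti _ p (fun j => res E h (e j))) :=
  C.loc_res p U V h e

theorem locMap_res (C : KoszSh.Cx E s) (D : KoszSh.Cx F t) (f : E ⟶ F) (p : ℕ)
    (U V : X.affineOpens) (h : V.1 ≤ U.1) (x : Γ(C.K.X p, U.1)) :
    res (D.K.X p) h (locMap C D f p U x) = locMap C D f p V (res (C.K.X p) h x) := by
  revert x
  apply loc_induction C p U
  · rw [_root_.map_zero, res_zero, res_zero, _root_.map_zero]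
  · intro e
    rw [locMap_gen, loc_res', loc_res', locMap_gen]
    congr 2
    funext j
    exact (QCExact.app_res' f h (e j)).symm
  · intro x y hx hy
    rw [_root_.map_add, QCExact.res_add, hx, hy, QCExact.res_add, _root_.map_add]
  · intro r x hx
    rw [_root_.map_smul, res_smul, hx, res_smul, _root_.map_smul]

theorem secForm_comp (f : E ⟶ F) (hf : f ≫ t = s) (U : X.Opens) (e : Γ(E, U)) :
    KoszSh.secForm t U (appLin f U e) = KoszSh.secForm s U e := by
  subst hf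
  rfl

theorem locMap_d (C : KoszSh.Cx E s) (D : KoszSh.Cx F t) (f : E ⟶ F) (hf : f ≫ t = s) (p : ℕ)
    (U : X.affineOpens) (x : Γ(C.K.X (p + 1), U.1)) :
    (D.K.d (p + 1) p).app U.1 (locMap C D f (p + 1) U x) =
      locMap C D f p U ((C.K.d (p + 1) p).app U.1 x) := by
  revert x
  apply loc_induction C (p + 1) U
  · rw [map_zero, map_zero, map_zero, map_zero]
  · intro e
    rw [locMap_gen, D.rule, C.rule, locMap_apply, LinearEquiv.apply_symm_apply,
      map_dGen (KoszSh.secForm s U.1) (KoszSh.secForm t U.1) (appLin f U.1)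
        (fun m => secForm_comp f hf U.1 m)]
    rfl
  · intro x y hx hy
    rw [map_add, map_add, hx, hy, map_add, map_add]
  · intro r x hx
    rw [_root_.map_smul, Scheme.Modules.Hom.app_smul, hx, Scheme.Modules.Hom.app_smul, _root_.map_smul]

/-- the degreewise morphism -/
theorem exists_map (C : KoszSh.Cx E s) (D : KoszSh.Cx F t) (f : E ⟶ F) (p : ℕ) :
    ∃ φ : C.K.X p ⟶ D.K.X p, ∀ (U : X.affineOpens) (x : Γ(C.K.X p, U.1)),
      φ.app U.1 x = locMap C D f p U x := by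
  obtain ⟨φ, hφ⟩ := exists_hom_of_affine (M := C.K.X p) (N := D.K.X p)
    (fun U => (locMap C D f p ⟨U.1, U.2⟩).toAddMonoidHom)
    (fun U a x => _root_.map_smul (locMap C D f p ⟨U.1, U.2⟩) a x)
    (fun {U V} i x => locMap_res C D f p ⟨U.1, U.2⟩ ⟨V.1, V.2⟩
      (Scheme.AffineZariskiSite.toOpens_mono i.le) x)
  exact ⟨φ, fun U x => hφ ⟨U.1, U.2⟩ x⟩

theorem eq_locMap_of_gen (C : KoszSh.Cx E s) (D : KoszSh.Cx F t) (f : E ⟶ F) (p : ℕ)
    (φ : C.K.X p ⟶ D.K.X p) (U : X.affineOpens)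
    (h : ∀ e : Fin p → Γ(E, U.1), φ.app U.1 ((C.loc p U).symm (ιMulti _ p e)) =
      (D.loc p U).symm (ιMulti _ p (fun j => f.app U.1 (e j))))
    (x : Γ(C.K.X p, U.1)) : φ.app U.1 x = locMap C D f p U x := by
  revert x
  apply loc_induction C p U
  · rw [map_zero, map_zero]
  · intro e
    rw [h, locMap_gen]
  · intro x y hx hy
    rw [map_add, hx, hy, map_add]
  · intro r x hx
    rw [Scheme.Modules.Hom.app_smul, hx, _root_.map_smul]

theorem comm (C : KoszSh.Cx E s) (D : KoszSh.Cx F t) (f : E ⟶ F) (hf : f ≫ t = s) (p : ℕ)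
    (φ₁ : C.K.X (p + 1) ⟶ D.K.X (p + 1)) (φ₀ : C.K.X p ⟶ D.K.X p)
    (h₁ : ∀ (U : X.affineOpens) (x : Γ(C.K.X (p + 1), U.1)),
      φ₁.app U.1 x = locMap C D f (p + 1) U x)
    (h₀ : ∀ (U : X.affineOpens) (x : Γ(C.K.X p, U.1)), φ₀.app U.1 x = locMap C D f p U x) :
    φ₁ ≫ D.K.d (p + 1) p = C.K.d (p + 1) p ≫ φ₀ := by
  apply hom_ext_of_affine
  intro U x
  show (D.K.d (p + 1) p).app U.1 (φ₁.app U.1 x) = φ₀.app U.1 ((C.K.d (p + 1) p).app U.1 x)
  rw [h₁ ⟨U.1, U.2⟩, h₀ ⟨U.1, U.2⟩]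
  exact locMap_d C D f hf p ⟨U.1, U.2⟩ x

/-- **The morphism of Koszul complexes induced by `f`.** -/
theorem exists_chainMap (C : KoszSh.Cx E s) (D : KoszSh.Cx F t) (f : E ⟶ F) (hf : f ≫ t = s) :
    ∃ φ : C.K ⟶ D.K, ∀ (p : ℕ) (U : X.affineOpens) (x : Γ(C.K.X p, U.1)),
      (φ.f p).app U.1 x = locMap C D f p U x := by
  choose ψ hψ using exists_map C D f
  refine ⟨{ f := ψ, comm' := ?_ }, hψ⟩
  intro i j hij
  have hij' : j + 1 = i := hij
  subst hij'
  exact comm C D f hf j (ψ (j + 1)) (ψ j) (hψ (j + 1)) (hψ j)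

theorem existsUnique_chainMap (C : KoszSh.Cx E s) (D : KoszSh.Cx F t) (f : E ⟶ F)
    (hf : f ≫ t = s) :
    ∃! φ : C.K ⟶ D.K, ∀ (p : ℕ) (U : X.affineOpens) (e : Fin p → Γ(E, U.1)),
      (φ.f p).app U.1 ((C.loc p U).symm (exteriorPower.ιMulti _ p e)) =
        (D.loc p U).symm (exteriorPower.ιMulti _ p (fun j => f.app U.1 (e j))) := by
  obtain ⟨φ, hφ⟩ := exists_chainMap C D f hf
  refine ⟨φ, fun p U e => ?_, fun ψ hψ => ?_⟩
  · rw [hφ]
    exact locMap_gen C D f p U e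
  · apply HomologicalComplex.hom_ext
    intro p
    apply hom_ext_of_affine
    intro U x
    rw [hφ p ⟨U.1, U.2⟩ x]
    exact eq_locMap_of_gen C D f p (ψ.f p) ⟨U.1, U.2⟩ (hψ p ⟨U.1, U.2⟩) x

end Groth.Agent.Lib.Helper25.KoszMap
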