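import Groth.Agent.Lib.Helper25.KoszExt
import Groth.Agent.Lib.Helper25.KoszMap
import Groth.Agent.Lib.Helper3.SecLoc
import Groth.Agent.Lib.Helper3.QCExact

/-!
# The Koszul complex of a regular section of a finite locally free module is exact in
# positive degrees
-/

set_option autoImplicit false
universe u
open CategoryTheory CategoryTheory.Limits AlgebraicGeometry TopologicalSpace Opposite
open Scheme.Modules exteriorPower

namespace Groth.Agent.Lib.Helper25.KoszExact

open Groth.Agent.Lib.Helper3 Groth.Agent.Lib.Helper3.QCSec Groth.Agent.Lib.Helper3.AffExt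
open Groth.Agent.Lib.Helper25.KoszMap Groth.Agent.Lib.Helper25.KoszExt

variable {X : Scheme.{u}} {E : X.Modules} {s : E ⟶ Coh.structureModule X}

/-- the differential of a Koszul datum is the contraction, through `loc` -/
theorem loc_d (C : KoszSh.Cx E s) (p : ℕ) (V : X.affineOpens) (z : Γ(C.K.X (p + 1), V.1)) :
    ((C.loc p V ((C.K.d (p + 1) p).app V.1 z) : ⋀[Γ(X, V.1)]^p Γ(E, V.1)) :
      ExteriorAlgebra Γ(X, V.1) Γ(E, V.1)) =
    dd (KoszSh.secForm s V.1) ((C.loc (p + 1) V z : ⋀[Γ(X, V.1)]^(p + 1) Γ(E, V.1)) :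
      ExteriorAlgebra Γ(X, V.1) Γ(E, V.1)) := by
  revert z
  apply loc_induction C (p + 1) V
  · rw [_root_.map_zero, _root_.map_zero, _root_.map_zero]
    simp
  · intro e
    rw [C.rule, LinearEquiv.apply_symm_apply, LinearEquiv.apply_symm_apply,
      exteriorPower.ιMulti_apply_coe, dd_ιMulti]
    unfold KoszSh.dGen
    rw [Submodule.coe_sum]
    refine Finset.sum_congr rfl (fun i _ => ?_)
    rw [Submodule.coe_smul, exteriorPower.ιMulti_apply_coe]
  · intro x y hx hy
    rw [_root_.map_add, _root_.map_add, Submodule.coe_add, hx, hy, _root_.map_add,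
      Submodule.coe_add, _root_.map_add]
  · intro r x hx
    rw [Scheme.Modules.Hom.app_smul, _root_.map_smul, Submodule.coe_smul, hx, _root_.map_smul,
      Submodule.coe_smul, _root_.map_smul]

theorem res_sum (M : X.Modules) {A B : X.Opens} (h : A ≤ B) {ι : Type*} (t : Finset ι)
    (g : ι → Γ(M, B)) : res M h (∑ i ∈ t, g i) = ∑ i ∈ t, res M h (g i) :=
  _root_.map_sum (M.presheaf.map (homOfLE h).op).hom g t

section Local

variable {U : X.Opens} (hU : IsAffineOpen U) (f : Γ(X, U)) [E.IsQuasicoherent]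
  {n : ℕ} (b : Module.Basis (Fin n) Γ(X, U) Γ(E, U))

include hU in
theorem span_res : Submodule.span Γ(X, X.basicOpen f)
    (Set.range fun k => res E (X.basicOpen_le f) (b k)) = ⊤ := by
  have hloc := isLocSec_of_isQuasicoherent E hU f (X.basicOpen f) rfl (X.basicOpen_le f)
  have hu : IsUnit (rres X (X.basicOpen_le f) f) :=
    RingedSpace.isUnit_res_basicOpen X.toRingedSpace f
  rw [eq_top_iff]
  intro t _
  obtain ⟨N, t', ht'⟩ := hloc.surj t
  have h1 : res E (X.basicOpen_le f) t' ∈ Submodule.span Γ(X, X.basicOpen f)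
      (Set.range fun k => res E (X.basicOpen_le f) (b k)) := by
    rw [← b.sum_repr t', res_sum]
    refine Submodule.sum_mem _ (fun j _ => ?_)
    rw [res_smul]
    exact Submodule.smul_mem _ _ (Submodule.subset_span ⟨j, rfl⟩)
  have hu' : IsUnit ((rres X (X.basicOpen_le f) f) ^ N) := hu.pow N
  have h2 : t = (↑(hu'.unit⁻¹) : Γ(X, X.basicOpen f)) • res E (X.basicOpen_le f) t' := by
    rw [ht', smul_smul, IsUnit.val_inv_mul, one_smul]
  rw [h2]
  exact Submodule.smul_mem _ _ h1

include hU in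
theorem linearIndependent_res : LinearIndependent Γ(X, X.basicOpen f)
    (fun k => res E (X.basicOpen_le f) (b k)) := by
  have hloc := isLocSec_of_isQuasicoherent E hU f (X.basicOpen f) rfl (X.basicOpen_le f)
  haveI := hU.isLocalization_basicOpen f
  rw [Fintype.linearIndependent_iff]
  intro g hg
  obtain ⟨c, hc⟩ := IsLocalization.exist_integer_multiples (Submonoid.powers f)
    (Finset.univ : Finset (Fin n)) g
  choose a ha using fun j => hc j (Finset.mem_univ j)
  have hres : ∀ r : Γ(X, U), algebraMap Γ(X, U) Γ(X, X.basicOpen f) r =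
      rres X (X.basicOpen_le f) r := fun r => rfl
  have h1 : res E (X.basicOpen_le f) (∑ j, a j • b j) = 0 := by
    rw [res_sum]
    have h0 : ∀ j, res E (X.basicOpen_le f) (a j • b j) =
        (algebraMap Γ(X, U) Γ(X, X.basicOpen f) (c : Γ(X, U))) •
          (g j • res E (X.basicOpen_le f) (b j)) := by
      intro j
      rw [res_smul, ← hres, ha j, Algebra.smul_def, mul_smul]
    rw [Finset.sum_congr rfl (fun j _ => h0 j), ← Finset.smul_sum, hg, smul_zero]
  obtain ⟨K, hK⟩ := hloc.inj _ h1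
  rw [Finset.smul_sum] at hK
  simp only [smul_smul] at hK
  have h2 := Fintype.linearIndependent_iff.1 b.linearIndependent (fun j => f ^ K * a j) hK
  intro j
  have h3 : algebraMap Γ(X, U) Γ(X, X.basicOpen f) (f ^ K * a j) = 0 := by
    rw [h2 j, _root_.map_zero]
  rw [_root_.map_mul, ha j, Algebra.smul_def, ← mul_assoc] at h3
  have hunit : IsUnit (algebraMap Γ(X, U) Γ(X, X.basicOpen f) (f ^ K) *
      algebraMap Γ(X, U) Γ(X, X.basicOpen f) (c : Γ(X, U))) :=
    (IsLocalization.map_units _ (⟨f ^ K, K, rfl⟩ : Submonoid.powers f)).mul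
      (IsLocalization.map_units _ c)
  exact (hunit.mul_right_eq_zero).1 h3

end Local

theorem exists_local_data {n : ℕ} (hE : FlatMod.IsFinLocFreeOfRank n E)
    (hs : ∀ x : X, ∃ U : X.affineOpens, x ∈ U.1 ∧
      ∃ b : Module.Basis (Fin n) Γ(X, U.1) Γ(E, U.1),
        RingTheory.Sequence.IsWeaklyRegular Γ(X, U.1)
          (List.ofFn fun k => KoszSh.secForm s U.1 (b k)))
    (W : X.Opens) (x : X) (hx : x ∈ W) :
    ∃ V : X.affineOpens, x ∈ V.1 ∧ V.1 ≤ W ∧ ∃ (b' : Fin n → Γ(E, V.1))
      (ψ : Fin n → Γ(E, V.1) →ₗ[Γ(X, V.1)] Γ(X, V.1)),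
      Submodule.span Γ(X, V.1) (Set.range b') = ⊤ ∧
      (∀ k j, ψ k (b' j) = if j = k then 1 else 0) ∧
      (∀ (k : Fin n) (r : Γ(X, V.1)),
        KoszSh.secForm s V.1 (b' k) * r ∈ (Nk b' k).map (KoszSh.secForm s V.1) →
        r ∈ (Nk b' k).map (KoszSh.secForm s V.1)) := by
  haveI : E.IsQuasicoherent := SecLoc.isQuasicoherent_of_isFinLocFreeOfRank hE
  obtain ⟨U, hxU, b, hb⟩ := hs x
  have hU : IsAffineOpen U.1 := U.2
  obtain ⟨f, hfW, hxf⟩ := hU.exists_basicOpen_le ⟨x, hx⟩ hxU
  refine ⟨⟨X.basicOpen f, hU.basicOpen f⟩, hxf, hfW,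
    fun k => res E (X.basicOpen_le f) (b k), ?_⟩
  have hli := linearIndependent_res hU f b
  have hsp := span_res hU f b
  refine ⟨fun k => (Module.Basis.mk hli (le_of_eq hsp.symm)).coord k, hsp, ?_, ?_⟩
  · intro k j
    have hBj : (Module.Basis.mk hli (le_of_eq hsp.symm)) j = res E (X.basicOpen_le f) (b j) :=
      Module.Basis.mk_apply hli _ j
    show (Module.Basis.mk hli (le_of_eq hsp.symm)).coord k (res E (X.basicOpen_le f) (b j)) = _
    rw [← hBj, Module.Basis.coord_apply, Module.Basis.repr_self, Finsupp.single_apply]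
  · apply hreg_of_isWeaklyRegular
    haveI := hU.isLocalization_basicOpen f
    have h1 := RingTheory.Sequence.IsWeaklyRegular.of_isLocalization Γ(X, X.basicOpen f)
      (Submonoid.powers f) hb
    rw [List.map_ofFn] at h1
    have hfun : (fun k => KoszSh.secForm s (X.basicOpen f)
        (res E (X.basicOpen_le f) (b k))) =
        (⇑(algebraMap Γ(X, U.1) Γ(X, X.basicOpen f)) ∘ fun k => KoszSh.secForm s U.1 (b k)) := by
      funext k
      show OmegaSh.fnSect X _ (s.app _ (res E _ (b k))) = _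
      rw [QCExact.app_res']
      rfl
    show RingTheory.Sequence.IsWeaklyRegular Γ(X, X.basicOpen f)
      (List.ofFn fun k => KoszSh.secForm s (X.basicOpen f) (res E (X.basicOpen_le f) (b k)))
    rw [hfun]
    exact h1

/-- exactness of a short complex of modules from local lifting of sections -/
theorem exact_of_local (S : ShortComplex X.Modules)
    (h : ∀ (W : X.Opens) (y : Γ(S.X₂, W)), S.g.app W y = 0 → ∀ x ∈ W,
      ∃ (W' : X.Opens) (hW' : W' ≤ W), x ∈ W' ∧ ∃ t : Γ(S.X₁, W'),
        S.f.app W' t = res S.X₂ hW' y) : S.Exact := by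
  rw [S.exact_iff_epi_kernel_lift]
  apply QCExact.epi_of_locally_surjective
  intro W z x hx
  have hy : S.g.app W ((kernel.ι S.g).app W z) = 0 := by
    have h0 : (kernel.ι S.g ≫ S.g).app W z = 0 := by
      rw [kernel.condition]
      rfl
    exact h0
  obtain ⟨W', hW', hxW', t, ht⟩ := h W _ hy x hx
  refine ⟨W', hW', hxW', t, ?_⟩
  apply QCExact.injective_sections (kernel.ι S.g) W'
  have h1 : (kernel.ι S.g).app W' ((kernel.lift S.g S.f S.zero).app W' t) = S.f.app W' t := by
    have h0 : (kernel.lift S.g S.f S.zero ≫ kernel.ι S.g).app W' t = S.f.app W' t := by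
      rw [kernel.lift_ι]
    exact h0
  rw [h1, ht, QCExact.app_res']

/-- **Exactness of the Koszul complex of a regular section in positive degrees.** -/
theorem isZero_homology {n : ℕ} (hE : FlatMod.IsFinLocFreeOfRank n E)
    (hs : ∀ x : X, ∃ U : X.affineOpens, x ∈ U.1 ∧
      ∃ b : Module.Basis (Fin n) Γ(X, U.1) Γ(E, U.1),
        RingTheory.Sequence.IsWeaklyRegular Γ(X, U.1)
          (List.ofFn fun k => KoszSh.secForm s U.1 (b k)))
    (C : KoszSh.Cx E s) (q : ℕ) (hq : 1 ≤ q) : IsZero (C.K.homology q) := by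
  obtain ⟨q', rfl⟩ : ∃ q', q = q' + 1 := ⟨q - 1, by omega⟩
  rw [← HomologicalComplex.exactAt_iff_isZero_homology,
    HomologicalComplex.exactAt_iff' C.K (q' + 2) (q' + 1) q' (by simp) (by simp)]
  apply exact_of_local
  intro W y hy x hx
  obtain ⟨V, hxV, hVW, b', ψ, hspan, hψ, hreg⟩ := exists_local_data hE hs W x hx
  refine ⟨V.1, hVW, hxV, ?_⟩
  have hy' : (C.K.d (q' + 1) q').app V.1 (res (C.K.X (q' + 1)) hVW y) = 0 := by
    rw [QCExact.app_res']
    have hy0 : (C.K.d (q' + 1) q').app W y = 0 := hy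
    rw [hy0, QCSec.res_zero]
  have hd : dd (KoszSh.secForm s V.1)
      ((C.loc (q' + 1) V (res (C.K.X (q' + 1)) hVW y) : ⋀[Γ(X, V.1)]^(q' + 1) Γ(E, V.1)) :
        ExteriorAlgebra Γ(X, V.1) Γ(E, V.1)) = 0 := by
    rw [← loc_d, hy', _root_.map_zero]
    rfl
  obtain ⟨η, hη, hdη⟩ := koszul_exact b' hspan ψ hψ (KoszSh.secForm s V.1) hreg q' _
    (Subtype.property _) hd
  refine ⟨(C.loc (q' + 2) V).symm ⟨η, hη⟩, ?_⟩
  apply (C.loc (q' + 1) V).injective
  apply Subtype.ext
  have h3 := loc_d C (q' + 1) V ((C.loc (q' + 2) V).symm ⟨η, hη⟩)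
  rw [LinearEquiv.apply_symm_apply] at h3
  exact h3.trans hdη

end Groth.Agent.Lib.Helper25.KoszExact
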