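import Groth.Agent.Lib.Helper25.KoszExt

/-!
# Ring-level lemmas for twisted Koszul complexes

Contraction on exterior powers (`ddP`), its naturality, its linearity in the form, and
torsion-freeness of exterior powers of projective modules.
-/

set_option autoImplicit false
open ExteriorAlgebra

namespace Groth.Agent.Lib.Helper25.TwKoszRing

open Groth.Agent.Lib.Helper25.KoszExt

variable {R : Type*} [CommRing R] {M : Type*} [AddCommGroup M] [Module R M]
  {N : Type*} [AddCommGroup N] [Module R N]

/-- induction principle for exterior powers -/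
theorem extPow_induction {n : ℕ} {P : ⋀[R]^n M → Prop} (h0 : P 0)
    (hgen : ∀ v : Fin n → M, P (exteriorPower.ιMulti R n v))
    (hadd : ∀ x y, P x → P y → P (x + y))
    (hsmul : ∀ (r : R) x, P x → P (r • x)) : ∀ x, P x := by
  intro x
  have hx : x ∈ Submodule.span R (Set.range (exteriorPower.ιMulti R n (M := M))) := by
    rw [exteriorPower.ιMulti_span]; trivial
  induction hx using Submodule.span_induction with
  | mem w hw => obtain ⟨e, rfl⟩ := hw; exact hgen e
  | zero => exact h0
  | add a b _ _ ha hb => exact hadd _ _ ha hb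
  | smul r a _ ha => exact hsmul r _ ha

/-- contraction is linear in the form -/
theorem dd_smul (a : R) (χ : M →ₗ[R] R) (x : ExteriorAlgebra R M) :
    dd (a • χ) x = a • dd χ x := by
  show CliffordAlgebra.contractLeft (Q := (0 : QuadraticForm R M)) (a • χ) x =
    a • CliffordAlgebra.contractLeft (Q := (0 : QuadraticForm R M)) χ x
  rw [map_smul, LinearMap.smul_apply]

/-- naturality of the contraction -/
theorem dd_map (f : M →ₗ[R] N) (φ : N →ₗ[R] R) (x : ExteriorAlgebra R M) :
    dd φ (ExteriorAlgebra.map f x) = ExteriorAlgebra.map f (dd (φ ∘ₗ f) x) := by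
  induction x using CliffordAlgebra.left_induction with
  | algebraMap r =>
    rw [AlgHom.commutes, dd_algebraMap, dd_algebraMap, map_zero]
  | add x y hx hy => simp only [map_add, hx, hy]
  | ι_mul x m hx =>
    have h1 : ExteriorAlgebra.map f (ι R m * x) = ι R (f m) * ExteriorAlgebra.map f x := by
      rw [map_mul, ExteriorAlgebra.map_apply_ι]
    show dd φ (ExteriorAlgebra.map f (ι R m * x)) =
      ExteriorAlgebra.map f (dd (φ ∘ₗ f) (ι R m * x))
    rw [h1, dd_ι_mul, dd_ι_mul, hx, map_sub, map_smul, map_mul, ExteriorAlgebra.map_apply_ι,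
      LinearMap.comp_apply]

/-- the map on exterior powers is the restriction of the map of exterior algebras -/
theorem coe_map (n : ℕ) (f : M →ₗ[R] N) (y : ⋀[R]^n M) :
    ((exteriorPower.map n f y : ⋀[R]^n N) : ExteriorAlgebra R N) =
      ExteriorAlgebra.map f (y : ExteriorAlgebra R M) := by
  revert y
  apply extPow_induction
  · simp
  · intro v
    rw [exteriorPower.map_apply_ιMulti, exteriorPower.ιMulti_apply_coe,
      exteriorPower.ιMulti_apply_coe, ExteriorAlgebra.map_apply_ιMulti]
  · intro x y hx hy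
    simp only [map_add, Submodule.coe_add, hx, hy]
  · intro r x hx
    simp only [map_smul, Submodule.coe_smul, hx]

theorem dd_mem_extPow (χ : M →ₗ[R] R) (p : ℕ) {x : ExteriorAlgebra R M}
    (hx : x ∈ ⋀[R]^(p + 1) M) : dd χ x ∈ ⋀[R]^p M := by
  have htop : SS (⊤ : Submodule R M) = LinearMap.range (ι R) := Submodule.map_top _
  have h := dd_mem_pow χ (⊤ : Submodule R M) p (ω := x) (by rw [htop]; exact hx)
  rw [htop] at h
  exact h

/-- contraction on exterior powers -/
noncomputable def ddP (χ : M →ₗ[R] R) (p : ℕ) : ⋀[R]^(p + 1) M →ₗ[R] ⋀[R]^p M :=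
  (dd χ).restrict (fun _ hx => dd_mem_extPow χ p hx)

theorem coe_ddP (χ : M →ₗ[R] R) (p : ℕ) (y : ⋀[R]^(p + 1) M) :
    ((ddP χ p y : ⋀[R]^p M) : ExteriorAlgebra R M) = dd χ (y : ExteriorAlgebra R M) := rfl

theorem ddP_smul (a : R) (χ : M →ₗ[R] R) (p : ℕ) (y : ⋀[R]^(p + 1) M) :
    ddP (a • χ) p y = a • ddP χ p y := by
  apply Subtype.ext
  rw [coe_ddP, Submodule.coe_smul, coe_ddP, dd_smul]

theorem ddP_map (f : M →ₗ[R] N) (φ : N →ₗ[R] R) (p : ℕ) (y : ⋀[R]^(p + 1) M) :
    ddP φ p (exteriorPower.map (p + 1) f y) = exteriorPower.map p f (ddP (φ ∘ₗ f) p y) := by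
  apply Subtype.ext
  rw [coe_ddP, coe_map, dd_map, coe_map, coe_ddP]

/-- a non-zero-divisor acts injectively on the exterior powers of a projective module -/
theorem extPow_smul_eq_zero [Module.Projective R M] (a : R) (ha : ∀ r : R, r * a = 0 → r = 0)
    (p : ℕ) (y : ⋀[R]^p M) (hy : a • y = 0) : y = 0 := by
  classical
  obtain ⟨s, hs⟩ := Module.projective_def'.1 (inferInstance : Module.Projective R M)
  have hinj : Function.Injective (exteriorPower.map p s) :=
    exteriorPower.map_injective (n := p) _ hs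
  apply hinj
  rw [map_zero]
  have hz0 : a • exteriorPower.map p s y = 0 := by rw [← map_smul, hy, map_zero]
  let b := Module.Free.chooseBasis R (⋀[R]^p (M →₀ R))
  apply b.repr.injective
  rw [map_zero]
  refine Finsupp.ext (fun k => ?_)
  have h1 : b.repr (a • exteriorPower.map p s y) k = 0 := by rw [hz0, map_zero]; rfl
  rw [map_smul, Finsupp.smul_apply, smul_eq_mul, mul_comm] at h1
  exact ha _ h1

/-- the comparison of the two contractions under a twist -/
theorem ddP_eq_zero_iff [Module.Projective R M] (τ : M ≃ₗ[R] N) (φ : N →ₗ[R] R)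
    (ψ : M →ₗ[R] R) (a : R) (ha : ∀ r : R, r * a = 0 → r = 0)
    (hψ : ∀ m, ψ m = φ (τ m) * a) (p : ℕ) (y : ⋀[R]^(p + 1) M) :
    ddP ψ p y = 0 ↔ ddP φ p (exteriorPower.map (p + 1) τ.toLinearMap y) = 0 := by
  have hψ' : ψ = a • (φ ∘ₗ τ.toLinearMap) := by
    ext m
    rw [hψ, mul_comm]
    rfl
  have hinj : Function.Injective (exteriorPower.map p τ.toLinearMap) :=
    exteriorPower.map_injective (n := p) τ.symm.toLinearMap (by ext m; simp)
  rw [ddP_map, hψ', ddP_smul]
  constructor
  · intro h
    rw [extPow_smul_eq_zero a ha p _ h, map_zero]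
  · intro h
    have h0 : ddP (φ ∘ₗ τ.toLinearMap) p y = 0 := hinj (by rw [h, map_zero])
    rw [h0, smul_zero]

end Groth.Agent.Lib.Helper25.TwKoszRing
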