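import Groth.Agent.Lib.Helper25.KoszExt
import Groth.Agent.Lib.Helper25.TwKoszRing

/-!
# Koszul homology of a complete intersection ideal

Ring level: if the values `φ (b j)` of a linear form on spanning vectors generate the same ideal
as a weakly regular sequence `g`, and `x` is regular modulo that ideal, then `x` is regular on the
homology of the contraction by `φ` on the exterior algebra.
-/

set_option autoImplicit false
set_option linter.style.haveILetI false
open ExteriorAlgebra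

namespace Groth.Agent.Lib.Helper25.LciAlg

open Groth.Agent.Lib.Helper25.KoszExt Groth.Agent.Lib.Helper25.TwKoszRing

variable {R : Type*} [CommRing R] {M : Type*} [AddCommGroup M] [Module R M]

theorem dd_comm (φ ψ : M →ₗ[R] R) (y : ExteriorAlgebra R M) :
    dd ψ (dd φ y) = -dd φ (dd ψ y) :=
  CliffordAlgebra.contractLeft_comm (Q := (0 : QuadraticForm R M)) (d := ψ) (d' := φ) y

theorem dd_eq_zero_of_mem_zero (φ : M →ₗ[R] R) {ω : ExteriorAlgebra R M} (hω : ω ∈ ⋀[R]^0 M) :
    dd φ ω = 0 := by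
  have h : ω ∈ (LinearMap.range (ι R : M →ₗ[R] ExteriorAlgebra R M)) ^ 0 := hω
  rw [pow_zero, Submodule.mem_one] at h
  obtain ⟨r, rfl⟩ := h
  exact dd_algebraMap φ r

theorem map_mem {N : Type*} [AddCommGroup N] [Module R N] (f : M →ₗ[R] N) (p : ℕ)
    {y : ExteriorAlgebra R M} (hy : y ∈ ⋀[R]^p M) : ExteriorAlgebra.map f y ∈ ⋀[R]^p N := by
  have h : ExteriorAlgebra.map f y =
      ((exteriorPower.map p f ⟨y, hy⟩ : ⋀[R]^p N) : ExteriorAlgebra R N) :=
    (coe_map p f ⟨y, hy⟩).symm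
  rw [h]
  exact Subtype.property _

theorem direct' (ψ : M →ₗ[R] R) (v : M) (he : ψ v = 1) {α β : ExteriorAlgebra R M}
    (hα : dd ψ α = 0) (hβ : dd ψ β = 0) (h : α + ι R v * β = 0) : β = 0 := by
  have h' := congrArg (dd ψ) h
  rw [map_add, dd_ι_mul, he, one_smul, hα, hβ, mul_zero, sub_zero, zero_add, map_zero] at h'
  exact h'

/-- the exactness property on the subalgebra generated by `N` -/
def P (φ : M →ₗ[R] R) (x : R) (N : Submodule R M) : Prop :=
  ∀ (q : ℕ) (ω η : ExteriorAlgebra R M), ω ∈ SS N ^ q → η ∈ SS N ^ (q + 1) → dd φ ω = 0 →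
    x • ω = dd φ η → ∃ η' ∈ SS N ^ (q + 1), dd φ η' = ω

theorem P_step (φ ψ : M →ₗ[R] R) (x : R) (N : Submodule R M) (v : M)
    (hψ : ∀ m ∈ N, ψ m = 0) (he : ψ v = 1) (hφv : φ v = 0) (hP : P φ x N) :
    P φ x (N ⊔ Submodule.span R {v}) := by
  intro q ω η hω hη hdω hxω
  obtain ⟨γ, hγ, δ, hδ, rfl⟩ := decomp N v q hη
  have hddη : dd φ (γ + ι R v * δ) = dd φ γ + ι R v * (-dd φ δ) := by
    rw [map_add, dd_ι_mul, hφv, zero_smul, zero_sub, mul_neg]
  have hγ0 : dd ψ γ = 0 := dd_eq_zero_of_vanish ψ N hψ (q + 1) hγ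
  have hδ0 : dd ψ δ = 0 := dd_eq_zero_of_vanish ψ N hψ q hδ
  cases q with
  | zero =>
    have hω' : ω ∈ SS N ^ 0 := by
      rw [pow_zero] at hω ⊢
      exact hω
    have hω0 : dd ψ ω = 0 := dd_eq_zero_of_vanish ψ N hψ 0 hω'
    have h1 : (x • ω - dd φ γ) + ι R v * (dd φ δ) = 0 := by
      rw [hxω, hddη, mul_neg]
      abel
    have hδd : dd φ δ = 0 := by
      refine direct' ψ v he ?_ ?_ h1
      · rw [map_sub, map_smul, hω0, smul_zero, dd_comm, hγ0, map_zero, neg_zero, sub_zero]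
      · rw [dd_comm, hδ0, map_zero, neg_zero]
    have h2 : x • ω = dd φ γ := by
      rw [hδd, mul_zero, add_zero] at h1
      exact sub_eq_zero.1 h1
    obtain ⟨η', hη', hdη'⟩ := hP 0 ω γ hω' hγ hdω h2
    exact ⟨η', SS_pow_mono le_sup_left _ hη', hdη'⟩
  | succ q =>
    obtain ⟨α, hα, β, hβ, rfl⟩ := decomp N v q hω
    have hα0 : dd ψ α = 0 := dd_eq_zero_of_vanish ψ N hψ (q + 1) hα
    have hβ0 : dd ψ β = 0 := dd_eq_zero_of_vanish ψ N hψ q hβ
    have hddω : dd φ (α + ι R v * β) = dd φ α + ι R v * (-dd φ β) := by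
      rw [map_add, dd_ι_mul, hφv, zero_smul, zero_sub, mul_neg]
    have h1 : dd φ α + ι R v * (-dd φ β) = 0 := by
      rw [← hddω]
      exact hdω
    have hdβ : dd φ β = 0 := by
      have h0 := direct' ψ v he (by rw [dd_comm, hα0, map_zero, neg_zero])
        (by rw [map_neg, dd_comm, hβ0, map_zero, neg_zero, neg_zero]) h1
      exact neg_eq_zero.1 h0
    have hdα : dd φ α = 0 := by
      rw [hdβ, neg_zero, mul_zero, add_zero] at h1
      exact h1
    have h3 : x • α + ι R v * (x • β) = dd φ γ + ι R v * (-dd φ δ) := by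
      rw [← hddη, ← hxω, smul_add, mul_smul_comm]
    have h2 : (x • α - dd φ γ) + ι R v * (x • β + dd φ δ) = 0 := by
      rw [mul_neg] at h3
      have h4 : x • α - dd φ γ + ι R v * (x • β + dd φ δ) =
          (x • α + ι R v * (x • β)) - (dd φ γ + -(ι R v * dd φ δ)) := by
        rw [mul_add]
        abel
      rw [h4, h3, sub_self]
    have hxβ : x • β + dd φ δ = 0 := by
      refine direct' ψ v he ?_ ?_ h2
      · rw [map_sub, map_smul, hα0, smul_zero, dd_comm, hγ0, map_zero, neg_zero, sub_zero]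
      · rw [map_add, map_smul, hβ0, smul_zero, dd_comm, hδ0, map_zero, neg_zero, add_zero]
    have hxα : x • α = dd φ γ := by
      rw [hxβ, mul_zero, add_zero] at h2
      exact sub_eq_zero.1 h2
    have hxβ' : x • β = dd φ (-δ) := by
      rw [map_neg]
      exact eq_neg_of_add_eq_zero_left hxβ
    obtain ⟨α', hα', hdα'⟩ := hP (q + 1) α γ hα hγ hdα hxα
    obtain ⟨β', hβ', hdβ'⟩ := hP q β (-δ) hβ (Submodule.neg_mem _ hδ) hdβ hxβ'
    refine ⟨α' - ι R v * β', ?_, ?_⟩
    · refine Submodule.sub_mem _ (SS_pow_mono le_sup_left _ hα') ?_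
      rw [pow_succ' _ (q + 1)]
      exact Submodule.mul_mem_mul (mem_SS.2 ⟨v, Submodule.mem_sup_right
        (Submodule.mem_span_singleton_self _), rfl⟩) (SS_pow_mono le_sup_left _ hβ')
    · rw [map_sub, hdα', dd_ι_mul, hφv, zero_smul, zero_sub, hdβ']
      abel

theorem P_base {c : ℕ} (ε : Fin c → M) (ψ : Fin c → M →ₗ[R] R)
    (hψ : ∀ k j, ψ k (ε j) = if j = k then 1 else 0) (φ : M →ₗ[R] R)
    (hreg : RingTheory.Sequence.IsWeaklyRegular R (List.ofFn fun k => φ (ε k)))
    (x : R) (hx : ∀ r, x * r ∈ (Nk ε c).map φ → r ∈ (Nk ε c).map φ) : P φ x (Nk ε c) := by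
  intro q ω η hω hη hdω hxω
  cases q with
  | zero =>
    rw [pow_zero, Submodule.mem_one] at hω
    obtain ⟨r, rfl⟩ := hω
    rw [zero_add, pow_one] at hη
    obtain ⟨m, hm, rfl⟩ := mem_SS.1 hη
    rw [dd_ι, Algebra.smul_def, ← map_mul] at hxω
    have h1 : x * r = φ m := (ExteriorAlgebra.algebraMap_inj M (x * r) (φ m)).1 hxω
    have hmem : x * r ∈ (Nk ε c).map φ := by
      rw [h1]
      exact Submodule.mem_map_of_mem hm
    obtain ⟨m', hm', hr⟩ := Submodule.mem_map.1 (hx r hmem)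
    refine ⟨ι R m', ?_, ?_⟩
    · rw [zero_add, pow_one]
      exact mem_SS.2 ⟨m', hm', rfl⟩
    · rw [dd_ι, hr]
  | succ q =>
    obtain ⟨η', hη', h⟩ := exact_aux ε ψ hψ φ (hreg_of_isWeaklyRegular ε φ hreg) c le_rfl q ω hω hdω
    exact ⟨η', hη', h⟩

section Main

variable {n c : ℕ}

variable (R M) in
/-- the first `c` basis vectors of `R^c × M` -/
def eps (k : Fin c) : (Fin c → R) × M := (Pi.single k 1, 0)

/-- the corrected basis vectors -/
def vv (b : Fin n → M) (A : Fin n → Fin c → R) (j : Fin n) : (Fin c → R) × M := (-(A j), b j)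

/-- the extended form -/
noncomputable def phiT (g : Fin c → R) (φ : M →ₗ[R] R) : ((Fin c → R) × M) →ₗ[R] R :=
  (Fintype.linearCombination R g).coprod φ

variable (R M) in
/-- coordinates on the first factor -/
noncomputable def psiE (k : Fin c) : ((Fin c → R) × M) →ₗ[R] R :=
  LinearMap.proj k ∘ₗ LinearMap.fst R (Fin c → R) M

/-- coordinates on the second factor -/
noncomputable def psiV (β : Fin n → M →ₗ[R] R) (j : Fin n) : ((Fin c → R) × M) →ₗ[R] R :=
  β j ∘ₗ LinearMap.snd R (Fin c → R) M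

/-- the retraction -/
noncomputable def rho (u : Fin c → M) : ((Fin c → R) × M) →ₗ[R] M :=
  (Fintype.linearCombination R u).coprod LinearMap.id

theorem phiT_apply (g : Fin c → R) (φ : M →ₗ[R] R) (a : Fin c → R) (m : M) :
    phiT g φ (a, m) = ∑ k, a k * g k + φ m := by
  unfold phiT
  rw [LinearMap.coprod_apply, Fintype.linearCombination_apply]
  rfl

theorem rho_apply (u : Fin c → M) (a : Fin c → R) (m : M) :
    rho u (a, m) = ∑ k, a k • u k + m := by
  unfold rho
  rw [LinearMap.coprod_apply, Fintype.linearCombination_apply]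
  rfl

theorem phiT_eps (g : Fin c → R) (φ : M →ₗ[R] R) (k : Fin c) :
    phiT g φ (eps R M k) = g k := by
  unfold eps
  rw [phiT_apply, map_zero, add_zero, Finset.sum_eq_single k]
  · rw [Pi.single_eq_same, one_mul]
  · intro j _ hjk
    rw [Pi.single_eq_of_ne hjk, zero_mul]
  · intro h
    exact absurd (Finset.mem_univ k) h

theorem phiT_vv (g : Fin c → R) (φ : M →ₗ[R] R) (b : Fin n → M) (A : Fin n → Fin c → R)
    (hA : ∀ j, ∑ k, A j k * g k = φ (b j)) (j : Fin n) : phiT g φ (vv b A j) = 0 := by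
  unfold vv
  rw [phiT_apply]
  have h1 : ∑ k, (-(A j)) k * g k = -∑ k, A j k * g k := by
    rw [← Finset.sum_neg_distrib]
    exact Finset.sum_congr rfl (fun k _ => by rw [Pi.neg_apply, neg_mul])
  rw [h1, hA j, neg_add_cancel]

theorem psiE_eps (k j : Fin c) : psiE R M k (eps R M j) = if j = k then 1 else 0 := by
  show (Pi.single j (1 : R) : Fin c → R) k = _
  by_cases h : j = k
  · subst h
    rw [Pi.single_eq_same, if_pos rfl]
  · rw [Pi.single_eq_of_ne (Ne.symm h), if_neg h]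

theorem phi_comp_rho (g : Fin c → R) (φ : M →ₗ[R] R) (u : Fin c → M) (hu : ∀ k, φ (u k) = g k) :
    φ ∘ₗ rho u = phiT g φ := by
  apply LinearMap.ext
  rintro ⟨a, m⟩
  rw [LinearMap.comp_apply, rho_apply, phiT_apply, map_add, map_sum]
  congr 1
  exact Finset.sum_congr rfl (fun k _ => by rw [map_smul, hu k, smul_eq_mul])

theorem phiT_comp_inr (g : Fin c → R) (φ : M →ₗ[R] R) :
    phiT g φ ∘ₗ LinearMap.inr R (Fin c → R) M = φ := by
  apply LinearMap.ext
  intro m
  rw [LinearMap.comp_apply, LinearMap.inr_apply, phiT_apply]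
  simp

theorem rho_comp_inr (u : Fin c → M) :
    rho u ∘ₗ LinearMap.inr R (Fin c → R) M = LinearMap.id := by
  apply LinearMap.ext
  intro m
  rw [LinearMap.comp_apply, LinearMap.inr_apply, rho_apply]
  simp

theorem map_Nk_eps (g : Fin c → R) (φ : M →ₗ[R] R) :
    (Nk (R := R) (eps R M (c := c)) c).map (phiT g φ) = Ideal.span (Set.range g) := by
  unfold Nk
  rw [Submodule.map_span]
  show Submodule.span R _ = Submodule.span R _
  congr 1
  ext r
  constructor
  · rintro ⟨_, ⟨k, _, rfl⟩, rfl⟩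
    exact ⟨k, (phiT_eps g φ k).symm⟩
  · rintro ⟨k, rfl⟩
    exact ⟨eps R M k, ⟨k, k.2, rfl⟩, phiT_eps g φ k⟩

theorem mem_Nk {n' : ℕ} {M' : Type*} [AddCommGroup M'] [Module R M'] (b : Fin n' → M') (k : ℕ)
    (j : Fin n') (hj : (j : ℕ) < k) : b j ∈ Nk (R := R) b k := by
  unfold Nk
  exact Submodule.subset_span ⟨j, hj, rfl⟩

theorem top_eq (b : Fin n → M) (hspan : Submodule.span R (Set.range b) = ⊤)
    (A : Fin n → Fin c → R) :
    Nk (R := R) (eps R M (c := c)) c ⊔ Nk (R := R) (vv b A) n = ⊤ := by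
  rw [eq_top_iff]
  have heps : ∀ k, eps R M k ∈ Nk (R := R) (eps R M (c := c)) c ⊔ Nk (R := R) (vv b A) n := fun k =>
    Submodule.mem_sup_left (mem_Nk _ c k k.2)
  have hvv : ∀ j, vv b A j ∈ Nk (R := R) (eps R M (c := c)) c ⊔ Nk (R := R) (vv b A) n := fun j =>
    Submodule.mem_sup_right (mem_Nk _ n j j.2)
  have hinl : ∀ a : Fin c → R,
      ((a, 0) : (Fin c → R) × M) ∈ Nk (R := R) (eps R M (c := c)) c ⊔ Nk (R := R) (vv b A) n := by
    intro a
    have hle : (⊤ : Submodule R (Fin c → R)) ≤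
        (Nk (R := R) (eps R M (c := c)) c ⊔ Nk (R := R) (vv b A) n).comap (LinearMap.inl R (Fin c → R) M) := by
      rw [← (Pi.basisFun R (Fin c)).span_eq, Submodule.span_le]
      rintro _ ⟨k, rfl⟩
      rw [Pi.basisFun_apply]
      exact heps k
    exact hle trivial
  have hinr : ∀ m : M,
      ((0, m) : (Fin c → R) × M) ∈ Nk (R := R) (eps R M (c := c)) c ⊔ Nk (R := R) (vv b A) n := by
    intro m
    have hm : m ∈ Submodule.span R (Set.range b) := by
      rw [hspan]
      trivial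
    have hle : Submodule.span R (Set.range b) ≤
        (Nk (R := R) (eps R M (c := c)) c ⊔ Nk (R := R) (vv b A) n).comap (LinearMap.inr R (Fin c → R) M) := by
      rw [Submodule.span_le]
      rintro _ ⟨j, rfl⟩
      show ((0, b j) : (Fin c → R) × M) ∈ Nk (R := R) (eps R M (c := c)) c ⊔ Nk (R := R) (vv b A) n
      have h0 : ((0, b j) : (Fin c → R) × M) = vv b A j + (A j, 0) :=
        Prod.ext (neg_add_cancel (A j)).symm (add_zero (b j)).symm
      rw [h0]
      exact Submodule.add_mem _ (hvv j) (hinl (A j))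
    exact hle hm
  intro y _
  have h0 : y = (y.1, 0) + (0, y.2) := Prod.ext (add_zero _).symm (zero_add _).symm
  rw [h0]
  exact Submodule.add_mem _ (hinl y.1) (hinr y.2)

theorem P_chain (b : Fin n → M) (β : Fin n → M →ₗ[R] R)
    (hβ : ∀ k j, β k (b j) = if j = k then 1 else 0)
    (φ : M →ₗ[R] R) (g : Fin c → R) (A : Fin n → Fin c → R)
    (hA : ∀ j, ∑ k, A j k * g k = φ (b j))
    (hg : RingTheory.Sequence.IsWeaklyRegular R (List.ofFn g)) (x : R)
    (hx : ∀ r, x * r ∈ Ideal.span (Set.range g) → r ∈ Ideal.span (Set.range g)) :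
    ∀ j, j ≤ n → P (phiT g φ) x (Nk (R := R) (eps R M (c := c)) c ⊔ Nk (R := R) (vv b A) j) := by
  intro j
  induction j with
  | zero =>
    intro _
    rw [Nk_zero, sup_bot_eq]
    refine P_base (eps R M) (psiE R M) psiE_eps (phiT g φ) ?_ x ?_
    · have h0 : (fun k => phiT g φ (eps R M k)) = g := funext (phiT_eps g φ)
      rw [h0]
      exact hg
    · rw [map_Nk_eps]
      exact hx
  | succ j ih =>
    intro hj
    have hj' : j < n := hj
    rw [Nk_succ (R := R) (vv b A) j hj', ← sup_assoc]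
    refine P_step (phiT g φ) (psiV β ⟨j, hj'⟩) x _ (vv b A ⟨j, hj'⟩) ?_ ?_
      (phiT_vv g φ b A hA ⟨j, hj'⟩) (ih (Nat.le_of_lt hj'))
    · intro m hm
      have hle : Nk (R := R) (eps R M (c := c)) c ⊔ Nk (R := R) (vv b A) j ≤
          LinearMap.ker (psiV (c := c) β ⟨j, hj'⟩) := by
        refine sup_le ?_ ?_
        · unfold Nk
          rw [Submodule.span_le]
          rintro _ ⟨k, _, rfl⟩
          rw [SetLike.mem_coe, LinearMap.mem_ker]
          show β ⟨j, hj'⟩ (0 : M) = 0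
          exact map_zero _
        · unfold Nk
          rw [Submodule.span_le]
          rintro _ ⟨i, hi, rfl⟩
          rw [SetLike.mem_coe, LinearMap.mem_ker]
          show β ⟨j, hj'⟩ (b i) = 0
          rw [hβ, if_neg]
          intro h
          rw [h] at hi
          exact lt_irrefl j hi
      exact hle hm
    · show β ⟨j, hj'⟩ (b ⟨j, hj'⟩) = 1
      rw [hβ, if_pos rfl]

/-- **Main algebraic statement.** -/
theorem lci_exact (b : Fin n → M) (hspan : Submodule.span R (Set.range b) = ⊤)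
    (β : Fin n → M →ₗ[R] R) (hβ : ∀ k j, β k (b j) = if j = k then 1 else 0)
    (φ : M →ₗ[R] R) (g : Fin c → R)
    (hg : RingTheory.Sequence.IsWeaklyRegular R (List.ofFn g))
    (hI : Ideal.span (Set.range g) = Ideal.span (Set.range fun j => φ (b j)))
    (x : R) (hx : ∀ r, x * r ∈ Ideal.span (Set.range g) → r ∈ Ideal.span (Set.range g))
    (q : ℕ) (ω η : ExteriorAlgebra R M) (hω : ω ∈ ⋀[R]^q M) (hη : η ∈ ⋀[R]^(q + 1) M)
    (hd : dd φ ω = 0) (hxω : x • ω = dd φ η) :
    ∃ η' ∈ ⋀[R]^(q + 1) M, dd φ η' = ω := by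
  classical
  have hA : ∀ j, ∃ a : Fin c → R, ∑ k, a k * g k = φ (b j) := by
    intro j
    have h0 : φ (b j) ∈ Ideal.span (Set.range g) := by
      rw [hI]
      exact Ideal.subset_span ⟨j, rfl⟩
    exact Ideal.mem_span_range_iff_exists_fun.1 h0
  choose A hA using hA
  have hu : ∀ k, ∃ m : M, φ m = g k := by
    intro k
    have h0 : g k ∈ Ideal.span (Set.range fun j => φ (b j)) := by
      rw [← hI]
      exact Ideal.subset_span ⟨k, rfl⟩
    obtain ⟨a, ha⟩ := Ideal.mem_span_range_iff_exists_fun.1 h0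
    refine ⟨∑ j, a j • b j, ?_⟩
    rw [map_sum, ← ha]
    exact Finset.sum_congr rfl (fun j _ => by rw [map_smul, smul_eq_mul])
  choose u hu using hu
  have hP := P_chain b β hβ φ g A hA hg x hx n le_rfl
  rw [top_eq b hspan A] at hP
  have htop : SS (⊤ : Submodule R ((Fin c → R) × M)) = LinearMap.range (ι R) :=
    Submodule.map_top _
  have hφi := phiT_comp_inr g φ
  have hφρ := phi_comp_rho g φ u hu
  have hρi := rho_comp_inr (R := R) u
  have m1 : ExteriorAlgebra.map (LinearMap.inr R (Fin c → R) M) ω ∈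
      SS (⊤ : Submodule R ((Fin c → R) × M)) ^ q := by
    rw [htop]; exact map_mem _ q hω
  have m2 : ExteriorAlgebra.map (LinearMap.inr R (Fin c → R) M) η ∈
      SS (⊤ : Submodule R ((Fin c → R) × M)) ^ (q + 1) := by
    rw [htop]; exact map_mem _ (q + 1) hη
  have m3 : dd (phiT g φ) (ExteriorAlgebra.map (LinearMap.inr R (Fin c → R) M) ω) = 0 := by
    rw [dd_map, hφi, hd, map_zero]
  have m4 : x • ExteriorAlgebra.map (LinearMap.inr R (Fin c → R) M) ω =
      dd (phiT g φ) (ExteriorAlgebra.map (LinearMap.inr R (Fin c → R) M) η) := by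
    rw [dd_map, hφi, ← hxω, map_smul]
  have h5 := hP q _ _ m1 m2 m3 m4
  obtain ⟨ηt, hηt, hdηt⟩ := h5
  have hηt' : ηt ∈ ⋀[R]^(q + 1) ((Fin c → R) × M) := by
    rw [htop] at hηt
    exact hηt
  have m5 : ExteriorAlgebra.map (rho (R := R) u) ηt ∈ ⋀[R]^(q + 1) M :=
    map_mem (rho (R := R) u) (q + 1) hηt'
  refine ⟨ExteriorAlgebra.map (rho (R := R) u) ηt, m5, ?_⟩
  have h6 : dd φ (ExteriorAlgebra.map (rho (R := R) u) ηt) =
      ExteriorAlgebra.map (rho (R := R) u) (dd (φ ∘ₗ rho (R := R) u) ηt) :=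
    dd_map (rho (R := R) u) φ ηt
  rw [h6, hφρ, hdηt]
  have h2 := congrArg (fun F : ExteriorAlgebra R M →ₐ[R] ExteriorAlgebra R M => F ω)
    (ExteriorAlgebra.map_comp_map (LinearMap.inr R (Fin c → R) M) (rho (R := R) u))
  simp only [AlgHom.comp_apply] at h2
  rw [h2, hρi, ExteriorAlgebra.map_id]
  rfl

end Main

end Groth.Agent.Lib.Helper25.LciAlg
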