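import Groth.Agent.Lib.Helper25.LciCM
import Groth.Agent.Lib.Helper26.RegularSmooth
import Groth.Agent.Lib.Helper5.StalkKer

/-!
# Divisors through no generic point of a local complete intersection in a smooth scheme
-/

set_option autoImplicit false
set_option linter.style.haveILetI false
universe u
open CategoryTheory AlgebraicGeometry TopologicalSpace

namespace Groth.Agent.Lib.Helper25.LciGeom

variable {X : Scheme.{u}}

theorem isRegularRing_sections (k : Type u) [Field k] (f : X ⟶ Spec (CommRingCat.of k))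
    [Smooth f] (W : X.affineOpens) : IsRegularRing Γ(X, W.1) := by
  have e : W.1 ≤ f ⁻¹ᵁ ⊤ := fun x _ => Set.mem_univ (f.base x)
  have hsm : RingHom.Smooth (f.appLE ⊤ W.1 e).hom :=
    HasRingHomProperty.appLE @Smooth f inferInstance ⟨⊤, isAffineOpen_top _⟩ W e
  let eΓ : Γ(Spec (CommRingCat.of k), ⊤) ≃+* k :=
    (Scheme.ΓSpecIso (CommRingCat.of k)).commRingCatIsoToRingEquiv
  haveI : IsRegularRing k := inferInstance
  haveI : IsRegularRing Γ(Spec (CommRingCat.of k), ⊤) := IsRegularRing.of_ringEquiv eΓ.symm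
  letI alg : Algebra Γ(Spec (CommRingCat.of k), ⊤) Γ(X, W.1) := (f.appLE ⊤ W.1 e).hom.toAlgebra
  haveI : Algebra.Smooth Γ(Spec (CommRingCat.of k), ⊤) Γ(X, W.1) := hsm
  exact Groth.Agent.Lib.Helper26.RegularSmooth.isRegularRing_of_smooth
    Γ(Spec (CommRingCat.of k), ⊤) Γ(X, W.1)

theorem fromSpec_mem (W : X.affineOpens) (𝔮 : PrimeSpectrum Γ(X, W.1)) :
    W.2.fromSpec 𝔮 ∈ W.1 := by
  have h : W.2.fromSpec 𝔮 ∈ Set.range W.2.fromSpec := ⟨𝔮, rfl⟩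
  rw [W.2.range_fromSpec] at h
  exact h

theorem fromSpec_mem_support_iff (I : X.IdealSheafData) (W : X.affineOpens)
    (𝔮 : PrimeSpectrum Γ(X, W.1)) :
    W.2.fromSpec 𝔮 ∈ I.support ↔ I.ideal W ≤ 𝔮.asIdeal := by
  rw [Scheme.IdealSheafData.mem_support_iff_of_mem (fromSpec_mem W 𝔮)]
  have h2 : W.2.fromSpec 𝔮 ∈ X.zeroLocus (U := W.1) (I.ideal W) ↔
      𝔮 ∈ W.2.fromSpec ⁻¹' X.zeroLocus (U := W.1) (I.ideal W) := Iff.rfl
  rw [h2, W.2.fromSpec_preimage_zeroLocus]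
  exact (PrimeSpectrum.mem_zeroLocus 𝔮 _).trans SetLike.coe_subset_coe

theorem exists_point_of_minimalPrime (I : X.IdealSheafData) (W : X.affineOpens)
    (𝔭 : Ideal Γ(X, W.1)) (h𝔭 : 𝔭 ∈ (I.ideal W).minimalPrimes) :
    ∃ (hp : 𝔭.IsPrime) (z : I.subscheme), ringKrullDim (I.subscheme.presheaf.stalk z) = 0 ∧
      I.subschemeι z = W.2.fromSpec ⟨𝔭, hp⟩ := by
  have hp : 𝔭.IsPrime := h𝔭.1.1
  refine ⟨hp, ?_⟩
  have hPsupp : W.2.fromSpec ⟨𝔭, hp⟩ ∈ I.support :=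
    (fromSpec_mem_support_iff I W ⟨𝔭, hp⟩).2 h𝔭.1.2
  obtain ⟨z, hz⟩ : W.2.fromSpec ⟨𝔭, hp⟩ ∈ Set.range I.subschemeι := by
    rw [I.range_subschemeι]
    exact hPsupp
  refine ⟨z, ?_, hz⟩
  apply Groth.Agent.Lib.Helper5.StalkKer.ringKrullDim_stalk_eq_zero
  intro z' hz'
  have h1 : I.subschemeι z' ⤳ I.subschemeι z := hz'.map I.subschemeι.continuous
  rw [hz] at h1
  have hz'W : I.subschemeι z' ∈ W.1 := h1.mem_open W.1.isOpen (fromSpec_mem W ⟨𝔭, hp⟩)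
  obtain ⟨𝔮, h𝔮⟩ : I.subschemeι z' ∈ Set.range W.2.fromSpec := by
    rw [W.2.range_fromSpec]
    exact hz'W
  have hsupp' : W.2.fromSpec 𝔮 ∈ I.support := by
    rw [h𝔮]
    have h0 : I.subschemeι z' ∈ Set.range I.subschemeι := ⟨z', rfl⟩
    rw [I.range_subschemeι] at h0
    exact h0
  have hle𝔮 : I.ideal W ≤ 𝔮.asIdeal := (fromSpec_mem_support_iff I W 𝔮).1 hsupp'
  have hspec : 𝔮 ⤳ (⟨𝔭, hp⟩ : PrimeSpectrum Γ(X, W.1)) := by
    apply (W.2.fromSpec.isOpenEmbedding.isInducing.specializes_iff).1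
    rw [h𝔮]
    exact h1
  have h𝔮𝔭 : 𝔮.asIdeal ≤ 𝔭 :=
    (PrimeSpectrum.asIdeal_le_asIdeal 𝔮 ⟨𝔭, hp⟩).2 ((PrimeSpectrum.le_iff_specializes _ _).2 hspec)
  have h𝔭𝔮 : 𝔭 ≤ 𝔮.asIdeal := h𝔭.2 ⟨𝔮.isPrime, hle𝔮⟩ h𝔮𝔭
  have heq : 𝔮 = ⟨𝔭, hp⟩ := PrimeSpectrum.ext (le_antisymm h𝔮𝔭 h𝔭𝔮)
  apply I.subschemeι.isEmbedding.injective
  rw [← h𝔮, heq, hz]

theorem mem_of_mul_mem_ideal (k : Type u) [Field k] (f : X ⟶ Spec (CommRingCat.of k)) [Smooth f]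
    (I J : X.IdealSheafData) (W : X.affineOpens) (rs : List Γ(X, W.1))
    (hrs : RingTheory.Sequence.IsWeaklyRegular Γ(X, W.1) rs) (hI : I.ideal W = Ideal.ofList rs)
    (hZD : ∀ z : ↥I.subscheme, ringKrullDim (I.subscheme.presheaf.stalk z) = 0 →
      I.subschemeι.base z ∉ Set.range J.subschemeι.base)
    (x : Γ(X, W.1)) (hJ : J.ideal W = Ideal.span {x}) (r : Γ(X, W.1))
    (hxr : x * r ∈ I.ideal W) : r ∈ I.ideal W := by
  haveI := isRegularRing_sections k f W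
  rw [hI] at hxr ⊢
  refine LciCM.mem_of_mul_mem _ rs hrs x r hxr ?_
  intro 𝔭 h𝔭 hx𝔭
  rw [← hI] at h𝔭
  obtain ⟨hp, z, hdim, hz⟩ := exists_point_of_minimalPrime I W 𝔭 h𝔭
  apply hZD z hdim
  have hJ𝔭 : J.ideal W ≤ (⟨𝔭, hp⟩ : PrimeSpectrum Γ(X, W.1)).asIdeal := by
    rw [hJ, Ideal.span_le, Set.singleton_subset_iff]
    exact hx𝔭
  have hsupp := (fromSpec_mem_support_iff J W ⟨𝔭, hp⟩).2 hJ𝔭
  have h0 : W.2.fromSpec ⟨𝔭, hp⟩ ∈ Set.range J.subschemeι := by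
    rw [J.range_subschemeι]
    exact hsupp
  have h1 : I.subschemeι z ∈ Set.range J.subschemeι := by
    rw [hz]
    exact h0
  exact h1

end Groth.Agent.Lib.Helper25.LciGeom
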