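import Groth.Agent.Lib.Helper25.TorMain
import Groth.Agent.Lib.Helper25.KoszExact
import Groth.Agent.Lib.Helper25.LciAlg
import Groth.Agent.Lib.Helper25.LciGeom
import Groth.Prelude.Def_RegImm

/-!
# A divisor through no generic point of a local complete intersection `Z = ∩ Y_i` in a smooth
# variety is regular on the Koszul homology of the `Y_i`
-/

set_option autoImplicit false
set_option linter.style.haveILetI false
universe u
open CategoryTheory CategoryTheory.Limits AlgebraicGeometry TopologicalSpace Opposite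
open Scheme.Modules exteriorPower

namespace Groth.Agent.Lib.Helper25.LciMain

open Groth.Agent.Lib.Helper3 Groth.Agent.Lib.Helper3.QCSec Groth.Agent.Lib.Helper3.InvGen
  Groth.Agent.Lib.Helper3.FreeBasis Groth.Agent.Lib.Helper3.IdealMod Groth.Agent.Lib.Helper17
open Groth.Agent.Lib.Helper25.TorSec Groth.Agent.Lib.Helper25 Groth.Agent.Lib.Helper25.KoszExt

variable {X : Scheme.{u}}

theorem exists_good_nbhd (n : ℕ) (IY : Fin n → X.IdealSheafData)
    (hY : ∀ i, BlowUp.IsEffCartierIdeal (IY i))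
    (hZ : RegImm.IsRegularImmersion RegImm.Kind.regular (⨆ i, IY i).subschemeι)
    (V : X.Opens) (p : X) (hp : p ∈ V) :
    ∃ W : X.affineOpens, p ∈ W.1 ∧ W.1 ≤ V ∧
      (∀ i, ∃ e : Γ(ClSub.idealMod (IY i), W.1), IsGen (ClSub.idealMod (IY i)) W.1 e) ∧
      ∃ rs : List Γ(X, W.1), RingTheory.Sequence.IsWeaklyRegular Γ(X, W.1) rs ∧
        (⨆ i, IY i).ideal W = Ideal.ofList rs := by
  classical
  have hA : ∀ i, PicF.IsInvertible (ClSub.idealMod (IY i)) := fun i =>
    (EffCartMod.isInvertible_idealMod_iff (IY i)).mpr (hY i)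
  by_cases hps : p ∈ (⨆ i, IY i).support
  · obtain ⟨z, hz⟩ : p ∈ Set.range (⨆ i, IY i).subschemeι := by
      rw [(⨆ i, IY i).range_subschemeι]
      exact hps
    obtain ⟨U', hzU', -, rs, hseq, hker⟩ := hZ.2 z
    have hreg : RingTheory.Sequence.IsRegular Γ(X, U'.1) rs := hseq
    rw [(⨆ i, IY i).ker_subschemeι_app U'] at hker
    have hpU' : p ∈ U'.1 := by
      rw [← hz]
      exact hzU'
    obtain ⟨U, hU, hpU, hUle, hgen⟩ := TorKosz.exists_affine_isGen_family n
      (fun i => ClSub.idealMod (IY i)) hA p (V ⊓ U'.1) ⟨hp, hpU'⟩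
    obtain ⟨f, hfU, hpf⟩ := U'.2.exists_basicOpen_le ⟨p, hpU⟩ hpU'
    refine ⟨X.affineBasicOpen f, hpf, hfU.trans (hUle.trans inf_le_left), ?_, ?_⟩
    · intro i
      obtain ⟨e, he⟩ := hgen i
      exact ⟨res _ hfU e, he.mono hfU⟩
    · haveI := U'.2.isLocalization_basicOpen f
      refine ⟨rs.map (algebraMap Γ(X, U'.1) Γ(X, X.basicOpen f)),
        RingTheory.Sequence.IsWeaklyRegular.of_isLocalization Γ(X, X.basicOpen f)
          (Submonoid.powers f) hreg.toIsWeaklyRegular, ?_⟩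
      rw [← (⨆ i, IY i).map_ideal_basicOpen U' f, hker, Ideal.map_ofList]
      rfl
  · have hpO : p ∈ (⟨((⨆ i, IY i).support : Set X)ᶜ,
        (⨆ i, IY i).support.isClosed.isOpen_compl⟩ : X.Opens) := hps
    obtain ⟨U, hU, hpU, hUle, hgen⟩ := TorKosz.exists_affine_isGen_family n
      (fun i => ClSub.idealMod (IY i)) hA p
      (V ⊓ ⟨((⨆ i, IY i).support : Set X)ᶜ, (⨆ i, IY i).support.isClosed.isOpen_compl⟩)
      ⟨hp, hpO⟩
    refine ⟨⟨U, hU⟩, hpU, hUle.trans inf_le_left, hgen, [1], ?_, ?_⟩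
    · exact (RingTheory.Sequence.isWeaklyRegular_singleton_iff _ _).2
        (fun a b h => by simpa only [one_smul] using h)
    · rw [Ideal.ofList_singleton, Ideal.span_singleton_one,
        ← PrimeSpectrum.zeroLocus_empty_iff_eq_top]
      have h1 := hU.fromSpec_image_zeroLocus (((⨆ i, IY i).ideal ⟨U, hU⟩ : Ideal Γ(X, U)) :
        Set Γ(X, U))
      have h2 := (⨆ i, IY i).coe_support_inter ⟨U, hU⟩
      rw [← h2] at h1
      have h3 : (((⨆ i, IY i).support : Set X) ∩ U) = ∅ := by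
        rw [Set.eq_empty_iff_forall_notMem]
        rintro y ⟨hy1, hy2⟩
        exact (hUle hy2).2 hy1
      rw [h3, Set.image_eq_empty] at h1
      exact h1

theorem dd_loc_cycle {E : X.Modules} {s : E ⟶ Coh.structureModule X} (C : KoszSh.Cx E s) (q : ℕ)
    (W : X.affineOpens) (z : Γ(C.K.cycles q, W.1)) :
    dd (KoszSh.secForm s W.1)
      ((C.loc q W ((C.K.iCycles q).app W.1 z) : ⋀[Γ(X, W.1)]^q Γ(E, W.1)) :
        ExteriorAlgebra Γ(X, W.1) Γ(E, W.1)) = 0 := by
  cases q with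
  | zero => exact LciAlg.dd_eq_zero_of_mem_zero _ (Subtype.property _)
  | succ q' =>
    rw [← KoszExact.loc_d]
    have h0 : (C.K.d (q' + 1) q').app W.1 ((C.K.iCycles (q' + 1)).app W.1 z) = 0 :=
      app_congr (C.K.iCycles_d (q' + 1) q') W.1 z
    rw [h0, _root_.map_zero]
    rfl

theorem regular_local (k : Type u) [Field k] (f : X ⟶ Spec (CommRingCat.of k)) [Smooth f] (n : ℕ)
    (IY : Fin n → X.IdealSheafData) (ID : X.IdealSheafData)
    (hZD : ∀ z : ↥(⨆ i, IY i).subscheme,
      ringKrullDim ((⨆ i, IY i).subscheme.presheaf.stalk z) = 0 →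
      (⨆ i, IY i).subschemeι.base z ∉ Set.range ID.subschemeι.base)
    (C : KoszSh.Cx (∐ fun i => ClSub.idealMod (IY i))
      (Limits.Sigma.desc fun i => ClSub.idealModι (IY i)))
    [hqc : ∀ p, (C.K.X p).IsQuasicoherent] (q : ℕ) (W : X.affineOpens)
    (e : Γ(ClSub.idealMod ID, W.1)) (hg : IsGen (ClSub.idealMod ID) W.1 e)
    (ei : ∀ i, Γ(ClSub.idealMod (IY i), W.1))
    (hei : ∀ i, IsGen (ClSub.idealMod (IY i)) W.1 (ei i))
    (rs : List Γ(X, W.1)) (hrs : RingTheory.Sequence.IsWeaklyRegular Γ(X, W.1) rs)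
    (hIW : (⨆ i, IY i).ideal W = Ideal.ofList rs)
    (h : Γ(C.K.homology q, W.1)) (hh : val ID e • h = 0) : h = 0 := by
  classical
  obtain ⟨-, hJ⟩ := EffCartMod.span_of_isGenAt ID W e hg.self
  obtain ⟨b, hb⟩ : ∃ b : Fin n → Γ(∐ fun i => ClSub.idealMod (IY i), W.1),
      b = fun i => (Sigma.ι (fun i => ClSub.idealMod (IY i)) i).app W.1 (ei i) := ⟨_, rfl⟩
  have hbasis : IsBasis (∐ fun i => ClSub.idealMod (IY i)) W.1 b := by
    rw [hb]
    exact isBasis_sigma (fun i => ClSub.idealMod (IY i)) W.1 ei hei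
  let bW : Module.Basis (Fin n) Γ(X, W.1) Γ(∐ fun i => ClSub.idealMod (IY i), W.1) :=
    NormAlg.basisOfBijective b hbasis.self
  have hbW : ∀ i, bW i = b i := NormAlg.basisOfBijective_apply b hbasis.self
  have hspan : Submodule.span Γ(X, W.1) (Set.range b) = ⊤ := by
    have h0 := bW.span_eq
    have h1 : (⇑bW : Fin n → _) = b := funext hbW
    rw [h1] at h0
    exact h0
  have hβ : ∀ k j, bW.coord k (b j) = if j = k then 1 else 0 := by
    intro k j
    rw [← hbW j, Module.Basis.coord_apply, Module.Basis.repr_self, Finsupp.single_apply]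
  have hφb : ∀ j, KoszSh.secForm (Limits.Sigma.desc fun i => ClSub.idealModι (IY i)) W.1 (b j) =
      val (IY j) (ei j) := by
    intro j
    have h1 := app_congr (Limits.Sigma.ι_desc (fun i => ClSub.idealModι (IY i)) j) W.1 (ei j)
    rw [comp_app] at h1
    rw [hb]
    show OmegaSh.fnSect X W.1 ((Limits.Sigma.desc fun i => ClSub.idealModι (IY i)).app W.1
      ((Sigma.ι (fun i => ClSub.idealMod (IY i)) j).app W.1 (ei j))) = _
    rw [h1]
    rfl
  have hsp : ∀ i, (IY i).ideal W = Ideal.span {val (IY i) (ei i)} := fun i =>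
    (EffCartMod.span_of_isGenAt (IY i) W (ei i) (hei i).self).2
  have hIspan : (⨆ i, IY i).ideal W = Ideal.span (Set.range fun j =>
      KoszSh.secForm (Limits.Sigma.desc fun i => ClSub.idealModι (IY i)) W.1 (b j)) := by
    have h0 : (fun j => KoszSh.secForm (Limits.Sigma.desc fun i => ClSub.idealModι (IY i)) W.1
        (b j)) = fun j => val (IY j) (ei j) := funext hφb
    rw [h0, Scheme.IdealSheafData.ideal_iSup, iSup_apply, iSup_congr hsp]
    exact (Ideal.span_range_eq_iSup _).symm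
  have hofl : Ideal.span (Set.range rs.get) = Ideal.ofList rs := by
    unfold Ideal.ofList
    rw [Set.range_list_get]
  have hx : ∀ r, val ID e * r ∈ Ideal.span (Set.range rs.get) →
      r ∈ Ideal.span (Set.range rs.get) := by
    intro r hr
    rw [hofl, ← hIW] at hr ⊢
    exact LciGeom.mem_of_mul_mem_ideal k f (⨆ i, IY i) ID W rs hrs hIW hZD (val ID e) hJ r hr
  have hI : Ideal.span (Set.range rs.get) = Ideal.span (Set.range fun j =>
      KoszSh.secForm (Limits.Sigma.desc fun i => ClSub.idealModι (IY i)) W.1 (b j)) := by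
    rw [hofl, ← hIW, hIspan]
  obtain ⟨z, hz⟩ := homologyπ_surjective C.K q W.2 h
  have hπ : (C.K.homologyπ q).app W.1 (val ID e • z) = 0 := by
    rw [Scheme.Modules.Hom.app_smul, hz, hh]
  obtain ⟨w, hw⟩ := exists_toCycles C.K q W.2 (val ID e • z) hπ
  have hdw : (C.K.d (q + 1) q).app W.1 w = val ID e • (C.K.iCycles q).app W.1 z := by
    have h1 := app_congr (C.K.toCycles_i (q + 1) q) W.1 w
    rw [comp_app, hw, Scheme.Modules.Hom.app_smul] at h1
    exact h1.symm
  have hxω := KoszExact.loc_d C q W w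
  rw [hdw, _root_.map_smul, Submodule.coe_smul] at hxω
  have hωm := Subtype.property (C.loc q W ((C.K.iCycles q).app W.1 z))
  have hηm := Subtype.property (C.loc (q + 1) W w)
  obtain ⟨η', hη', hdη'⟩ := LciAlg.lci_exact b hspan (fun k => bW.coord k) hβ
    (KoszSh.secForm (Limits.Sigma.desc fun i => ClSub.idealModι (IY i)) W.1) rs.get
    (by rw [List.ofFn_get]; exact hrs) hI (val ID e) hx q _ _ hωm hηm (dd_loc_cycle C q W z) hxω
  have hdw' : (C.K.d (q + 1) q).app W.1 ((C.loc (q + 1) W).symm ⟨η', hη'⟩) =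
      (C.K.iCycles q).app W.1 z := by
    apply (C.loc q W).injective
    apply Subtype.ext
    have h3 := KoszExact.loc_d C q W ((C.loc (q + 1) W).symm ⟨η', hη'⟩)
    rw [LinearEquiv.apply_symm_apply] at h3
    exact h3.trans hdη'
  have hz' : (C.K.toCycles (q + 1) q).app W.1 ((C.loc (q + 1) W).symm ⟨η', hη'⟩) = z := by
    apply QCExact.injective_sections (C.K.iCycles q) W.1
    have h1 := app_congr (C.K.toCycles_i (q + 1) q) W.1 ((C.loc (q + 1) W).symm ⟨η', hη'⟩)
    rw [comp_app] at h1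
    rw [h1, hdw']
  rw [← hz, ← hz']
  exact app_congr (C.K.toCycles_comp_homologyπ (q + 1) q) W.1 _

/-- **Regularity of the divisor on the Koszul homology.** -/
theorem regular (k : Type u) [Field k] (f : X ⟶ Spec (CommRingCat.of k)) [Smooth f] (n : ℕ)
    (IY : Fin n → X.IdealSheafData) (hY : ∀ i, BlowUp.IsEffCartierIdeal (IY i))
    (ID : X.IdealSheafData)
    (hZ : RegImm.IsRegularImmersion RegImm.Kind.regular (⨆ i, IY i).subschemeι)
    (hZD : ∀ z : ↥(⨆ i, IY i).subscheme,
      ringKrullDim ((⨆ i, IY i).subscheme.presheaf.stalk z) = 0 →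
      (⨆ i, IY i).subschemeι.base z ∉ Set.range ID.subschemeι.base)
    (C : KoszSh.Cx (∐ fun i => ClSub.idealMod (IY i))
      (Limits.Sigma.desc fun i => ClSub.idealModι (IY i)))
    [hqc : ∀ p, (C.K.X p).IsQuasicoherent] (q : ℕ) (V : X.affineOpens)
    (e : Γ(ClSub.idealMod ID, V.1)) (hg : IsGen (ClSub.idealMod ID) V.1 e)
    (h : Γ(C.K.homology q, V.1)) (hh : val ID e • h = 0) : h = 0 := by
  classical
  apply ModBasis.eq_zero_of_locally_zero
  intro p hp
  obtain ⟨W, hpW, hWV, hgen, rs, hrs, hIW⟩ := exists_good_nbhd n IY hY hZ V.1 p hp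
  choose ei hei using hgen
  refine ⟨W.1, hWV, hpW, ?_⟩
  refine regular_local k f n IY ID hZD C q W (res (ClSub.idealMod ID) hWV e) (hg.mono hWV)
    ei hei rs hrs hIW _ ?_
  rw [val_res, ← res_smul, hh, res_zero]

end Groth.Agent.Lib.Helper25.LciMain
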