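import Groth.Agent.Lib.Helper25.CycRing
import Groth.Agent.Lib.Helper25.LciMain
import Groth.Agent.Lib.Helper17.DevStep

/-!
# Koszul complexes of `n` copies of an invertible ideal: local structure, and
# `H_q ≅ Z_q / 𝓘 Z_q`
-/

set_option autoImplicit false
set_option linter.style.haveILetI false
universe u
open CategoryTheory CategoryTheory.Limits AlgebraicGeometry TopologicalSpace Opposite
open Scheme.Modules exteriorPower

namespace Groth.Agent.Lib.Helper25.CycLoc

open Groth.Agent.Lib.Helper3 Groth.Agent.Lib.Helper3.QCSec Groth.Agent.Lib.Helper3.InvGen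
  Groth.Agent.Lib.Helper3.FreeBasis Groth.Agent.Lib.Helper3.IdealMod Groth.Agent.Lib.Helper17
open Groth.Agent.Lib.Helper25.TorSec Groth.Agent.Lib.Helper25 Groth.Agent.Lib.Helper25.KoszExt
  Groth.Agent.Lib.Helper25.CycRing

section Cat

/-- two epimorphisms with the same kernel have isomorphic targets -/
theorem nonempty_iso_of_epi {𝒞 : Type*} [Category 𝒞] [Abelian 𝒞] {Z H Q : 𝒞} (f : Z ⟶ H)
    (g : Z ⟶ Q) [Epi f] [Epi g] (h1 : kernel.ι f ≫ g = 0) (h2 : kernel.ι g ≫ f = 0) :
    Nonempty (H ≅ Q) := by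
  refine ⟨⟨Abelian.epiDesc f g h1, Abelian.epiDesc g f h2, ?_, ?_⟩⟩
  · rw [← cancel_epi f, ← Category.assoc, Abelian.comp_epiDesc, Abelian.comp_epiDesc,
      Category.comp_id]
  · rw [← cancel_epi g, ← Category.assoc, Abelian.comp_epiDesc, Abelian.comp_epiDesc,
      Category.comp_id]

end Cat

variable {X : Scheme.{u}}

/-- the cycle condition through `loc` -/
theorem d_eq_zero_iff {E : X.Modules} {s : E ⟶ Coh.structureModule X} (C : KoszSh.Cx E s)
    (q j : ℕ) (hj : (ComplexShape.down ℕ).next q = j) (V : X.affineOpens)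
    (y : Γ(C.K.X q, V.1)) :
    (C.K.d q j).app V.1 y = 0 ↔
      dd (KoszSh.secForm s V.1)
        ((C.loc q V y : ⋀[Γ(X, V.1)]^q Γ(E, V.1)) : ExteriorAlgebra Γ(X, V.1) Γ(E, V.1)) = 0 := by
  cases q with
  | zero =>
    have hj0 : j = 0 := by
      rw [← hj]
      exact ChainComplex.next_nat_zero
    subst hj0
    constructor
    · intro _
      exact LciAlg.dd_eq_zero_of_mem_zero _ (Subtype.property _)
    · intro _
      have h0 : C.K.d 0 0 = 0 := C.K.shape 0 0 (by simp)
      rw [h0]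
      rfl
  | succ p =>
    have hjp : j = p := by
      rw [← hj]
      exact ChainComplex.next_nat_succ p
    subst hjp
    rw [← KoszExact.loc_d]
    constructor
    · intro h
      rw [h, _root_.map_zero]
      rfl
    · intro h
      have h1 : C.loc j V ((C.K.d (j + 1) j).app V.1 y) = 0 := Subtype.ext h
      exact (C.loc j V).injective (h1.trans (_root_.map_zero _).symm)

/-- local structure of `∐ 𝓐` with its cosection over an affine open where `𝓐` is generated -/
theorem local_data (A : X.IdealSheafData) (n : ℕ) (V : X.affineOpens)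
    (e : Γ(ClSub.idealMod A, V.1)) (hg : IsGen (ClSub.idealMod A) V.1 e) :
    ∃ bW : Module.Basis (Fin n) Γ(X, V.1) Γ(∐ fun _ : Fin n => ClSub.idealMod A, V.1),
      (∀ i, bW i = (Sigma.ι (fun _ : Fin n => ClSub.idealMod A) i).app V.1 e) ∧
      KoszSh.secForm (Limits.Sigma.desc fun _ : Fin n => ClSub.idealModι A) V.1 =
        val A e • chi bW := by
  classical
  obtain ⟨b, hb⟩ : ∃ b : Fin n → Γ(∐ fun _ : Fin n => ClSub.idealMod A, V.1),
      b = fun i => (Sigma.ι (fun _ : Fin n => ClSub.idealMod A) i).app V.1 e := ⟨_, rfl⟩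
  have hbasis : IsBasis (∐ fun _ : Fin n => ClSub.idealMod A) V.1 b := by
    rw [hb]
    exact isBasis_sigma (fun _ : Fin n => ClSub.idealMod A) V.1 (fun _ => e) (fun _ => hg)
  let bW : Module.Basis (Fin n) Γ(X, V.1) Γ(∐ fun _ : Fin n => ClSub.idealMod A, V.1) :=
    NormAlg.basisOfBijective b hbasis.self
  have hbW : ∀ i, bW i = b i := NormAlg.basisOfBijective_apply b hbasis.self
  have hφb : ∀ j, KoszSh.secForm (Limits.Sigma.desc fun _ : Fin n => ClSub.idealModι A) V.1
      (b j) = val A e := by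
    intro j
    have h1 := app_congr (Limits.Sigma.ι_desc (fun _ : Fin n => ClSub.idealModι A) j) V.1 e
    rw [comp_app] at h1
    rw [hb]
    show OmegaSh.fnSect X V.1 ((Limits.Sigma.desc fun _ : Fin n => ClSub.idealModι A).app V.1
      ((Sigma.ι (fun _ : Fin n => ClSub.idealMod A) j).app V.1 e)) = _
    rw [h1]
    rfl
  refine ⟨bW, fun i => by rw [hbW i, hb], ?_⟩
  apply bW.ext
  intro j
  rw [LinearMap.smul_apply, chi_basis, smul_eq_mul, mul_one, hbW j]
  exact hφb j

section Quot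

variable (A : X.IdealSheafData) (n : ℕ)
  (C : KoszSh.Cx (∐ fun _ : Fin n => ClSub.idealMod A)
    (Limits.Sigma.desc fun _ : Fin n => ClSub.idealModι A))
  [hqc : ∀ p, (C.K.X p).IsQuasicoherent] (q : ℕ)

theorem proj_eq_zero_of_pi (V : X.affineOpens) (e : Γ(ClSub.idealMod A, V.1))
    (hg : IsGen (ClSub.idealMod A) V.1 e) (z : Γ(C.K.cycles q, V.1))
    (hz : (C.K.homologyπ q).app V.1 z = 0) :
    haveI := isQuasicoherent_cycles C.K q
    (DevStep.proj A (C.K.cycles q)).app V.1 z = 0 := by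
  classical
  haveI := isQuasicoherent_cycles C.K q
  obtain ⟨bW, hbW, hsec⟩ := local_data A n V e hg
  obtain ⟨hx_nzd, hspan⟩ := EffCartMod.span_of_isGenAt A V e hg.self
  obtain ⟨w, hw⟩ := exists_toCycles C.K q V.2 z hz
  have hdw : (C.K.d (q + 1) q).app V.1 w = (C.K.iCycles q).app V.1 z := by
    have h1 := app_congr (C.K.toCycles_i (q + 1) q) V.1 w
    rw [comp_app, hw] at h1
    exact h1.symm
  obtain ⟨x, hxm, hxd, hxw⟩ := exists_cycle_of_boundary _ (chi bW) (val A e) hsec q
    (Subtype.property (C.loc (q + 1) V w))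
  have hd2 : (C.K.d q ((ComplexShape.down ℕ).next q)).app V.1
      ((C.loc q V).symm ⟨x, hxm⟩) = 0 := by
    rw [d_eq_zero_iff C q _ rfl V, LinearEquiv.apply_symm_apply]
    exact hxd
  obtain ⟨z₂, hz₂⟩ := exists_cycle C.K q _ rfl V.1 _ hd2
  have hzz : z = val A e • z₂ := by
    apply QCExact.injective_sections (C.K.iCycles q) V.1
    rw [Scheme.Modules.Hom.app_smul, hz₂, ← hdw]
    apply (C.loc q V).injective
    apply Subtype.ext
    rw [KoszExact.loc_d, hxw, _root_.map_smul, LinearEquiv.apply_symm_apply]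
    rfl
  rw [hzz]
  exact DevStep.proj_app_smul_eq_zero A (C.K.cycles q) V (val A e)
    (by rw [hspan]; exact Ideal.mem_span_singleton_self _) z₂

theorem pi_eq_zero_of_proj (hn : 1 ≤ n) (V : X.affineOpens) (e : Γ(ClSub.idealMod A, V.1))
    (hg : IsGen (ClSub.idealMod A) V.1 e) (z : Γ(C.K.cycles q, V.1))
    (hz : haveI := isQuasicoherent_cycles C.K q
      (DevStep.proj A (C.K.cycles q)).app V.1 z = 0) :
    (C.K.homologyπ q).app V.1 z = 0 := by
  classical
  haveI := isQuasicoherent_cycles C.K q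
  obtain ⟨bW, hbW, hsec⟩ := local_data A n V e hg
  obtain ⟨hx_nzd, hspan⟩ := EffCartMod.span_of_isGenAt A V e hg.self
  have hnz : ∀ r : Γ(X, V.1), r * val A e = 0 → r = 0 :=
    fun r hr => (mem_nonZeroDivisors_iff_right.mp hx_nzd) r hr
  have hmem := DevStep.mem_smul_top_of_proj_app_eq_zero A (C.K.cycles q) V z hz
  rw [hspan] at hmem
  obtain ⟨z₂, hz₂⟩ := exists_smul_of_mem_span_smul (val A e) z hmem
  have hcyc := LciMain.dd_loc_cycle C q V z₂
  haveI : Module.Projective Γ(X, V.1) Γ(∐ fun _ : Fin n => ClSub.idealMod A, V.1) :=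
    Module.Projective.of_basis bW
  obtain ⟨w, hwm, hw⟩ := exists_boundary _ (chi bW) (val A e) hsec hnz (bW ⟨0, hn⟩)
    (chi_basis bW _) q (Subtype.property (C.loc q V ((C.K.iCycles q).app V.1 z₂))) hcyc
  have hdw : (C.K.d (q + 1) q).app V.1 ((C.loc (q + 1) V).symm ⟨w, hwm⟩) =
      (C.K.iCycles q).app V.1 z := by
    apply (C.loc q V).injective
    apply Subtype.ext
    rw [KoszExact.loc_d, LinearEquiv.apply_symm_apply, hz₂, Scheme.Modules.Hom.app_smul,
      _root_.map_smul]
    exact hw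
  have hz' : (C.K.toCycles (q + 1) q).app V.1 ((C.loc (q + 1) V).symm ⟨w, hwm⟩) = z := by
    apply QCExact.injective_sections (C.K.iCycles q) V.1
    have h1 := app_congr (C.K.toCycles_i (q + 1) q) V.1 ((C.loc (q + 1) V).symm ⟨w, hwm⟩)
    rw [comp_app] at h1
    rw [h1, hdw]
  rw [← hz']
  exact app_congr (C.K.toCycles_comp_homologyπ (q + 1) q) V.1 _

/-- **`H_q(K) ≅ Z_q / 𝓘 Z_q`** for the Koszul complex of `n ≥ 1` copies of an invertible ideal -/
theorem homology_iso_quot (hL : PicF.IsInvertible (ClSub.idealMod A)) (hn : 1 ≤ n) :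
    haveI := isQuasicoherent_cycles C.K q
    Nonempty (C.K.homology q ≅ DevStep.quot A (C.K.cycles q)) := by
  haveI := isQuasicoherent_cycles C.K q
  let Small : X.Opens → Prop := fun V => IsAffineOpen V ∧
    ∃ e : Γ(ClSub.idealMod A, V), IsGen (ClSub.idealMod A) V e
  have hcov : ∀ (W : X.Opens) (x : X), x ∈ W → ∃ V : X.Opens, Small V ∧ x ∈ V ∧ V ≤ W := by
    intro W x hx
    obtain ⟨U, e, hU, hxU, hUW, hg⟩ := exists_affine_isGen_le hL x W hx
    exact ⟨U, ⟨hU, e, hg⟩, hxU, hUW⟩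
  refine nonempty_iso_of_epi (C.K.homologyπ q) (DevStep.proj A (C.K.cycles q)) ?_ ?_
  · apply TwKosz.kernel_comp_eq_zero_of_small Small hcov
    intro V hV z hz
    obtain ⟨e, hg⟩ := hV.2
    exact proj_eq_zero_of_pi A n C q ⟨V, hV.1⟩ e hg z hz
  · apply TwKosz.kernel_comp_eq_zero_of_small Small hcov
    intro V hV z hz
    obtain ⟨e, hg⟩ := hV.2
    exact pi_eq_zero_of_proj A n C q hn ⟨V, hV.1⟩ e hg z hz

end Quot

end Groth.Agent.Lib.Helper25.CycLoc
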