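import Groth.Agent.Lib.Helper25.LciAlg

/-!
# Ring-level lemmas on the contraction of the exterior algebra by a split linear form

For a linear form `χ` on `M`: the kernel of the contraction by `χ` on `⋀^q M` is the image of
`⋀^q` of a complement-parametrisation of `ker χ`; the contraction complex is exact when `χ`
takes the value `1`; cycles and boundaries of the contraction by `g • χ`.
-/

set_option autoImplicit false
set_option linter.style.haveILetI false
open ExteriorAlgebra

namespace Groth.Agent.Lib.Helper25.CycRing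

open Groth.Agent.Lib.Helper25.KoszExt Groth.Agent.Lib.Helper25.TwKoszRing
  Groth.Agent.Lib.Helper25.LciAlg

variable {R : Type*} [CommRing R] {M : Type*} [AddCommGroup M] [Module R M]
  {N : Type*} [AddCommGroup N] [Module R N]

theorem dd_dd (χ : M →ₗ[R] R) (x : ExteriorAlgebra R M) : dd χ (dd χ x) = 0 :=
  CliffordAlgebra.contractLeft_contractLeft (Q := (0 : QuadraticForm R M)) (d := χ) x

theorem dd_zero (x : ExteriorAlgebra R M) : dd (0 : M →ₗ[R] R) x = 0 := by
  have h := dd_smul (0 : R) (0 : M →ₗ[R] R) x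
  rw [zero_smul, zero_smul] at h
  exact h

theorem ι_mul_mem (u : M) (q : ℕ) {x : ExteriorAlgebra R M} (hx : x ∈ ⋀[R]^q M) :
    ι R u * x ∈ ⋀[R]^(q + 1) M := by
  have h1 : ι R u ∈ LinearMap.range (ι R : M →ₗ[R] ExteriorAlgebra R M) := ⟨u, rfl⟩
  have h2 : x ∈ (LinearMap.range (ι R : M →ₗ[R] ExteriorAlgebra R M)) ^ q := hx
  show ι R u * x ∈ (LinearMap.range (ι R : M →ₗ[R] ExteriorAlgebra R M)) ^ (q + 1)
  rw [pow_succ']
  exact Submodule.mul_mem_mul h1 h2

theorem exact_of_unit (χ : M →ₗ[R] R) (u : M) (hu : χ u = 1) {x : ExteriorAlgebra R M}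
    (hx : dd χ x = 0) : dd χ (ι R u * x) = x := by
  rw [dd_ι_mul, hu, one_smul, hx, mul_zero, sub_zero]

/-- the endomorphism `m ↦ m - χ m • u` acts on the exterior algebra by `ω ↦ ω - u ∧ (χ ⌋ ω)` -/
theorem map_sub_smul (χ : M →ₗ[R] R) (u : M) (g : M →ₗ[R] M) (hg : ∀ m, g m = m - χ m • u)
    (x : ExteriorAlgebra R M) :
    ExteriorAlgebra.map g x = x - ι R u * dd χ x := by
  induction x using CliffordAlgebra.left_induction with
  | algebraMap r =>
    rw [AlgHom.commutes, dd_algebraMap, mul_zero, sub_zero]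
  | add x y hx hy =>
    rw [map_add, map_add, hx, hy, mul_add]
    abel
  | ι_mul x m hx =>
    have h1 : ExteriorAlgebra.map g (ι R m * x) = ι R (g m) * ExteriorAlgebra.map g x := by
      rw [map_mul, ExteriorAlgebra.map_apply_ι]
    show ExteriorAlgebra.map g (ι R m * x) = ι R m * x - ι R u * dd χ (ι R m * x)
    rw [h1, hx, hg, dd_ι_mul, map_sub, map_smul]
    have huu : ι R u * (ι R u * dd χ x) = 0 := by
      rw [← mul_assoc, ExteriorAlgebra.ι_sq_zero, zero_mul]
    have hum : ι R u * (ι R m * dd χ x) = -(ι R m * (ι R u * dd χ x)) := by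
      rw [← mul_assoc, ← mul_assoc, ← neg_mul]
      congr 1
      exact eq_neg_of_add_eq_zero_left (ExteriorAlgebra.ι_add_mul_swap u m)
    rw [show (ι R m - χ m • ι R u) * (x - ι R u * dd χ x) =
          ι R m * x - ι R m * (ι R u * dd χ x) -
            (χ m • (ι R u * x) - χ m • (ι R u * (ι R u * dd χ x)))
        from by rw [sub_mul, mul_sub, mul_sub, smul_mul_assoc, smul_mul_assoc],
      show ι R u * (χ m • x - ι R m * dd χ x) = χ m • (ι R u * x) - ι R u * (ι R m * dd χ x)
        from by rw [mul_sub, mul_smul_comm], huu, hum, smul_zero]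
    abel

theorem exists_map_eq (χ : M →ₗ[R] R) (u : M) (lam : N →ₗ[R] M) (pi : M →ₗ[R] N)
    (h : ∀ m, lam (pi m) = m - χ m • u) (q : ℕ) (y : ⋀[R]^q M)
    (hy : dd χ (y : ExteriorAlgebra R M) = 0) :
    exteriorPower.map q lam (exteriorPower.map q pi y) = y := by
  apply Subtype.ext
  rw [coe_map, coe_map]
  have h1 : ExteriorAlgebra.map lam (ExteriorAlgebra.map pi (y : ExteriorAlgebra R M)) =
      ExteriorAlgebra.map (lam ∘ₗ pi) (y : ExteriorAlgebra R M) := by
    rw [← ExteriorAlgebra.map_comp_map]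
    rfl
  rw [h1, map_sub_smul χ u (lam ∘ₗ pi) (fun m => h m), hy, mul_zero, sub_zero]

theorem dd_map_eq_zero (χ : M →ₗ[R] R) (lam : N →ₗ[R] M) (h : ∀ y, χ (lam y) = 0) (q : ℕ)
    (y : ⋀[R]^q N) :
    dd χ ((exteriorPower.map q lam y : ⋀[R]^q M) : ExteriorAlgebra R M) = 0 := by
  have h0 : χ ∘ₗ lam = 0 := by
    ext y
    exact h y
  rw [coe_map, dd_map, h0, dd_zero, map_zero]

theorem dd_eq_zero_of_smul [Module.Projective R M] (χ : M →ₗ[R] R) (g : R)
    (hg : ∀ r : R, r * g = 0 → r = 0) (q : ℕ) {x : ExteriorAlgebra R M} (hx : x ∈ ⋀[R]^q M)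
    (h : g • dd χ x = 0) : dd χ x = 0 := by
  cases q with
  | zero => exact dd_eq_zero_of_mem_zero χ hx
  | succ p =>
    have h1 : g • (⟨dd χ x, dd_mem_extPow χ p hx⟩ : ⋀[R]^p M) = 0 := Subtype.ext h
    have h2 := extPow_smul_eq_zero g hg p _ h1
    exact congrArg Subtype.val h2

theorem exists_boundary [Module.Projective R M] (s χ : M →ₗ[R] R) (g : R)
    (hs : s = g • χ) (hg : ∀ r : R, r * g = 0 → r = 0) (u : M) (hu : χ u = 1) (q : ℕ)
    {x : ExteriorAlgebra R M} (hx : x ∈ ⋀[R]^q M) (hd : dd s x = 0) :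
    ∃ w ∈ ⋀[R]^(q + 1) M, dd s w = g • x := by
  have h0 : dd χ x = 0 := by
    apply dd_eq_zero_of_smul χ g hg q hx
    rw [← dd_smul, ← hs]
    exact hd
  refine ⟨ι R u * x, ι_mul_mem u q hx, ?_⟩
  rw [hs, dd_smul, exact_of_unit χ u hu h0]

theorem exists_cycle_of_boundary (s χ : M →ₗ[R] R) (g : R) (hs : s = g • χ) (q : ℕ)
    {w : ExteriorAlgebra R M} (hw : w ∈ ⋀[R]^(q + 1) M) :
    ∃ x ∈ ⋀[R]^q M, dd s x = 0 ∧ dd s w = g • x := by
  refine ⟨dd χ w, dd_mem_extPow χ q hw, ?_, ?_⟩
  · rw [hs, dd_smul, dd_dd, smul_zero]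
  · rw [hs, dd_smul]

section Basis

variable {n : ℕ} (b : Module.Basis (Fin n) R M) (c : Module.Basis (Fin (n - 1)) R N)

/-- the embedding of `Fin (n - 1)` in `Fin n` -/
def emb (j : Fin (n - 1)) : Fin n := ⟨j.1, by have := j.2; omega⟩

/-- the last index of `Fin n` (which exists as soon as `Fin (n - 1)` is inhabited) -/
def lst (j : Fin (n - 1)) : Fin n := ⟨n - 1, by have := j.2; omega⟩

/-- the sum of the coordinates -/
noncomputable def chi : M →ₗ[R] R := ∑ i, b.coord i

theorem chi_basis (j : Fin n) : chi b (b j) = 1 := by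
  unfold chi
  rw [LinearMap.sum_apply]
  have h1 : ∀ i ∈ Finset.univ, b.coord i (b j) = if j = i then (1 : R) else 0 := by
    intro i _
    rw [Module.Basis.coord_apply, Module.Basis.repr_self, Finsupp.single_apply]
  rw [Finset.sum_congr rfl h1, Finset.sum_ite_eq, if_pos (Finset.mem_univ j)]

noncomputable def piMap : M →ₗ[R] N :=
  b.constr R (fun i : Fin n => if h : i.1 < n - 1 then c ⟨i.1, h⟩ else 0)

theorem piMap_basis (i : Fin n) :
    piMap b c (b i) = if h : i.1 < n - 1 then c ⟨i.1, h⟩ else 0 := by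
  unfold piMap
  rw [Module.Basis.constr_basis]

noncomputable def uVec : M := if h : 0 < n then b ⟨n - 1, by omega⟩ else 0

theorem part1_facts (lam : N →ₗ[R] M) (hlam : ∀ j, lam (c j) = b (emb j) - b (lst j)) :
    (∀ y, piMap b c (lam y) = y) ∧ (∀ y, chi b (lam y) = 0) ∧
    (∀ m, lam (piMap b c m) = m - chi b m • uVec b) := by
  refine ⟨?_, ?_, ?_⟩
  · intro y
    have h : (piMap b c) ∘ₗ lam = LinearMap.id := by
      apply c.ext
      intro j
      rw [LinearMap.comp_apply, hlam, map_sub, piMap_basis, piMap_basis, LinearMap.id_apply]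
      have h1 : (emb j : Fin n).1 < n - 1 := j.2
      have h2 : ¬ (lst j : Fin n).1 < n - 1 := by
        show ¬ (n - 1 < n - 1)
        omega
      rw [dif_pos h1, dif_neg h2, sub_zero]
      rfl
    exact LinearMap.congr_fun h y
  · intro y
    have h : (chi b) ∘ₗ lam = 0 := by
      apply c.ext
      intro j
      rw [LinearMap.comp_apply, hlam, map_sub, chi_basis, chi_basis, sub_self,
        LinearMap.zero_apply]
    exact LinearMap.congr_fun h y
  · intro m
    have h : lam ∘ₗ (piMap b c) = LinearMap.id - (chi b).smulRight (uVec b) := by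
      apply b.ext
      intro i
      rw [LinearMap.comp_apply, piMap_basis, LinearMap.sub_apply, LinearMap.id_apply,
        LinearMap.smulRight_apply, chi_basis, one_smul]
      have hn : 0 < n := by have := i.2; omega
      have hu : uVec b = b ⟨n - 1, Nat.sub_lt hn Nat.one_pos⟩ := by
        unfold uVec
        rw [dif_pos hn]
      by_cases hi : i.1 < n - 1
      · rw [dif_pos hi, hlam, hu]
        rfl
      · rw [dif_neg hi, map_zero, hu]
        have hi' : i = ⟨n - 1, Nat.sub_lt hn Nat.one_pos⟩ :=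
          Fin.ext (by have := i.2; show i.1 = n - 1; omega)
        exact (sub_eq_zero.mpr (congrArg b hi')).symm
    exact LinearMap.congr_fun h m

theorem part1 (lam : N →ₗ[R] M) (hlam : ∀ j, lam (c j) = b (emb j) - b (lst j)) (q : ℕ) :
    Function.Injective (exteriorPower.map q lam) ∧
    (∀ y : ⋀[R]^q N,
      dd (chi b) ((exteriorPower.map q lam y : ⋀[R]^q M) : ExteriorAlgebra R M) = 0) ∧
    (∀ x : ⋀[R]^q M, dd (chi b) (x : ExteriorAlgebra R M) = 0 →
      ∃ y, exteriorPower.map q lam y = x) := by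
  obtain ⟨h1, h2, h3⟩ := part1_facts b c lam hlam
  refine ⟨?_, ?_, ?_⟩
  · exact exteriorPower.map_injective (n := q) (piMap b c) (by ext y; exact h1 y)
  · intro y
    exact dd_map_eq_zero (chi b) lam h2 q y
  · intro x hx
    exact ⟨exteriorPower.map q (piMap b c) x,
      exists_map_eq (chi b) (uVec b) lam (piMap b c) h3 q x hx⟩

end Basis

end Groth.Agent.Lib.Helper25.CycRing
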