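import Groth.Agent.Lib.Helper25.CycIso
import Groth.Agent.Lib.Helper17.TensorSec
import Groth.Agent.Lib.Helper17.PullBasis

/-!
# Restriction to a closed subscheme commutes with twisting by an invertible module, and the
# identification `(Z_q(K_Y) ⊗ I_D^q)|_D ≅ H_q(K_D) ⊗ I_Y^q`
-/

set_option autoImplicit false
set_option linter.style.haveILetI false
universe u
open CategoryTheory CategoryTheory.Limits AlgebraicGeometry TopologicalSpace Opposite
open Scheme.Modules exteriorPower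

namespace Groth.Agent.Lib.Helper25.CycTens

open Groth.Agent.Lib.Helper3 Groth.Agent.Lib.Helper3.QCSec Groth.Agent.Lib.Helper3.InvGen
  Groth.Agent.Lib.Helper3.InvTensor Groth.Agent.Lib.Helper3.IdealMod Groth.Agent.Lib.Helper17
open Groth.Agent.Lib.Helper25.TorSec Groth.Agent.Lib.Helper25

variable {X : Scheme.{u}}

/-- `(M/JM) ⊗ N ≅ (M ⊗ N)/J(M ⊗ N)` for `N` invertible -/
theorem quot_tensor_iso (J : X.IdealSheafData) (M N : X.Modules) [M.IsQuasicoherent]
    (hN : PicF.IsInvertible N) :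
    haveI : N.IsQuasicoherent :=
      LocFreeCrit.isQuasicoherent_of_isFinLocFree (PullBasis.isFinLocFree_of_isInvertible hN)
    haveI : (CohB1.tensorMod M N).IsQuasicoherent := TensorSec.isQuasicoherent_tensorMod M N
    Nonempty (CohB1.tensorMod (DevStep.quot J M) N ≅ DevStep.quot J (CohB1.tensorMod M N)) := by
  classical
  haveI : N.IsQuasicoherent :=
    LocFreeCrit.isQuasicoherent_of_isFinLocFree (PullBasis.isFinLocFree_of_isInvertible hN)
  haveI : (CohB1.tensorMod M N).IsQuasicoherent := TensorSec.isQuasicoherent_tensorMod M N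
  let Small : X.Opens → Prop := fun V => IsAffineOpen V ∧ ∃ e : Γ(N, V), IsGen N V e
  have hcov : ∀ (W : X.Opens) (x : X), x ∈ W → ∃ V : X.Opens, Small V ∧ x ∈ V ∧ V ≤ W := by
    intro W x hx
    obtain ⟨U, e, hU, hxU, hUW, hg⟩ := exists_affine_isGen_le hN x W hx
    exact ⟨U, ⟨hU, e, hg⟩, hxU, hUW⟩
  obtain ⟨f, hfdef⟩ : ∃ f : CohB1.tensorMod M N ⟶ CohB1.tensorMod (DevStep.quot J M) N,
      f = InvMonoidal.tensorMap (DevStep.proj J M) (𝟙 N) := ⟨_, rfl⟩
  obtain ⟨g, hgdef⟩ : ∃ g : CohB1.tensorMod M N ⟶ DevStep.quot J (CohB1.tensorMod M N),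
      g = DevStep.proj J (CohB1.tensorMod M N) := ⟨_, rfl⟩
  have hf : ∀ (V : X.Opens) (e : Γ(N, V)) (m : Γ(M, V)),
      f.app V (tm M N V m e) = tm (DevStep.quot J M) N V ((DevStep.proj J M).app V m) e := by
    intro V e m
    rw [hfdef]
    exact InvMonoidal.tensorMap_tm (DevStep.proj J M) (𝟙 N) V m e
  haveI : Epi f := by
    apply ModBasis.epi_of_surjective_on_basis
    intro W x hx
    obtain ⟨V, hV, hxV, hVW⟩ := hcov W x hx
    obtain ⟨e, hg⟩ := hV.2
    refine ⟨V, hxV, hVW, fun σ => ?_⟩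
    obtain ⟨y, hy⟩ := TwKosz.exists_tm_eq hg σ
    obtain ⟨m, hm⟩ := DevStep.proj_app_surjective J M ⟨V, hV.1⟩ y
    exact ⟨tm M N V m e, by rw [hf V e m, hm, hy]⟩
  haveI : Epi g := by
    rw [hgdef]
    infer_instance
  have key1 : ∀ (V : X.Opens) (hV : IsAffineOpen V) (e : Γ(N, V)) (_ : IsGen N V e)
      (m : Γ(M, V)), (DevStep.proj J M).app V m = 0 → g.app V (tm M N V m e) = 0 := by
    intro V hV e _ m hm
    have hmem := DevStep.mem_smul_top_of_proj_app_eq_zero J M ⟨V, hV⟩ m hm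
    rw [hgdef]
    refine Submodule.smul_induction_on hmem ?_ ?_
    · intro a ha m' _
      rw [tm_smul_left]
      exact DevStep.proj_app_smul_eq_zero J (CohB1.tensorMod M N) ⟨V, hV⟩ a ha _
    · intro m₁ m₂ h₁ h₂
      rw [tm_add_left, _root_.map_add, h₁, h₂, add_zero]
  have key2 : ∀ (V : X.Opens) (hV : IsAffineOpen V) (e : Γ(N, V)) (hg : IsGen N V e)
      (m : Γ(M, V)), g.app V (tm M N V m e) = 0 → (DevStep.proj J M).app V m = 0 := by
    intro V hV e hg m hm
    rw [hgdef] at hm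
    have hmem := DevStep.mem_smul_top_of_proj_app_eq_zero J (CohB1.tensorMod M N) ⟨V, hV⟩ _ hm
    have aux : ∀ σ ∈ (J.ideal ⟨V, hV⟩) • (⊤ : Submodule Γ(X, V) Γ(CohB1.tensorMod M N, V)),
        (DevStep.proj J M).app V ((TwKosz.tauEquiv M hg).symm σ) = 0 := by
      intro σ hσ
      refine Submodule.smul_induction_on hσ ?_ ?_
      · intro a ha σ' _
        rw [_root_.map_smul]
        exact DevStep.proj_app_smul_eq_zero J M ⟨V, hV⟩ a ha _
      · intro σ₁ σ₂ h₁ h₂
        rw [_root_.map_add, _root_.map_add, h₁, h₂, add_zero]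
    have h1 := aux _ hmem
    rwa [← TwKosz.tauEquiv_apply M hg, LinearEquiv.symm_apply_apply] at h1
  refine CycLoc.nonempty_iso_of_epi f g ?_ ?_
  · apply TwKosz.kernel_comp_eq_zero_of_small Small hcov
    intro V hV σ hσ
    obtain ⟨e, hg⟩ := hV.2
    obtain ⟨m, rfl⟩ := TwKosz.exists_tm_eq hg σ
    rw [hf V e m, TwKosz.tm_eq_zero_iff hg] at hσ
    exact key1 V hV.1 e hg m hσ
  · apply TwKosz.kernel_comp_eq_zero_of_small Small hcov
    intro V hV σ hσ
    obtain ⟨e, hg⟩ := hV.2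
    obtain ⟨m, rfl⟩ := TwKosz.exists_tm_eq hg σ
    rw [hf V e m, TwKosz.tm_eq_zero_iff hg]
    exact key2 V hV.1 e hg m hσ

/-- **`(Z_q(K_Y) ⊗ I_D^q)|_D ≅ H_q(K_D) ⊗ I_Y^q`** -/
theorem part2 (n : ℕ) (I ID : X.IdealSheafData)
    (hI : PicF.IsInvertible (ClSub.idealMod I)) (hD : PicF.IsInvertible (ClSub.idealMod ID))
    (C : KoszSh.Cx (∐ fun _ : Fin n => ClSub.idealMod I)
      (Limits.Sigma.desc fun _ : Fin n => ClSub.idealModι I))
    (CD : KoszSh.Cx (∐ fun _ : Fin n => ClSub.idealMod ID)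
      (Limits.Sigma.desc fun _ : Fin n => ClSub.idealModι ID))
    [hqcD : ∀ p, (CD.K.X p).IsQuasicoherent] (q : ℕ) (L : X.Modules)
    (αC : CohB1.tensorMod L (CohB1.tensorPow (ClSub.idealMod I) q) ≅ C.K.cycles q)
    (αD : CohB1.tensorMod L (CohB1.tensorPow (ClSub.idealMod ID) q) ≅ CD.K.cycles q)
    (hn : 1 ≤ n) :
    Nonempty (DevStep.quot ID
        (CohB1.tensorMod (C.K.cycles q) (CohB1.tensorPow (ClSub.idealMod ID) q)) ≅
      CohB1.tensorMod (CD.K.homology q) (CohB1.tensorPow (ClSub.idealMod I) q)) := by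
  haveI := isQuasicoherent_cycles CD.K q
  haveI : (CohB1.tensorMod L (CohB1.tensorPow (ClSub.idealMod ID) q)).IsQuasicoherent :=
    TorSec.isQuasicoherent_of_iso αD.symm
  obtain ⟨β⟩ := CycLoc.homology_iso_quot ID n CD q hD hn
  obtain ⟨γ⟩ := quot_tensor_iso ID (CohB1.tensorMod L (CohB1.tensorPow (ClSub.idealMod ID) q))
    (CohB1.tensorPow (ClSub.idealMod I) q) (isInvertible_tensorPow hI q)
  let e1 : DevStep.quot ID
        (CohB1.tensorMod (C.K.cycles q) (CohB1.tensorPow (ClSub.idealMod ID) q)) ≅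
      DevStep.quot ID (CohB1.tensorMod (CohB1.tensorMod L (CohB1.tensorPow (ClSub.idealMod I) q))
        (CohB1.tensorPow (ClSub.idealMod ID) q)) :=
    (TorMain.resD ID).mapIso (InvMonoidal.tensorMapIso αC.symm (Iso.refl _))
  let swap : CohB1.tensorMod (CohB1.tensorMod L (CohB1.tensorPow (ClSub.idealMod I) q))
        (CohB1.tensorPow (ClSub.idealMod ID) q) ≅
      CohB1.tensorMod (CohB1.tensorMod L (CohB1.tensorPow (ClSub.idealMod ID) q))
        (CohB1.tensorPow (ClSub.idealMod I) q) :=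
    InvMonoidal.assoc _ _ _ ≪≫ InvMonoidal.tensorMapIso (Iso.refl L) (InvMonoidal.braid _ _) ≪≫
      (InvMonoidal.assoc _ _ _).symm
  let e2 : DevStep.quot ID (CohB1.tensorMod (CohB1.tensorMod L
        (CohB1.tensorPow (ClSub.idealMod I) q)) (CohB1.tensorPow (ClSub.idealMod ID) q)) ≅
      DevStep.quot ID (CohB1.tensorMod (CohB1.tensorMod L
        (CohB1.tensorPow (ClSub.idealMod ID) q)) (CohB1.tensorPow (ClSub.idealMod I) q)) :=
    (TorMain.resD ID).mapIso swap
  let e3 : DevStep.quot ID (CohB1.tensorMod L (CohB1.tensorPow (ClSub.idealMod ID) q)) ≅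
      DevStep.quot ID (CD.K.cycles q) := (TorMain.resD ID).mapIso αD
  exact ⟨e1 ≪≫ e2 ≪≫ γ.symm ≪≫ InvMonoidal.tensorMapIso (e3 ≪≫ β.symm) (Iso.refl _)⟩

end Groth.Agent.Lib.Helper25.CycTens
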