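import Mathlib

/-!
# `F ⊗[R] B` is a field when it is a domain (`R ⊆ B` DVRs with the same uniformizer,
`F` algebraic over `Frac R`)
-/

set_option autoImplicit false
set_option linter.style.haveILetI false
universe u
open TensorProduct

namespace Groth.Agent.Lib.Helper25.FieldTensor

variable (R : Type u) [CommRing R] [IsDomain R] [IsDiscreteValuationRing R]
  (B : Type u) [CommRing B] [IsDomain B] [IsDiscreteValuationRing B] [Algebra R B]

/-- a uniformizer of `R` maps to a uniformizer of `B` -/
theorem irreducible_map (hmB : IsLocalRing.maximalIdeal B =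
      Ideal.map (algebraMap R B) (IsLocalRing.maximalIdeal R)) {ϖ : R} (hϖ : Irreducible ϖ) :
    Irreducible (algebraMap R B ϖ) := by
  rw [IsDiscreteValuationRing.irreducible_iff_uniformizer, hmB, hϖ.maximalIdeal_eq,
    Ideal.map_span, Set.image_singleton]

theorem algebraMap_injective (hmB : IsLocalRing.maximalIdeal B =
      Ideal.map (algebraMap R B) (IsLocalRing.maximalIdeal R)) :
    Function.Injective (algebraMap R B) := by
  obtain ⟨ϖ, hϖ⟩ := IsDiscreteValuationRing.exists_irreducible R
  have hϖ' := irreducible_map R B hmB hϖ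
  rw [injective_iff_map_eq_zero]
  intro r hr
  by_contra hr0
  obtain ⟨n, u, hu⟩ := IsDiscreteValuationRing.eq_unit_mul_pow_irreducible hr0 hϖ
  rw [hu, map_mul, map_pow] at hr
  rcases mul_eq_zero.mp hr with h | h
  · exact (u.isUnit.map (algebraMap R B)).ne_zero h
  · exact pow_ne_zero _ hϖ'.ne_zero h
  
theorem isField_tensor_fraction (hmB : IsLocalRing.maximalIdeal B =
      Ideal.map (algebraMap R B) (IsLocalRing.maximalIdeal R)) :
    IsField (B ⊗[R] FractionRing R) := by
  obtain ⟨ϖ, hϖ⟩ := IsDiscreteValuationRing.exists_irreducible R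
  have hϖ' := irreducible_map R B hmB hϖ
  have hinj := algebraMap_injective R B hmB
  have hM : Algebra.algebraMapSubmonoid B (nonZeroDivisors R) ≤ nonZeroDivisors B := by
    rintro _ ⟨r, hr, rfl⟩
    apply mem_nonZeroDivisors_of_ne_zero
    intro h0
    exact nonZeroDivisors.ne_zero hr (hinj (h0.trans (map_zero _).symm))
  haveI hloc : IsLocalization (Algebra.algebraMapSubmonoid B (nonZeroDivisors R))
      (B ⊗[R] FractionRing R) := IsLocalization.tensor (FractionRing R) (nonZeroDivisors R)
  haveI : IsDomain (B ⊗[R] FractionRing R) :=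
    IsLocalization.isDomain_of_le_nonZeroDivisors (B ⊗[R] FractionRing R) hM
  have hunit : ∀ b : B, b ≠ 0 → IsUnit (algebraMap B (B ⊗[R] FractionRing R) b) := by
    intro b hb
    obtain ⟨n, u, hu⟩ := IsDiscreteValuationRing.eq_unit_mul_pow_irreducible hb hϖ'
    rw [hu, map_mul, map_pow]
    refine (u.isUnit.map _).mul (IsUnit.pow n ?_)
    exact IsLocalization.map_units (B ⊗[R] FractionRing R)
      (⟨algebraMap R B ϖ, ϖ, mem_nonZeroDivisors_of_ne_zero hϖ.ne_zero, rfl⟩ :
        Algebra.algebraMapSubmonoid B (nonZeroDivisors R))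
  refine ⟨exists_pair_ne _, mul_comm, fun {x} hx => ?_⟩
  obtain ⟨b, m, rfl⟩ := IsLocalization.exists_mk'_eq
    (Algebra.algebraMapSubmonoid B (nonZeroDivisors R)) x
  have hb : b ≠ 0 := by
    rintro rfl
    exact hx (IsLocalization.mk'_zero _)
  have h1 : IsLocalization.mk' (B ⊗[R] FractionRing R) b m * algebraMap B _ (m : B) =
      algebraMap B _ b := IsLocalization.mk'_spec _ b m
  have h2 : IsUnit (IsLocalization.mk' (B ⊗[R] FractionRing R) b m) :=
    isUnit_of_mul_isUnit_left (h1 ▸ hunit b hb)
  exact h2.exists_right_inv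

theorem isField_tensor_of_isDomain (hmB : IsLocalRing.maximalIdeal B =
      Ideal.map (algebraMap R B) (IsLocalRing.maximalIdeal R))
    (hdom : IsDomain (AlgebraicClosure (FractionRing R) ⊗[R] B)) :
    IsField (AlgebraicClosure (FractionRing R) ⊗[R] B) := by
  have hL : IsField (FractionRing R ⊗[R] B) :=
    MulEquiv.isField (isField_tensor_fraction R B hmB)
      (Algebra.TensorProduct.comm R (FractionRing R) B).toMulEquiv
  let e1 : (FractionRing R ⊗[R] B) ⊗[FractionRing R] AlgebraicClosure (FractionRing R) ≃+*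
      AlgebraicClosure (FractionRing R) ⊗[R] B :=
    (Algebra.TensorProduct.comm (FractionRing R) (FractionRing R ⊗[R] B)
      (AlgebraicClosure (FractionRing R))).toRingEquiv.trans
    (Algebra.TensorProduct.cancelBaseChange R (FractionRing R)
      (AlgebraicClosure (FractionRing R)) (AlgebraicClosure (FractionRing R)) B).toRingEquiv
  haveI : IsDomain ((FractionRing R ⊗[R] B) ⊗[FractionRing R]
      AlgebraicClosure (FractionRing R)) := e1.toMulEquiv.isDomain _
  have h3 : IsField ((FractionRing R ⊗[R] B) ⊗[FractionRing R]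
      AlgebraicClosure (FractionRing R)) :=
    isField_of_isIntegral_of_isField' (R := FractionRing R ⊗[R] B)
      (S := (FractionRing R ⊗[R] B) ⊗[FractionRing R] AlgebraicClosure (FractionRing R)) hL
  exact MulEquiv.isField h3 e1.symm.toMulEquiv

end Groth.Agent.Lib.Helper25.FieldTensor
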