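import Mathlib
import Groth.Agent.Lib.Helper25.FieldTensor

/-!
# `B ⊗[R] R'` is a DVR (generically finite extension `R'` of a DVR `R` with algebraically closed
residue field, `B` an unramified extension with `F ⊗[R] B` a field)
-/

set_option autoImplicit false
set_option linter.style.haveILetI false
universe u
open TensorProduct Polynomial

namespace Groth.Agent.Lib.Helper25.DVRTensor

section Residue

variable (R : Type u) [CommRing R] [IsDomain R] [IsDiscreteValuationRing R]
  [IsAlgClosed (IsLocalRing.ResidueField R)]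
  (R' : Type u) [CommRing R'] [IsDomain R'] [IsDiscreteValuationRing R'] [Algebra R R']
  [IsLocalHom (algebraMap R R')]

/-- the residue field extension of an algebraic extension of DVRs is trivial when the base residue
field is algebraically closed -/
theorem residue_bijective (hinj : Function.Injective (algebraMap R R'))
    [Algebra.IsAlgebraic R R'] :
    Function.Bijective (algebraMap (IsLocalRing.ResidueField R) (IsLocalRing.ResidueField R')) := by
  classical
  letI : NormalizedGCDMonoid R := Classical.arbitrary _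
  haveI : Module.IsTorsionFree R R' := Module.isTorsionFree_iff_algebraMap_injective.mpr hinj
  haveI : Algebra.IsIntegral (IsLocalRing.ResidueField R) (IsLocalRing.ResidueField R') := by
    refine ⟨fun y => ?_⟩
    obtain ⟨x, rfl⟩ := IsLocalRing.residue_surjective y
    obtain ⟨p, hp0, hp⟩ := Algebra.IsAlgebraic.isAlgebraic (R := R) x
    have hq := Polynomial.aeval_primPart_eq_zero hp0 hp
    have hprim := p.isPrimitive_primPart
    apply IsAlgebraic.isIntegral
    refine ⟨p.primPart.map (IsLocalRing.residue R), ?_, ?_⟩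
    · intro h0
      obtain ⟨ϖ, hϖ⟩ := IsDiscreteValuationRing.exists_irreducible R
      have hdvd : C ϖ ∣ p.primPart := by
        rw [Polynomial.C_dvd_iff_dvd_coeff]
        intro i
        have h1 : IsLocalRing.residue R (p.primPart.coeff i) = 0 := by
          rw [← Polynomial.coeff_map, h0, Polynomial.coeff_zero]
        rw [IsLocalRing.residue_eq_zero_iff, hϖ.maximalIdeal_eq, Ideal.mem_span_singleton] at h1
        exact h1
      exact hϖ.not_isUnit (hprim ϖ hdvd)
    · rw [Polynomial.aeval_def, Polynomial.eval₂_map]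
      have hcomp : (algebraMap (IsLocalRing.ResidueField R) (IsLocalRing.ResidueField R')).comp
          (IsLocalRing.residue R) = (IsLocalRing.residue R').comp (algebraMap R R') := rfl
      rw [hcomp, ← Polynomial.hom_eval₂, ← Polynomial.aeval_def, hq, map_zero]
  exact IsAlgClosed.algebraMap_bijective_of_isIntegral

theorem exists_sub_mem_maximalIdeal (hinj : Function.Injective (algebraMap R R'))
    [Algebra.IsAlgebraic R R'] (x' : R') :
    ∃ r : R, x' - algebraMap R R' r ∈ IsLocalRing.maximalIdeal R' := by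
  obtain ⟨c, hc⟩ := (residue_bijective R R' hinj).2 (IsLocalRing.residue R' x')
  obtain ⟨r, rfl⟩ := IsLocalRing.residue_surjective c
  refine ⟨r, ?_⟩
  rw [← IsLocalRing.residue_eq_zero_iff, map_sub, ← hc, sub_eq_zero]
  rfl

end Residue

section Main

variable (R : Type u) [CommRing R] [IsDomain R] [IsDiscreteValuationRing R]
  (B : Type u) [CommRing B] [IsDomain B] [IsDiscreteValuationRing B] [Algebra R B]
  (R' : Type u) [CommRing R'] [IsDomain R'] [IsDiscreteValuationRing R'] [Algebra R R']

theorem isAlgebraic_of_finite (hinj : Function.Injective (algebraMap R R'))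
    [Module.Finite (FractionRing R) (FractionRing R ⊗[R] R')] : Algebra.IsAlgebraic R R' := by
  haveI : Module.IsTorsionFree R R' := Module.isTorsionFree_iff_algebraMap_injective.mpr hinj
  refine ⟨fun x' => ?_⟩
  have h1 : IsIntegral (FractionRing R) ((1 : FractionRing R) ⊗ₜ[R] x') :=
    Algebra.IsIntegral.isIntegral _
  have h2 : IsAlgebraic R ((1 : FractionRing R) ⊗ₜ[R] x') :=
    (IsFractionRing.isAlgebraic_iff R (FractionRing R) (FractionRing R ⊗[R] R')).mpr
      h1.isAlgebraic
  have hincl : Function.Injective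
      (Algebra.TensorProduct.includeRight : R' →ₐ[R] FractionRing R ⊗[R] R') :=
    Algebra.TensorProduct.includeRight_injective (IsFractionRing.injective R (FractionRing R))
  exact (isAlgebraic_algHom_iff _ hincl).mp h2

variable [IsAlgClosed (IsLocalRing.ResidueField R)]

set_option maxHeartbeats 800000 in
theorem exists_isDomain_isDVR
    (hmB : IsLocalRing.maximalIdeal B = Ideal.map (algebraMap R B) (IsLocalRing.maximalIdeal R))
    (hfield : IsField (AlgebraicClosure (FractionRing R) ⊗[R] B))
    (hinj : Function.Injective (algebraMap R R')) [IsLocalHom (algebraMap R R')]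
    [Module.Finite (FractionRing R) (FractionRing R ⊗[R] R')] :
    ∃ _ : IsDomain (B ⊗[R] R'), IsDiscreteValuationRing (B ⊗[R] R') := by
  classical
  obtain ⟨ϖ, hϖ⟩ := IsDiscreteValuationRing.exists_irreducible R
  obtain ⟨π', hπ'⟩ := IsDiscreteValuationRing.exists_irreducible R'
  have hϖB : Irreducible (algebraMap R B ϖ) := FieldTensor.irreducible_map R B hmB hϖ
  have hinjB : Function.Injective (algebraMap R B) := FieldTensor.algebraMap_injective R B hmB
  haveI : Module.IsTorsionFree R R' := Module.isTorsionFree_iff_algebraMap_injective.mpr hinj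
  haveI : Module.IsTorsionFree R B := Module.isTorsionFree_iff_algebraMap_injective.mpr hinjB
  haveI : FaithfulSMul R B := (faithfulSMul_iff_algebraMap_injective R B).mpr hinjB
  haveI : Module.Flat R B := inferInstance
  haveI : Module.Flat R R' := inferInstance
  haveI halg : Algebra.IsAlgebraic R R' := isAlgebraic_of_finite R R' hinj
  have hinjF : Function.Injective (algebraMap R (AlgebraicClosure (FractionRing R))) := by
    rw [IsScalarTower.algebraMap_eq R (FractionRing R) (AlgebraicClosure (FractionRing R))]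
    exact (algebraMap (FractionRing R) (AlgebraicClosure (FractionRing R))).injective.comp
      (IsFractionRing.injective R (FractionRing R))
  haveI : Module.IsTorsionFree R (AlgebraicClosure (FractionRing R)) :=
    Module.isTorsionFree_iff_algebraMap_injective.mpr hinjF
  let φ : R' →ₐ[R] AlgebraicClosure (FractionRing R) := IsAlgClosed.lift
  have hϖR'0 : algebraMap R R' ϖ ≠ 0 := fun h => hϖ.ne_zero (hinj (h.trans (map_zero _).symm))
  obtain ⟨e, w, hw⟩ := IsDiscreteValuationRing.eq_unit_mul_pow_irreducible hϖR'0 hπ'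
  have he : e ≠ 0 := by
    rintro rfl
    rw [pow_zero, mul_one] at hw
    exact hϖ.not_isUnit (isUnit_of_map_unit (algebraMap R R') ϖ (hw ▸ w.isUnit))
  have hφπ : φ π' ≠ 0 := by
    intro h0
    have h1 : φ (algebraMap R R' ϖ) = 0 := by
      rw [hw, map_mul, map_pow, h0, zero_pow he, mul_zero]
    rw [φ.commutes] at h1
    exact hϖ.ne_zero (hinjF (h1.trans (map_zero _).symm))
  have hφinj : Function.Injective φ := by
    rw [injective_iff_map_eq_zero]
    intro x hx
    by_contra hx0
    obtain ⟨n, v, hv⟩ := IsDiscreteValuationRing.eq_unit_mul_pow_irreducible hx0 hπ'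
    rw [hv, map_mul, map_pow] at hx
    rcases mul_eq_zero.mp hx with h | h
    · exact (v.isUnit.map φ).ne_zero h
    · exact pow_ne_zero n hφπ h
  haveI hdomFB : IsDomain (AlgebraicClosure (FractionRing R) ⊗[R] B) := hfield.isDomain
  haveI hdomBF : IsDomain (B ⊗[R] AlgebraicClosure (FractionRing R)) :=
    (Algebra.TensorProduct.comm R B (AlgebraicClosure (FractionRing R))).toMulEquiv.isDomain _
  let ι : B ⊗[R] R' →ₐ[R] B ⊗[R] AlgebraicClosure (FractionRing R) :=
    Algebra.TensorProduct.map (AlgHom.id R B) φ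
  have hιeq : ∀ x, ι x = (φ.toLinearMap.lTensor B) x := by
    intro x
    induction x with
    | zero => simp
    | tmul b r => simp [ι]
    | add a b ha hb => rw [map_add, map_add, ha, hb]
  have hι : Function.Injective ι := by
    have h1 : Function.Injective (φ.toLinearMap.lTensor B) :=
      Module.Flat.lTensor_preserves_injective_linearMap (M := B) φ.toLinearMap hφinj
    intro x y hxy
    apply h1
    rw [← hιeq, ← hιeq]
    exact hxy
  haveI hdomC : IsDomain (B ⊗[R] R') := Function.Injective.isDomain ι.toRingHom hι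
  refine ⟨hdomC, ?_⟩
  obtain ⟨t, ht⟩ : ∃ t : B ⊗[R] R', t = (1 : B) ⊗ₜ[R] π' := ⟨_, rfl⟩
  have hres := exists_sub_mem_maximalIdeal R R' hinj
  have hmR' : IsLocalRing.maximalIdeal R' = Ideal.span {π'} := hπ'.maximalIdeal_eq
  have hmBspan : IsLocalRing.maximalIdeal B = Ideal.span {algebraMap R B ϖ} := hϖB.maximalIdeal_eq
  have halgB : ∀ b : B, algebraMap B (B ⊗[R] R') b = b ⊗ₜ[R] (1 : R') := fun b => rfl
  -- decomposition modulo `t`
  have hdecomp : ∀ c : B ⊗[R] R', ∃ (b : B) (z : B ⊗[R] R'), c = b ⊗ₜ[R] (1 : R') + t * z := by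
    intro c
    induction c with
    | zero => exact ⟨0, 0, by simp⟩
    | tmul b x' =>
      obtain ⟨r, hr⟩ := hres x'
      rw [hmR', Ideal.mem_span_singleton'] at hr
      obtain ⟨s, hs⟩ := hr
      refine ⟨r • b, b ⊗ₜ[R] s, ?_⟩
      have hx' : x' = r • (1 : R') + π' * s := by
        rw [Algebra.smul_def, mul_one, mul_comm π' s, hs]; ring
      rw [ht, Algebra.TensorProduct.tmul_mul_tmul, one_mul]
      conv_lhs => rw [hx']
      rw [TensorProduct.tmul_add, TensorProduct.tmul_smul, TensorProduct.smul_tmul']
    | add c₁ c₂ h₁ h₂ =>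
      obtain ⟨b₁, z₁, rfl⟩ := h₁
      obtain ⟨b₂, z₂, rfl⟩ := h₂
      exact ⟨b₁ + b₂, z₁ + z₂, by rw [TensorProduct.add_tmul, mul_add]; abel⟩
  have hcase : ∀ c : B ⊗[R] R', (t ∣ c) ∨
      ∃ (v z : B ⊗[R] R'), IsUnit v ∧ c = v + t * z := by
    intro c
    obtain ⟨b, z, rfl⟩ := hdecomp c
    by_cases hb : IsUnit b
    · right
      exact ⟨b ⊗ₜ[R] (1 : R'), z, hb.map (algebraMap B (B ⊗[R] R')), rfl⟩
    · left
      have hbm : b ∈ IsLocalRing.maximalIdeal B := (IsLocalRing.mem_maximalIdeal b).mpr hb
      rw [hmBspan, Ideal.mem_span_singleton'] at hbm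
      obtain ⟨b', hb'⟩ := hbm
      have h1 : algebraMap R R' ϖ ∈ IsLocalRing.maximalIdeal R' := by
        rw [IsLocalRing.mem_maximalIdeal, mem_nonunits_iff]
        intro hu
        exact hϖ.not_isUnit (isUnit_of_map_unit (algebraMap R R') ϖ hu)
      rw [hmR', Ideal.mem_span_singleton'] at h1
      obtain ⟨w', hw'⟩ := h1
      have h2 : b ⊗ₜ[R] (1 : R') = t * (b' ⊗ₜ[R] w') := by
        have e1 : b = ϖ • b' := by rw [Algebra.smul_def, mul_comm]; exact hb'.symm
        have e2 : π' * w' = ϖ • (1 : R') := by
          rw [Algebra.smul_def, mul_one, mul_comm]; exact hw'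
        rw [ht, Algebra.TensorProduct.tmul_mul_tmul, one_mul, e2, e1, TensorProduct.smul_tmul]
      rw [h2, ← mul_add]
      exact dvd_mul_right _ _
  -- `t` is not a unit
  haveI : IsLocalHom (algebraMap R B) := by
    refine ⟨fun r hr => ?_⟩
    by_contra hnu
    have h1 : r ∈ IsLocalRing.maximalIdeal R := (IsLocalRing.mem_maximalIdeal r).mpr hnu
    have h2 : algebraMap R B r ∈ IsLocalRing.maximalIdeal B := by
      rw [hmB]; exact Ideal.mem_map_of_mem _ h1
    exact (IsLocalRing.mem_maximalIdeal _).mp h2 hr
  have hkbij := residue_bijective R R' hinj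
  let ek : IsLocalRing.ResidueField R ≃+* IsLocalRing.ResidueField R' :=
    RingEquiv.ofBijective _ hkbij
  let g0 : R' →+* IsLocalRing.ResidueField B :=
    (algebraMap (IsLocalRing.ResidueField R) (IsLocalRing.ResidueField B)).comp
      (ek.symm.toRingHom.comp (IsLocalRing.residue R'))
  let g : R' →ₐ[R] IsLocalRing.ResidueField B :=
    { g0 with
      commutes' := fun r => by
        change (algebraMap (IsLocalRing.ResidueField R) (IsLocalRing.ResidueField B))
          (ek.symm (IsLocalRing.residue R' (algebraMap R R' r))) =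
          algebraMap R (IsLocalRing.ResidueField B) r
        have h1 : IsLocalRing.residue R' (algebraMap R R' r) = ek (IsLocalRing.residue R r) := rfl
        rw [h1, RingEquiv.symm_apply_apply]
        rfl }
  let ψ : B ⊗[R] R' →ₐ[R] IsLocalRing.ResidueField B :=
    Algebra.TensorProduct.lift (IsScalarTower.toAlgHom R B (IsLocalRing.ResidueField B)) g
      (fun _ _ => Commute.all _ _)
  have hψt : ψ t = 0 := by
    rw [ht, Algebra.TensorProduct.lift_tmul, map_one, one_mul]
    change (algebraMap (IsLocalRing.ResidueField R) (IsLocalRing.ResidueField B))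
      (ek.symm (IsLocalRing.residue R' π')) = 0
    have h0 : IsLocalRing.residue R' π' = 0 :=
      (IsLocalRing.residue_eq_zero_iff _).mpr ((IsLocalRing.mem_maximalIdeal _).mpr hπ'.not_isUnit)
    rw [h0, map_zero, map_zero]
  have htnu : ¬ IsUnit t := fun hu => by
    have h1 := hu.map ψ
    rw [hψt] at h1
    exact not_isUnit_zero h1
  have hincR : Function.Injective
      (Algebra.TensorProduct.includeRight : R' →ₐ[R] B ⊗[R] R') :=
    Algebra.TensorProduct.includeRight_injective hinjB
  have ht0 : t ≠ 0 := by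
    intro h0
    rw [ht] at h0
    exact hπ'.ne_zero (hincR (h0.trans (map_zero _).symm))
  -- nonzero elements of `B` become unit multiples of powers of `t`
  have htpow : ∀ b : B, b ≠ 0 → ∃ (x : B ⊗[R] R') (m : ℕ), IsUnit x ∧
      algebraMap B (B ⊗[R] R') b = x * t ^ m := by
    intro b hb
    obtain ⟨n, u, hu⟩ := IsDiscreteValuationRing.eq_unit_mul_pow_irreducible hb hϖB
    have h1 : (algebraMap R B ϖ) ⊗ₜ[R] (1 : R') = ((1 : B) ⊗ₜ[R] (w : R')) * t ^ e := by
      rw [ht, Algebra.TensorProduct.tmul_pow, one_pow, Algebra.TensorProduct.tmul_mul_tmul,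
        one_mul, ← hw, Algebra.algebraMap_eq_smul_one, TensorProduct.smul_tmul,
        ← Algebra.algebraMap_eq_smul_one]
    have h2 : algebraMap B (B ⊗[R] R') b = algebraMap B (B ⊗[R] R') u *
        (algebraMap B (B ⊗[R] R') (algebraMap R B ϖ)) ^ n := by rw [hu, map_mul, map_pow]
    refine ⟨algebraMap B (B ⊗[R] R') u * ((1 : B) ⊗ₜ[R] (w : R')) ^ n, e * n, ?_, ?_⟩
    · refine (u.isUnit.map _).mul (IsUnit.pow n ?_)
      exact w.isUnit.map (Algebra.TensorProduct.includeRight : R' →ₐ[R] B ⊗[R] R')
    · rw [h2, halgB (algebraMap R B ϖ), h1, mul_pow, ← pow_mul, mul_assoc]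
  haveI : Algebra.IsAlgebraic B (B ⊗[R] R') := inferInstance
  have hdiv : ∀ c : B ⊗[R] R', c ≠ 0 → ∃ (y x : B ⊗[R] R') (m : ℕ), IsUnit x ∧
      c * y = x * t ^ m := by
    intro c hc
    obtain ⟨b, hb0, hdvd⟩ := (Algebra.IsAlgebraic.isAlgebraic (R := B) c).exists_nonzero_dvd
      (mem_nonZeroDivisors_of_ne_zero hc)
    obtain ⟨y, hy⟩ := hdvd
    obtain ⟨x, m, hx, hxm⟩ := htpow b hb0
    exact ⟨y, x, m, hx, by rw [← hy, hxm]⟩
  have hunit_of_not_dvd : ∀ (m : ℕ) (c y x : B ⊗[R] R'), IsUnit x → c * y = x * t ^ m →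
      ¬ t ∣ c → IsUnit c := by
    intro m
    induction m with
    | zero =>
      intro c y x hx h _
      rw [pow_zero, mul_one] at h
      exact isUnit_of_mul_isUnit_left (h ▸ hx)
    | succ m ih =>
      intro c y x hx h hc
      rcases hcase y with ⟨z, rfl⟩ | ⟨v, z, hv, rfl⟩
      · apply ih c z x hx _ hc
        apply mul_left_cancel₀ ht0
        rw [pow_succ] at h
        calc t * (c * z) = c * (t * z) := by ring
          _ = x * (t ^ m * t) := h
          _ = t * (x * t ^ m) := by ring
      · exfalso
        rcases hcase c with hdc | ⟨v', z', hv', rfl⟩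
        · exact hc hdc
        · have h3 : v' * v = t * (x * t ^ m - v' * z - z' * v - t * z' * z) := by
            rw [pow_succ] at h; linear_combination h
          have hu : IsUnit (v' * v) := hv'.mul hv
          rw [h3] at hu
          exact htnu (isUnit_of_mul_isUnit_left hu)
  have hfactor : ∀ (m : ℕ) (c y x : B ⊗[R] R'), c ≠ 0 → IsUnit x → c * y = x * t ^ m →
      ∃ n, Associated (t ^ n) c := by
    intro m
    induction m with
    | zero =>
      intro c y x hc hx h
      refine ⟨0, ?_⟩
      rw [pow_zero, mul_one] at h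
      rw [pow_zero]
      exact (associated_one_iff_isUnit.mpr (isUnit_of_mul_isUnit_left (h ▸ hx))).symm
    | succ m ih =>
      intro c y x hc hx h
      by_cases hdc : t ∣ c
      · obtain ⟨c', rfl⟩ := hdc
        have hc' : c' ≠ 0 := right_ne_zero_of_mul hc
        have h' : c' * y = x * t ^ m := by
          apply mul_left_cancel₀ ht0
          rw [pow_succ] at h
          calc t * (c' * y) = t * c' * y := by ring
            _ = x * (t ^ m * t) := h
            _ = t * (x * t ^ m) := by ring
        obtain ⟨n, hn⟩ := ih c' y x hc' hx h'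
        exact ⟨n + 1, by rw [pow_succ, mul_comm]; exact hn.mul_left t⟩
      · exact ⟨0, by
          rw [pow_zero]
          exact (associated_one_iff_isUnit.mpr (hunit_of_not_dvd (m + 1) c y x hx h hdc)).symm⟩
  have hirr : Irreducible t := by
    rw [irreducible_iff]
    refine ⟨htnu, fun a b hab => ?_⟩
    by_contra hcon
    push_neg at hcon
    obtain ⟨ha, hb⟩ := hcon
    have ha0 : a ≠ 0 := by rintro rfl; rw [zero_mul] at hab; exact ht0 hab
    have hb0 : b ≠ 0 := by rintro rfl; rw [mul_zero] at hab; exact ht0 hab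
    have hda : t ∣ a := by
      by_contra hnd
      obtain ⟨y, x, m, hx, h⟩ := hdiv a ha0
      exact ha (hunit_of_not_dvd m a y x hx h hnd)
    have hdb : t ∣ b := by
      by_contra hnd
      obtain ⟨y, x, m, hx, h⟩ := hdiv b hb0
      exact hb (hunit_of_not_dvd m b y x hx h hnd)
    obtain ⟨a', rfl⟩ := hda
    obtain ⟨b', rfl⟩ := hdb
    have h4 : t * 1 = t * (t * (a' * b')) := by
      rw [mul_one]
      calc t = t * a' * (t * b') := hab
        _ = t * (t * (a' * b')) := by ring
    have h5 := mul_left_cancel₀ ht0 h4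
    exact htnu (IsUnit.of_mul_eq_one (a' * b') h5.symm)
  exact IsDiscreteValuationRing.ofHasUnitMulPowIrreducibleFactorization ⟨t, hirr, fun {c} hc => by
    obtain ⟨y, x, m, hx, h⟩ := hdiv c hc
    exact hfactor m c y x hc hx h⟩

end Main

end Groth.Agent.Lib.Helper25.DVRTensor
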