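import Mathlib
import Groth.Prelude
import Groth.Agent.Lib.Helper23.HilbPK
import Groth.Agent.Lib.Helper23.HilbPH
import Groth.Agent.Lib.Helper23.HilbPC
import Groth.Agent.Lib.Helper3.InvMonoidal

/-!
# Decorated sheaves on curves: multiplicities and the one-step filtration (helper25)
-/

set_option autoImplicit false
set_option linter.style.haveILetI false
universe v u
open CategoryTheory CategoryTheory.Limits AlgebraicGeometry TopologicalSpace Opposite Polynomial

namespace Groth.Agent.Lib.Helper25.DecShA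

open Groth.Agent.Lib.Helper23.HilbP Groth.Agent.Lib.Helper3.InvMonoidal

section Generic

variable {C : Type u} [Category.{v} C] {E : C}

theorem single_msum (P : Subobject E) (hP : P ≠ ⊤) (hP0 : ¬ IsZero (P : C)) (αE : ℤ)
    (α : Subobject E → ℤ) (dE : ℚ) (d : Subobject E → ℚ) :
    (DecSh.WFilt.single P hP hP0).msum αE α dE d = (αE : ℚ) * d P - (α P : ℚ) * dE := by
  unfold DecSh.WFilt.msum
  show ∑ i : Fin 1, (1 : ℚ) * ((αE : ℚ) * d P - (α P : ℚ) * dE) = _
  rw [Fin.sum_univ_one, one_mul]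

theorem single_mu_ge (P : Subobject E) (hP : P ≠ ⊤) (hP0 : ¬ IsZero (P : C)) (αE : ℤ)
    (α : Subobject E → ℤ) {a : ℕ} (N : DecSh.NV E a) (hαE : 0 ≤ αE) :
    (a : ℚ) * (α P : ℚ) - (a : ℚ) * (αE : ℚ) ≤ (DecSh.WFilt.single P hP hP0).mu αE α N := by
  obtain ⟨I, -, hI⟩ := (DecSh.WFilt.single P hP hP0).exists_gam_eq_mu αE α N
  rw [← hI]
  unfold DecSh.WFilt.gam
  show _ ≤ ∑ i : Fin 1, (1 : ℚ) * ((a : ℚ) * (α P : ℚ) -
    ((DecSh.WFilt.single P hP hP0).nu αE α I i : ℚ) * (αE : ℚ))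
  rw [Fin.sum_univ_one, one_mul]
  have hν : (DecSh.WFilt.single P hP hP0).nu αE α I (0 : Fin 1) ≤ a := by
    unfold DecSh.WFilt.nu
    exact (Finset.card_filter_le _ _).trans (by simp)
  have h1 : (((DecSh.WFilt.single P hP hP0).nu αE α I (0 : Fin 1) : ℕ) : ℚ) * (αE : ℚ) ≤
      (a : ℚ) * (αE : ℚ) :=
    mul_le_mul_of_nonneg_right (by exact_mod_cast hν) (by exact_mod_cast hαE)
  linarith

end Generic

variable (k : Type u) [Field k] {X : Scheme.{u}} [X.Over (Spec (CommRingCat.of k))]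

theorem mult_eq_of_iso (L : X.Modules) {F G : X.Modules} (e : F ≅ G) :
    DecSh.mult k X L F = DecSh.mult k X L G := by
  unfold DecSh.mult
  rw [Groth.Agent.Lib.Helper23.FBC.euler_eq_of_iso' k e,
    Groth.Agent.Lib.Helper23.FBC.euler_eq_of_iso' k (tensorMapIso e (Iso.refl L))]

theorem mult_eq_eval (L : X.Modules) {E : X.Modules} {P : ℚ[X]}
    (hP : ShStab.IsHilbPoly k X L E P) :
    (DecSh.mult k X L E : ℚ) = P.eval 1 - P.eval 0 := by
  have h1 := hP 1
  have h0 := hP 0
  have e1 : ShStab.twist X L E 1 ≅ CohB1.tensorMod E L :=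
    tensorMapIso (Iso.refl E) (powOne L).symm
  have e0 : ShStab.twist X L E 0 ≅ E := SecTwist.unitorR E
  rw [Groth.Agent.Lib.Helper23.FBC.euler_eq_of_iso' k e1] at h1
  rw [Groth.Agent.Lib.Helper23.FBC.euler_eq_of_iso' k e0] at h0
  unfold DecSh.mult
  push_cast
  rw [h1, h0]
  simp

/-- the slope inequality for a nonzero proper coherent submodule of a δ-semistable decorated
module of nonnegative multiplicity -/
theorem slope_bound (L E : X.Modules) {D : X.Modules} {a b : ℕ} (T : DecSh.TF E a b D)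
    (δ : ℚ) (hδ : 0 < δ) (hT : T.IsSemistable k L δ) (hαE : 0 ≤ DecSh.mult k X L E)
    (F : X.Modules) (ι : F ⟶ E) [Mono ι] (hF : Coh.IsCoh F) (hF0 : ¬ IsZero F) (hι : ¬ IsIso ι) :
    (DecSh.mult k X L E : ℚ) * (Curv2.euler k X F : ℚ) -
        (DecSh.mult k X L F : ℚ) * (Curv2.euler k X E : ℚ) ≤
      δ * (a : ℚ) * ((DecSh.mult k X L E : ℚ) - (DecSh.mult k X L F : ℚ)) := by
  have hPtop : Subobject.mk ι ≠ ⊤ := fun h => hι ((Subobject.isIso_iff_mk_eq_top ι).2 h)
  let e : ((Subobject.mk ι : Subobject E) : X.Modules) ≅ F := Subobject.underlyingIso ι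
  have hP0 : ¬ IsZero ((Subobject.mk ι : Subobject E) : X.Modules) := fun hz =>
    hF0 (hz.of_iso e.symm)
  have hχ : Curv2.euler k X ((Subobject.mk ι : Subobject E) : X.Modules) = Curv2.euler k X F :=
    Groth.Agent.Lib.Helper23.FBC.euler_eq_of_iso' k e
  have hα : DecSh.mult k X L ((Subobject.mk ι : Subobject E) : X.Modules) =
      DecSh.mult k X L F := mult_eq_of_iso k L e
  have h := hT (DecSh.WFilt.single (Subobject.mk ι) hPtop hP0)
    (fun _ => Groth.Agent.Lib.Helper17.DevBasic.isCoh_of_iso e.symm hF)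
  have hms := single_msum (Subobject.mk ι) hPtop hP0 (DecSh.mult k X L E)
    (fun P => DecSh.mult k X L (P : X.Modules)) (Curv2.euler k X E)
    (fun P => (Curv2.euler k X (P : X.Modules) : ℚ))
  have hmu := single_mu_ge (Subobject.mk ι) hPtop hP0 (DecSh.mult k X L E)
    (fun P => DecSh.mult k X L (P : X.Modules)) T.nv hαE
  have hmu' := mul_le_mul_of_nonneg_left hmu hδ.le
  rw [hms] at h
  simp only [hχ, hα] at h hmu'
  linarith

variable [IsProper (X ↘ Spec (CommRingCat.of k))]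

theorem mult_nonneg (hdim : topologicalKrullDim X = 1) (L : X.Modules) (hL : CohB1.IsAmple L)
    (E : X.Modules) (hE : Coh.IsCoh E) : 0 ≤ DecSh.mult k X L E := by
  obtain ⟨P, hP⟩ := exists_isHilbPoly k X hL E hE
  have hsupp : topologicalKrullDim ↥(CohB1.support E) < ((2 : ℕ) : WithBot ℕ∞) := by
    have h1 : topologicalKrullDim ↥(CohB1.support E) ≤ topologicalKrullDim X :=
      (Topology.IsEmbedding.subtypeVal).isInducing.topologicalKrullDim_le
    rw [hdim] at h1
    exact lt_of_le_of_lt h1 (by exact_mod_cast (show (1 : ℕ) < 2 by norm_num))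
  have hc : ∀ j, 2 ≤ j → P.coeff j = 0 := coeff_eq_zero_of_dim_lt k hL E hE hP 2 hsupp
  have hdeg : P.natDegree ≤ 1 :=
    Polynomial.natDegree_le_iff_coeff_eq_zero.2 (fun N hN => hc N hN)
  have hPeq := Polynomial.eq_X_add_C_of_natDegree_le_one hdeg
  have e1 : P.eval 1 = P.coeff 1 + P.coeff 0 := by
    conv_lhs => rw [hPeq]
    simp
  have e0 : P.eval 0 = P.coeff 0 := by
    conv_lhs => rw [hPeq]
    simp
  have hm : (DecSh.mult k X L E : ℚ) = P.coeff 1 := by
    rw [mult_eq_eval k L hP, e1, e0]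
    ring
  have hc1 : 0 ≤ P.coeff 1 := by
    rcases eq_zero_or_leadingCoeff_pos k hL E hE hP with h0 | hpos
    · rw [h0]
      simp
    · rcases Nat.lt_or_ge P.natDegree 1 with hlt | hge
      · rw [Polynomial.coeff_eq_zero_of_natDegree_lt hlt]
      · have h1 : P.natDegree = 1 := le_antisymm hdeg hge
        have h2 : P.leadingCoeff = P.coeff 1 := by rw [Polynomial.leadingCoeff, h1]
        rw [← h2]
        exact hpos.le
  have h3 : (0 : ℚ) ≤ (DecSh.mult k X L E : ℚ) := hm ▸ hc1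
  exact_mod_cast h3

end Groth.Agent.Lib.Helper25.DecShA
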