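import Mathlib
import Groth.Prelude
import Groth.Agent.Lib.Helper25.DecShA
import Groth.Agent.Lib.Helper7.TFDense
import Groth.Agent.Lib.Helper17.StalkExact
import Groth.Agent.Lib.Helper17.DevBasic
import Groth.Agent.Lib.Helper1.MaxAnnInt
import Groth.Agent.Lib.Helper23.HilbPG
import Groth.Agent.Lib.Helper23.HilbPA
import Groth.Agent.Lib.Helper23.HilbPK

/-!
# Decorated sheaves on curves: bounds for `μ` of a weighted filtration (helper25)
-/

set_option autoImplicit false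
set_option linter.style.haveILetI false
universe v u
open CategoryTheory CategoryTheory.Limits AlgebraicGeometry TopologicalSpace Opposite Polynomial

namespace Groth.Agent.Lib.Helper25.DecShB

open Groth.Agent.Lib.Helper23.HilbP Groth.Agent.Lib.Helper3.InvMonoidal
open Groth.Agent.Lib.Helper25.DecShA

section Generic

variable {C : Type u} [Category.{v} C] {E : C}

theorem nu_le (𝓕 : DecSh.WFilt E) (αE : ℤ) (α : Subobject E → ℤ) {a : ℕ}
    (I : Fin a → Fin (𝓕.t + 1)) (i : Fin 𝓕.t) : 𝓕.nu αE α I i ≤ a := by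
  unfold DecSh.WFilt.nu
  exact (Finset.card_filter_le _ _).trans (by simp)

theorem mulX_le (𝓕 : DecSh.WFilt E) (αE : ℤ) (α : Subobject E → ℤ)
    (h2 : ∀ i, α (𝓕.piece i) ≤ αE) (x : Fin (𝓕.t + 1)) : 𝓕.mulX αE α x ≤ αE := by
  refine Fin.lastCases ?_ (fun i => ?_) x
  · rw [DecSh.WFilt.mulX_last]
  · rw [DecSh.WFilt.mulX_castSucc]
    exact h2 i

theorem nu_eq_of_eq (𝓕 : DecSh.WFilt E) (αE : ℤ) (α : Subobject E → ℤ)
    (h2 : ∀ i, α (𝓕.piece i) ≤ αE) {a : ℕ} (I : Fin a → Fin (𝓕.t + 1)) (i : Fin 𝓕.t)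
    (hi : α (𝓕.piece i) = αE) : 𝓕.nu αE α I i = a := by
  unfold DecSh.WFilt.nu
  rw [Finset.filter_true_of_mem (fun j _ => by rw [hi]; exact mulX_le 𝓕 αE α h2 (I j))]
  simp

theorem term_le (𝓕 : DecSh.WFilt E) (αE : ℤ) (α : Subobject E → ℤ)
    (h2 : ∀ i, α (𝓕.piece i) ≤ αE) (h3 : 1 ≤ αE) {a : ℕ} (I : Fin a → Fin (𝓕.t + 1))
    (i : Fin 𝓕.t) :
    (a : ℚ) * (α (𝓕.piece i) : ℚ) - (𝓕.nu αE α I i : ℚ) * (αE : ℚ) ≤
      (a : ℚ) * ((αE : ℚ) - 1) := by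
  have hA : (0 : ℚ) ≤ (a : ℚ) := Nat.cast_nonneg a
  have he : (1 : ℚ) ≤ (αE : ℚ) := by exact_mod_cast h3
  have hn0 : (0 : ℚ) ≤ (𝓕.nu αE α I i : ℚ) := Nat.cast_nonneg _
  rcases lt_or_eq_of_le (h2 i) with hlt | heq
  · have hx : (α (𝓕.piece i) : ℚ) ≤ (αE : ℚ) - 1 := by
      have h4 : α (𝓕.piece i) ≤ αE - 1 := by omega
      exact_mod_cast h4
    have t1 : (0 : ℚ) ≤ (𝓕.nu αE α I i : ℚ) * (αE : ℚ) := mul_nonneg hn0 (by linarith)
    have t2 : (a : ℚ) * (α (𝓕.piece i) : ℚ) ≤ (a : ℚ) * ((αE : ℚ) - 1) :=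
      mul_le_mul_of_nonneg_left hx hA
    linarith
  · rw [nu_eq_of_eq 𝓕 αE α h2 I i heq, heq]
    have t3 : (0 : ℚ) ≤ (a : ℚ) * ((αE : ℚ) - 1) := mul_nonneg hA (by linarith)
    linarith

theorem term_ge (𝓕 : DecSh.WFilt E) (αE : ℤ) (α : Subobject E → ℤ) (h3 : 0 ≤ αE) {a : ℕ}
    (I : Fin a → Fin (𝓕.t + 1)) (i : Fin 𝓕.t) (h1 : 1 ≤ α (𝓕.piece i)) :
    -((a : ℚ) * ((αE : ℚ) - 1)) ≤
      (a : ℚ) * (α (𝓕.piece i) : ℚ) - (𝓕.nu αE α I i : ℚ) * (αE : ℚ) := by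
  have hA : (0 : ℚ) ≤ (a : ℚ) := Nat.cast_nonneg a
  have he : (0 : ℚ) ≤ (αE : ℚ) := by exact_mod_cast h3
  have hx : (1 : ℚ) ≤ (α (𝓕.piece i) : ℚ) := by exact_mod_cast h1
  have hn : (𝓕.nu αE α I i : ℚ) ≤ (a : ℚ) := by exact_mod_cast nu_le 𝓕 αE α I i
  have t1 : (𝓕.nu αE α I i : ℚ) * (αE : ℚ) ≤ (a : ℚ) * (αE : ℚ) :=
    mul_le_mul_of_nonneg_right hn he
  have t2 : (a : ℚ) * 1 ≤ (a : ℚ) * (α (𝓕.piece i) : ℚ) := mul_le_mul_of_nonneg_left hx hA
  linarith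

theorem abs_mu_le (𝓕 : DecSh.WFilt E) (αE : ℤ) (α : Subobject E → ℤ) {a : ℕ}
    (N : DecSh.NV E a) (h1 : ∀ i, 1 ≤ α (𝓕.piece i)) (h2 : ∀ i, α (𝓕.piece i) ≤ αE) :
    |𝓕.mu αE α N| ≤ (∑ i, 𝓕.wt i) * (a : ℚ) * ((αE : ℚ) - 1) := by
  have h3 : 1 ≤ αE := (h1 ⟨0, 𝓕.t_pos⟩).trans (h2 ⟨0, 𝓕.t_pos⟩)
  obtain ⟨I, -, hI⟩ := 𝓕.exists_gam_eq_mu αE α N
  rw [← hI, abs_le]
  unfold DecSh.WFilt.gam
  constructor
  · calc -((∑ i, 𝓕.wt i) * (a : ℚ) * ((αE : ℚ) - 1))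
        = ∑ i, 𝓕.wt i * (-((a : ℚ) * ((αE : ℚ) - 1))) := by
          rw [← Finset.sum_mul]
          ring
      _ ≤ _ := Finset.sum_le_sum (fun i _ => mul_le_mul_of_nonneg_left
          (term_ge 𝓕 αE α (by omega) I i (h1 i)) (𝓕.wt_pos i).le)
  · calc _ ≤ ∑ i, 𝓕.wt i * ((a : ℚ) * ((αE : ℚ) - 1)) :=
          Finset.sum_le_sum (fun i _ => mul_le_mul_of_nonneg_left
            (term_le 𝓕 αE α h2 h3 I i) (𝓕.wt_pos i).le)
      _ = _ := by
          rw [← Finset.sum_mul]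
          ring

theorem mu_le_mu_sub (𝓕 𝓕₁ : DecSh.WFilt E) (e : Fin 𝓕₁.t → Fin 𝓕.t)
    (hpiece : ∀ j, 𝓕₁.piece j = 𝓕.piece (e j)) (hwt : ∀ j, 𝓕₁.wt j = 𝓕.wt (e j))
    (αE : ℤ) (α : Subobject E → ℤ) {a : ℕ} (N : DecSh.NV E a)
    (h2 : ∀ i, α (𝓕.piece i) ≤ αE) (h3 : 1 ≤ αE) :
    𝓕.mu αE α N ≤ 𝓕₁.mu αE α N +
      ((∑ i, 𝓕.wt i) - ∑ j, 𝓕₁.wt j) * (a : ℚ) * ((αE : ℚ) - 1) := by
  obtain ⟨I₁, hadm, hI₁⟩ := 𝓕₁.exists_gam_eq_mu αE α N
  let ē : Fin (𝓕₁.t + 1) → Fin (𝓕.t + 1) :=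
    Fin.lastCases (Fin.last 𝓕.t) (fun j => (e j).castSucc)
  have hē_last : ē (Fin.last 𝓕₁.t) = Fin.last 𝓕.t := Fin.lastCases_last
  have hē_cs : ∀ j : Fin 𝓕₁.t, ē j.castSucc = (e j).castSucc :=
    fun j => Fin.lastCases_castSucc j
  have hē_piece : ∀ x, 𝓕.pieceX (ē x) = 𝓕₁.pieceX x := by
    intro x
    refine Fin.lastCases ?_ (fun j => ?_) x
    · rw [hē_last, DecSh.WFilt.pieceX_last, DecSh.WFilt.pieceX_last]
    · rw [hē_cs, DecSh.WFilt.pieceX_castSucc, DecSh.WFilt.pieceX_castSucc, hpiece]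
  have hē_mul : ∀ x, 𝓕.mulX αE α (ē x) = 𝓕₁.mulX αE α x := by
    intro x
    refine Fin.lastCases ?_ (fun j => ?_) x
    · rw [hē_last, DecSh.WFilt.mulX_last, DecSh.WFilt.mulX_last]
    · rw [hē_cs, DecSh.WFilt.mulX_castSucc, DecSh.WFilt.mulX_castSucc, hpiece]
  have hadmI : 𝓕.Adm N (fun j => ē (I₁ j)) := by
    show N.nz (fun j => 𝓕.pieceX (ē (I₁ j)))
    have hfun : (fun j => 𝓕.pieceX (ē (I₁ j))) = fun j => 𝓕₁.pieceX (I₁ j) :=
      funext (fun j => hē_piece _)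
    rw [hfun]
    exact hadm
  have hν : ∀ j, 𝓕.nu αE α (fun j => ē (I₁ j)) (e j) = 𝓕₁.nu αE α I₁ j := by
    intro j
    unfold DecSh.WFilt.nu
    simp only [hē_mul, hpiece]
  have hinj : Function.Injective e := by
    intro j j' h
    apply 𝓕₁.piece_strictMono.injective
    rw [hpiece, hpiece, h]
  refine (𝓕.mu_le_gam αE α N hadmI).trans ?_
  rw [← hI₁]
  unfold DecSh.WFilt.gam
  let g : Fin 𝓕.t → ℚ := fun i => 𝓕.wt i * ((a : ℚ) * ((αE : ℚ) - 1)) -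
      𝓕.wt i * ((a : ℚ) * (α (𝓕.piece i) : ℚ) -
        (𝓕.nu αE α (fun j => ē (I₁ j)) i : ℚ) * (αE : ℚ))
  have hf : ∀ i, 0 ≤ g i := by
    intro i
    have h5 := mul_le_mul_of_nonneg_left (term_le 𝓕 αE α h2 h3 (fun j => ē (I₁ j)) i)
      (𝓕.wt_pos i).le
    show 0 ≤ _ - _
    linarith
  have hsub : ∑ i ∈ Finset.univ.image e, g i ≤ ∑ i, g i :=
    Finset.sum_le_sum_of_subset_of_nonneg (Finset.subset_univ _) (fun i _ _ => hf i)
  rw [Finset.sum_image (fun x _ y _ h => hinj h)] at hsub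
  simp only [g, Finset.sum_sub_distrib, ← Finset.sum_mul, hν, ← hwt, ← hpiece] at hsub
  linarith

end Generic

variable {X : Scheme.{u}}

theorem torsionFree_of_mono {F G : X.Modules} (φ : F ⟶ G) [Mono φ]
    (h : TorSh.IsTorsionFree G) : TorSh.IsTorsionFree F := by
  intro x
  haveI := h x
  exact Function.Injective.moduleIsTorsionFree
    (Groth.Agent.Lib.Helper17.StalkExact.stalkLin φ x)
    (Groth.Agent.Lib.Helper17.StalkExact.stalkLin_injective φ x)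
    (fun r m => (Groth.Agent.Lib.Helper17.StalkExact.stalkLin φ x).map_smul r m)

theorem exists_field_point [IsReduced X] [IsLocallyNoetherian X] (F : X.Modules)
    [F.IsQuasicoherent] (hF0 : ¬ IsZero F) (htf : TorSh.IsTorsionFree F) :
    ∃ z : X, z ∈ CohB1.support F ∧ IsField (X.presheaf.stalk z) := by
  obtain ⟨x, hx⟩ := Groth.Agent.Lib.Helper1.MaxAnnInt.support_nonempty F hF0
  have hx' : ¬ Subsingleton (F.presheaf.stalk x) := hx
  by_contra hcon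
  push_neg at hcon
  apply hx'
  refine ⟨fun m m' => ?_⟩
  have key : ∀ t : F.presheaf.stalk x, t = 0 := by
    intro t
    obtain ⟨U, hxU, s, rfl⟩ := TopCat.Presheaf.exists_germ_eq F.presheaf t
    have hs : s = 0 :=
      Groth.Agent.Lib.Helper7.TFGen.section_eq_zero_of_germ_generic F htf U s
        (fun z hz hfield => by
          by_contra hne
          exact hcon z (show ¬ Subsingleton (F.presheaf.stalk z) from
            fun hsub => hne (Subsingleton.elim _ _)) hfield)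
    rw [hs, map_zero]
  rw [key m, key m']

theorem exists_strict_spec [IsNoetherian X] (z : X) (hz : IsField (X.presheaf.stalk z))
    (hno : ¬ IsOpen ({z} : Set X)) : ∃ y' : X, z ⤳ y' ∧ ¬ (y' ⤳ z) := by
  have hncl : ¬ IsClosed ({z} : Set X) := by
    intro hcl
    have hd : Dense (({z} : Set X)ᶜ) := dense_compl_singleton_iff_not_open.2 hno
    have hmem := Groth.Agent.Lib.Helper7.TFGen.mem_of_dense_of_isField z hz
      ⟨({z} : Set X)ᶜ, hcl.isOpen_compl⟩ hd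
    exact hmem rfl
  by_contra hcon
  push_neg at hcon
  apply hncl
  have hcl : closure ({z} : Set X) = {z} := by
    apply Set.Subset.antisymm
    · intro y hy
      have h1 : z ⤳ y := specializes_iff_mem_closure.2 hy
      exact Groth.Agent.Lib.Helper7.TFGen.eq_of_specializes_of_isField z y hz (hcon y h1)
    · exact subset_closure
  rw [← hcl]
  exact isClosed_closure

variable (k : Type u) [Field k] [X.Over (Spec (CommRingCat.of k))]
  [IsProper (X ↘ Spec (CommRingCat.of k))]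

theorem mult_eq_coeff (hdim : topologicalKrullDim X = 1) (L : X.Modules)
    (hL : CohB1.IsAmple L) (E : X.Modules) (hE : Coh.IsCoh E) {P : ℚ[X]}
    (hP : ShStab.IsHilbPoly k X L E P) :
    P.natDegree ≤ 1 ∧ (DecSh.mult k X L E : ℚ) = P.coeff 1 := by
  have hsupp : topologicalKrullDim ↥(CohB1.support E) < ((2 : ℕ) : WithBot ℕ∞) := by
    have h1 : topologicalKrullDim ↥(CohB1.support E) ≤ topologicalKrullDim X :=
      (Topology.IsEmbedding.subtypeVal).isInducing.topologicalKrullDim_le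
    rw [hdim] at h1
    exact lt_of_le_of_lt h1 (by exact_mod_cast (show (1 : ℕ) < 2 by norm_num))
  have hc : ∀ j, 2 ≤ j → P.coeff j = 0 := coeff_eq_zero_of_dim_lt k hL E hE hP 2 hsupp
  have hdeg : P.natDegree ≤ 1 :=
    Polynomial.natDegree_le_iff_coeff_eq_zero.2 (fun N hN => hc N hN)
  have hPeq := Polynomial.eq_X_add_C_of_natDegree_le_one hdeg
  have e1 : P.eval 1 = P.coeff 1 + P.coeff 0 := by
    conv_lhs => rw [hPeq]
    simp
  have e0 : P.eval 0 = P.coeff 0 := by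
    conv_lhs => rw [hPeq]
    simp
  refine ⟨hdeg, ?_⟩
  rw [mult_eq_eval k L hP, e1, e0]
  ring

theorem mult_add (L : X.Modules) (hL : CohB1.IsAmple L) (S : ShortComplex X.Modules)
    (hS : S.ShortExact) (h1 : Coh.IsCoh S.X₁) (h2 : Coh.IsCoh S.X₂) (h3 : Coh.IsCoh S.X₃) :
    DecSh.mult k X L S.X₂ = DecSh.mult k X L S.X₁ + DecSh.mult k X L S.X₃ := by
  obtain ⟨P₁, hP1⟩ := exists_isHilbPoly k X hL S.X₁ h1
  obtain ⟨P₃, hP3⟩ := exists_isHilbPoly k X hL S.X₃ h3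
  have hP2 := isHilbPoly_add k hL.1 S hS h1 h2 h3 hP1 hP3
  have e1 := mult_eq_eval k L hP1
  have e2 := mult_eq_eval k L hP2
  have e3 := mult_eq_eval k L hP3
  have h4 : (DecSh.mult k X L S.X₂ : ℚ) =
      (DecSh.mult k X L S.X₁ : ℚ) + (DecSh.mult k X L S.X₃ : ℚ) := by
    rw [e1, e2, e3]
    simp only [Polynomial.eval_add]
    ring
  exact_mod_cast h4

theorem mult_le_of_mono (hdim : topologicalKrullDim X = 1) (L : X.Modules)
    (hL : CohB1.IsAmple L) {F E : X.Modules} (ι : F ⟶ E) [Mono ι] (hF : Coh.IsCoh F)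
    (hE : Coh.IsCoh E) : DecSh.mult k X L F ≤ DecSh.mult k X L E := by
  have hS : (ShortComplex.mk ι (cokernel.π ι) (cokernel.condition ι)).ShortExact :=
    { exact := ShortComplex.exact_cokernel ι
      mono_f := inferInstanceAs (Mono ι)
      epi_g := inferInstanceAs (Epi (cokernel.π ι)) }
  have hQ : Coh.IsCoh (cokernel ι) :=
    Groth.Agent.Lib.Helper17.DevBasic.isCoh_cokernel ι hF.1 hE
  have hadd := mult_add k L hL _ hS hF hE hQ
  have hnn := mult_nonneg k hdim L hL (cokernel ι) hQ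
  have hadd' : DecSh.mult k X L E = DecSh.mult k X L F + DecSh.mult k X L (cokernel ι) := hadd
  omega

theorem one_le_mult [IsReduced X] (hdim : topologicalKrullDim X = 1)
    (hpure : ∀ x : X, ¬ IsOpen ({x} : Set X)) (L : X.Modules) (hL : CohB1.IsAmple L)
    (F : X.Modules) (hF : Coh.IsCoh F) (hF0 : ¬ IsZero F) (htf : TorSh.IsTorsionFree F) :
    1 ≤ DecSh.mult k X L F := by
  haveI : IsNoetherian X := Groth.Agent.Lib.Helper23.HilbP.isNoetherian_of_isProper k X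
  haveI := hF.1
  haveI := hF.2
  obtain ⟨z, hzs, hzf⟩ := exists_field_point F hF0 htf
  obtain ⟨y', h1, h2⟩ := exists_strict_spec z hzf (hpure z)
  have hCh : Ch 1 z := Ch.succ h1 h2 trivial
  have hdimS : ((1 : ℕ) : WithBot ℕ∞) ≤ topologicalKrullDim ↥(CohB1.support F) :=
    le_dim_of_Ch_mem (Groth.Agent.Lib.Helper1.MaxAnnInt.isClosed_support F) hzs hCh
  obtain ⟨P, hP⟩ := exists_isHilbPoly k X hL F hF
  have hdeg1 : 1 ≤ P.natDegree := dim_le_natDegree k hL F hF hP 1 hdimS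
  obtain ⟨hdeg, hm⟩ := mult_eq_coeff k hdim L hL F hF hP
  have hnd : P.natDegree = 1 := le_antisymm hdeg hdeg1
  have hpos := leadingCoeff_pos k hL F hF hF0 hP
  have h2' : P.leadingCoeff = P.coeff 1 := by rw [Polynomial.leadingCoeff, hnd]
  rw [h2', ← hm] at hpos
  have h5 : 0 < DecSh.mult k X L F := by exact_mod_cast hpos
  omega

end Groth.Agent.Lib.Helper25.DecShB
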