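import Mathlib
import Groth.Prelude
import Groth.Agent.Lib.Helper25.DecShB
import Groth.Agent.Lib.Helper22.SmoothRed
import Groth.Agent.Lib.Helper23.StableEnd
import Groth.Agent.Lib.Helper23.CurveE
import Groth.Agent.Lib.Helper17.LocConstRank
import Groth.Agent.Lib.Helper17.LocFreeRank
import Groth.Agent.Lib.Helper3.LocFreeCrit

/-!
# Decorated sheaves on curves: the slope bound for generalized parabolic tensor fields (helper25)
-/

set_option autoImplicit false
set_option linter.style.haveILetI false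
universe v u
open CategoryTheory CategoryTheory.Limits AlgebraicGeometry TopologicalSpace Opposite Polynomial

namespace Groth.Agent.Lib.Helper25.DecShC

open Groth.Agent.Lib.Helper25.DecShA Groth.Agent.Lib.Helper25.DecShB

variable {X : Scheme.{u}}

theorem torsionFree_of_locFree {E : X.Modules} {r : ℕ} (hE : FlatMod.IsFinLocFreeOfRank r E) :
    TorSh.IsTorsionFree E := by
  intro x
  have h := Groth.Agent.Lib.Helper17.LocFreeRank.isFinLocFree_of_rank hE
  haveI := Groth.Agent.Lib.Helper3.LocFreeCrit.isQuasicoherent_of_isFinLocFree h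
  haveI : Module.Free (X.presheaf.stalk x) (E.presheaf.stalk x) :=
    Groth.Agent.Lib.Helper17.LocConstRank.free_stalk_of_isFinLocFree E h x
  infer_instance

variable (k : Type u) [Field k] [X.Over (Spec (CommRingCat.of k))]
  [IsProper (X ↘ Spec (CommRingCat.of k))]

theorem par_slope_bound [Smooth (X ↘ Spec (CommRingCat.of k))]
    (hdim : topologicalKrullDim X = 1)
    (hpure : ∀ y : X, ¬ IsOpen ({y} : Set X))
    (L : X.Modules) (hL : CohB1.IsAmple L)
    (E : X.Modules) (r : ℕ) (hE : FlatMod.IsFinLocFreeOfRank r E)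
    {ν : ℕ} (I : Fin ν → X.IdealSheafData)
    (K : ∀ i, Submodule k (ParSh.fibD X (I i) E))
    (hK : ∀ i, Module.finrank k (ParSh.fibD X (I i) E ⧸ K i) = r)
    (κ : Fin ν → ℚ) (hκ : ∀ i, 0 < κ i ∧ κ i < 1)
    {D : X.Modules} {a b : ℕ} (T : DecSh.TF E a b D)
    (δ : ℚ) (hδ : 0 < δ) (hT : T.IsParSemistable k I K κ L δ)
    (F : X.Modules) (ι : F ⟶ E) [Mono ι] (hF : Coh.IsCoh F) (hF0 : ¬ IsZero F) (hι : ¬ IsIso ι) :
    (Curv2.euler k X F : ℚ) / (DecSh.mult k X L F : ℚ) ≤
      (Curv2.euler k X E : ℚ) / (DecSh.mult k X L E : ℚ) + ((a : ℚ) * δ + (r : ℚ) * (ν : ℚ)) := by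
  haveI : _root_.IsReduced (CommRingCat.of k) := inferInstanceAs (_root_.IsReduced k)
  haveI : AlgebraicGeometry.IsReduced X :=
    Groth.Agent.Lib.Helper22.SmoothRed.isReduced_of_smooth (X ↘ Spec (CommRingCat.of k))
  have hEc : Coh.IsCoh E := Groth.Agent.Lib.Helper23.Curve.isCoh_of_isFinLocFreeOfRank hE
  have htfE : TorSh.IsTorsionFree E := torsionFree_of_locFree hE
  have htfF : TorSh.IsTorsionFree F := torsionFree_of_mono ι htfE
  have hαF1 : 1 ≤ DecSh.mult k X L F := one_le_mult k hdim hpure L hL F hF hF0 htfF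
  have hαFE : DecSh.mult k X L F ≤ DecSh.mult k X L E := mult_le_of_mono k hdim L hL ι hF hEc
  have hrpos : 0 < r := by
    rcases Nat.eq_zero_or_pos r with h0 | h0
    · exfalso
      subst h0
      exact hF0 (IsZero.of_mono ι (Groth.Agent.Lib.Helper23.StableEnd.isZero_of_rank_zero hE))
    · exact h0
  have hPtop : Subobject.mk ι ≠ ⊤ := fun h => hι ((Subobject.isIso_iff_mk_eq_top ι).2 h)
  let e : ((Subobject.mk ι : Subobject E) : X.Modules) ≅ F := Subobject.underlyingIso ι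
  have hP0 : ¬ IsZero ((Subobject.mk ι : Subobject E) : X.Modules) := fun hz =>
    hF0 (hz.of_iso e.symm)
  have hχ : Curv2.euler k X ((Subobject.mk ι : Subobject E) : X.Modules) = Curv2.euler k X F :=
    Groth.Agent.Lib.Helper23.FBC.euler_eq_of_iso' k e
  have hα : DecSh.mult k X L ((Subobject.mk ι : Subobject E) : X.Modules) =
      DecSh.mult k X L F := mult_eq_of_iso k L e
  have h := hT (DecSh.WFilt.single (Subobject.mk ι) hPtop hP0)
    (fun _ => Groth.Agent.Lib.Helper17.DevBasic.isCoh_of_iso e.symm hF)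
  have hms := single_msum (Subobject.mk ι) hPtop hP0 (DecSh.mult k X L E)
    (fun P => DecSh.mult k X L (P : X.Modules)) (DecSh.parChi k I K κ (𝟙 E))
    (fun P => DecSh.parChi k I K κ P.arrow)
  have hmu := single_mu_ge (Subobject.mk ι) hPtop hP0 (DecSh.mult k X L E)
    (fun P => DecSh.mult k X L (P : X.Modules)) T.nv (by omega)
  have hmu' := mul_le_mul_of_nonneg_left hmu hδ.le
  rw [hms] at h
  have hfin : ∀ i, Module.finrank k
      ((LinearMap.range (ParSh.fibDMap k X (I i) (Subobject.mk ι).arrow)).map (K i).mkQ) ≤ r := by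
    intro i
    haveI : Module.Finite k (ParSh.fibD X (I i) E ⧸ K i) :=
      Module.finite_of_finrank_pos (by rw [hK i]; exact hrpos)
    rw [← hK i]
    exact Submodule.finrank_le _
  have hSE : 0 ≤ ∑ i, κ i * (Module.finrank k
      ((LinearMap.range (ParSh.fibDMap k X (I i) (𝟙 E))).map (K i).mkQ) : ℚ) :=
    Finset.sum_nonneg (fun i _ => mul_nonneg (hκ i).1.le (Nat.cast_nonneg _))
  have hSF : ∑ i, κ i * (Module.finrank k
      ((LinearMap.range (ParSh.fibDMap k X (I i) (Subobject.mk ι).arrow)).map (K i).mkQ) : ℚ) ≤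
      (r : ℚ) * (ν : ℚ) := by
    calc _ ≤ ∑ _i : Fin ν, (r : ℚ) := Finset.sum_le_sum (fun i _ => by
            have hd : (Module.finrank k ((LinearMap.range (ParSh.fibDMap k X (I i)
                (Subobject.mk ι).arrow)).map (K i).mkQ) : ℚ) ≤ (r : ℚ) := by
              exact_mod_cast hfin i
            calc _ ≤ 1 * (r : ℚ) :=
                  mul_le_mul (hκ i).2.le hd (Nat.cast_nonneg _) zero_le_one
              _ = (r : ℚ) := one_mul _)
      _ = (r : ℚ) * (ν : ℚ) := by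
          simp [mul_comm]
  unfold DecSh.parChi at h
  simp only [hχ, hα] at h hmu'
  have hAF1 : (1 : ℚ) ≤ (DecSh.mult k X L F : ℚ) := by exact_mod_cast hαF1
  have hAFE : (DecSh.mult k X L F : ℚ) ≤ (DecSh.mult k X L E : ℚ) := by exact_mod_cast hαFE
  have hAFpos : (0 : ℚ) < (DecSh.mult k X L F : ℚ) := by linarith
  have hAEpos : (0 : ℚ) < (DecSh.mult k X L E : ℚ) := by linarith
  have hA : (0 : ℚ) ≤ (a : ℚ) := Nat.cast_nonneg a
  have t1 := mul_nonneg hAFpos.le hSE
  have t2 := mul_le_mul_of_nonneg_left hSF hAEpos.le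
  have t3 : 0 ≤ δ * (a : ℚ) * (DecSh.mult k X L F : ℚ) :=
    mul_nonneg (mul_nonneg hδ.le hA) hAFpos.le
  have key : (DecSh.mult k X L E : ℚ) * (Curv2.euler k X F : ℚ) -
      (DecSh.mult k X L F : ℚ) * (Curv2.euler k X E : ℚ) ≤
      (DecSh.mult k X L E : ℚ) * ((a : ℚ) * δ + (r : ℚ) * (ν : ℚ)) := by
    linarith
  have hc : 0 ≤ (a : ℚ) * δ + (r : ℚ) * (ν : ℚ) :=
    add_nonneg (mul_nonneg hA hδ.le) (mul_nonneg (Nat.cast_nonneg _) (Nat.cast_nonneg _))
  rw [div_le_iff₀ hAFpos]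
  have hq : (Curv2.euler k X E : ℚ) / (DecSh.mult k X L E : ℚ) * (DecSh.mult k X L E : ℚ) =
      (Curv2.euler k X E : ℚ) := div_mul_cancel₀ _ hAEpos.ne'
  generalize (Curv2.euler k X E : ℚ) / (DecSh.mult k X L E : ℚ) = q at hq ⊢
  have h1 : (DecSh.mult k X L E : ℚ) * ((a : ℚ) * δ + (r : ℚ) * (ν : ℚ)) ≤
      (DecSh.mult k X L E : ℚ) * ((a : ℚ) * δ + (r : ℚ) * (ν : ℚ)) * (DecSh.mult k X L F : ℚ) :=
    le_mul_of_one_le_right (mul_nonneg hAEpos.le hc) hAF1
  have h2 : (DecSh.mult k X L E : ℚ) * (Curv2.euler k X F : ℚ) ≤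
      (DecSh.mult k X L E : ℚ) * ((q + ((a : ℚ) * δ + (r : ℚ) * (ν : ℚ))) *
        (DecSh.mult k X L F : ℚ)) := by
    rw [← hq] at key
    linarith
  exact le_of_mul_le_mul_left h2 hAEpos

end Groth.Agent.Lib.Helper25.DecShC
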