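import Mathlib

/-! Base change of a module to the dual numbers: every element is uniquely `β m₀ + ε • β m₁`. -/

set_option autoImplicit false
open TensorProduct

namespace Groth.Agent.Lib.Helper25.DualBC

variable {k : Type*} [CommRing k] {M N : Type*} [AddCommGroup M] [Module k M]
  [AddCommGroup N] [Module k N] [Module (DualNumber k) N] [IsScalarTower k (DualNumber k) N]
  {β : M →ₗ[k] N}

theorem smul_beta (s : DualNumber k) (m : M) :
    s • β m = β (TrivSqZeroExt.fst s • m) +
      (DualNumber.eps : DualNumber k) • β (TrivSqZeroExt.snd s • m) := by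
  have hs : s = algebraMap k (DualNumber k) (TrivSqZeroExt.fst s) +
      TrivSqZeroExt.snd s • (DualNumber.eps : DualNumber k) := by
    apply TrivSqZeroExt.ext <;> simp [TrivSqZeroExt.algebraMap_eq_inl]
  calc s • β m = (algebraMap k (DualNumber k) (TrivSqZeroExt.fst s) +
        TrivSqZeroExt.snd s • (DualNumber.eps : DualNumber k)) • β m := by rw [← hs]
    _ = TrivSqZeroExt.fst s • β m +
        TrivSqZeroExt.snd s • ((DualNumber.eps : DualNumber k) • β m) := by
      rw [add_smul, algebraMap_smul, smul_assoc]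
    _ = β (TrivSqZeroExt.fst s • m) +
        (DualNumber.eps : DualNumber k) • β (TrivSqZeroExt.snd s • m) := by
      rw [map_smul, map_smul, smul_comm (TrivSqZeroExt.snd s) (DualNumber.eps : DualNumber k) (β m)]

theorem eps_eps_smul (n : N) :
    (DualNumber.eps : DualNumber k) • ((DualNumber.eps : DualNumber k) • n) = 0 := by
  rw [smul_smul, DualNumber.eps_mul_eps, zero_smul]

theorem exists_decomp (hβ : IsBaseChange (DualNumber k) β) (n : N) :
    ∃ m₀ m₁ : M, n = β m₀ + (DualNumber.eps : DualNumber k) • β m₁ := by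
  refine hβ.inductionOn n
    (fun n => ∃ m₀ m₁ : M, n = β m₀ + (DualNumber.eps : DualNumber k) • β m₁) ?_ ?_ ?_ ?_
  · exact ⟨0, 0, by simp⟩
  · intro m
    exact ⟨m, 0, by simp⟩
  · rintro s n ⟨m₀, m₁, rfl⟩
    refine ⟨TrivSqZeroExt.fst s • m₀, TrivSqZeroExt.snd s • m₀ + TrivSqZeroExt.fst s • m₁, ?_⟩
    rw [smul_add, smul_beta s m₀, smul_comm s (DualNumber.eps : DualNumber k) (β m₁),
      smul_beta s m₁, smul_add, eps_eps_smul, add_zero, map_add, smul_add, add_assoc]
  · rintro n₁ n₂ ⟨a0, a1, rfl⟩ ⟨b0, b1, rfl⟩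
    refine ⟨a0 + b0, a1 + b1, ?_⟩
    rw [map_add, map_add, smul_add]
    abel

/-- the coefficient of `1` -/
noncomputable def c0 : DualNumber k ⊗[k] M →ₗ[k] M :=
  TensorProduct.lift ((LinearMap.lsmul k M) ∘ₗ (TrivSqZeroExt.fstHom k k k).toLinearMap)

/-- the coefficient of `ε` -/
noncomputable def c1 : DualNumber k ⊗[k] M →ₗ[k] M :=
  TensorProduct.lift ((LinearMap.lsmul k M) ∘ₗ (TrivSqZeroExt.sndHom k k))

theorem eq_zero_of_decomp_eq_zero (hβ : IsBaseChange (DualNumber k) β) (m₀ m₁ : M)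
    (h : β m₀ + (DualNumber.eps : DualNumber k) • β m₁ = 0) : m₀ = 0 ∧ m₁ = 0 := by
  have h1 := congrArg hβ.equiv.symm h
  rw [map_add, map_smul, hβ.equiv_symm_apply, hβ.equiv_symm_apply, map_zero,
    TensorProduct.smul_tmul', smul_eq_mul, mul_one] at h1
  constructor
  · have h2 := congrArg (c0 (k := k) (M := M)) h1
    simpa [c0] using h2
  · have h2 := congrArg (c1 (k := k) (M := M)) h1
    simpa [c1] using h2

theorem eq_zero_of_eps_smul_eq_zero (hβ : IsBaseChange (DualNumber k) β) (m : M)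
    (h : (DualNumber.eps : DualNumber k) • β m = 0) : m = 0 := by
  refine (eq_zero_of_decomp_eq_zero hβ 0 m ?_).2
  rw [map_zero, zero_add, h]

end Groth.Agent.Lib.Helper25.DualBC
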