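import Mathlib
import Groth.Agent.Lib.Helper17.SpecBC
import Groth.Agent.Lib.Helper1.ModHomMk
import Groth.Agent.Lib.Helper1.ModLocal
import Groth.Agent.Lib.Helper3.PullLemmas
import Groth.Agent.Lib.Helper3.GrProj
import Groth.Agent.Lib.Helper25.DualBC

/-! Infinitesimal automorphisms of the trivial first order deformation `q^* E₀` of a module:
`b ↦ 1 + ε q^* b` is a bijection from `End E₀`. -/

set_option autoImplicit false
set_option linter.style.haveILetI false
universe u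
open CategoryTheory CategoryTheory.Limits AlgebraicGeometry TopologicalSpace Opposite

namespace Groth.Agent.Lib.Helper25.InfAutMod

open Groth.Agent.Lib.Helper17.SpecBC Groth.Agent.Lib.Helper1 Groth.Agent.Lib.Helper3

section MulHom

variable {Y : Scheme.{u}} {B : CommRingCat.{u}} (p : Y ⟶ Spec B) (b : B)

/-- the function on `V` defined by the element `b` of the base ring -/
noncomputable def fn (V : Y.Opens) : Γ(Y, V) := (toSec p V).hom b

theorem fn_res {V V' : Y.Opens} (h : V' ≤ V) :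
    Y.presheaf.map (homOfLE h).op (fn p b V) = fn p b V' := by
  have h1 := Scheme.Hom.appLE_map p
    (show V ≤ p ⁻¹ᵁ (⊤ : (Spec B).Opens) from le_top) (homOfLE h).op
  change (((Scheme.ΓSpecIso B).inv ≫ p.appLE ⊤ V le_top) ≫
      Y.presheaf.map (homOfLE h).op).hom b =
    ((Scheme.ΓSpecIso B).inv ≫ p.appLE ⊤ V' le_top).hom b
  rw [Category.assoc, h1]

/-- multiplication by the function defined by `b` -/
noncomputable def mulHom (M : Y.Modules) : M ⟶ M :=
  ModHomMk.mk M M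
    (fun V => AddMonoidHom.mk' (fun m : Γ(M, V) => fn p b V • m) (fun m m' => smul_add _ m m'))
    (fun V V' h m => by
      change fn p b V' • M.presheaf.map (homOfLE h).op m =
        M.presheaf.map (homOfLE h).op (fn p b V • m)
      rw [Scheme.Modules.map_smul, fn_res])
    (fun V r m => by
      change fn p b V • (r • m) = r • (fn p b V • m)
      exact smul_comm _ _ _)

theorem mulHom_app (M : Y.Modules) (V : Y.Opens) (m : Γ(M, V)) :
    (mulHom p b M).app V m = fn p b V • m := rfl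

theorem mulHom_comm {M M' : Y.Modules} (g : M ⟶ M') :
    mulHom p b M ≫ g = g ≫ mulHom p b M' :=
  ModLocal.hom_ext_affine _ _ (fun V _ m => Scheme.Modules.Hom.app_smul g (fn p b V) m)

theorem mulHom_sq (hb : b * b = 0) (M : Y.Modules) : mulHom p b M ≫ mulHom p b M = 0 :=
  ModLocal.hom_ext_affine _ _ (fun V _ m => by
    change fn p b V • (fn p b V • m) = 0
    have h0 : fn p b V * fn p b V = 0 := by
      unfold fn
      rw [← map_mul, hb, map_zero]
    rw [smul_smul, h0, zero_smul])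

theorem pullback_mulHom_eq_zero {Z : Scheme.{u}} (j : Z ⟶ Y)
    (hj : ∀ V : Y.Opens, j.app V (fn p b V) = 0) (M : Y.Modules) :
    (Scheme.Modules.pullback j).map (mulHom p b M) = 0 := by
  refine ModLocal.pullback_hom_ext j _ _ (fun V _ m => ?_)
  have h1 := PbBasic.pull_app j (mulHom p b M) V m
  have h2 : OmegaSh.pullSect j M V ((mulHom p b M).app V m) = 0 := by
    change OmegaSh.pullSect j M V (fn p b V • m) = 0
    rw [OmegaSh.pullSect_smul, hj V, zero_smul]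
  exact h1.trans h2

end MulHom

section PullPull

theorem pull_pull_eq_zero {A B : Scheme.{u}} (i : A ⟶ B) (q : B ⟶ A) (hiq : i ≫ q = 𝟙 A)
    (M : A.Modules) (U : A.Opens) (m : Γ(M, U))
    (h : PbBasic.pull i ((Scheme.Modules.pullback q).obj M) (q ⁻¹ᵁ U) (PbBasic.pull q M U m) = 0) :
    m = 0 := by
  have e1 : PbBasic.pull (i ≫ q) M U m = 0 := by
    rw [← PullLemmas.pullbackComp_hom_pull i q M U m, h]
    exact map_zero _
  have hW : U ≤ (i ≫ q) ⁻¹ᵁ U := by
    rw [hiq]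
    exact le_rfl
  have e2 : QCSec.res _ (show U ≤ (𝟙 A) ⁻¹ᵁ U from le_rfl) (PbBasic.pull (𝟙 A) M U m) = 0 := by
    rw [← PullLemmas.pullbackCongr_hom_pull hiq M U m U hW (show U ≤ (𝟙 A) ⁻¹ᵁ U from le_rfl), e1,
      QCSec.res_zero]
    exact map_zero _
  have e3 : PbBasic.pull (𝟙 A) M U m = 0 :=
    (QCSec.res_self _ (le_refl ((𝟙 A) ⁻¹ᵁ U)) (PbBasic.pull (𝟙 A) M U m)).symm.trans e2
  have h3 := PullLemmas.pullbackId_hom_pull M U m
  rw [e3] at h3
  exact h3.symm.trans (map_zero _)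

end PullPull

section Main

variable {k : Type u} [Field k] {X₀ Xε : Scheme.{u}} (x : X₀ ⟶ Spec (CommRingCat.of k))
  (q : Xε ⟶ X₀) (p : Xε ⟶ Spec (CommRingCat.of (DualNumber k)))
  (hsq : IsPullback q p x (Spec.map (CommRingCat.ofHom (algebraMap k (DualNumber k)))))
  (i : X₀ ⟶ Xε) (hiq : i ≫ q = 𝟙 X₀)
  (hip : i ≫ p = x ≫ Spec.map (CommRingCat.ofHom (TrivSqZeroExt.fstHom k k k).toRingHom))
  (E₀ : X₀.Modules)

local notation "εk" => (DualNumber.eps : DualNumber k)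

include hip in
theorem i_app_top_eps : i.app ⊤ (fn p εk ⊤) = 0 := by
  have hn := Scheme.ΓSpecIso_inv_naturality
    (CommRingCat.ofHom (TrivSqZeroExt.fstHom k k k).toRingHom)
  have key : (Scheme.ΓSpecIso (CommRingCat.of (DualNumber k))).inv ≫ p.appTop ≫ i.appTop =
      CommRingCat.ofHom (TrivSqZeroExt.fstHom k k k).toRingHom ≫
        (Scheme.ΓSpecIso (CommRingCat.of k)).inv ≫ x.appTop := by
    calc (Scheme.ΓSpecIso (CommRingCat.of (DualNumber k))).inv ≫ p.appTop ≫ i.appTop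
        = (Scheme.ΓSpecIso (CommRingCat.of (DualNumber k))).inv ≫ (i ≫ p).appTop := rfl
      _ = (Scheme.ΓSpecIso (CommRingCat.of (DualNumber k))).inv ≫
          (x ≫ Spec.map (CommRingCat.ofHom (TrivSqZeroExt.fstHom k k k).toRingHom)).appTop := by
        rw [hip]
      _ = ((Scheme.ΓSpecIso (CommRingCat.of (DualNumber k))).inv ≫
          (Spec.map (CommRingCat.ofHom (TrivSqZeroExt.fstHom k k k).toRingHom)).appTop) ≫
            x.appTop := by
        rw [Scheme.Hom.comp_appTop, Category.assoc]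
      _ = _ := by
        rw [← hn, Category.assoc]
  have hpt : p.appLE ⊤ ⊤ le_top = p.appTop := by
    change p.appLE ⊤ (p ⁻¹ᵁ ⊤) le_rfl = p.app ⊤
    exact (Scheme.Hom.app_eq_appLE p).symm
  have h3 := congrArg (fun ψ => ψ.hom εk) key
  have h4 : i.app ⊤ (fn p εk ⊤) =
      ((Scheme.ΓSpecIso (CommRingCat.of (DualNumber k))).inv ≫ p.appTop ≫ i.appTop).hom εk := by
    unfold fn toSec
    rw [hpt]
    rfl
  rw [h4]
  refine h3.trans ?_
  change ((Scheme.ΓSpecIso (CommRingCat.of k)).inv ≫ x.appTop).hom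
    ((TrivSqZeroExt.fstHom k k k).toRingHom εk) = 0
  have h5 : (TrivSqZeroExt.fstHom k k k).toRingHom εk = 0 := by
    change TrivSqZeroExt.fst εk = 0
    exact DualNumber.fst_eps
  rw [h5, map_zero]

include hip in
theorem i_app_eps (V : Xε.Opens) : i.app V (fn p εk V) = 0 := by
  have h1 := congr($(i.naturality (homOfLE (le_top : V ≤ ⊤)).op) (fn p εk ⊤))
  rw [← fn_res p εk (le_top : V ≤ ⊤)]
  refine h1.trans ?_
  change X₀.presheaf.map _ (i.app ⊤ (fn p εk ⊤)) = 0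
  rw [i_app_top_eps x p i hip, map_zero]

variable [E₀.IsQuasicoherent]

theorem pullRes_refl {U : X₀.Opens} (m : Γ(E₀, U)) :
    PbSect.pullRes q E₀ (le_refl (q ⁻¹ᵁ U)) m = OmegaSh.pullSect q E₀ U m := by
  rw [PbSect.pullRes_apply]
  exact QCSec.res_self _ _ _

include hsq in
theorem local_struct {U : X₀.Opens} (hU : IsAffineOpen U) :
    (∀ n : Γ((Scheme.Modules.pullback q).obj E₀, q ⁻¹ᵁ U), ∃ m₀ m₁ : Γ(E₀, U),
      n = OmegaSh.pullSect q E₀ U m₀ + fn p εk (q ⁻¹ᵁ U) • OmegaSh.pullSect q E₀ U m₁) ∧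
    (∀ m₀ m₁ : Γ(E₀, U),
      OmegaSh.pullSect q E₀ U m₀ + fn p εk (q ⁻¹ᵁ U) • OmegaSh.pullSect q E₀ U m₁ = 0 →
        m₀ = 0 ∧ m₁ = 0) := by
  letI mE : Module (CommRingCat.of k) Γ(E₀, U) := modSec x E₀ U
  letI mN : Module (CommRingCat.of (DualNumber k))
      Γ((Scheme.Modules.pullback q).obj E₀, q ⁻¹ᵁ U) :=
    modSec p ((Scheme.Modules.pullback q).obj E₀) (q ⁻¹ᵁ U)
  letI mNk : Module (CommRingCat.of k) Γ((Scheme.Modules.pullback q).obj E₀, q ⁻¹ᵁ U) :=
    Module.compHom _ (algebraMap k (DualNumber k))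
  obtain ⟨tw, β, hβ, hβm⟩ := isBaseChange_pullRes_spec' (A := CommRingCat.of k)
    (B := CommRingCat.of (DualNumber k)) hsq hU E₀
    (inst := (inferInstance : Algebra k (DualNumber k))) (fun r => rfl)
  haveI := tw
  have hβm' : ∀ m, β m = OmegaSh.pullSect q E₀ U m :=
    fun m => (hβm m).trans (pullRes_refl q E₀ m)
  refine ⟨fun n => ?_, fun m₀ m₁ h => ?_⟩
  · obtain ⟨m₀, m₁, h⟩ := DualBC.exists_decomp (k := k) hβ n
    refine ⟨m₀, m₁, ?_⟩
    rw [← hβm' m₀, ← hβm' m₁]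
    exact h
  · refine DualBC.eq_zero_of_decomp_eq_zero (k := k) hβ m₀ m₁ ?_
    rw [hβm' m₀, hβm' m₁]
    exact h

/-- `ψ (q^* m) = ε • q^* m₁` over `U` -/
def Rel (ψ : (Scheme.Modules.pullback q).obj E₀ ⟶ (Scheme.Modules.pullback q).obj E₀)
    (U : X₀.Opens) (m m₁ : Γ(E₀, U)) : Prop :=
  ψ.app (q ⁻¹ᵁ U) (OmegaSh.pullSect q E₀ U m) =
    fn p εk (q ⁻¹ᵁ U) • OmegaSh.pullSect q E₀ U m₁

variable {ψ : (Scheme.Modules.pullback q).obj E₀ ⟶ (Scheme.Modules.pullback q).obj E₀}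

include hsq in
theorem rel_unique {U : X₀.Opens} (hU : IsAffineOpen U) {m m₁ m₁' : Γ(E₀, U)}
    (h : Rel q p E₀ ψ U m m₁) (h' : Rel q p E₀ ψ U m m₁') : m₁ = m₁' := by
  unfold Rel at h h'
  have h3 : OmegaSh.pullSect q E₀ U 0 +
      fn p εk (q ⁻¹ᵁ U) • OmegaSh.pullSect q E₀ U (m₁ - m₁') = 0 := by
    rw [map_zero, zero_add, map_sub, smul_sub, ← h, ← h', sub_self]
  exact sub_eq_zero.mp ((local_struct x q p hsq E₀ hU).2 0 (m₁ - m₁') h3).2

theorem rel_add {U : X₀.Opens} {m m' a a' : Γ(E₀, U)}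
    (h : Rel q p E₀ ψ U m a) (h' : Rel q p E₀ ψ U m' a') : Rel q p E₀ ψ U (m + m') (a + a') := by
  unfold Rel at *
  rw [map_add, map_add, map_add, smul_add, h, h']

theorem rel_smul {U : X₀.Opens} {m m₁ : Γ(E₀, U)} (a : Γ(X₀, U))
    (h : Rel q p E₀ ψ U m m₁) : Rel q p E₀ ψ U (a • m) (a • m₁) := by
  unfold Rel at *
  rw [OmegaSh.pullSect_smul, Scheme.Modules.Hom.app_smul, h, OmegaSh.pullSect_smul, smul_comm]

theorem rel_res {U U' : X₀.Opens} (hUU' : U' ≤ U) {m m₁ : Γ(E₀, U)}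
    (h : Rel q p E₀ ψ U m m₁) :
    Rel q p E₀ ψ U' (E₀.presheaf.map (homOfLE hUU').op m) (E₀.presheaf.map (homOfLE hUU').op m₁) := by
  unfold Rel at *
  have e : q ⁻¹ᵁ U' ≤ q ⁻¹ᵁ U := q.preimage_mono hUU'
  calc ψ.app (q ⁻¹ᵁ U') (OmegaSh.pullSect q E₀ U' (E₀.presheaf.map (homOfLE hUU').op m))
      = ψ.app (q ⁻¹ᵁ U') (((Scheme.Modules.pullback q).obj E₀).presheaf.map (homOfLE e).op
          (OmegaSh.pullSect q E₀ U m)) := by rw [OmegaSh.pullSect_map q E₀ hUU' m]
    _ = ((Scheme.Modules.pullback q).obj E₀).presheaf.map (homOfLE e).op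
          (ψ.app (q ⁻¹ᵁ U) (OmegaSh.pullSect q E₀ U m)) := QCExact.app_res' ψ e _
    _ = ((Scheme.Modules.pullback q).obj E₀).presheaf.map (homOfLE e).op
          (fn p εk (q ⁻¹ᵁ U) • OmegaSh.pullSect q E₀ U m₁) := by rw [h]
    _ = Xε.presheaf.map (homOfLE e).op (fn p εk (q ⁻¹ᵁ U)) •
          ((Scheme.Modules.pullback q).obj E₀).presheaf.map (homOfLE e).op
            (OmegaSh.pullSect q E₀ U m₁) := Scheme.Modules.map_smul _ (homOfLE e) _ _
    _ = fn p εk (q ⁻¹ᵁ U') •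
          OmegaSh.pullSect q E₀ U' (E₀.presheaf.map (homOfLE hUU').op m₁) := by
      rw [fn_res, OmegaSh.pullSect_map q E₀ hUU' m₁]

include hsq hiq hip in
theorem rel_exists (hψ : (Scheme.Modules.pullback i).map ψ = 0) {U : X₀.Opens}
    (hU : IsAffineOpen U) (m : Γ(E₀, U)) : ∃ m₁, Rel q p E₀ ψ U m m₁ := by
  obtain ⟨m₀, m₁, h⟩ := (local_struct x q p hsq E₀ hU).1
    (ψ.app (q ⁻¹ᵁ U) (OmegaSh.pullSect q E₀ U m))
  have hm₀ : m₀ = 0 := by
    apply pull_pull_eq_zero i q hiq E₀ U m₀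
    have h1 := PbBasic.pull_app i ψ (q ⁻¹ᵁ U) (OmegaSh.pullSect q E₀ U m)
    rw [hψ] at h1
    have h2 : OmegaSh.pullSect i _ (q ⁻¹ᵁ U)
        (ψ.app (q ⁻¹ᵁ U) (OmegaSh.pullSect q E₀ U m)) = 0 := h1.symm
    rw [h, map_add, OmegaSh.pullSect_smul, i_app_eps x p i hip, zero_smul, add_zero] at h2
    exact h2
  refine ⟨m₁, ?_⟩
  unfold Rel
  rw [h, hm₀, map_zero, zero_add]

include hsq hiq hip in
theorem exists_eq_mulHom_comp (ψ : (Scheme.Modules.pullback q).obj E₀ ⟶ (Scheme.Modules.pullback q).obj E₀)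
    (hψ : (Scheme.Modules.pullback i).map ψ = 0) :
    ∃ c : E₀ ⟶ E₀, ψ = mulHom p εk ((Scheme.Modules.pullback q).obj E₀) ≫
      (Scheme.Modules.pullback q).map c := by
  have hex : ∀ (U : X₀.Opens) (hU : IsAffineOpen U) (m : Γ(E₀, U)), ∃ m₁, Rel q p E₀ ψ U m m₁ :=
    fun U hU m => rel_exists x q p hsq i hiq hip E₀ hψ hU m
  choose D hD using hex
  obtain ⟨c, hc⟩ := GrProj.exists_hom_of_basis (M := E₀) (N := E₀) (fun U => IsAffineOpen U)
    (fun W y hy => by
      obtain ⟨_, ⟨V, hV, rfl⟩, hyV, hVW⟩ :=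
        X₀.isBasis_affineOpens.exists_subset_of_mem_open hy W.2
      exact ⟨V, hV, hyV, hVW⟩)
    D
    (fun V hV s s' => rel_unique x q p hsq E₀ hV (hD V hV (s + s'))
      (rel_add q p E₀ (hD V hV s) (hD V hV s')))
    (fun V hV a s => rel_unique x q p hsq E₀ hV (hD V hV (a • s))
      (rel_smul q p E₀ a (hD V hV s)))
    (fun {V V'} h hV hV' s => (rel_unique x q p hsq E₀ hV' (hD V' hV' _)
      (rel_res q p E₀ h (hD V hV s))).symm)
  refine ⟨c, ModLocal.pullback_hom_ext q _ _ (fun U hU m => ?_)⟩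
  have h1 : (mulHom p εk ((Scheme.Modules.pullback q).obj E₀) ≫
      (Scheme.Modules.pullback q).map c).app (q ⁻¹ᵁ U) (OmegaSh.pullSect q E₀ U m) =
      fn p εk (q ⁻¹ᵁ U) • OmegaSh.pullSect q E₀ U (c.app U m) := by
    change ((Scheme.Modules.pullback q).map c).app (q ⁻¹ᵁ U)
      (fn p εk (q ⁻¹ᵁ U) • OmegaSh.pullSect q E₀ U m) = _
    rw [Scheme.Modules.Hom.app_smul]
    exact congrArg (fun y => fn p εk (q ⁻¹ᵁ U) • y) (PbBasic.pull_app q c U m)
  rw [h1, hc U hU m]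
  exact hD U hU m

include hsq in
theorem eq_zero_of_mulHom_comp_eq_zero (c : E₀ ⟶ E₀)
    (h : mulHom p εk ((Scheme.Modules.pullback q).obj E₀) ≫
      (Scheme.Modules.pullback q).map c = 0) : c = 0 := by
  refine ModLocal.hom_ext_affine _ _ (fun U hU m => ?_)
  have h1 := congrArg (fun ψ => Scheme.Modules.Hom.app ψ (q ⁻¹ᵁ U)
    (OmegaSh.pullSect q E₀ U m)) h
  have h2 : (mulHom p εk ((Scheme.Modules.pullback q).obj E₀) ≫
      (Scheme.Modules.pullback q).map c).app (q ⁻¹ᵁ U) (OmegaSh.pullSect q E₀ U m) =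
      fn p εk (q ⁻¹ᵁ U) • OmegaSh.pullSect q E₀ U (c.app U m) := by
    change ((Scheme.Modules.pullback q).map c).app (q ⁻¹ᵁ U)
      (fn p εk (q ⁻¹ᵁ U) • OmegaSh.pullSect q E₀ U m) = _
    rw [Scheme.Modules.Hom.app_smul]
    exact congrArg (fun y => fn p εk (q ⁻¹ᵁ U) • y) (PbBasic.pull_app q c U m)
  have h3 : OmegaSh.pullSect q E₀ U 0 +
      fn p εk (q ⁻¹ᵁ U) • OmegaSh.pullSect q E₀ U (c.app U m) = 0 := by
    rw [map_zero, zero_add, ← h2]
    exact h1
  exact ((local_struct x q p hsq E₀ hU).2 0 (c.app U m) h3).2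

/-! ### The automorphisms `1 + ε q^* b` -/

/-- `1 + ε q^* b` -/
noncomputable def Phi (b : E₀ ⟶ E₀) :
    (Scheme.Modules.pullback q).obj E₀ ⟶ (Scheme.Modules.pullback q).obj E₀ :=
  𝟙 _ + mulHom p εk ((Scheme.Modules.pullback q).obj E₀) ≫ (Scheme.Modules.pullback q).map b

theorem Phi_comp (b b' : E₀ ⟶ E₀) : Phi q p E₀ b ≫ Phi q p E₀ b' = Phi q p E₀ (b + b') := by
  haveI : (Scheme.Modules.pullback q).Additive :=
    (Scheme.Modules.pullbackPushforwardAdjunction q).left_adjoint_additive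
  have hμμ := mulHom_sq p εk DualNumber.eps_mul_eps ((Scheme.Modules.pullback q).obj E₀)
  have hμc := mulHom_comm p εk ((Scheme.Modules.pullback q).map b)
  have hz : (mulHom p εk ((Scheme.Modules.pullback q).obj E₀) ≫ (Scheme.Modules.pullback q).map b) ≫
      (mulHom p εk ((Scheme.Modules.pullback q).obj E₀) ≫ (Scheme.Modules.pullback q).map b') = 0 := by
    rw [Category.assoc, ← Category.assoc ((Scheme.Modules.pullback q).map b), ← hμc, Category.assoc,
      ← Category.assoc (mulHom p εk ((Scheme.Modules.pullback q).obj E₀)), hμμ, zero_comp]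
  unfold Phi
  rw [Preadditive.add_comp, Preadditive.comp_add, Preadditive.comp_add, hz, Category.id_comp,
    Category.id_comp, Category.comp_id, add_zero, Functor.map_add, Preadditive.comp_add]
  abel

theorem Phi_zero : Phi q p E₀ 0 = 𝟙 _ := by
  unfold Phi
  rw [Functor.map_zero, comp_zero, add_zero]

/-- the automorphism `1 + ε q^* b` -/
noncomputable def PhiIso (b : E₀ ⟶ E₀) :
    (Scheme.Modules.pullback q).obj E₀ ≅ (Scheme.Modules.pullback q).obj E₀ where
  hom := Phi q p E₀ b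
  inv := Phi q p E₀ (-b)
  hom_inv_id := by rw [Phi_comp, add_neg_cancel, Phi_zero]
  inv_hom_id := by rw [Phi_comp, neg_add_cancel, Phi_zero]

include hip in
theorem pullback_Phi (b : E₀ ⟶ E₀) :
    (Scheme.Modules.pullback i).map (Phi q p E₀ b) = 𝟙 _ := by
  haveI : (Scheme.Modules.pullback i).Additive :=
    (Scheme.Modules.pullbackPushforwardAdjunction i).left_adjoint_additive
  unfold Phi
  rw [Functor.map_add, Functor.map_comp,
    pullback_mulHom_eq_zero p εk i (i_app_eps x p i hip), zero_comp, add_zero,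
    CategoryTheory.Functor.map_id]

include hsq in
theorem Phi_injective {b b' : E₀ ⟶ E₀} (h : Phi q p E₀ b = Phi q p E₀ b') : b = b' := by
  haveI : (Scheme.Modules.pullback q).Additive :=
    (Scheme.Modules.pullbackPushforwardAdjunction q).left_adjoint_additive
  unfold Phi at h
  have h1 := add_left_cancel h
  have h2 : mulHom p εk ((Scheme.Modules.pullback q).obj E₀) ≫
      (Scheme.Modules.pullback q).map (b - b') = 0 := by
    rw [Functor.map_sub, Preadditive.comp_sub, h1, sub_self]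
  exact sub_eq_zero.mp (eq_zero_of_mulHom_comp_eq_zero x q p hsq E₀ _ h2)

include hsq hiq hip in
theorem exists_Phi_eq (φ : (Scheme.Modules.pullback q).obj E₀ ⟶ (Scheme.Modules.pullback q).obj E₀)
    (hφ : (Scheme.Modules.pullback i).map φ = 𝟙 _) : ∃ b : E₀ ⟶ E₀, Phi q p E₀ b = φ := by
  haveI : (Scheme.Modules.pullback i).Additive :=
    (Scheme.Modules.pullbackPushforwardAdjunction i).left_adjoint_additive
  have h0 : (Scheme.Modules.pullback i).map (φ - 𝟙 _) = 0 := by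
    rw [Functor.map_sub, hφ, CategoryTheory.Functor.map_id, sub_self]
  obtain ⟨c, hc⟩ := exists_eq_mulHom_comp x q p hsq i hiq hip E₀ (φ - 𝟙 _) h0
  refine ⟨c, ?_⟩
  unfold Phi
  rw [← hc]
  abel

end Main

end Groth.Agent.Lib.Helper25.InfAutMod
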