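import Mathlib
import Groth.Agent.Lib.Helper25.InfAutMod
import Groth.Agent.Lib.Helper3.ToProj
import Groth.Agent.Lib.Helper3.ModBasis
import Groth.Agent.Lib.Helper1.SecSch

/-! Functions on the trivial first order deformation `Xε = X₀ ×_k k[ε]`:
every function on `q⁻¹U` killed by restriction to `X₀` is uniquely `ε · q♯ t`. -/

set_option autoImplicit false
set_option linter.style.haveILetI false
set_option linter.unusedSectionVars false
universe u
open CategoryTheory CategoryTheory.Limits AlgebraicGeometry TopologicalSpace Opposite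

namespace Groth.Agent.Lib.Helper25.InfAutSchA

open Groth.Agent.Lib.Helper17.SpecBC Groth.Agent.Lib.Helper1 Groth.Agent.Lib.Helper3
open Groth.Agent.Lib.Helper3.QCSec
open Groth.Agent.Lib.Helper25.InfAutMod

section General

theorem appLE_of_eq {X Y : Scheme.{u}} {f g : X ⟶ Y} (h : f = g) (U : Y.Opens) (V : X.Opens)
    (e : V ≤ f ⁻¹ᵁ U) : f.appLE U V e = g.appLE U V (h ▸ e) := by
  subst h; rfl

theorem app_rres {X Y : Scheme.{u}} (f : X ⟶ Y) {U V : Y.Opens} (h : V ≤ U) (s : Γ(Y, U)) :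
    f.app V (rres Y h s) = rres X (f.preimage_mono h) (f.app U s) :=
  congr($(f.naturality (homOfLE h).op) s)

theorem appLE_rres' {X Y : Scheme.{u}} (f : X ⟶ Y) {U U' : Y.Opens} (hU : U' ≤ U) {V V' : X.Opens}
    (hV : V' ≤ V) (e : V ≤ f ⁻¹ᵁ U) (e' : V' ≤ f ⁻¹ᵁ U') (s : Γ(Y, U)) :
    f.appLE U' V' e' (rres Y hU s) = rres X hV (f.appLE U V e s) := by
  have h1 := congrArg (fun φ => φ.hom s) (Scheme.Hom.map_appLE f e' (homOfLE hU).op)
  have h2 := congrArg (fun φ => φ.hom s) (Scheme.Hom.appLE_map f e (homOfLE hV).op)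
  exact h1.trans h2.symm

theorem strSect_eq_zero {X : Scheme.{u}} (U : X.Opens) (t : Γ(X, U))
    (h : ∀ y : X, y ∈ U → ∃ (V : X.Opens) (hV : V ≤ U), y ∈ V ∧ rres X hV t = 0) : t = 0 :=
  ModBasis.eq_zero_of_locally_zero (Coh.structureModule X) U (OmegaSh.strSect X U t) h

theorem comap_fst_surjective (k : Type u) [Field k] :
    Function.Surjective (PrimeSpectrum.comap (TrivSqZeroExt.fstHom k k k).toRingHom) := by
  intro y
  have hsurj : Function.Surjective (TrivSqZeroExt.fstHom k k k).toRingHom :=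
    fun r => ⟨TrivSqZeroExt.inl r, rfl⟩
  have hr := _root_.range_comap_of_surjective k (TrivSqZeroExt.fstHom k k k).toRingHom hsurj
  have hy : y ∈ PrimeSpectrum.zeroLocus
      (RingHom.ker (TrivSqZeroExt.fstHom k k k).toRingHom : Set (DualNumber k)) := by
    rw [PrimeSpectrum.mem_zeroLocus]
    intro z hz
    have hz0 : (TrivSqZeroExt.fstHom k k k).toRingHom z = 0 := RingHom.mem_ker.mp hz
    have hz0' : TrivSqZeroExt.fst z = 0 := hz0
    have hz2 : z * z = 0 := by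
      apply TrivSqZeroExt.ext <;> simp [hz0']
    have hmem : z * z ∈ y.asIdeal := by
      rw [hz2]; exact Ideal.zero_mem _
    exact (y.isPrime.mem_or_mem hmem).elim id id
  rw [← hr] at hy
  exact hy

end General

section Main

variable {k : Type u} [Field k] {X₀ Xε : Scheme.{u}} (x : X₀ ⟶ Spec (CommRingCat.of k))
  (q : Xε ⟶ X₀) (p : Xε ⟶ Spec (CommRingCat.of (DualNumber k)))
  (hsq : IsPullback q p x (Spec.map (CommRingCat.ofHom (algebraMap k (DualNumber k)))))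
  (i : X₀ ⟶ Xε) (hiq : i ≫ q = 𝟙 X₀)
  (hip : i ≫ p = x ≫ Spec.map (CommRingCat.ofHom (TrivSqZeroExt.fstHom k k k).toRingHom))

local notation "εk" => (DualNumber.eps : DualNumber k)

theorem eps_mul_eps (V : Xε.Opens) : fn p εk V * fn p εk V = 0 := by
  unfold fn
  rw [← map_mul, DualNumber.eps_mul_eps, map_zero]

theorem appLE_fn {φ : Xε ⟶ Xε} (hφ : φ ≫ p = p) (b : DualNumber k) (W W' : Xε.Opens)
    (e : W ≤ φ ⁻¹ᵁ W') : φ.appLE W' W e (fn p b W') = fn p b W := by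
  have h1 := Scheme.Hom.appLE_comp_appLE φ p ⊤ W' W le_top e
  have h2 := appLE_of_eq hφ ⊤ W le_top
  have h3 := congrArg (fun ψ => ψ.hom ((Scheme.ΓSpecIso (CommRingCat.of (DualNumber k))).inv.hom b))
    (h1.trans h2)
  exact h3

include hsq in
theorem fn_struct {U : X₀.Opens} (hU : IsAffineOpen U) :
    (∀ g : Γ(Xε, q ⁻¹ᵁ U), ∃ a b : Γ(X₀, U),
      g = q.app U a + fn p εk (q ⁻¹ᵁ U) * q.app U b) ∧
    (∀ a b : Γ(X₀, U), q.app U a + fn p εk (q ⁻¹ᵁ U) * q.app U b = 0 → a = 0 ∧ b = 0) := by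
  have hpo := isPushout_sections hsq hU
  letI aAR : Algebra k Γ(X₀, U) := (toSec x U).hom.toAlgebra
  letI aBR' : Algebra (DualNumber k) Γ(Xε, q ⁻¹ᵁ U) := (toSec p (q ⁻¹ᵁ U)).hom.toAlgebra
  letI aRR' : Algebra Γ(X₀, U) Γ(Xε, q ⁻¹ᵁ U) := (q.appLE U (q ⁻¹ᵁ U) le_rfl).hom.toAlgebra
  letI aAR' : Algebra k Γ(Xε, q ⁻¹ᵁ U) :=
    ((algebraMap (DualNumber k) Γ(Xε, q ⁻¹ᵁ U)).comp (algebraMap k (DualNumber k))).toAlgebra
  haveI t1 : IsScalarTower k (DualNumber k) Γ(Xε, q ⁻¹ᵁ U) :=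
    IsScalarTower.of_algebraMap_eq (R := k) (S := DualNumber k) (A := Γ(Xε, q ⁻¹ᵁ U)) fun _ => rfl
  haveI t2 : IsScalarTower k Γ(X₀, U) Γ(Xε, q ⁻¹ᵁ U) :=
    IsScalarTower.of_algebraMap_eq (R := k) (S := Γ(X₀, U)) (A := Γ(Xε, q ⁻¹ᵁ U))
      fun r => congr($(hpo.w).hom r)
  haveI po : Algebra.IsPushout k (DualNumber k) Γ(X₀, U) Γ(Xε, q ⁻¹ᵁ U) :=
    CommRingCat.isPushout_iff_isPushout.mp hpo
  have hβ : IsBaseChange (DualNumber k)
      (IsScalarTower.toAlgHom k Γ(X₀, U) Γ(Xε, q ⁻¹ᵁ U)).toLinearMap := po.out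
  have hβa : ∀ a : Γ(X₀, U),
      (IsScalarTower.toAlgHom k Γ(X₀, U) Γ(Xε, q ⁻¹ᵁ U)).toLinearMap a = q.app U a := by
    intro a
    change (q.appLE U (q ⁻¹ᵁ U) le_rfl).hom a = (q.app U).hom a
    rw [Scheme.Hom.app_eq_appLE]
  have hsm : ∀ n : Γ(Xε, q ⁻¹ᵁ U),
      (DualNumber.eps : DualNumber k) • n = fn p εk (q ⁻¹ᵁ U) * n := fun n => rfl
  refine ⟨fun g => ?_, fun a b h => ?_⟩
  · obtain ⟨a, b, h⟩ := DualBC.exists_decomp (k := k) hβ g
    refine ⟨a, b, ?_⟩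
    rw [h, hβa, hβa, hsm]
  · refine DualBC.eq_zero_of_decomp_eq_zero (k := k) hβ a b ?_
    rw [hβa, hβa, hsm]
    exact h

include hsq hiq hip in
theorem isPullback_i : IsPullback i x p
    (Spec.map (CommRingCat.ofHom (TrivSqZeroExt.fstHom k k k).toRingHom)) := by
  have hστ : CommRingCat.ofHom (algebraMap k (DualNumber k)) ≫
      CommRingCat.ofHom (TrivSqZeroExt.fstHom k k k).toRingHom = 𝟙 _ := by
    refine CommRingCat.hom_ext (RingHom.ext fun r => ?_)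
    change TrivSqZeroExt.fst (algebraMap k (DualNumber k) r) = r
    simp [TrivSqZeroExt.algebraMap_eq_inl]
  have hτσ : Spec.map (CommRingCat.ofHom (TrivSqZeroExt.fstHom k k k).toRingHom) ≫
      Spec.map (CommRingCat.ofHom (algebraMap k (DualNumber k))) = 𝟙 _ := by
    rw [← Spec.map_comp, hστ, Spec.map_id]
  refine IsPullback.of_right ?_ hip hsq
  rw [hiq, hτσ]
  exact IsPullback.of_horiz_isIso ⟨by rw [Category.id_comp, Category.comp_id]⟩

include hsq hiq hip in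
theorem i_surjective : Function.Surjective i := by
  have hpb := isPullback_i x q p hsq i hiq hip
  have h0 : Function.Surjective
      (Spec.map (CommRingCat.ofHom (TrivSqZeroExt.fstHom k k k).toRingHom)) := by
    intro y
    obtain ⟨z, hz⟩ := comap_fst_surjective k y
    exact ⟨z, hz⟩
  have h1 : AlgebraicGeometry.Surjective
      (Spec.map (CommRingCat.ofHom (TrivSqZeroExt.fstHom k k k).toRingHom)) := ⟨h0⟩
  exact (MorphismProperty.of_isPullback (P := @AlgebraicGeometry.Surjective) hpb.flip h1).surj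

include hsq hiq hip in
theorem preimage_eq (f : Xε ⟶ X₀) (hf : i ≫ f = 𝟙 X₀) (U : X₀.Opens) : f ⁻¹ᵁ U = q ⁻¹ᵁ U := by
  ext y
  obtain ⟨z, rfl⟩ := i_surjective x q p hsq i hiq hip y
  have h1 : (i ≫ f) z = z := by rw [hf]; rfl
  have h2 : (i ≫ q) z = z := by rw [hiq]; rfl
  change (i ≫ f) z ∈ U ↔ (i ≫ q) z ∈ U
  rw [h1, h2]

include hiq in
theorem le_i_preimage (U : X₀.Opens) : U ≤ i ⁻¹ᵁ (q ⁻¹ᵁ U) := by
  change U ≤ (i ≫ q) ⁻¹ᵁ U
  rw [hiq]
  exact le_rfl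

theorem i_appLE_appLE (g : Xε ⟶ X₀) (hg : i ≫ g = 𝟙 X₀) (U : X₀.Opens) (W : Xε.Opens)
    (e : W ≤ g ⁻¹ᵁ U) (e' : U ≤ i ⁻¹ᵁ W) (s : Γ(X₀, U)) :
    i.appLE W U e' (g.appLE U W e s) = s := by
  have h1 := Scheme.Hom.appLE_comp_appLE i g U W U e e'
  have h2 := appLE_of_eq hg U U (e'.trans (i.preimage_mono e))
  have h3 := SecSch.id_appLE U (hg ▸ (e'.trans (i.preimage_mono e)))
  exact congrArg (fun φ => φ.hom s) (h1.trans (h2.trans h3))

include hiq in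
theorem i_appLE_q (U : X₀.Opens) (e' : U ≤ i ⁻¹ᵁ (q ⁻¹ᵁ U)) (s : Γ(X₀, U)) :
    i.appLE (q ⁻¹ᵁ U) U e' (q.app U s) = s := by
  have h := i_appLE_appLE i q hiq U (q ⁻¹ᵁ U) le_rfl e' s
  rw [← Scheme.Hom.app_eq_appLE] at h
  exact h

include hip in
theorem i_appLE_eps (W : Xε.Opens) (U : X₀.Opens) (e' : U ≤ i ⁻¹ᵁ W) :
    i.appLE W U e' (fn p εk W) = 0 := by
  change X₀.presheaf.map (homOfLE e').op (i.app W (fn p εk W)) = 0
  rw [i_app_eps x p i hip W, map_zero]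

/-- restriction of `ε q♯ t` -/
theorem rres_eps_mul {U V : X₀.Opens} (h : V ≤ U) (t : Γ(X₀, U)) :
    rres Xε (q.preimage_mono h) (fn p εk (q ⁻¹ᵁ U) * q.app U t) =
      fn p εk (q ⁻¹ᵁ V) * q.app V (rres X₀ h t) := by
  rw [app_rres q h t, ← fn_res p εk (q.preimage_mono h)]
  exact map_mul _ _ _

include hsq in
/-- injectivity of `t ↦ ε q♯ t` over every open -/
theorem eps_mul_injective (U : X₀.Opens) (t : Γ(X₀, U))
    (h : fn p εk (q ⁻¹ᵁ U) * q.app U t = 0) : t = 0 := by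
  refine strSect_eq_zero U t (fun y hy => ?_)
  obtain ⟨_, ⟨V, hV, rfl⟩, hyV, hVU⟩ :=
    X₀.isBasis_affineOpens.exists_subset_of_mem_open hy U.2
  have hVU' : V ≤ U := hVU
  refine ⟨V, hVU', hyV, ?_⟩
  have h1 := rres_eps_mul q p hVU' t
  rw [h] at h1
  have h1' : fn p εk (q ⁻¹ᵁ V) * q.app V (rres X₀ hVU' t) = 0 := h1.symm.trans (map_zero _)
  have h2 : q.app V 0 + fn p εk (q ⁻¹ᵁ V) * q.app V (rres X₀ hVU' t) = 0 := by
    rw [map_zero, zero_add, h1']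
  exact ((fn_struct x q p hsq hV).2 0 _ h2).2

include hsq hiq hip in
/-- the kernel of restriction to `X₀` over an affine open -/
theorem exists_eq_eps_mul_affine {U : X₀.Opens} (hU : IsAffineOpen U) (g : Γ(Xε, q ⁻¹ᵁ U))
    (hg : i.appLE (q ⁻¹ᵁ U) U (le_i_preimage q i hiq U) g = 0) :
    ∃ t : Γ(X₀, U), g = fn p εk (q ⁻¹ᵁ U) * q.app U t := by
  obtain ⟨a, b, hab⟩ := (fn_struct x q p hsq hU).1 g
  refine ⟨b, ?_⟩
  have h1 : i.appLE (q ⁻¹ᵁ U) U (le_i_preimage q i hiq U) g = a := by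
    rw [hab, map_add, map_mul, i_appLE_q q i hiq, i_appLE_eps x p i hip, zero_mul, add_zero]
  have ha : a = 0 := h1.symm.trans hg
  rw [hab, ha, map_zero, zero_add]

include hsq hiq hip in
/-- the kernel of restriction to `X₀` over every open -/
theorem exists_eq_eps_mul (U : X₀.Opens) (g : Γ(Xε, q ⁻¹ᵁ U))
    (hg : i.appLE (q ⁻¹ᵁ U) U (le_i_preimage q i hiq U) g = 0) :
    ∃ t : Γ(X₀, U), g = fn p εk (q ⁻¹ᵁ U) * q.app U t := by
  have hloc : ∀ (V : X₀.Opens) (hV : IsAffineOpen V) (hVU : V ≤ U), ∃ b : Γ(X₀, V),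
      rres Xε (q.preimage_mono hVU) g = fn p εk (q ⁻¹ᵁ V) * q.app V b := by
    intro V hV hVU
    refine exists_eq_eps_mul_affine x q p hsq i hiq hip hV _ ?_
    have h1 := appLE_rres' i (q.preimage_mono hVU) hVU (le_i_preimage q i hiq U)
      (le_i_preimage q i hiq V) g
    rw [h1, hg]
    exact map_zero _
  choose b hb using hloc
  let J := {V : X₀.Opens // IsAffineOpen V ∧ V ≤ U}
  obtain ⟨t, ht⟩ := InvGen.sec_glue (Coh.structureModule X₀) (fun j : J => j.1) U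
    (fun j => j.2.2)
    (by
      intro y hy
      obtain ⟨_, ⟨V, hV, rfl⟩, hyV, hVU⟩ :=
        X₀.isBasis_affineOpens.exists_subset_of_mem_open hy U.2
      have hVU' : V ≤ U := hVU
      exact Opens.mem_iSup.mpr ⟨⟨V, hV, hVU'⟩, hyV⟩)
    (fun j => OmegaSh.strSect X₀ j.1 (b j.1 j.2.1 j.2.2))
    (by
      intro j j'
      have hd : rres X₀ (inf_le_left : j.1 ⊓ j'.1 ≤ j.1) (b j.1 j.2.1 j.2.2) -
          rres X₀ (inf_le_right : j.1 ⊓ j'.1 ≤ j'.1) (b j'.1 j'.2.1 j'.2.2) = 0 := by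
        refine eps_mul_injective x q p hsq _ _ ?_
        rw [map_sub, mul_sub, ← rres_eps_mul q p (inf_le_left : j.1 ⊓ j'.1 ≤ j.1),
          ← rres_eps_mul q p (inf_le_right : j.1 ⊓ j'.1 ≤ j'.1), ← hb j.1 j.2.1 j.2.2,
          ← hb j'.1 j'.2.1 j'.2.2, rres_rres, rres_rres, sub_self]
      exact sub_eq_zero.mp hd)
  have ht' : ∀ (V : X₀.Opens) (hV : IsAffineOpen V) (hVU : V ≤ U),
      rres X₀ hVU (OmegaSh.fnSect X₀ U t) = b V hV hVU := fun V hV hVU => ht ⟨V, hV, hVU⟩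
  refine ⟨OmegaSh.fnSect X₀ U t, ?_⟩
  have hd : g - fn p εk (q ⁻¹ᵁ U) * q.app U (OmegaSh.fnSect X₀ U t) = 0 := by
    refine strSect_eq_zero (q ⁻¹ᵁ U) _ (fun y hy => ?_)
    obtain ⟨_, ⟨V, hV, rfl⟩, hyV, hVU⟩ :=
      X₀.isBasis_affineOpens.exists_subset_of_mem_open (show q y ∈ U from hy) U.2
    have hVU' : V ≤ U := hVU
    refine ⟨q ⁻¹ᵁ V, q.preimage_mono hVU', hyV, ?_⟩
    have e1 : rres Xε (q.preimage_mono hVU')
        (g - fn p εk (q ⁻¹ᵁ U) * q.app U (OmegaSh.fnSect X₀ U t)) =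
        rres Xε (q.preimage_mono hVU') g - rres Xε (q.preimage_mono hVU')
          (fn p εk (q ⁻¹ᵁ U) * q.app U (OmegaSh.fnSect X₀ U t)) := map_sub _ _ _
    rw [e1, rres_eps_mul q p hVU', ht' V hV hVU', hb V hV hVU', sub_self]
  exact sub_eq_zero.mp hd

end Main

end Groth.Agent.Lib.Helper25.InfAutSchA
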