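import Mathlib
import Groth.Agent.Lib.Helper25.InfAutSchA

/-! Automorphisms of a deformation over an Artin ring: the local calculus of "valid pairs".
`(b, c)` is valid over `W` if `a♯ b - b ≡ t c` modulo `I`. -/

set_option autoImplicit false
set_option linter.style.haveILetI false
set_option linter.unusedSectionVars false
universe u
open CategoryTheory CategoryTheory.Limits AlgebraicGeometry TopologicalSpace Opposite

namespace Groth.Agent.Lib.Helper25.DefAutA

open Groth.Agent.Lib.Helper17.SpecBC Groth.Agent.Lib.Helper1 Groth.Agent.Lib.Helper3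
open Groth.Agent.Lib.Helper3.QCSec
open Groth.Agent.Lib.Helper25.InfAutMod Groth.Agent.Lib.Helper25.InfAutSchA

section General

variable {Y : Scheme.{u}} {B : CommRingCat.{u}} (p : Y ⟶ Spec B)

theorem appLE_fn' {φ : Y ⟶ Y} (hφ : φ ≫ p = p) (b : B) (W W' : Y.Opens)
    (e : W ≤ φ ⁻¹ᵁ W') : φ.appLE W' W e (fn p b W') = fn p b W := by
  have h1 := Scheme.Hom.appLE_comp_appLE φ p ⊤ W' W le_top e
  have h2 := appLE_of_eq hφ ⊤ W le_top
  have h3 := congrArg (fun ψ => ψ.hom ((Scheme.ΓSpecIso B).inv.hom b)) (h1.trans h2)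
  exact h3

theorem toSec_comp_res {W W' : Y.Opens} (h : W' ≤ W) :
    (Y.presheaf.map (homOfLE h).op).hom.comp (toSec p W).hom = (toSec p W').hom :=
  RingHom.ext fun α => fn_res p α h

theorem rres_mem_map {W W' : Y.Opens} (h : W' ≤ W) (I : Ideal B) {b : Γ(Y, W)}
    (hb : b ∈ Ideal.map (toSec p W).hom I) : rres Y h b ∈ Ideal.map (toSec p W').hom I := by
  rw [← toSec_comp_res p h, ← Ideal.map_map]
  exact Ideal.mem_map_of_mem _ hb

theorem fn_mul (b b' : B) (W : Y.Opens) : fn p (b * b') W = fn p b W * fn p b' W :=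
  map_mul (toSec p W).hom b b'

/-- functions pulled back from the base along a morphism over a morphism of bases -/
theorem app_fn {Y' : Scheme.{u}} {B' : CommRingCat.{u}} (p' : Y' ⟶ Spec B') (j : Y' ⟶ Y)
    (ρ : B ⟶ B') (hw : j ≫ p = p' ≫ Spec.map ρ) (b : B) (W : Y.Opens) :
    j.app W (fn p b W) = fn p' (ρ.hom b) (j ⁻¹ᵁ W) := by
  have h1 := Scheme.Hom.appLE_comp_appLE j p ⊤ W (j ⁻¹ᵁ W) le_top le_rfl
  have h2 := appLE_of_eq hw ⊤ (j ⁻¹ᵁ W) le_top
  have h3 := Scheme.Hom.appLE_comp_appLE p' (Spec.map ρ) ⊤ ⊤ (j ⁻¹ᵁ W) le_top le_top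
  have hpt : (Spec.map ρ).appLE ⊤ ⊤ le_top = (Spec.map ρ).appTop := by
    change (Spec.map ρ).appLE ⊤ ((Spec.map ρ) ⁻¹ᵁ ⊤) le_rfl = (Spec.map ρ).app ⊤
    exact (Scheme.Hom.app_eq_appLE (Spec.map ρ)).symm
  have hn := Scheme.ΓSpecIso_inv_naturality ρ
  have key : (Scheme.ΓSpecIso B).inv ≫ p.appLE ⊤ W le_top ≫ j.appLE W (j ⁻¹ᵁ W) le_rfl =
      ρ ≫ (Scheme.ΓSpecIso B').inv ≫ p'.appLE ⊤ (j ⁻¹ᵁ W) le_top := by
    rw [h1, h2, ← h3, hpt, ← Category.assoc, ← hn, Category.assoc]
  have h4 := congrArg (fun ψ => ψ.hom b) key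
  rw [Scheme.Hom.app_eq_appLE j]
  exact h4

end General

section Main

variable {k : Type u} [Field k] {X T : Scheme.{u}} {A : CommRingCat.{u}}
  (x : X ⟶ Spec (CommRingCat.of k)) (f : T ⟶ Spec A) (ι : X ⟶ T) (ρ : A ⟶ CommRingCat.of k)
  (hw : ι ≫ f = x ≫ Spec.map ρ)
  (a : T ⟶ T) (ha : a ≫ f = f) (hιa : ι ≫ a = ι)
  (hle : ∀ W : T.Opens, W ≤ a ⁻¹ᵁ W)
  (I : Ideal A) (t : A)

include hιa in
theorem ι_app_a (W : T.Opens) (b : Γ(T, W)) :
    ι.app W (a.appLE W W (hle W) b) = ι.app W b := by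
  have h1 := Scheme.Hom.appLE_comp_appLE ι a W W (ι ⁻¹ᵁ W) (hle W) le_rfl
  have h2 := appLE_of_eq hιa W (ι ⁻¹ᵁ W) (ι.preimage_mono (hle W))
  have h3 := congrArg (fun φ => φ.hom b) (h1.trans h2)
  rw [Scheme.Hom.app_eq_appLE ι]
  exact h3

/-- `(b, c)` is a valid pair over `W`: `a♯ b - b ≡ t c` modulo `I`. -/
def Valid (W : T.Opens) (b c : Γ(T, W)) : Prop :=
  a.appLE W W (hle W) b - b - fn f t W * c ∈ Ideal.map (toSec f W).hom I

variable {f a hle I t}

theorem Valid.add {W : T.Opens} {b c b' c' : Γ(T, W)} (h : Valid f a hle I t W b c)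
    (h' : Valid f a hle I t W b' c') : Valid f a hle I t W (b + b') (c + c') := by
  unfold Valid at h h' ⊢
  have e : a.appLE W W (hle W) (b + b') - (b + b') - fn f t W * (c + c') =
      (a.appLE W W (hle W) b - b - fn f t W * c) +
        (a.appLE W W (hle W) b' - b' - fn f t W * c') := by
    rw [map_add]; ring
  rw [e]
  exact Ideal.add_mem _ h h'

theorem Valid.sub {W : T.Opens} {b c b' c' : Γ(T, W)} (h : Valid f a hle I t W b c)
    (h' : Valid f a hle I t W b' c') : Valid f a hle I t W (b - b') (c - c') := by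
  unfold Valid at h h' ⊢
  have e : a.appLE W W (hle W) (b - b') - (b - b') - fn f t W * (c - c') =
      (a.appLE W W (hle W) b - b - fn f t W * c) -
        (a.appLE W W (hle W) b' - b' - fn f t W * c') := by
    rw [map_sub]; ring
  rw [e]
  exact Ideal.sub_mem _ h h'

theorem Valid.mul (ht2 : t * t ∈ I) {W : T.Opens} {b c b' c' : Γ(T, W)}
    (h : Valid f a hle I t W b c) (h' : Valid f a hle I t W b' c') :
    Valid f a hle I t W (b * b') (b * c' + b' * c) := by
  unfold Valid at h h' ⊢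
  have e : a.appLE W W (hle W) (b * b') - b * b' - fn f t W * (b * c' + b' * c) =
      (a.appLE W W (hle W) b - b - fn f t W * c) * a.appLE W W (hle W) b' +
        (a.appLE W W (hle W) b' - b' - fn f t W * c') * (b + fn f t W * c) +
        (fn f t W * fn f t W) * (c * c') := by
    rw [map_mul]; ring
  rw [e]
  have ht2' : fn f t W * fn f t W ∈ Ideal.map (toSec f W).hom I := by
    rw [← fn_mul]
    exact Ideal.mem_map_of_mem _ ht2
  exact Ideal.add_mem _ (Ideal.add_mem _ (Ideal.mul_mem_right _ _ h)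
    (Ideal.mul_mem_right _ _ h')) (Ideal.mul_mem_right _ _ ht2')

include ha in
theorem Valid.res {W W' : T.Opens} (hWW' : W' ≤ W) {b c : Γ(T, W)}
    (h : Valid f a hle I t W b c) : Valid f a hle I t W' (rres T hWW' b) (rres T hWW' c) := by
  unfold Valid at h ⊢
  have e : a.appLE W' W' (hle W') (rres T hWW' b) - rres T hWW' b -
      fn f t W' * rres T hWW' c =
      rres T hWW' (a.appLE W W (hle W) b - b - fn f t W * c) := by
    rw [appLE_rres' a hWW' hWW' (hle W) (hle W') b, ← fn_res f t hWW']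
    exact ((map_sub _ _ _).trans (congrArg₂ _ (map_sub _ _ _) (map_mul _ _ _))).symm
  rw [e]
  exact rres_mem_map f hWW' I h

include ha in
theorem valid_fn (α : A) (W : T.Opens) : Valid f a hle I t W (fn f α W) 0 := by
  unfold Valid
  rw [appLE_fn' f ha α W W (hle W), sub_self, mul_zero, sub_zero]
  exact Ideal.zero_mem _

theorem fn_t_mul_mem (hmt : ∀ μ ∈ RingHom.ker ρ.hom, μ * t ∈ I) {W : T.Opens} {z : Γ(T, W)}
    (hz : z ∈ Ideal.map (toSec f W).hom (RingHom.ker ρ.hom)) :
    fn f t W * z ∈ Ideal.map (toSec f W).hom I := by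
  have h1 : fn f t W ∈ Ideal.map (toSec f W).hom (Ideal.span {t}) :=
    Ideal.mem_map_of_mem _ (Ideal.mem_span_singleton_self t)
  have h2 := Ideal.mul_mem_mul h1 hz
  rw [← Ideal.map_mul] at h2
  refine Ideal.map_mono ?_ h2
  rw [Ideal.span_singleton_mul_le_iff]
  intro μ hμ
  rw [mul_comm]
  exact hmt μ hμ

include ha in
/-- on `m B` the automorphism is the identity modulo `I` -/
theorem sub_mem_of_mem (hIm : I ≤ RingHom.ker ρ.hom)
    (hmt : ∀ μ ∈ RingHom.ker ρ.hom, μ * t ∈ I) {W : T.Opens}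
    (hJ : ∀ b : Γ(T, W), ∃ c : Γ(T, W), Valid f a hle I t W b c)
    {β : Γ(T, W)} (hβ : β ∈ Ideal.map (toSec f W).hom (RingHom.ker ρ.hom)) :
    a.appLE W W (hle W) β - β ∈ Ideal.map (toSec f W).hom I := by
  have hβ' : β ∈ Ideal.span ((toSec f W).hom '' (RingHom.ker ρ.hom : Set A)) := hβ
  refine Submodule.span_induction (p := fun β _ => a.appLE W W (hle W) β - β ∈
    Ideal.map (toSec f W).hom I) ?_ ?_ ?_ ?_ hβ'
  · rintro _ ⟨μ, -, rfl⟩
    have := appLE_fn' f ha μ W W (hle W)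
    change a.appLE W W (hle W) (fn f μ W) - fn f μ W ∈ _
    rw [this, sub_self]
    exact Ideal.zero_mem _
  · rw [map_zero, sub_zero]
    exact Ideal.zero_mem _
  · intro y z _ _ hy hz
    have e : a.appLE W W (hle W) (y + z) - (y + z) =
        (a.appLE W W (hle W) y - y) + (a.appLE W W (hle W) z - z) := by
      rw [map_add]; ring
    rw [e]
    exact Ideal.add_mem _ hy hz
  · intro r z hz ih
    obtain ⟨c, hc⟩ := hJ r
    unfold Valid at hc
    have hz' : z ∈ Ideal.map (toSec f W).hom (RingHom.ker ρ.hom) := hz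
    have haz : a.appLE W W (hle W) z ∈ Ideal.map (toSec f W).hom (RingHom.ker ρ.hom) := by
      have : a.appLE W W (hle W) z = z + (a.appLE W W (hle W) z - z) := by ring
      rw [this]
      exact Ideal.add_mem _ hz' (Ideal.map_mono hIm ih)
    have e : a.appLE W W (hle W) (r • z) - r • z =
        (a.appLE W W (hle W) r - r - fn f t W * c) * a.appLE W W (hle W) z +
          c * (fn f t W * a.appLE W W (hle W) z) + r * (a.appLE W W (hle W) z - z) := by
      rw [smul_eq_mul, map_mul]; ring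
    rw [e]
    exact Ideal.add_mem _ (Ideal.add_mem _ (Ideal.mul_mem_right _ _ hc)
      (Ideal.mul_mem_left _ _ (fn_t_mul_mem ρ hmt haz))) (Ideal.mul_mem_left _ _ ih)

include hw hιa ha in
/-- two valid pairs with the same restriction to the closed fibre have the same `c` there -/
theorem valid_unique (hIm : I ≤ RingHom.ker ρ.hom)
    (hmt : ∀ μ ∈ RingHom.ker ρ.hom, μ * t ∈ I) {W : T.Opens}
    (hJ : ∀ b : Γ(T, W), ∃ c : Γ(T, W), Valid f a hle I t W b c)
    (hker : ∀ b : Γ(T, W), ι.app W b = 0 →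
      b ∈ Ideal.map (toSec f W).hom (RingHom.ker ρ.hom))
    (hcolon : ∀ c : Γ(T, W), fn f t W * c ∈ Ideal.map (toSec f W).hom I →
      c ∈ Ideal.map (toSec f W).hom (RingHom.ker ρ.hom))
    {b c b' c' : Γ(T, W)} (h : Valid f a hle I t W b c) (h' : Valid f a hle I t W b' c')
    (hbb' : ι.app W b = ι.app W b') : ι.app W c = ι.app W c' := by
  have h1 : b - b' ∈ Ideal.map (toSec f W).hom (RingHom.ker ρ.hom) :=
    hker _ (by rw [map_sub, hbb', sub_self])
  have h2 := sub_mem_of_mem ρ ha hIm hmt hJ h1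
  have h3 := h.sub h'
  unfold Valid at h3
  have h4 : fn f t W * (c - c') ∈ Ideal.map (toSec f W).hom I := by
    have e : fn f t W * (c - c') = (a.appLE W W (hle W) (b - b') - (b - b')) -
        (a.appLE W W (hle W) (b - b') - (b - b') - fn f t W * (c - c')) := by ring
    rw [e]
    exact Ideal.sub_mem _ h2 h3
  have h5 := hcolon _ h4
  -- elements of `m B` restrict to zero on the closed fibre
  have h6 : ∀ z ∈ Ideal.map (toSec f W).hom (RingHom.ker ρ.hom), ι.app W z = 0 := by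
    intro z hz
    have hz' : z ∈ Ideal.span ((toSec f W).hom '' (RingHom.ker ρ.hom : Set A)) := hz
    refine Submodule.span_induction (p := fun z _ => ι.app W z = 0) ?_ ?_ ?_ ?_ hz'
    · rintro _ ⟨μ, hμ, rfl⟩
      change ι.app W (fn f μ W) = 0
      rw [app_fn f x ι ρ hw μ W]
      have hμ0 : ρ.hom μ = 0 := hμ
      rw [hμ0]
      exact map_zero _
    · exact map_zero _
    · intro y z _ _ hy hz
      rw [map_add, hy, hz, add_zero]
    · intro r z _ ih
      rw [smul_eq_mul, map_mul, ih, mul_zero]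
  have h7 := h6 _ h5
  rw [map_sub] at h7
  exact sub_eq_zero.mp h7

end Main

end Groth.Agent.Lib.Helper25.DefAutA
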