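import Mathlib
import Groth.Agent.Lib.Helper25.DefAutA

/-! Automorphisms of a deformation over an Artin ring: the derivation of the closed fibre attached to
an automorphism which is the identity modulo `I + (t)`, and the induction step. -/

set_option autoImplicit false
set_option linter.style.haveILetI false
set_option linter.unusedSectionVars false
universe u
open CategoryTheory CategoryTheory.Limits AlgebraicGeometry TopologicalSpace Opposite

namespace Groth.Agent.Lib.Helper25.DefAutB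

open Groth.Agent.Lib.Helper17.SpecBC Groth.Agent.Lib.Helper1 Groth.Agent.Lib.Helper3
open Groth.Agent.Lib.Helper3.QCSec
open Groth.Agent.Lib.Helper25.InfAutMod Groth.Agent.Lib.Helper25.InfAutSchA
open Groth.Agent.Lib.Helper25.DefAutA

variable {k : Type u} [Field k] {X T : Scheme.{u}} {A : CommRingCat.{u}}
  (x : X ⟶ Spec (CommRingCat.of k)) (f : T ⟶ Spec A) (ι : X ⟶ T) (ρ : A ⟶ CommRingCat.of k)
  (hw : ι ≫ f = x ≫ Spec.map ρ)
  (a : T ⟶ T) (ha : a ≫ f = f) (hιa : ι ≫ a = ι)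
  (hle : ∀ W : T.Opens, W ≤ a ⁻¹ᵁ W)
  (I : Ideal A) (t : A)
  (ht2 : t * t ∈ I) (hIm : I ≤ RingHom.ker ρ.hom) (hmt : ∀ μ ∈ RingHom.ker ρ.hom, μ * t ∈ I)
  (hJ : ∀ W : T.Opens, IsAffineOpen W → ∀ b : Γ(T, W), ∃ c : Γ(T, W), Valid f a hle I t W b c)
  (hker : ∀ W : T.Opens, IsAffineOpen W → ∀ b : Γ(T, W), ι.app W b = 0 →
    b ∈ Ideal.map (toSec f W).hom (RingHom.ker ρ.hom))
  (hsurj : ∀ W : T.Opens, IsAffineOpen W → Function.Surjective (ι.app W).hom)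
  (hcolon : ∀ W : T.Opens, IsAffineOpen W → ∀ c : Γ(T, W),
    fn f t W * c ∈ Ideal.map (toSec f W).hom I →
      c ∈ Ideal.map (toSec f W).hom (RingHom.ker ρ.hom))
  (hcov : ∀ (U : X.Opens) (y : X), y ∈ U →
    ∃ W : T.Opens, IsAffineOpen W ∧ ι y ∈ W ∧ ι ⁻¹ᵁ W ≤ U)
  (hρ : Function.Surjective ρ.hom)

/-- `d` is the value of the derivation on `s` -/
def IsDer (U : X.Opens) (s d : Γ(X, U)) : Prop :=
  ∀ (W : T.Opens) (_ : IsAffineOpen W) (hWU : ι ⁻¹ᵁ W ≤ U), ∃ b c : Γ(T, W),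
    Valid f a hle I t W b c ∧ ι.app W b = rres X hWU s ∧ ι.app W c = rres X hWU d

variable {f ι a hle I t}

include hw ha hιa hIm hmt hJ hker hcolon in
theorem IsDer.spec {U : X.Opens} {s d : Γ(X, U)} (h : IsDer f ι a hle I t U s d)
    {W : T.Opens} (hW : IsAffineOpen W) (hWU : ι ⁻¹ᵁ W ≤ U) {b c : Γ(T, W)}
    (hbc : Valid f a hle I t W b c) (hb : ι.app W b = rres X hWU s) :
    ι.app W c = rres X hWU d := by
  obtain ⟨b', c', hv, hb', hc'⟩ := h W hW hWU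
  rw [← hc']
  exact valid_unique x ι ρ hw ha hιa hIm hmt (hJ W hW) (hker W hW) (hcolon W hW) hbc hv
    (hb.trans hb'.symm)

include hw ha hιa hIm hmt hJ hker hcolon hcov in
theorem IsDer.unique {U : X.Opens} {s d d' : Γ(X, U)} (h : IsDer f ι a hle I t U s d)
    (h' : IsDer f ι a hle I t U s d') : d = d' := by
  have hz : d - d' = 0 := by
    refine strSect_eq_zero U _ (fun y hy => ?_)
    obtain ⟨W, hW, hyW, hWU⟩ := hcov U y hy
    refine ⟨ι ⁻¹ᵁ W, hWU, hyW, ?_⟩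
    obtain ⟨b, c, hv, hb, hc⟩ := h W hW hWU
    have hc' := h'.spec x ρ hw ha hιa hIm hmt hJ hker hcolon hW hWU hv hb
    have e : rres X hWU (d - d') = rres X hWU d - rres X hWU d' := map_sub _ _ _
    rw [e, ← hc, ← hc', sub_self]
  exact sub_eq_zero.mp hz

theorem IsDer.add {U : X.Opens} {s d s' d' : Γ(X, U)} (h : IsDer f ι a hle I t U s d)
    (h' : IsDer f ι a hle I t U s' d') : IsDer f ι a hle I t U (s + s') (d + d') := by
  intro W hW hWU
  obtain ⟨b, c, hv, hb, hc⟩ := h W hW hWU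
  obtain ⟨b', c', hv', hb', hc'⟩ := h' W hW hWU
  refine ⟨b + b', c + c', hv.add hv', ?_, ?_⟩
  · rw [map_add, hb, hb']; exact (map_add _ _ _).symm
  · rw [map_add, hc, hc']; exact (map_add _ _ _).symm

include ht2 in
theorem IsDer.mul {U : X.Opens} {s d s' d' : Γ(X, U)} (h : IsDer f ι a hle I t U s d)
    (h' : IsDer f ι a hle I t U s' d') :
    IsDer f ι a hle I t U (s * s') (s * d' + s' * d) := by
  intro W hW hWU
  obtain ⟨b, c, hv, hb, hc⟩ := h W hW hWU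
  obtain ⟨b', c', hv', hb', hc'⟩ := h' W hW hWU
  refine ⟨b * b', b * c' + b' * c, hv.mul ht2 hv', ?_, ?_⟩
  · rw [map_mul, hb, hb']; exact (map_mul _ _ _).symm
  · rw [map_add, map_mul, map_mul, hb, hb', hc, hc']
    exact ((map_add _ _ _).trans (congrArg₂ _ (map_mul _ _ _) (map_mul _ _ _))).symm

theorem IsDer.res {U U' : X.Opens} (hUU' : U' ≤ U) {s d : Γ(X, U)}
    (h : IsDer f ι a hle I t U s d) :
    IsDer f ι a hle I t U' (rres X hUU' s) (rres X hUU' d) := by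
  intro W hW hWU
  obtain ⟨b, c, hv, hb, hc⟩ := h W hW (hWU.trans hUU')
  refine ⟨b, c, hv, ?_, ?_⟩
  · rw [hb]; exact (rres_rres _ _ _).symm
  · rw [hc]; exact (rres_rres _ _ _).symm

include hw ha hιa hIm hmt hJ hker hcolon hcov hsurj in
theorem isDer_exists (U : X.Opens) (s : Γ(X, U)) : ∃ d : Γ(X, U), IsDer f ι a hle I t U s d := by
  have hloc : ∀ (W : T.Opens) (hW : IsAffineOpen W) (hWU : ι ⁻¹ᵁ W ≤ U), ∃ b c : Γ(T, W),
      Valid f a hle I t W b c ∧ ι.app W b = rres X hWU s := by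
    intro W hW hWU
    obtain ⟨b, hb⟩ := hsurj W hW (rres X hWU s)
    obtain ⟨c, hc⟩ := hJ W hW b
    exact ⟨b, c, hc, hb⟩
  choose b c hv hb using hloc
  let J := {W : T.Opens // IsAffineOpen W ∧ ι ⁻¹ᵁ W ≤ U}
  obtain ⟨d, hd⟩ := InvGen.sec_glue (Coh.structureModule X) (fun j : J => ι ⁻¹ᵁ j.1) U
    (fun j => j.2.2)
    (by
      intro y hy
      obtain ⟨W, hW, hyW, hWU⟩ := hcov U y hy
      exact Opens.mem_iSup.mpr ⟨⟨W, hW, hWU⟩, hyW⟩)
    (fun j => OmegaSh.strSect X (ι ⁻¹ᵁ j.1) (ι.app j.1 (c j.1 j.2.1 j.2.2)))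
    (by
      intro j j'
      have hz : rres X (inf_le_left : ι ⁻¹ᵁ j.1 ⊓ ι ⁻¹ᵁ j'.1 ≤ ι ⁻¹ᵁ j.1)
            (ι.app j.1 (c j.1 j.2.1 j.2.2)) -
          rres X (inf_le_right : ι ⁻¹ᵁ j.1 ⊓ ι ⁻¹ᵁ j'.1 ≤ ι ⁻¹ᵁ j'.1)
            (ι.app j'.1 (c j'.1 j'.2.1 j'.2.2)) = 0 := by
        refine strSect_eq_zero _ _ (fun y hy => ?_)
        have hy' : ι y ∈ j.1 ⊓ j'.1 := hy
        obtain ⟨_, ⟨W, hW, rfl⟩, hyW, hWle⟩ :=
          T.isBasis_affineOpens.exists_subset_of_mem_open hy' (j.1 ⊓ j'.1).2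
        have hWle' : W ≤ j.1 ⊓ j'.1 := hWle
        have h1 : W ≤ j.1 := hWle'.trans inf_le_left
        have h2 : W ≤ j'.1 := hWle'.trans inf_le_right
        have hO : ι ⁻¹ᵁ W ≤ ι ⁻¹ᵁ j.1 ⊓ ι ⁻¹ᵁ j'.1 :=
          le_inf (ι.preimage_mono h1) (ι.preimage_mono h2)
        refine ⟨ι ⁻¹ᵁ W, hO, hyW, ?_⟩
        have e0 : rres X hO
            (rres X (inf_le_left : ι ⁻¹ᵁ j.1 ⊓ ι ⁻¹ᵁ j'.1 ≤ ι ⁻¹ᵁ j.1)
              (ι.app j.1 (c j.1 j.2.1 j.2.2)) -
            rres X (inf_le_right : ι ⁻¹ᵁ j.1 ⊓ ι ⁻¹ᵁ j'.1 ≤ ι ⁻¹ᵁ j'.1)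
              (ι.app j'.1 (c j'.1 j'.2.1 j'.2.2))) =
            rres X hO
              (rres X (inf_le_left : ι ⁻¹ᵁ j.1 ⊓ ι ⁻¹ᵁ j'.1 ≤ ι ⁻¹ᵁ j.1)
                (ι.app j.1 (c j.1 j.2.1 j.2.2))) -
            rres X hO
              (rres X (inf_le_right : ι ⁻¹ᵁ j.1 ⊓ ι ⁻¹ᵁ j'.1 ≤ ι ⁻¹ᵁ j'.1)
                (ι.app j'.1 (c j'.1 j'.2.1 j'.2.2))) := map_sub _ _ _
        rw [e0, rres_rres, rres_rres]
        have e1 : ι.app W (rres T h1 (c j.1 j.2.1 j.2.2)) =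
            rres X (ι.preimage_mono h1) (ι.app j.1 (c j.1 j.2.1 j.2.2)) := app_rres ι h1 _
        have e2 : ι.app W (rres T h2 (c j'.1 j'.2.1 j'.2.2)) =
            rres X (ι.preimage_mono h2) (ι.app j'.1 (c j'.1 j'.2.1 j'.2.2)) := app_rres ι h2 _
        have e3 : ι.app W (rres T h1 (b j.1 j.2.1 j.2.2)) =
            ι.app W (rres T h2 (b j'.1 j'.2.1 j'.2.2)) := by
          rw [app_rres ι h1, app_rres ι h2, hb j.1 j.2.1 j.2.2, hb j'.1 j'.2.1 j'.2.2,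
            rres_rres, rres_rres]
        have e4 := valid_unique x ι ρ hw ha hιa hIm hmt (hJ W hW) (hker W hW) (hcolon W hW)
          ((hv j.1 j.2.1 j.2.2).res ha h1) ((hv j'.1 j'.2.1 j'.2.2).res ha h2) e3
        rw [e1, e2] at e4
        exact sub_eq_zero.mpr e4
      exact sub_eq_zero.mp hz)
  refine ⟨OmegaSh.fnSect X U d, fun W hW hWU => ?_⟩
  exact ⟨b W hW hWU, c W hW hWU, hv W hW hWU, hb W hW hWU, (hd ⟨W, hW, hWU⟩).symm⟩

include hw ha hιa hIm hmt hJ hker hcolon hcov hsurj in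
/-- the value of the derivation -/
noncomputable def derVal (U : X.Opens) (s : Γ(X, U)) : Γ(X, U) :=
  (isDer_exists x ρ hw ha hιa hIm hmt hJ hker hsurj hcolon hcov U s).choose

local notation "𝔡" => derVal x ρ hw ha hιa hIm hmt hJ hker hsurj hcolon hcov

theorem derVal_spec (U : X.Opens) (s : Γ(X, U)) : IsDer f ι a hle I t U s (𝔡 U s) :=
  (isDer_exists x ρ hw ha hιa hIm hmt hJ hker hsurj hcolon hcov U s).choose_spec

theorem derVal_unique {U : X.Opens} {s d : Γ(X, U)} (h : IsDer f ι a hle I t U s d) :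
    d = 𝔡 U s :=
  h.unique x ρ hw ha hιa hIm hmt hJ hker hcolon hcov
    (derVal_spec x ρ hw ha hιa hIm hmt hJ hker hsurj hcolon hcov U s)

theorem derVal_add (U : X.Opens) (s s' : Γ(X, U)) : 𝔡 U (s + s') = 𝔡 U s + 𝔡 U s' :=
  (derVal_unique x ρ hw ha hιa hIm hmt hJ hker hsurj hcolon hcov
    ((derVal_spec x ρ hw ha hιa hIm hmt hJ hker hsurj hcolon hcov U s).add
      (derVal_spec x ρ hw ha hιa hIm hmt hJ hker hsurj hcolon hcov U s'))).symm

include ht2 in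
theorem derVal_mul (U : X.Opens) (s s' : Γ(X, U)) :
    𝔡 U (s * s') = s * 𝔡 U s' + s' * 𝔡 U s :=
  (derVal_unique x ρ hw ha hιa hIm hmt hJ hker hsurj hcolon hcov
    ((derVal_spec x ρ hw ha hιa hIm hmt hJ hker hsurj hcolon hcov U s).mul ht2
      (derVal_spec x ρ hw ha hιa hIm hmt hJ hker hsurj hcolon hcov U s'))).symm

theorem derVal_map {U U' : X.Opens} (h : U' ≤ U) (s : Γ(X, U)) :
    𝔡 U' (rres X h s) = rres X h (𝔡 U s) :=
  (derVal_unique x ρ hw ha hιa hIm hmt hJ hker hsurj hcolon hcov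
    ((derVal_spec x ρ hw ha hιa hIm hmt hJ hker hsurj hcolon hcov U s).res h)).symm

include hρ in
theorem derVal_app (V₀ : (Spec (CommRingCat.of k)).Opens) (κ : Γ(Spec (CommRingCat.of k), V₀)) :
    𝔡 (x ⁻¹ᵁ V₀) (x.app V₀ κ) = 0 := by
  refine strSect_eq_zero _ _ (fun y hy => ?_)
  have hV : V₀ = ⊤ := by
    ext z
    have hz : z = x y := Subsingleton.elim _ _
    simp only [Opens.coe_top, Set.mem_univ, iff_true]
    rw [hz]
    exact hy
  subst hV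
  obtain ⟨W, hW, hyW, hWU⟩ := hcov (x ⁻¹ᵁ ⊤) y hy
  refine ⟨ι ⁻¹ᵁ W, hWU, hyW, ?_⟩
  obtain ⟨α, hα⟩ := hρ ((Scheme.ΓSpecIso (CommRingCat.of k)).hom.hom κ)
  have hb : ι.app W (fn f α W) = rres X hWU (x.app ⊤ κ) := by
    rw [app_fn f x ι ρ hw α W, hα]
    have h1 : (Scheme.ΓSpecIso (CommRingCat.of k)).inv.hom
        ((Scheme.ΓSpecIso (CommRingCat.of k)).hom.hom κ) = κ :=
      congrArg (fun φ => φ.hom κ) (Scheme.ΓSpecIso (CommRingCat.of k)).hom_inv_id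
    change (x.appLE ⊤ (ι ⁻¹ᵁ W) le_top).hom ((Scheme.ΓSpecIso (CommRingCat.of k)).inv.hom
      ((Scheme.ΓSpecIso (CommRingCat.of k)).hom.hom κ)) = _
    rw [h1]
    rfl
  have h2 := (derVal_spec x ρ hw ha hιa hIm hmt hJ hker hsurj hcolon hcov (x ⁻¹ᵁ ⊤)
    (x.app ⊤ κ)).spec x ρ hw ha hιa hIm hmt hJ hker hcolon hW hWU (valid_fn ha α W) hb
  rw [← h2]
  exact map_zero _

include ht2 hρ in
/-- the derivation of the closed fibre attached to the automorphism -/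
noncomputable def derOf : OmegaSh.Der x (Coh.structureModule X) where
  d {U} := AddMonoidHom.mk' (fun s => OmegaSh.strSect X U.unop (𝔡 U.unop s))
    (fun s s' => (congrArg (OmegaSh.strSect X U.unop)
      (derVal_add x ρ hw ha hιa hIm hmt hJ hker hsurj hcolon hcov U.unop s s')).trans
        (map_add _ _ _))
  d_mul {U} s s' := congrArg (OmegaSh.strSect X U.unop)
    (derVal_mul x ρ hw ha hιa ht2 hIm hmt hJ hker hsurj hcolon hcov U.unop s s')
  d_map {_ _} j s := congrArg (OmegaSh.strSect X _)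
    (derVal_map x ρ hw ha hιa hIm hmt hJ hker hsurj hcolon hcov j.unop.le s)
  d_app {V} κ := (congrArg (OmegaSh.strSect X _)
    (derVal_app x ρ hw ha hιa hIm hmt hJ hker hsurj hcolon hcov hρ V.unop κ)).trans (map_zero _)

include hw ha hιa ht2 hIm hmt hJ hker hsurj hcolon hcov hρ in
/-- **The induction step.** If every `k`-derivation of `O_X` vanishes, an automorphism which is the
identity modulo `I + (t)` is the identity modulo `I`. -/
theorem step (hΩ : ∀ (D : OmegaSh.Der x (Coh.structureModule X)) (U : X.Opens) (s : Γ(X, U)),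
      D.app U s = 0)
    (W : T.Opens) (hW : IsAffineOpen W) (b : Γ(T, W)) :
    a.appLE W W (hle W) b - b ∈ Ideal.map (toSec f W).hom I := by
  obtain ⟨c, hc⟩ := hJ W hW b
  have h0 : 𝔡 (ι ⁻¹ᵁ W) (ι.app W b) = 0 := by
    have := hΩ (derOf x ρ hw ha hιa ht2 hIm hmt hJ hker hsurj hcolon hcov hρ) (ι ⁻¹ᵁ W)
      (ι.app W b)
    exact congrArg (OmegaSh.fnSect X (ι ⁻¹ᵁ W)) this
  have h1 := (derVal_spec x ρ hw ha hιa hIm hmt hJ hker hsurj hcolon hcov (ι ⁻¹ᵁ W)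
    (ι.app W b)).spec x ρ hw ha hιa hIm hmt hJ hker hcolon hW le_rfl hc
      (rres_self (le_refl (ι ⁻¹ᵁ W)) (ι.app W b)).symm
  rw [h0] at h1
  have h2 : ι.app W c = 0 := h1.trans (map_zero _)
  have h3 := fn_t_mul_mem ρ hmt (hker W hW c h2)
  have e : a.appLE W W (hle W) b - b =
      (a.appLE W W (hle W) b - b - fn f t W * c) + fn f t W * c := by ring
  rw [e]
  exact Ideal.add_mem _ hc h3

end Groth.Agent.Lib.Helper25.DefAutB
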