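import Mathlib
import Groth.Agent.Lib.Helper25.DefAutB
import Groth.Agent.Lib.Helper26.ColonFlat
import Groth.Agent.Lib.Helper20.SocleMod
import Groth.Agent.Lib.Helper20.PushoutSurj

/-! Automorphisms of a deformation over an Artin local ring are trivial when the closed fibre has no
non-zero derivations. -/

set_option autoImplicit false
set_option linter.style.haveILetI false
set_option linter.unusedSectionVars false
universe u
open CategoryTheory CategoryTheory.Limits AlgebraicGeometry TopologicalSpace Opposite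

namespace Groth.Agent.Lib.Helper25.DefAutC

open Groth.Agent.Lib.Helper17.SpecBC Groth.Agent.Lib.Helper1 Groth.Agent.Lib.Helper3
open Groth.Agent.Lib.Helper3.QCSec
open Groth.Agent.Lib.Helper25.InfAutMod Groth.Agent.Lib.Helper25.InfAutSchA
open Groth.Agent.Lib.Helper25.DefAutA Groth.Agent.Lib.Helper25.DefAutB

variable {k : Type u} [Field k] {X T : Scheme.{u}} {A : CommRingCat.{u}}
  [IsLocalRing A] [IsArtinianRing A]
  (x : X ⟶ Spec (CommRingCat.of k)) (f : T ⟶ Spec A) [Flat f] (ι : X ⟶ T)
  (ρ : A ⟶ CommRingCat.of k) (hρ : Function.Surjective ρ.hom)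
  (hpb : IsPullback ι x f (Spec.map ρ))
  (a : T ⟶ T) (ha : a ≫ f = f) (hιa : ι ≫ a = ι)

include hρ in
theorem ker_eq : RingHom.ker ρ.hom = IsLocalRing.maximalIdeal A :=
  IsLocalRing.eq_maximalIdeal (RingHom.ker_isMaximal_of_surjective ρ.hom hρ)

include hρ in
theorem comap_surjective : Function.Surjective (PrimeSpectrum.comap ρ.hom) := by
  intro y
  have hr := _root_.range_comap_of_surjective (CommRingCat.of k) ρ.hom hρ
  have hy : y ∈ PrimeSpectrum.zeroLocus (RingHom.ker ρ.hom : Set A) := by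
    rw [PrimeSpectrum.mem_zeroLocus]
    have h1 : y.asIdeal = IsLocalRing.maximalIdeal A :=
      IsLocalRing.eq_maximalIdeal (IsArtinianRing.isMaximal_of_isPrime y.asIdeal)
    intro z hz
    rw [SetLike.mem_coe, h1, ← ker_eq ρ hρ]
    exact hz
  rw [← hr] at hy
  exact hy

include hρ in
theorem surjective_specMap : Function.Surjective (Spec.map ρ) := by
  intro y
  obtain ⟨z, hz⟩ := comap_surjective ρ hρ y
  exact ⟨z, hz⟩

include hρ hpb in
theorem ι_surjective : Function.Surjective ι := by
  have h1 : AlgebraicGeometry.Surjective (Spec.map ρ) := ⟨surjective_specMap ρ hρ⟩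
  exact (MorphismProperty.of_isPullback (P := @AlgebraicGeometry.Surjective) hpb.flip h1).surj

include hρ hpb in
theorem isClosedImmersion_ι : IsClosedImmersion ι := by
  haveI : IsClosedImmersion (Spec.map ρ) := IsClosedImmersion.spec_of_surjective ρ hρ
  exact MorphismProperty.of_isPullback (P := @IsClosedImmersion) hpb.flip inferInstance

include hρ hpb hιa in
theorem le_preimage (W : T.Opens) : W ≤ a ⁻¹ᵁ W := by
  intro y hy
  obtain ⟨z, rfl⟩ := ι_surjective x f ι ρ hρ hpb y
  have h1 : (ι ≫ a) z = ι z := by rw [hιa]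
  change (ι ≫ a) z ∈ W
  rw [h1]
  exact hy

include hρ hpb in
theorem cov (U : X.Opens) (y : X) (hy : y ∈ U) :
    ∃ W : T.Opens, IsAffineOpen W ∧ ι y ∈ W ∧ ι ⁻¹ᵁ W ≤ U := by
  haveI := isClosedImmersion_ι x f ι ρ hρ hpb
  obtain ⟨V', hV'o, hV'⟩ := ι.isClosedEmbedding.isInducing.isOpen_iff.mp U.2
  have hyV' : ι y ∈ V' := by
    have : y ∈ ι ⁻¹' V' := by rw [hV']; exact hy
    exact this
  obtain ⟨_, ⟨W, hW, rfl⟩, hyW, hWV'⟩ :=
    T.isBasis_affineOpens.exists_subset_of_mem_open hyV' hV'o
  refine ⟨W, hW, hyW, ?_⟩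
  intro z hz
  have hz' : ι z ∈ V' := hWV' hz
  have : z ∈ ι ⁻¹' V' := hz'
  rw [hV'] at this
  exact this

include hρ hpb in
theorem surj_ker (W : T.Opens) (hW : IsAffineOpen W) :
    Function.Surjective (ι.app W).hom ∧ ∀ b : Γ(T, W), ι.app W b = 0 →
      b ∈ Ideal.map (toSec f W).hom (RingHom.ker ρ.hom) := by
  have hpo := isPushout_sections hpb hW
  obtain ⟨h1, h2⟩ := Groth.Agent.Lib.Helper20.PushoutSurj.RC ρ (toSec f W) (toSec x (ι ⁻¹ᵁ W))
    (ι.appLE W (ι ⁻¹ᵁ W) le_rfl) hpo hρ
  rw [← Scheme.Hom.app_eq_appLE ι] at h1 h2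
  refine ⟨h1, fun b hb => ?_⟩
  rw [← h2]
  exact hb

theorem flat_toSec (W : T.Opens) (hW : IsAffineOpen W) : (toSec f W).hom.Flat := by
  have h1 := Scheme.Hom.flat_appLE f (isAffineOpen_top _) hW le_top
  have h2 : ((Scheme.ΓSpecIso A).inv.hom).Flat :=
    RingHom.Flat.of_bijective
      ((ConcreteCategory.isIso_iff_bijective (Scheme.ΓSpecIso A).inv).mp inferInstance)
  exact RingHom.Flat.comp h2 h1

include hρ hpb ha hιa in
/-- an automorphism of a flat deformation over an Artin local ring which restricts to the identity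
on the closed fibre is the identity, if the closed fibre has no derivations -/
theorem aut_eq_id
    (hΩ : ∀ (D : OmegaSh.Der x (Coh.structureModule X)) (U : X.Opens) (s : Γ(X, U)),
      D.app U s = 0) : a = 𝟙 T := by
  have hle := le_preimage x f ι ρ hρ hpb a hιa
  have hkm := ker_eq ρ hρ
  have key : ∀ I : Ideal A, I ≤ RingHom.ker ρ.hom → ∀ (W : T.Opens), IsAffineOpen W →
      ∀ b : Γ(T, W), a.appLE W W (hle W) b - b ∈ Ideal.map (toSec f W).hom I := by
    intro I
    refine IsNoetherian.induction (P := fun I : Ideal A => I ≤ RingHom.ker ρ.hom →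
      ∀ (W : T.Opens), IsAffineOpen W → ∀ b : Γ(T, W),
        a.appLE W W (hle W) b - b ∈ Ideal.map (toSec f W).hom I) ?_ I
    intro I IH hI
    by_cases hIeq : I = RingHom.ker ρ.hom
    · -- base case
      intro W hW b
      rw [hIeq]
      refine (surj_ker x f ι ρ hρ hpb W hW).2 _ ?_
      rw [map_sub, ι_app_a ι a hιa hle W b, sub_self]
    · have hlt : I < IsLocalRing.maximalIdeal A := by
        rw [← hkm]
        exact lt_of_le_of_ne hI hIeq
      obtain ⟨t, htm, htI, hmt⟩ := Groth.Agent.Lib.Helper20.SocleMod.RB I hlt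
      rw [← hkm] at htm hmt
      have hJle : I ⊔ Ideal.span {t} ≤ RingHom.ker ρ.hom :=
        sup_le hI ((Ideal.span_singleton_le_iff_mem _).mpr htm)
      have hJgt : I < I ⊔ Ideal.span {t} := by
        refine lt_of_le_of_ne le_sup_left (fun h => htI ?_)
        rw [h]
        exact Ideal.mem_sup_right (Ideal.mem_span_singleton_self t)
      have hPJ := IH _ hJgt hJle
      have hJ : ∀ W : T.Opens, IsAffineOpen W → ∀ b : Γ(T, W), ∃ c : Γ(T, W),
          Valid f a hle I t W b c := by
        intro W hW b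
        have h1 := hPJ W hW b
        rw [Ideal.map_sup, Ideal.map_span, Set.image_singleton] at h1
        obtain ⟨y, hy, z, hz, hyz⟩ := Submodule.mem_sup.mp h1
        obtain ⟨c, hc⟩ := Ideal.mem_span_singleton'.mp hz
        refine ⟨c, ?_⟩
        unfold Valid
        have e : a.appLE W W (hle W) b - b - fn f t W * c = y := by
          rw [← hyz, ← hc]
          change y + c * (toSec f W).hom t - (toSec f W).hom t * c = y
          ring
        rw [e]
        exact hy
      have hcolon : ∀ W : T.Opens, IsAffineOpen W → ∀ c : Γ(T, W),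
          fn f t W * c ∈ Ideal.map (toSec f W).hom I →
            c ∈ Ideal.map (toSec f W).hom (RingHom.ker ρ.hom) := by
        intro W hW c hc
        refine Groth.Agent.Lib.Helper26.ColonFlat.RA (toSec f W).hom (flat_toSec f W hW) I
          (RingHom.ker ρ.hom) t hmt ?_ c hc
        intro α hα
        by_contra hαm
        rw [hkm] at hαm
        have hu : IsUnit α := IsLocalRing.notMem_maximalIdeal.mp hαm
        obtain ⟨u, rfl⟩ := hu
        have h2 := Ideal.mul_mem_left I (↑u⁻¹ : A) hα
        rw [← mul_assoc, Units.inv_mul, one_mul] at h2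
        exact htI h2
      intro W hW b
      exact step x ρ hpb.w ha hιa (hmt t htm) hI hmt hJ
        (fun W hW => (surj_ker x f ι ρ hρ hpb W hW).2)
        (fun W hW => (surj_ker x f ι ρ hρ hpb W hW).1) hcolon
        (cov x f ι ρ hρ hpb) hρ hΩ W hW b
  refine ToProj.hom_ext_of_appLE _ _ (fun j : T.affineOpens => j.1) (fun j => j.2)
    (fun j => j.1) (fun y => ?_) (fun j => hle j.1) (fun j => le_rfl) (fun j => ?_)
  · obtain ⟨_, ⟨V, hV, rfl⟩, hyV, -⟩ :=
      T.isBasis_affineOpens.exists_subset_of_mem_open (Set.mem_univ y) isOpen_univ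
    exact ⟨⟨V, hV⟩, hyV⟩
  · refine CommRingCat.hom_ext (RingHom.ext fun b => ?_)
    rw [SecSch.id_appLE j.1 le_rfl]
    have h1 := key ⊥ bot_le j.1 j.2 b
    rw [Ideal.map_bot, Ideal.mem_bot] at h1
    exact sub_eq_zero.mp h1

end Groth.Agent.Lib.Helper25.DefAutC
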