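import Mathlib
import Groth.Agent.Lib.Helper25.InfAutSchA

/-! The derivation attached to a retraction `f : Xε ⟶ X₀` of `i` over `k`. -/

set_option autoImplicit false
set_option linter.style.haveILetI false
set_option linter.unusedSectionVars false
universe u
open CategoryTheory CategoryTheory.Limits AlgebraicGeometry TopologicalSpace Opposite

namespace Groth.Agent.Lib.Helper25.InfAutSchB

open Groth.Agent.Lib.Helper17.SpecBC Groth.Agent.Lib.Helper1 Groth.Agent.Lib.Helper3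
open Groth.Agent.Lib.Helper3.QCSec
open Groth.Agent.Lib.Helper25.InfAutMod Groth.Agent.Lib.Helper25.InfAutSchA

variable {k : Type u} [Field k] {X₀ Xε : Scheme.{u}} (x : X₀ ⟶ Spec (CommRingCat.of k))
  (q : Xε ⟶ X₀) (p : Xε ⟶ Spec (CommRingCat.of (DualNumber k)))
  (hsq : IsPullback q p x (Spec.map (CommRingCat.ofHom (algebraMap k (DualNumber k)))))
  (i : X₀ ⟶ Xε) (hiq : i ≫ q = 𝟙 X₀)
  (hip : i ≫ p = x ≫ Spec.map (CommRingCat.ofHom (TrivSqZeroExt.fstHom k k k).toRingHom))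
  (f : Xε ⟶ X₀) (hf : i ≫ f = 𝟙 X₀) (hfx : f ≫ x = q ≫ x)
  (he : ∀ U : X₀.Opens, q ⁻¹ᵁ U ≤ f ⁻¹ᵁ U)

local notation "εk" => (DualNumber.eps : DualNumber k)

include hsq hiq hip hf in
theorem exists_der (U : X₀.Opens) (s : Γ(X₀, U)) :
    ∃ t : Γ(X₀, U), f.appLE U (q ⁻¹ᵁ U) (he U) s =
      q.app U s + fn p εk (q ⁻¹ᵁ U) * q.app U t := by
  have h0 : i.appLE (q ⁻¹ᵁ U) U (le_i_preimage q i hiq U)
      (f.appLE U (q ⁻¹ᵁ U) (he U) s - q.app U s) = 0 := by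
    rw [map_sub, i_appLE_q q i hiq, i_appLE_appLE i f hf, sub_self]
  obtain ⟨t, ht⟩ := exists_eq_eps_mul x q p hsq i hiq hip U _ h0
  exact ⟨t, by rw [← ht]; ring⟩

include hsq hiq hip hf in
/-- the derivation, on functions -/
noncomputable def derFn (U : X₀.Opens) (s : Γ(X₀, U)) : Γ(X₀, U) :=
  (exists_der x q p hsq i hiq hip f hf he U s).choose

local notation "𝔡" => derFn x q p hsq i hiq hip f hf he

theorem derFn_spec (U : X₀.Opens) (s : Γ(X₀, U)) :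
    f.appLE U (q ⁻¹ᵁ U) (he U) s = q.app U s + fn p εk (q ⁻¹ᵁ U) * q.app U (𝔡 U s) :=
  (exists_der x q p hsq i hiq hip f hf he U s).choose_spec

theorem derFn_unique (U : X₀.Opens) (s t : Γ(X₀, U))
    (h : f.appLE U (q ⁻¹ᵁ U) (he U) s = q.app U s + fn p εk (q ⁻¹ᵁ U) * q.app U t) :
    t = 𝔡 U s := by
  have h1 := derFn_spec x q p hsq i hiq hip f hf he U s
  rw [h] at h1
  have h2 : fn p εk (q ⁻¹ᵁ U) * q.app U (t - 𝔡 U s) = 0 := by
    rw [map_sub, mul_sub]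
    exact sub_eq_zero.mpr (add_left_cancel h1)
  exact sub_eq_zero.mp (eps_mul_injective x q p hsq U _ h2)

theorem derFn_add (U : X₀.Opens) (a b : Γ(X₀, U)) : 𝔡 U (a + b) = 𝔡 U a + 𝔡 U b := by
  symm
  apply derFn_unique
  rw [map_add, derFn_spec x q p hsq i hiq hip f hf he U a,
    derFn_spec x q p hsq i hiq hip f hf he U b]
  simp only [map_add]
  ring

theorem derFn_mul (U : X₀.Opens) (a b : Γ(X₀, U)) :
    𝔡 U (a * b) = a * 𝔡 U b + b * 𝔡 U a := by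
  symm
  apply derFn_unique
  rw [map_mul, derFn_spec x q p hsq i hiq hip f hf he U a,
    derFn_spec x q p hsq i hiq hip f hf he U b]
  simp only [map_add, map_mul]
  linear_combination (q.app U (𝔡 U a) * q.app U (𝔡 U b)) * eps_mul_eps p (q ⁻¹ᵁ U)

theorem derFn_map {U V : X₀.Opens} (h : V ≤ U) (s : Γ(X₀, U)) :
    𝔡 V (rres X₀ h s) = rres X₀ h (𝔡 U s) := by
  symm
  apply derFn_unique
  rw [appLE_rres' f h (q.preimage_mono h) (he U) (he V) s,
    derFn_spec x q p hsq i hiq hip f hf he U s, app_rres q h s, ← rres_eps_mul q p h]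
  exact map_add _ _ _

include hfx in
theorem derFn_app (V : (Spec (CommRingCat.of k)).Opens) (c : Γ(Spec (CommRingCat.of k), V)) :
    𝔡 (x ⁻¹ᵁ V) (x.app V c) = 0 := by
  symm
  apply derFn_unique
  rw [map_zero, mul_zero, add_zero]
  have h1 := Scheme.Hom.appLE_comp_appLE f x V (x ⁻¹ᵁ V) (q ⁻¹ᵁ (x ⁻¹ᵁ V)) le_rfl (he _)
  have h2 := appLE_of_eq hfx V (q ⁻¹ᵁ (x ⁻¹ᵁ V)) (he (x ⁻¹ᵁ V))
  have h3 := Scheme.Hom.appLE_comp_appLE q x V (x ⁻¹ᵁ V) (q ⁻¹ᵁ (x ⁻¹ᵁ V)) le_rfl le_rfl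
  have h4 := congrArg (fun φ => φ.hom c) (h1.trans (h2.trans h3.symm))
  have e1 : x.app V c = x.appLE V (x ⁻¹ᵁ V) le_rfl c := by rw [← Scheme.Hom.app_eq_appLE x]
  have e2 : q.app (x ⁻¹ᵁ V) (x.appLE V (x ⁻¹ᵁ V) le_rfl c) =
      q.appLE (x ⁻¹ᵁ V) (q ⁻¹ᵁ (x ⁻¹ᵁ V)) le_rfl (x.appLE V (x ⁻¹ᵁ V) le_rfl c) := by
    rw [← Scheme.Hom.app_eq_appLE q]
  rw [e1, e2]
  exact h4

/-- the derivation attached to `f` -/
noncomputable def derOf : OmegaSh.Der x (Coh.structureModule X₀) where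
  d {U} := AddMonoidHom.mk' (fun s => OmegaSh.strSect X₀ U.unop (𝔡 U.unop s))
    (fun a b => (congrArg (OmegaSh.strSect X₀ U.unop)
      (derFn_add x q p hsq i hiq hip f hf he U.unop a b)).trans (map_add _ _ _))
  d_mul {U} a b := congrArg (OmegaSh.strSect X₀ U.unop)
    (derFn_mul x q p hsq i hiq hip f hf he U.unop a b)
  d_map {_ _} j s := congrArg (OmegaSh.strSect X₀ _)
    (derFn_map x q p hsq i hiq hip f hf he j.unop.le s)
  d_app {V} c := (congrArg (OmegaSh.strSect X₀ _)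
    (derFn_app x q p hsq i hiq hip f hf hfx he V.unop c)).trans (map_zero _)

theorem derOf_spec (U : X₀.Opens) (s : Γ(X₀, U)) :
    f.appLE U (q ⁻¹ᵁ U) (he U) s = q.app U s + fn p εk (q ⁻¹ᵁ U) *
      q.app U (OmegaSh.fnSect X₀ U ((derOf x q p hsq i hiq hip f hf hfx he).app U s)) :=
  derFn_spec x q p hsq i hiq hip f hf he U s

end Groth.Agent.Lib.Helper25.InfAutSchB
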