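import Mathlib
import Groth.Agent.Lib.Helper25.InfAutSchA
import Groth.Agent.Lib.Helper1.DerPb

/-! The retraction `Xε ⟶ X₀` attached to a derivation `D`: `s ↦ q♯ s + ε q♯ (D s)`. -/

set_option autoImplicit false
set_option linter.style.haveILetI false
set_option linter.unusedSectionVars false
universe u
open CategoryTheory CategoryTheory.Limits AlgebraicGeometry TopologicalSpace Opposite

namespace Groth.Agent.Lib.Helper25.InfAutSchC

open Groth.Agent.Lib.Helper17.SpecBC Groth.Agent.Lib.Helper1 Groth.Agent.Lib.Helper3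
open Groth.Agent.Lib.Helper3.QCSec
open Groth.Agent.Lib.Helper25.InfAutMod Groth.Agent.Lib.Helper25.InfAutSchA

variable {k : Type u} [Field k] {X₀ Xε : Scheme.{u}} (x : X₀ ⟶ Spec (CommRingCat.of k))
  (q : Xε ⟶ X₀) (p : Xε ⟶ Spec (CommRingCat.of (DualNumber k)))
  (i : X₀ ⟶ Xε) (hiq : i ≫ q = 𝟙 X₀)
  (hip : i ≫ p = x ≫ Spec.map (CommRingCat.ofHom (TrivSqZeroExt.fstHom k k k).toRingHom))
  (D : OmegaSh.Der x (Coh.structureModule X₀))

local notation "εk" => (DualNumber.eps : DualNumber k)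

/-- `D` on functions -/
noncomputable def dfn (U : X₀.Opens) : Γ(X₀, U) →+ Γ(X₀, U) :=
  (OmegaSh.fnSect X₀ U).comp (D.app U)

theorem dfn_mul (U : X₀.Opens) (a b : Γ(X₀, U)) :
    dfn x D U (a * b) = a * dfn x D U b + b * dfn x D U a :=
  congrArg (OmegaSh.fnSect X₀ U) (DerPb.app_mul D U a b)

theorem dfn_one (U : X₀.Opens) : dfn x D U 1 = 0 :=
  (congrArg (OmegaSh.fnSect X₀ U) (DerPb.app_one D U)).trans (map_zero _)

theorem dfn_map {U V : X₀.Opens} (h : V ≤ U) (s : Γ(X₀, U)) :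
    dfn x D V (rres X₀ h s) = rres X₀ h (dfn x D U s) :=
  congrArg (OmegaSh.fnSect X₀ V) (DerPb.app_map D h s)

theorem dfn_app (V : (Spec (CommRingCat.of k)).Opens) (c : Γ(Spec (CommRingCat.of k), V)) :
    dfn x D (x ⁻¹ᵁ V) (x.app V c) = 0 :=
  (congrArg (OmegaSh.fnSect X₀ (x ⁻¹ᵁ V)) (D.d_app (X := op V) c)).trans (map_zero _)

/-- the ring homomorphism `s ↦ q♯ s + ε q♯ (D s)` -/
noncomputable def cHom (U : X₀.Opens) : Γ(X₀, U) →+* Γ(Xε, q ⁻¹ᵁ U) where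
  toFun s := q.app U s + fn p εk (q ⁻¹ᵁ U) * q.app U (dfn x D U s)
  map_one' := by rw [map_one, dfn_one, map_zero, mul_zero, add_zero]
  map_mul' a b := by
    rw [dfn_mul]
    simp only [map_add, map_mul]
    linear_combination (-(q.app U (dfn x D U a) * q.app U (dfn x D U b))) *
      eps_mul_eps p (q ⁻¹ᵁ U)
  map_zero' := by rw [map_zero, map_zero, map_zero, mul_zero, add_zero]
  map_add' a b := by
    simp only [map_add]
    ring

theorem cHom_apply (U : X₀.Opens) (s : Γ(X₀, U)) :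
    cHom x q p D U s = q.app U s + fn p εk (q ⁻¹ᵁ U) * q.app U (dfn x D U s) := rfl

theorem cHom_res {U V : X₀.Opens} (h : V ≤ U) (s : Γ(X₀, U)) :
    cHom x q p D V (rres X₀ h s) = rres Xε (q.preimage_mono h) (cHom x q p D U s) := by
  rw [cHom_apply, cHom_apply, dfn_map, app_rres q h s, ← rres_eps_mul q p h]
  exact (map_add _ _ _).symm

/-- the morphism of presheaves of rings -/
noncomputable def cNat :
    X₀.presheaf ⟶ (TopCat.Presheaf.pushforward CommRingCat q.base).obj Xε.presheaf where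
  app U := CommRingCat.ofHom (cHom x q p D U.unop)
  naturality U V j := by
    refine CommRingCat.hom_ext (RingHom.ext fun s => ?_)
    exact cHom_res x q p D j.unop.le s

/-- the morphism of presheafed spaces -/
noncomputable def pHom : Xε.toPresheafedSpace.Hom X₀.toPresheafedSpace :=
  ⟨q.base, cNat x q p D⟩

theorem isLocalHom_stalkMap (y : Xε) : IsLocalHom ((pHom x q p D).stalkMap y).hom := by
  constructor
  intro a ha
  obtain ⟨U, hyU, s, rfl⟩ := TopCat.Presheaf.exists_germ_eq X₀.presheaf a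
  have h1 : (pHom x q p D).stalkMap y (X₀.presheaf.germ U (q.base y) hyU s) =
      Xε.presheaf.germ (q ⁻¹ᵁ U) y hyU (cHom x q p D U s) :=
    PresheafedSpace.stalkMap_germ_apply (pHom x q p D) U y hyU s
  have ha' : IsUnit (Xε.presheaf.germ (q ⁻¹ᵁ U) y hyU (cHom x q p D U s)) := by
    rw [← h1]; exact ha
  obtain ⟨A, hA⟩ : ∃ A, A = Xε.presheaf.germ (q ⁻¹ᵁ U) y hyU (q.app U s) := ⟨_, rfl⟩
  obtain ⟨E, hE⟩ : ∃ E, E = Xε.presheaf.germ (q ⁻¹ᵁ U) y hyU (fn p εk (q ⁻¹ᵁ U)) := ⟨_, rfl⟩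
  obtain ⟨B, hB⟩ : ∃ B, B = Xε.presheaf.germ (q ⁻¹ᵁ U) y hyU (q.app U (dfn x D U s)) :=
    ⟨_, rfl⟩
  have h2 : Xε.presheaf.germ (q ⁻¹ᵁ U) y hyU (cHom x q p D U s) = A + E * B := by
    rw [hA, hE, hB, cHom_apply, map_add, map_mul]
  have hEE : E * E = 0 := by rw [hE, ← map_mul, eps_mul_eps, map_zero]
  have hnil : IsNilpotent (-(E * B)) := ⟨2, by
    have h0 : (-(E * B)) ^ 2 = (E * E) * (B * B) := by ring
    rw [h0, hEE, zero_mul]⟩
  have hu : IsUnit A := by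
    have h3 := IsNilpotent.isUnit_add_left_of_commute hnil ha' (Commute.all _ _)
    rw [h2] at h3
    have h4 : A + E * B + -(E * B) = A := by ring
    rw [h4] at h3
    exact h3
  have h5 : q.stalkMap y (X₀.presheaf.germ U (q.base y) hyU s) = A := by
    rw [hA]
    exact Scheme.Hom.germ_stalkMap_apply q U y hyU s
  rw [← h5] at hu
  exact isUnit_of_map_unit (q.stalkMap y).hom _ hu

/-- the retraction attached to `D` -/
noncomputable def homOf : Xε ⟶ X₀ := ⟨⟨pHom x q p D, isLocalHom_stalkMap x q p D⟩⟩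

theorem homOf_appLE (U : X₀.Opens) (e : q ⁻¹ᵁ U ≤ (homOf x q p D) ⁻¹ᵁ U) (s : Γ(X₀, U)) :
    (homOf x q p D).appLE U (q ⁻¹ᵁ U) e s =
      q.app U s + fn p εk (q ⁻¹ᵁ U) * q.app U (dfn x D U s) := by
  have h : (homOf x q p D).appLE U (q ⁻¹ᵁ U) e = (homOf x q p D).app U :=
    (Scheme.Hom.app_eq_appLE (homOf x q p D)).symm
  rw [h]
  rfl

include hiq hip in
theorem i_comp_homOf : i ≫ homOf x q p D = 𝟙 X₀ := by
  refine ToProj.hom_ext_of_appLE _ _ (fun k : X₀.affineOpens => k.1) (fun k => k.2)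
    (fun k => k.1) (fun y => ?_) (fun k => le_i_preimage q i hiq k.1) (fun k => le_rfl)
    (fun k => ?_)
  · obtain ⟨_, ⟨V, hV, rfl⟩, hyV, -⟩ :=
      X₀.isBasis_affineOpens.exists_subset_of_mem_open (Set.mem_univ y) isOpen_univ
    exact ⟨⟨V, hV⟩, hyV⟩
  · refine CommRingCat.hom_ext (RingHom.ext fun s => ?_)
    have h1 := Scheme.Hom.appLE_comp_appLE i (homOf x q p D) k.1 (q ⁻¹ᵁ k.1) k.1 le_rfl
      (le_i_preimage q i hiq k.1)
    have h3 := congrArg (fun φ => φ.hom s) h1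
    rw [SecSch.id_appLE k.1 le_rfl]
    refine h3.symm.trans ?_
    change i.appLE (q ⁻¹ᵁ k.1) k.1 (le_i_preimage q i hiq k.1)
      ((homOf x q p D).appLE k.1 (q ⁻¹ᵁ k.1) le_rfl s) = s
    rw [homOf_appLE, map_add, map_mul, i_appLE_q q i hiq, i_appLE_eps x p i hip, zero_mul,
      add_zero]

theorem homOf_comp_x : homOf x q p D ≫ x = q ≫ x := by
  apply ext_of_isAffine
  rw [Scheme.Hom.comp_appTop, Scheme.Hom.comp_appTop]
  refine CommRingCat.hom_ext (RingHom.ext fun c => ?_)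
  change q.app (x ⁻¹ᵁ ⊤) (x.app ⊤ c) + fn p εk (q ⁻¹ᵁ (x ⁻¹ᵁ ⊤)) *
    q.app (x ⁻¹ᵁ ⊤) (dfn x D (x ⁻¹ᵁ ⊤) (x.app ⊤ c)) = q.app (x ⁻¹ᵁ ⊤) (x.app ⊤ c)
  rw [dfn_app, map_zero, mul_zero, add_zero]

end Groth.Agent.Lib.Helper25.InfAutSchC
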