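import Mathlib
import Groth.Agent.Lib.Helper25.InfAutSchB
import Groth.Agent.Lib.Helper25.InfAutSchC

/-! Infinitesimal automorphisms of the trivial first order deformation are the derivations. -/

set_option autoImplicit false
set_option linter.style.haveILetI false
set_option linter.unusedSectionVars false
universe u
open CategoryTheory CategoryTheory.Limits AlgebraicGeometry TopologicalSpace Opposite

namespace Groth.Agent.Lib.Helper25.InfAutSchD

open Groth.Agent.Lib.Helper17.SpecBC Groth.Agent.Lib.Helper1 Groth.Agent.Lib.Helper3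
open Groth.Agent.Lib.Helper3.QCSec
open Groth.Agent.Lib.Helper25.InfAutMod Groth.Agent.Lib.Helper25.InfAutSchA
open Groth.Agent.Lib.Helper25.InfAutSchB Groth.Agent.Lib.Helper25.InfAutSchC

variable {k : Type u} [Field k] {X₀ Xε : Scheme.{u}} (x : X₀ ⟶ Spec (CommRingCat.of k))
  (q : Xε ⟶ X₀) (p : Xε ⟶ Spec (CommRingCat.of (DualNumber k)))
  (hsq : IsPullback q p x (Spec.map (CommRingCat.ofHom (algebraMap k (DualNumber k)))))
  (i : X₀ ⟶ Xε) (hiq : i ≫ q = 𝟙 X₀)
  (hip : i ≫ p = x ≫ Spec.map (CommRingCat.ofHom (TrivSqZeroExt.fstHom k k k).toRingHom))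

local notation "εk" => (DualNumber.eps : DualNumber k)

theorem exists_affine_mem (y : X₀) : ∃ k : X₀.affineOpens, y ∈ k.1 := by
  obtain ⟨_, ⟨V, hV, rfl⟩, hyV, -⟩ :=
    X₀.isBasis_affineOpens.exists_subset_of_mem_open (Set.mem_univ y) isOpen_univ
  exact ⟨⟨V, hV⟩, hyV⟩

/-- the endomorphism of `Xε` attached to a derivation -/
noncomputable def autHom (D : OmegaSh.Der x (Coh.structureModule X₀)) : Xε ⟶ Xε :=
  hsq.lift (homOf x q p D) p ((homOf_comp_x x q p D).trans hsq.w)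

theorem autHom_q (D : OmegaSh.Der x (Coh.structureModule X₀)) :
    autHom x q p hsq D ≫ q = homOf x q p D := hsq.lift_fst _ _ _

theorem autHom_p (D : OmegaSh.Der x (Coh.structureModule X₀)) :
    autHom x q p hsq D ≫ p = p := hsq.lift_snd _ _ _

theorem le_autHom_preimage (D : OmegaSh.Der x (Coh.structureModule X₀)) (U : X₀.Opens) :
    q ⁻¹ᵁ U ≤ (autHom x q p hsq D) ⁻¹ᵁ (q ⁻¹ᵁ U) := by
  change q ⁻¹ᵁ U ≤ (autHom x q p hsq D ≫ q) ⁻¹ᵁ U
  rw [autHom_q]
  exact le_rfl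

theorem autHom_appLE_q (D : OmegaSh.Der x (Coh.structureModule X₀)) (U : X₀.Opens)
    (t : Γ(X₀, U)) :
    (autHom x q p hsq D).appLE (q ⁻¹ᵁ U) (q ⁻¹ᵁ U) (le_autHom_preimage x q p hsq D U)
        (q.app U t) =
      q.app U t + fn p εk (q ⁻¹ᵁ U) * q.app U (dfn x D U t) := by
  have e1 := Scheme.Hom.appLE_comp_appLE (autHom x q p hsq D) q U (q ⁻¹ᵁ U) (q ⁻¹ᵁ U) le_rfl
    (le_autHom_preimage x q p hsq D U)
  have e2 := appLE_of_eq (autHom_q x q p hsq D) U (q ⁻¹ᵁ U) (le_autHom_preimage x q p hsq D U)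
  have e3 := congrArg (fun φ => φ.hom t) (e1.trans e2)
  have e4 : q.app U t = q.appLE U (q ⁻¹ᵁ U) le_rfl t := by rw [← Scheme.Hom.app_eq_appLE q]
  exact (congrArg (fun z => (autHom x q p hsq D).appLE (q ⁻¹ᵁ U) (q ⁻¹ᵁ U)
    (le_autHom_preimage x q p hsq D U) z) e4).trans
      (e3.trans (homOf_appLE x q p D U _ t))

theorem autHom_comp (D D' D'' : OmegaSh.Der x (Coh.structureModule X₀))
    (h : ∀ (U : X₀.Opens) (s : Γ(X₀, U)), dfn x D'' U s = dfn x D U s + dfn x D' U s) :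
    autHom x q p hsq D ≫ autHom x q p hsq D' = autHom x q p hsq D'' := by
  apply hsq.hom_ext
  · rw [Category.assoc, autHom_q, autHom_q]
    refine ToProj.hom_ext_of_appLE _ _ (fun k : X₀.affineOpens => k.1) (fun k => k.2)
      (fun k => q ⁻¹ᵁ k.1) (fun y => exists_affine_mem (q y))
      (fun k => le_autHom_preimage x q p hsq D k.1) (fun k => le_rfl) (fun k => ?_)
    refine CommRingCat.hom_ext (RingHom.ext fun s => ?_)
    have h1 := Scheme.Hom.appLE_comp_appLE (autHom x q p hsq D) (homOf x q p D') k.1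
      (q ⁻¹ᵁ k.1) (q ⁻¹ᵁ k.1) le_rfl (le_autHom_preimage x q p hsq D k.1)
    refine (congrArg (fun φ => φ.hom s) h1).symm.trans ?_
    change (autHom x q p hsq D).appLE (q ⁻¹ᵁ k.1) (q ⁻¹ᵁ k.1) (le_autHom_preimage x q p hsq D k.1)
      ((homOf x q p D').appLE k.1 (q ⁻¹ᵁ k.1) le_rfl s) =
      (homOf x q p D'').appLE k.1 (q ⁻¹ᵁ k.1) le_rfl s
    rw [homOf_appLE, homOf_appLE, map_add, map_mul, appLE_fn p (autHom_p x q p hsq D),
      autHom_appLE_q, autHom_appLE_q, h k.1 s, map_add]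
    linear_combination (q.app k.1 (dfn x D k.1 (dfn x D' k.1 s))) * eps_mul_eps p (q ⁻¹ᵁ k.1)
  · rw [Category.assoc, autHom_p, autHom_p, autHom_p]

theorem autHom_eq_id (D : OmegaSh.Der x (Coh.structureModule X₀))
    (h : ∀ (U : X₀.Opens) (s : Γ(X₀, U)), dfn x D U s = 0) : autHom x q p hsq D = 𝟙 Xε := by
  apply hsq.hom_ext
  · rw [autHom_q, Category.id_comp]
    refine ToProj.hom_ext_of_appLE _ _ (fun k : X₀.affineOpens => k.1) (fun k => k.2)
      (fun k => q ⁻¹ᵁ k.1) (fun y => exists_affine_mem (q y))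
      (fun k => le_rfl) (fun k => le_rfl) (fun k => ?_)
    refine CommRingCat.hom_ext (RingHom.ext fun s => ?_)
    refine (homOf_appLE x q p D k.1 _ s).trans ?_
    rw [h, map_zero, mul_zero, add_zero]
    exact congrArg (fun φ => φ.hom s) (Scheme.Hom.app_eq_appLE q)
  · rw [autHom_p, Category.id_comp]

include hiq hip in
theorem i_comp_autHom (D : OmegaSh.Der x (Coh.structureModule X₀)) :
    i ≫ autHom x q p hsq D = i := by
  apply hsq.hom_ext
  · rw [Category.assoc, autHom_q, i_comp_homOf x q p i hiq hip D, hiq]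
  · rw [Category.assoc, autHom_p]

include hsq in
theorem homOf_injective (D D' : OmegaSh.Der x (Coh.structureModule X₀))
    (h : homOf x q p D = homOf x q p D') : D = D' := by
  have key : ∀ (U : X₀.Opens) (s : Γ(X₀, U)), dfn x D U s = dfn x D' U s := by
    intro U s
    have h1 := homOf_appLE x q p D U le_rfl s
    have h2 := homOf_appLE x q p D' U le_rfl s
    have h3 : (homOf x q p D).appLE U (q ⁻¹ᵁ U) le_rfl s =
        (homOf x q p D').appLE U (q ⁻¹ᵁ U) le_rfl s :=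
      congrArg (fun φ => φ.hom s) (appLE_of_eq h U (q ⁻¹ᵁ U) le_rfl)
    rw [h1, h2] at h3
    have h4 : fn p εk (q ⁻¹ᵁ U) * q.app U (dfn x D U s - dfn x D' U s) = 0 := by
      rw [map_sub, mul_sub]
      exact sub_eq_zero.mpr (add_left_cancel h3)
    exact sub_eq_zero.mp (eps_mul_injective x q p hsq U _ h4)
  apply PresheafOfModules.Derivation.ext
  funext U
  ext s
  exact key U.unop s

theorem homOf_derOf (f : Xε ⟶ X₀) (hf : i ≫ f = 𝟙 X₀) (hfx : f ≫ x = q ≫ x)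
    (he : ∀ U : X₀.Opens, q ⁻¹ᵁ U ≤ f ⁻¹ᵁ U) :
    homOf x q p (derOf x q p hsq i hiq hip f hf hfx he) = f := by
  refine ToProj.hom_ext_of_appLE _ _ (fun k : X₀.affineOpens => k.1) (fun k => k.2)
    (fun k => q ⁻¹ᵁ k.1) (fun y => exists_affine_mem (q y))
    (fun k => le_rfl) (fun k => he k.1) (fun k => ?_)
  refine CommRingCat.hom_ext (RingHom.ext fun s => ?_)
  exact (homOf_appLE x q p _ k.1 _ s).trans
    (derOf_spec x q p hsq i hiq hip f hf hfx he k.1 s).symm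

section Univ

variable {Ω : X₀.Modules} (d : OmegaSh.Der x Ω)

theorem dfn_postcomp_add (α β : Ω ⟶ Coh.structureModule X₀) (U : X₀.Opens) (s : Γ(X₀, U)) :
    dfn x (d.postcomp (α + β).val) U s =
      dfn x (d.postcomp α.val) U s + dfn x (d.postcomp β.val) U s := rfl

theorem dfn_postcomp_zero (U : X₀.Opens) (s : Γ(X₀, U)) :
    dfn x (d.postcomp (0 : Ω ⟶ Coh.structureModule X₀).val) U s = 0 := rfl

/-- the endomorphism `1 + ε α d` -/
noncomputable def A (α : Ω ⟶ Coh.structureModule X₀) : Xε ⟶ Xε :=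
  autHom x q p hsq (d.postcomp α.val)

theorem A_add (α β : Ω ⟶ Coh.structureModule X₀) :
    A x q p hsq d α ≫ A x q p hsq d β = A x q p hsq d (α + β) :=
  autHom_comp x q p hsq _ _ _ (fun U s => dfn_postcomp_add x d α β U s)

theorem A_zero : A x q p hsq d 0 = 𝟙 Xε :=
  autHom_eq_id x q p hsq _ (fun U s => dfn_postcomp_zero x d U s)

/-- the automorphism `1 + ε α d` -/
noncomputable def AIso (α : Ω ⟶ Coh.structureModule X₀) : Xε ≅ Xε where
  hom := A x q p hsq d α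
  inv := A x q p hsq d (-α)
  hom_inv_id := by rw [A_add, add_neg_cancel, A_zero]
  inv_hom_id := by rw [A_add, neg_add_cancel, A_zero]

/-- the map from homomorphisms `Ω ⟶ O` to infinitesimal automorphisms -/
noncomputable def E (α : Ω ⟶ Coh.structureModule X₀) :
    {φ : Xε ≅ Xε // φ.hom ≫ p = p ∧ i ≫ φ.hom = i} :=
  ⟨AIso x q p hsq d α, autHom_p x q p hsq _, i_comp_autHom x q p hsq i hiq hip _⟩

theorem E_injective (hd : OmegaSh.IsUniversal d) :
    Function.Injective (E x q p hsq i hiq hip d) := by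
  intro α β h
  have h1 : autHom x q p hsq (d.postcomp α.val) = autHom x q p hsq (d.postcomp β.val) :=
    congrArg (fun φ : {φ : Xε ≅ Xε // φ.hom ≫ p = p ∧ i ≫ φ.hom = i} => φ.1.hom) h
  have h2 : homOf x q p (d.postcomp α.val) = homOf x q p (d.postcomp β.val) := by
    rw [← autHom_q x q p hsq (d.postcomp α.val), ← autHom_q x q p hsq (d.postcomp β.val), h1]
  have h3 := homOf_injective x q p hsq _ _ h2
  exact (hd _ (d.postcomp β.val)).unique h3 rfl

theorem E_surjective (hd : OmegaSh.IsUniversal d) :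
    Function.Surjective (E x q p hsq i hiq hip d) := by
  rintro ⟨φ, hφp, hφi⟩
  have hf : i ≫ (φ.hom ≫ q) = 𝟙 X₀ := by rw [← Category.assoc, hφi, hiq]
  have hfx : (φ.hom ≫ q) ≫ x = q ≫ x := by
    rw [Category.assoc, hsq.w, ← Category.assoc, hφp]
  have he : ∀ U : X₀.Opens, q ⁻¹ᵁ U ≤ (φ.hom ≫ q) ⁻¹ᵁ U :=
    fun U => (preimage_eq x q p hsq i hiq hip _ hf U).ge
  obtain ⟨α, hα, -⟩ := hd _ (derOf x q p hsq i hiq hip (φ.hom ≫ q) hf hfx he)
  refine ⟨α, ?_⟩
  apply Subtype.ext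
  apply Iso.ext
  change autHom x q p hsq (d.postcomp α.val) = φ.hom
  apply hsq.hom_ext
  · rw [autHom_q]
    have hα' : d.postcomp α.val = derOf x q p hsq i hiq hip (φ.hom ≫ q) hf hfx he := hα
    rw [hα']
    exact homOf_derOf x q p hsq i hiq hip _ hf hfx he
  · rw [autHom_p, hφp]

include hsq hiq hip in
theorem main (hd : OmegaSh.IsUniversal d) :
    ∃ e : {φ : Xε ≅ Xε // φ.hom ≫ p = p ∧ i ≫ φ.hom = i} ≃ (Ω ⟶ Coh.structureModule X₀),
      ∀ φ ψ χ : {φ : Xε ≅ Xε // φ.hom ≫ p = p ∧ i ≫ φ.hom = i},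
        φ.1 ≪≫ ψ.1 = χ.1 → e χ = e φ + e ψ := by
  let Eq := Equiv.ofBijective (E x q p hsq i hiq hip d)
    ⟨E_injective x q p hsq i hiq hip d hd, E_surjective x q p hsq i hiq hip d hd⟩
  refine ⟨Eq.symm, fun φ ψ χ h => ?_⟩
  apply Eq.injective
  rw [Equiv.apply_symm_apply]
  have hφ : E x q p hsq i hiq hip d (Eq.symm φ) = φ := Eq.apply_symm_apply φ
  have hψ : E x q p hsq i hiq hip d (Eq.symm ψ) = ψ := Eq.apply_symm_apply ψ
  have hφ' : A x q p hsq d (Eq.symm φ) = φ.1.hom :=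
    congrArg (fun φ : {φ : Xε ≅ Xε // φ.hom ≫ p = p ∧ i ≫ φ.hom = i} => φ.1.hom) hφ
  have hψ' : A x q p hsq d (Eq.symm ψ) = ψ.1.hom :=
    congrArg (fun φ : {φ : Xε ≅ Xε // φ.hom ≫ p = p ∧ i ≫ φ.hom = i} => φ.1.hom) hψ
  apply Subtype.ext
  apply Iso.ext
  change χ.1.hom = A x q p hsq d (Eq.symm φ + Eq.symm ψ)
  rw [← A_add, hφ', hψ', ← h]
  rfl

end Univ

end Groth.Agent.Lib.Helper25.InfAutSchD
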