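import Mathlib
import Groth.Agent.Lib.Helper25.DefAutC
import Groth.Agent.Lib.Helper25.InfAutSchD
import Groth.Agent.Lib.Helper17.DefH0A
import Groth.Prelude.Def_ArtFun4

/-! `Hom(Ω_X, O_X) = 0` iff no deformation of `X` over an Artin ring has a non-trivial automorphism. -/

set_option autoImplicit false
set_option linter.style.haveILetI false
set_option linter.unusedSectionVars false
universe u
open CategoryTheory CategoryTheory.Limits AlgebraicGeometry TopologicalSpace Opposite

namespace Groth.Agent.Lib.Helper25.DefAutD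

open Groth.Agent.Lib.Helper25.InfAutSchA Groth.Agent.Lib.Helper25.InfAutSchD

variable {k : Type u} [Field k] (X : Scheme.{u}) (x : X ⟶ Spec (CommRingCat.of k))
  {Ω : X.Modules} (d : OmegaSh.Der x Ω) (hd : OmegaSh.IsUniversal d)

include hd in
theorem forall_of_subsingleton (hsub : Subsingleton (Ω ⟶ Coh.structureModule X))
    (A : ArtFun.Art k k) (ξ : ArtFun.DefSch X x A) (e : ξ.Iso ξ) : e.iso.hom = 𝟙 ξ.total := by
  have hΩ : ∀ (D : OmegaSh.Der x (Coh.structureModule X)) (U : X.Opens) (s : Γ(X, U)),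
      D.app U s = 0 := by
    intro D U s
    obtain ⟨α, hα, -⟩ := hd _ D
    have hα0 : α = 0 := Subsingleton.elim _ _
    have hα' : d.postcomp α.val = D := hα
    rw [← hα', hα0]
    rfl
  exact Groth.Agent.Lib.Helper25.DefAutC.aut_eq_id x ξ.f ξ.i
    (CommRingCat.ofHom A.res.toRingHom) A.res_surjective ξ.isPullback e.iso.hom e.hom_f e.i_hom hΩ

include hd in
theorem subsingleton_of_forall
    (h : ∀ (ξ : ArtFun.DefSch X x (ArtFun.Art.dual k k)) (e : ξ.Iso ξ),
      e.iso.hom = 𝟙 ξ.total) : Subsingleton (Ω ⟶ Coh.structureModule X) := by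
  refine ⟨fun α β => ?_⟩
  have hστ : CommRingCat.ofHom (algebraMap k (DualNumber k)) ≫
      CommRingCat.ofHom (TrivSqZeroExt.fstHom k k k).toRingHom = 𝟙 _ := by
    refine CommRingCat.hom_ext (RingHom.ext fun r => ?_)
    change TrivSqZeroExt.fst (algebraMap k (DualNumber k) r) = r
    simp [TrivSqZeroExt.algebraMap_eq_inl]
  have hτσ : Spec.map (CommRingCat.ofHom (TrivSqZeroExt.fstHom k k k).toRingHom) ≫
      Spec.map (CommRingCat.ofHom (algebraMap k (DualNumber k))) = 𝟙 _ := by
    rw [← Spec.map_comp, hστ, Spec.map_id]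
  obtain ⟨σ, hσ⟩ : ∃ σ, σ = Spec.map (CommRingCat.ofHom (algebraMap k (DualNumber k))) :=
    ⟨_, rfl⟩
  have hsq : IsPullback (pullback.fst x (Spec.map (CommRingCat.ofHom (algebraMap k (DualNumber k)))))
      (pullback.snd x (Spec.map (CommRingCat.ofHom (algebraMap k (DualNumber k))))) x
      (Spec.map (CommRingCat.ofHom (algebraMap k (DualNumber k)))) := IsPullback.of_hasPullback _ _
  obtain ⟨i, hiq, hip⟩ : ∃ i : X ⟶ pullback x (Spec.map (CommRingCat.ofHom (algebraMap k (DualNumber k)))),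
      i ≫ pullback.fst x _ = 𝟙 X ∧ i ≫ pullback.snd x _ =
        x ≫ Spec.map (CommRingCat.ofHom (TrivSqZeroExt.fstHom k k k).toRingHom) :=
    ⟨pullback.lift (𝟙 X) (x ≫ Spec.map (CommRingCat.ofHom (TrivSqZeroExt.fstHom k k k).toRingHom))
      (by rw [Category.id_comp, Category.assoc, hτσ, Category.comp_id]),
      pullback.lift_fst _ _ _, pullback.lift_snd _ _ _⟩
  haveI : Flat x := Groth.Agent.Lib.Helper17.DefH0A.flat_to_field X x
  let ξ₀ : ArtFun.DefSch X x (ArtFun.Art.dual k k) :=
    { total := pullback x (Spec.map (CommRingCat.ofHom (algebraMap k (DualNumber k))))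
      f := pullback.snd x (Spec.map (CommRingCat.ofHom (algebraMap k (DualNumber k))))
      flat := MorphismProperty.pullback_snd (P := @Flat) x _ inferInstance
      i := i
      isPullback := isPullback_i x _ _ hsq i hiq hip }
  have key : ∀ γ : Ω ⟶ Coh.structureModule X,
      autHom x _ _ hsq (d.postcomp γ.val) = 𝟙 _ := fun γ =>
    h ξ₀ ⟨AIso x _ _ hsq d γ, autHom_p x _ _ hsq _, i_comp_autHom x _ _ hsq i hiq hip _⟩
  exact E_injective x _ _ hsq i hiq hip d hd
    (Subtype.ext (Iso.ext ((key α).trans (key β).symm)))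

include hd in
theorem main : Subsingleton (Ω ⟶ Coh.structureModule X) ↔
    ∀ (A : ArtFun.Art k k) (ξ : ArtFun.DefSch X x A) (e : ξ.Iso ξ), e.iso.hom = 𝟙 ξ.total :=
  ⟨fun hsub A ξ e => forall_of_subsingleton X x d hd hsub A ξ e,
    fun h => subsingleton_of_forall X x d hd (fun ξ e => h _ ξ e)⟩

end Groth.Agent.Lib.Helper25.DefAutD
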