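import Mathlib
import Groth.Prelude
import Groth.Agent.Lib.Helper25.SplitFibre
import Groth.Agent.Lib.Helper25.FTDescent
import Groth.Agent.Lib.Helper3.FreeBasis
import Groth.Agent.Lib.Helper3.LocFreeCrit
import Groth.Agent.Lib.Helper3.QCExact

/-!
# Locally split monomorphisms into finite locally free modules
-/

set_option autoImplicit false
set_option linter.style.haveILetI false
universe u

open CategoryTheory CategoryTheory.Limits AlgebraicGeometry TopologicalSpace Opposite
open Groth.Agent.Lib.Helper2.Stk Groth.Agent.Lib.Helper3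
open Groth.Agent.Lib.Helper25

namespace Groth.Agent.Lib.Helper25.LocSplit

/-- Retractions transport along natural isomorphisms. -/
theorem retraction_of_natIso {C D : Type*} [Category C] [Category D] {G₁ G₂ : C ⥤ D}
    (Θ : G₁ ≅ G₂) {A B : C} (u : A ⟶ B) (r : G₂.obj B ⟶ G₂.obj A) (hr : G₂.map u ≫ r = 𝟙 _) :
    ∃ r' : G₁.obj B ⟶ G₁.obj A, G₁.map u ≫ r' = 𝟙 _ :=
  ⟨Θ.hom.app B ≫ r ≫ Θ.inv.app A, by
    rw [← Category.assoc, Θ.hom.naturality u, Category.assoc, ← Category.assoc (G₂.map u), hr,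
      Category.id_comp, Iso.hom_inv_id_app]⟩

section

variable {X : Scheme.{u}}

/-- The pullback of a locally split morphism is locally split. -/
theorem locally_split_pullback {X' : Scheme.{u}} (g : X' ⟶ X) {F V : X.Modules} (u : F ⟶ V)
    (h : ∀ x : X, ∃ U : X.Opens, x ∈ U ∧
      ∃ r : (Scheme.Modules.pullback U.ι).obj V ⟶ (Scheme.Modules.pullback U.ι).obj F,
        (Scheme.Modules.pullback U.ι).map u ≫ r = 𝟙 _) :
    ∀ x' : X', ∃ U' : X'.Opens, x' ∈ U' ∧
      ∃ r : (Scheme.Modules.pullback U'.ι).obj ((Scheme.Modules.pullback g).obj V) ⟶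
          (Scheme.Modules.pullback U'.ι).obj ((Scheme.Modules.pullback g).obj F),
        (Scheme.Modules.pullback U'.ι).map ((Scheme.Modules.pullback g).map u) ≫ r = 𝟙 _ := by
  intro x'
  obtain ⟨U, hxU, r, hr⟩ := h (g.base x')
  refine ⟨g ⁻¹ᵁ U, hxU, ?_⟩
  have hsq : (g ⁻¹ᵁ U).ι ≫ g = g ∣_ U ≫ U.ι := (morphismRestrict_ι g U).symm
  let Θ : Scheme.Modules.pullback g ⋙ Scheme.Modules.pullback (g ⁻¹ᵁ U).ι ≅
      Scheme.Modules.pullback U.ι ⋙ Scheme.Modules.pullback (g ∣_ U) :=
    Scheme.Modules.pullbackComp (g ⁻¹ᵁ U).ι g ≪≫ Scheme.Modules.pullbackCongr hsq ≪≫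
      (Scheme.Modules.pullbackComp (g ∣_ U) U.ι).symm
  exact retraction_of_natIso Θ u ((Scheme.Modules.pullback (g ∣_ U)).map r) (by
    rw [Functor.comp_map, ← CategoryTheory.Functor.map_comp, hr, CategoryTheory.Functor.map_id]
    rfl)

/-- Two morphisms out of the structure module with the same section are equal. -/
theorem eq_of_sec {N : X.Modules} (k₁ k₂ : Coh.structureModule X ⟶ N)
    (h : InvGen.sec k₁ ⊤ = InvGen.sec k₂ ⊤) : k₁ = k₂ := by
  apply Scheme.Modules.hom_ext
  intro U
  ext a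
  have h2 : InvGen.sec k₁ U = InvGen.sec k₂ U := by
    rw [← InvGen.res_sec k₁ (le_top : U ≤ ⊤), ← InvGen.res_sec k₂ (le_top : U ≤ ⊤), h]
  have h1 := InvGen.app_eq_smul_sec k₁ U (InvGen.toFun U a)
  have h1' := InvGen.app_eq_smul_sec k₂ U (InvGen.toFun U a)
  rw [h2] at h1
  exact h1.trans h1'.symm

theorem homOfSec_comp_restrict {M N : X.Modules} (φ : M ⟶ N) (U : X.Opens) (s : Γ(M, U)) :
    InvGen.homOfSec M U s ≫ (Scheme.Modules.restrictFunctor U.ι).map φ =
      InvGen.homOfSec N U (φ.app U s) := by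
  apply eq_of_sec
  have h2 := InvGen.sec_comp (InvGen.homOfSec M U s)
    ((Scheme.Modules.restrictFunctor U.ι).map φ) ⊤
  have h3 := InvGen.sec_homOfSec M U s ⊤
  have h3' := InvGen.sec_homOfSec N U (φ.app U s) ⊤
  have h4 : ((Scheme.Modules.restrictFunctor U.ι).map φ).app ⊤
      (InvGen.sec (InvGen.homOfSec M U s) ⊤) =
      φ.app (U.ι ''ᵁ ⊤) (QCSec.res M (U.ι_image_le ⊤) s) :=
    congrArg (fun z => φ.app (U.ι ''ᵁ ⊤) z) h3
  have h5 : φ.app (U.ι ''ᵁ ⊤) (QCSec.res M (U.ι_image_le ⊤) s) =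
      QCSec.res N (U.ι_image_le ⊤) (φ.app U s) := QCExact.app_res' φ _ s
  exact (h2.trans h4).trans (h5.trans h3'.symm)

/-- A monomorphism with finite locally free cokernel is locally split. -/
theorem locally_split_of_mono_cokernel {F V : X.Modules} (u : F ⟶ V) [Mono u]
    (hC : FlatMod.IsFinLocFree (cokernel u)) (x : X) :
    ∃ U : X.Opens, x ∈ U ∧
      ∃ r : (Scheme.Modules.pullback U.ι).obj V ⟶ (Scheme.Modules.pullback U.ι).obj F,
        (Scheme.Modules.pullback U.ι).map u ≫ r = 𝟙 _ := by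
  classical
  obtain ⟨U₀, n, e, hxU₀, he⟩ := (LocFreeCrit.isFinLocFree_iff.mp hC) x
  have hl : ∀ i : Fin n, ∃ (W' : X.Opens) (hW' : W' ≤ U₀) (_ : x ∈ W') (t : Γ(V, W')),
      (cokernel.π u).app W' t = (cokernel u).presheaf.map (homOfLE hW').op (e i) :=
    fun i => QCExact.exists_local_lift (cokernel.π u) U₀ (e i) x hxU₀
  choose W' hW' hxW' t ht using hl
  obtain ⟨W, hxW, hWW'⟩ := FTDescent.exists_opens_le_of_finite x W' hxW'
  have hU₀ : W ⊓ U₀ ≤ U₀ := inf_le_right
  have he' : FreeBasis.IsBasis (cokernel u) (W ⊓ U₀)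
      (fun i => QCSec.res (cokernel u) hU₀ (e i)) := he.mono hU₀
  have hv : ∀ i, (cokernel.π u).app (W ⊓ U₀)
      (QCSec.res V (inf_le_left.trans (hWW' i)) (t i)) = QCSec.res (cokernel u) hU₀ (e i) := by
    intro i
    rw [QCExact.app_res', ht i]
    exact QCSec.res_res (cokernel u) (inf_le_left.trans (hWW' i)) (hW' i) (e i)
  have hσθ : FreeBasis.homOfSecs V (W ⊓ U₀)
        (fun i => QCSec.res V (inf_le_left.trans (hWW' i)) (t i)) ≫
      (Scheme.Modules.restrictFunctor (W ⊓ U₀).ι).map (cokernel.π u) =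
      FreeBasis.homOfSecs (cokernel u) (W ⊓ U₀) (fun i => QCSec.res (cokernel u) hU₀ (e i)) := by
    apply Sigma.hom_ext
    intro i
    change FreeBasis.inj ((W ⊓ U₀ : X.Opens) : Scheme.{u}) n i ≫ _ =
      FreeBasis.inj ((W ⊓ U₀ : X.Opens) : Scheme.{u}) n i ≫ _
    rw [← Category.assoc, FreeBasis.inj_homOfSecs, FreeBasis.inj_homOfSecs,
      homOfSec_comp_restrict, hv i]
  haveI : IsIso (FreeBasis.homOfSecs (cokernel u) (W ⊓ U₀)
      (fun i => QCSec.res (cokernel u) hU₀ (e i))) := FreeBasis.isIso_homOfSecs he'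
  let σ : (cokernel u).restrict (W ⊓ U₀).ι ⟶ V.restrict (W ⊓ U₀).ι :=
    inv (FreeBasis.homOfSecs (cokernel u) (W ⊓ U₀)
      (fun i => QCSec.res (cokernel u) hU₀ (e i))) ≫
    FreeBasis.homOfSecs V (W ⊓ U₀) (fun i => QCSec.res V (inf_le_left.trans (hWW' i)) (t i))
  have hσ : σ ≫ (Scheme.Modules.restrictFunctor (W ⊓ U₀).ι).map (cokernel.π u) = 𝟙 _ := by
    show (inv _ ≫ _) ≫ _ = _
    rw [Category.assoc, hσθ, IsIso.inv_hom_id]
  let T : ShortComplex X.Modules := ShortComplex.mk u (cokernel.π u) (cokernel.condition u)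
  have hT : T.ShortExact :=
    { exact := ShortComplex.exact_cokernel u
      mono_f := inferInstanceAs (Mono u)
      epi_g := inferInstanceAs (Epi (cokernel.π u)) }
  haveI : (Scheme.Modules.restrictFunctor (W ⊓ U₀).ι).IsLeftAdjoint :=
    (Scheme.Modules.restrictAdjunction (W ⊓ U₀).ι).isLeftAdjoint
  have hT' : (T.map (Scheme.Modules.restrictFunctor (W ⊓ U₀).ι)).ShortExact :=
    hT.map_of_exact _
  let spl := ShortComplex.Splitting.ofExactOfSection
    (T.map (Scheme.Modules.restrictFunctor (W ⊓ U₀).ι)) hT'.exact σ hσ hT'.mono_f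
  obtain ⟨r', hr'⟩ := retraction_of_natIso
    (Scheme.Modules.restrictFunctorIsoPullback (W ⊓ U₀).ι).symm u spl.r spl.f_r
  exact ⟨W ⊓ U₀, ⟨hxW, hxU₀⟩, r', hr'⟩

theorem mono_map_of_natIso {C D : Type*} [Category C] [Category D] {F G : C ⥤ D} (Θ : F ≅ G)
    {A B : C} (u : A ⟶ B) [Mono (F.map u)] : Mono (G.map u) := by
  have e : G.map u = Θ.inv.app A ≫ F.map u ≫ Θ.hom.app B := by
    rw [Θ.hom.naturality u, Iso.inv_hom_id_app_assoc]
  rw [e]
  infer_instance

/-- A morphism which becomes locally split near `z` after pullback along `h : Z ⟶ X` is split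
injective on the stalk at `h z`. -/
theorem exists_retraction_stalk_of_locally_split {Z : Scheme.{u}} {F V : X.Modules}
    (hF : SheafOfModules.IsFiniteType (R := X.ringCatSheaf) F) (hV : FlatMod.IsFinLocFree V)
    (u : F ⟶ V) (h : Z ⟶ X) (z : Z) (U : Z.Opens) (hzU : z ∈ U)
    (r : (Scheme.Modules.pullback U.ι).obj ((Scheme.Modules.pullback h).obj V) ⟶
      (Scheme.Modules.pullback U.ι).obj ((Scheme.Modules.pullback h).obj F))
    (hr : (Scheme.Modules.pullback U.ι).map ((Scheme.Modules.pullback h).map u) ≫ r = 𝟙 _) :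
    ∃ ρ : (Φ (h.base z)).obj V ⟶ (Φ (h.base z)).obj F, (Φ (h.base z)).map u ≫ ρ = 𝟙 _ := by
  let z' : (U : Scheme.{u}) := ⟨z, hzU⟩
  let g₁ : Spec ((U : Scheme.{u}).residueField z') ⟶ (U : Scheme.{u}) :=
    (U : Scheme.{u}).fromSpecResidueField z'
  let t := genericPoint ↥(Spec ((U : Scheme.{u}).residueField z'))
  have hgt : (g₁ ≫ U.ι ≫ h).base t = h.base z := by
    have h1 : g₁.base t = z' := Scheme.fromSpecResidueField_apply z' _
    show h.base (U.ι.base (g₁.base t)) = h.base z
    rw [h1]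
    rfl
  have hfield : IsField ((Spec ((U : Scheme.{u}).residueField z')).presheaf.stalk t) :=
    isField_stalk_of_closure_mem_irreducibleComponents _ _
      (by rw [irreducibleComponents_eq_singleton, genericPoint_closure]; exact Set.mem_singleton _)
  let Θ : (Scheme.Modules.pullback h ⋙ Scheme.Modules.pullback U.ι) ⋙ Scheme.Modules.pullback g₁ ≅
      Scheme.Modules.pullback (g₁ ≫ U.ι ≫ h) :=
    Functor.isoWhiskerRight (Scheme.Modules.pullbackComp U.ι h) (Scheme.Modules.pullback g₁) ≪≫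
      Scheme.Modules.pullbackComp g₁ (U.ι ≫ h)
  have hsplit : (Scheme.Modules.pullback g₁).map
      ((Scheme.Modules.pullback U.ι).map ((Scheme.Modules.pullback h).map u)) ≫
      (Scheme.Modules.pullback g₁).map r = 𝟙 _ := by
    rw [← CategoryTheory.Functor.map_comp, hr, CategoryTheory.Functor.map_id]
  haveI hm1 : Mono (((Scheme.Modules.pullback h ⋙ Scheme.Modules.pullback U.ι) ⋙
      Scheme.Modules.pullback g₁).map u) := mono_of_mono_fac hsplit
  have hmono : Mono ((Scheme.Modules.pullback (g₁ ≫ U.ι ≫ h)).map u) :=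
    mono_map_of_natIso Θ u
  have H := SplitFibre.exists_retraction_of_mono_pullback hF hV u (g₁ ≫ U.ι ≫ h) t hfield hmono
  rw [hgt] at H
  exact H


theorem main {X S : Scheme.{u}} (f : X ⟶ S) {F V : X.Modules} (u : F ⟶ V)
    (hFt : CohB1.IsFT F) (hV : FlatMod.IsFinLocFree V) :
    [ ∀ x : X, ∃ U : X.Opens, x ∈ U ∧
        ∃ r : (Scheme.Modules.pullback U.ι).obj V ⟶ (Scheme.Modules.pullback U.ι).obj F,
          (Scheme.Modules.pullback U.ι).map u ≫ r = 𝟙 _,
      ∀ (s : S) (x : f.fiber s), ∃ U : (f.fiber s).Opens, x ∈ U ∧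
        ∃ r : (Scheme.Modules.pullback U.ι).obj ((Scheme.Modules.pullback (f.fiberι s)).obj V) ⟶
            (Scheme.Modules.pullback U.ι).obj ((Scheme.Modules.pullback (f.fiberι s)).obj F),
          (Scheme.Modules.pullback U.ι).map ((Scheme.Modules.pullback (f.fiberι s)).map u) ≫ r = 𝟙 _,
      ∀ (s : S) (x : ↑(pullback f (Spec.map (CommRingCat.ofHom (algebraMap (S.residueField s)
            (AlgebraicClosure (S.residueField s)))) ≫ S.fromSpecResidueField s))),
        ∃ U : Scheme.Opens _, x ∈ U ∧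
        ∃ r : (Scheme.Modules.pullback U.ι).obj ((Scheme.Modules.pullback (pullback.fst f
              (Spec.map (CommRingCat.ofHom (algebraMap (S.residueField s) (AlgebraicClosure (S.residueField s)))) ≫
                S.fromSpecResidueField s))).obj V) ⟶
            (Scheme.Modules.pullback U.ι).obj ((Scheme.Modules.pullback (pullback.fst f
              (Spec.map (CommRingCat.ofHom (algebraMap (S.residueField s) (AlgebraicClosure (S.residueField s)))) ≫
                S.fromSpecResidueField s))).obj F),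
          (Scheme.Modules.pullback U.ι).map ((Scheme.Modules.pullback (pullback.fst f
              (Spec.map (CommRingCat.ofHom (algebraMap (S.residueField s) (AlgebraicClosure (S.residueField s)))) ≫
                S.fromSpecResidueField s))).map u) ≫ r = 𝟙 _ ].TFAE := by
  have key : (∀ x : X, ∃ ρ : (Φ x).obj V ⟶ (Φ x).obj F, (Φ x).map u ≫ ρ = 𝟙 _) →
      ∀ x : X, ∃ U : X.Opens, x ∈ U ∧
        ∃ r : (Scheme.Modules.pullback U.ι).obj V ⟶ (Scheme.Modules.pullback U.ι).obj F,
          (Scheme.Modules.pullback U.ι).map u ≫ r = 𝟙 _ := by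
    intro hr
    obtain ⟨hm, hC⟩ := SplitFibre.main_of_retractions hFt hV u hr
    haveI := hm
    exact fun x => locally_split_of_mono_cokernel u hC x
  tfae_have 1 → 2 := fun h s => locally_split_pullback (f.fiberι s) u h
  tfae_have 1 → 3 := fun h s => locally_split_pullback (pullback.fst f _) u h
  tfae_have 2 → 1 := by
    intro h
    apply key
    intro x
    obtain ⟨U, hxU, r, hr⟩ := h (f.base x) (f.asFiber x)
    have H := exists_retraction_stalk_of_locally_split hFt hV u (f.fiberι (f.base x))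
      (f.asFiber x) U hxU r hr
    have e : (f.fiberι (f.base x)).base (f.asFiber x) = x := f.fiberι_asFiber x
    rw [e] at H
    exact H
  tfae_have 3 → 1 := by
    intro h
    apply key
    intro x
    obtain ⟨y⟩ : Nonempty ↥(Spec (CommRingCat.of (AlgebraicClosure (S.residueField (f.base x))))) :=
      inferInstanceAs (Nonempty (PrimeSpectrum (AlgebraicClosure (S.residueField (f.base x)))))
    have h1 : f.base x = (Spec.map (CommRingCat.ofHom (algebraMap (S.residueField (f.base x))
        (AlgebraicClosure (S.residueField (f.base x))))) ≫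
          S.fromSpecResidueField (f.base x)).base y :=
      (Scheme.fromSpecResidueField_apply (f.base x) _).symm
    obtain ⟨z, hz1, -⟩ := Scheme.Pullback.exists_preimage_pullback x y h1
    obtain ⟨U, hzU, r, hr⟩ := h (f.base x) z
    have H := exists_retraction_stalk_of_locally_split hFt hV u (pullback.fst f _) z U hzU r hr
    have e : (pullback.fst f (Spec.map (CommRingCat.ofHom (algebraMap (S.residueField (f.base x))
        (AlgebraicClosure (S.residueField (f.base x))))) ≫
          S.fromSpecResidueField (f.base x))).base z = x := hz1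
    rw [e] at H
    exact H
  tfae_finish

end

end Groth.Agent.Lib.Helper25.LocSplit
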