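import Mathlib
import Groth.Prelude
import Groth.Agent.Lib.Helper25.SplitFibre
import Groth.Agent.Lib.Helper25.ExtZeroFlat

/-!
# First-order deformations of a module: the exact sequence `0 → E → D → E → 0`
-/

set_option autoImplicit false
set_option linter.style.haveILetI false
universe u
open CategoryTheory CategoryTheory.Limits AlgebraicGeometry TopologicalSpace Opposite
open Groth.Agent.Lib.Helper2.Stk

noncomputable section

namespace Groth.Agent.Lib.Helper25.TranspA

/-! ### algebra -/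

theorem eq_eps_mul_of_fst {k : Type u} [Field k] (a : DualNumber k) (h : a.fst = 0) :
    a = (DualNumber.eps : DualNumber k) * TrivSqZeroExt.inl a.snd := by
  ext
  · simp [h]
  · simp

theorem fst_eq_zero_of_eps_mul {k : Type u} [Field k] (a : DualNumber k)
    (h : (DualNumber.eps : DualNumber k) * a = 0) : a.fst = 0 := by
  have := congrArg TrivSqZeroExt.snd h
  simpa using this

theorem eps_mul_eq_zero {k : Type u} [Field k] (a : DualNumber k)
    (h : (DualNumber.eps : DualNumber k) * a = 0) :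
    ∃ b : DualNumber k, a = (DualNumber.eps : DualNumber k) * b :=
  ⟨_, eq_eps_mul_of_fst a (fst_eq_zero_of_eps_mul a h)⟩

theorem exists_smul_of_flat {R : Type u} [CommRing R] {M : Type u} [AddCommGroup M] [Module R M]
    [Module.Flat R M] (ε : R) (hε : ∀ a : R, ε * a = 0 → ∃ b, a = ε * b) (m : M)
    (h : ε • m = 0) : ∃ m', m = ε • m' := by
  have hrel : ∑ i : Fin 1, (fun _ : Fin 1 => ε) i • (fun _ : Fin 1 => m) i = 0 := by
    simpa using h
  obtain ⟨κ, a, y, hx, ha⟩ := Module.Flat.isTrivialRelation_of_sum_smul_eq_zero hrel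
  have ha' : ∀ j, ε * a 0 j = 0 := by
    intro j
    simpa using ha j
  choose b hb using fun j => hε (a 0 j) (ha' j)
  refine ⟨∑ j, b j • y j, ?_⟩
  have h0 : m = ∑ j, a 0 j • y j := hx 0
  rw [h0, Finset.smul_sum]
  refine Finset.sum_congr rfl fun j _ => ?_
  rw [← mul_smul, ← hb j]

/-! ### stalkwise exactness -/

variable {X : Scheme.{u}}

theorem Φ_eq {M N : X.Modules} (φ : M ⟶ N) (y : X) (v : ↑(M.presheaf.stalk y)) :
    (Φ y).map φ v = RefHull.stalkMapₗ φ y v := rfl

theorem exact_of_stalks (S : ShortComplex X.Modules) (h : ∀ x : X, (S.map (Φ x)).Exact) :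
    S.Exact := by
  rw [ShortComplex.exact_iff_isZero_homology]
  apply isZero_of_forall_isZero_stalk
  intro x
  exact IsZero.of_iso ((ShortComplex.exact_iff_isZero_homology _).1 (h x))
    (S.mapHomologyIso (Φ x)).symm

/-! ### first-order deformations -/

section Defo

variable {k : Type u} [Field k] [X.Over (Spec (CommRingCat.of k))] {E : X.Modules}
  (D : DefoSh.Defo E (ArtFun.Art.dual k k))

/-- `ε` as an element of the object of dual numbers -/
def epsA : ↑(ArtFun.Art.dual k k) := (DualNumber.eps : DualNumber k)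

/-- the action of `ε` -/
def epsHom : D.sheaf ⟶ D.sheaf := D.act (epsA (k := k))

theorem epsHom_π : epsHom D ≫ D.π = 0 := D.act_π _ rfl

theorem epi_π : Epi D.π :=
  Groth.Agent.Lib.Helper25.ExtZeroFlat.epi_of_stalk_surjective D.π (fun y v => by
    obtain ⟨w, hw⟩ := D.surj y v
    exact ⟨w, hw⟩)

theorem act_eq (a : DualNumber k) :
    (D.act a : D.sheaf ⟶ D.sheaf) = a.fst • 𝟙 D.sheaf + a.snd • epsHom D := by
  have ha : a = algebraMap k (DualNumber k) a.fst + a.snd • (DualNumber.eps : DualNumber k) := by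
    ext <;> simp [TrivSqZeroExt.algebraMap_eq_inl]
  have h2 : (D.act (algebraMap k (DualNumber k) a.fst) : D.sheaf ⟶ D.sheaf) =
      a.fst • 𝟙 D.sheaf :=
    (D.act_algebraMap a.fst).trans (KLin.smul_id D.sheaf a.fst).symm
  have h3 : (D.act (a.snd • (DualNumber.eps : DualNumber k)) : D.sheaf ⟶ D.sheaf) =
      a.snd • epsHom D :=
    map_smul D.act a.snd _
  have h4 : (D.act (algebraMap k (DualNumber k) a.fst +
        a.snd • (DualNumber.eps : DualNumber k)) : D.sheaf ⟶ D.sheaf) =
      D.act (algebraMap k (DualNumber k) a.fst) +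
        D.act (a.snd • (DualNumber.eps : DualNumber k)) :=
    map_add D.act _ _
  calc (D.act a : D.sheaf ⟶ D.sheaf)
      = D.act (algebraMap k (DualNumber k) a.fst +
          a.snd • (DualNumber.eps : DualNumber k)) :=
        congrArg (fun z : DualNumber k => (D.act z : D.sheaf ⟶ D.sheaf)) ha
    _ = D.act (algebraMap k (DualNumber k) a.fst) +
          D.act (a.snd • (DualNumber.eps : DualNumber k)) := h4
    _ = a.fst • 𝟙 D.sheaf + a.snd • epsHom D := congrArg₂ (· + ·) h2 h3

variable (ι : E ⟶ D.sheaf) (hι : D.π ≫ ι = epsHom D)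
include hι

theorem ι_π : ι ≫ D.π = 0 := by
  haveI := epi_π D
  rw [← cancel_epi D.π, ← Category.assoc, hι, epsHom_π, comp_zero]

theorem ι_eps : ι ≫ epsHom D = 0 := by
  rw [← hι, ← Category.assoc, ι_π D ι hι, zero_comp]

theorem eps_smul_eq (y : X) (d : ↑(D.sheaf.presheaf.stalk y)) :
    RefHull.stalkMapₗ (epsHom D) y d =
      RefHull.stalkMapₗ ι y (RefHull.stalkMapₗ D.π y d) := by
  rw [← hι, DefoSh.stalkMapₗ_comp_apply]

theorem stalk_injective_ι (y : X) (v : ↑(E.presheaf.stalk y))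
    (hv : RefHull.stalkMapₗ ι y v = 0) : v = 0 := by
  obtain ⟨d, rfl⟩ := D.surj y v
  letI := DefoSh.stalkModule D.sheaf D.act.toRingHom y
  haveI : Module.Flat ↑(ArtFun.Art.dual k k) ↑(D.sheaf.presheaf.stalk y) := D.flat y
  have h1 : (epsA (k := k)) • d = 0 := by
    change RefHull.stalkMapₗ (epsHom D) y d = 0
    rw [eps_smul_eq D ι hι]
    exact hv
  obtain ⟨d', hd'⟩ := exists_smul_of_flat (epsA (k := k))
    (fun a ha => eps_mul_eq_zero a ha) d h1
  rw [hd']
  change RefHull.stalkMapₗ D.π y (RefHull.stalkMapₗ (epsHom D) y d') = 0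
  rw [← DefoSh.stalkMapₗ_comp_apply, epsHom_π]
  exact DefoSh.stalkMapₗ_zero_apply y d'

theorem stalkMapₗ_injective_ι (y : X) : Function.Injective (RefHull.stalkMapₗ ι y) := by
  intro a b hab
  have h : RefHull.stalkMapₗ ι y (a - b) = 0 := by rw [map_sub, hab, sub_self]
  exact sub_eq_zero.mp (stalk_injective_ι D ι hι y (a - b) h)

theorem mono_ι : Mono ι :=
  Groth.Agent.Lib.Helper25.SplitFibre.mono_of_stalk_injective ι
    (fun y => stalkMapₗ_injective_ι D ι hι y)

theorem exact_ιπ : (ShortComplex.mk ι D.π (ι_π D ι hι)).Exact := by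
  apply exact_of_stalks
  intro y
  rw [ShortComplex.moduleCat_exact_iff]
  intro d hd
  have hd' : RefHull.stalkMapₗ D.π y d = 0 := hd
  letI := DefoSh.stalkModule D.sheaf D.act.toRingHom y
  have hmem := D.ker_le y d hd'
  have key : ∃ z : ↑(E.presheaf.stalk y), RefHull.stalkMapₗ ι y z = d := by
    refine Submodule.smul_induction_on hmem ?_ ?_
    · intro a ha m _
      have hfst : (ArtFun.Art.dual k k).res a = 0 :=
        (ArtFun.Art.mem_maximalIdeal_iff (ArtFun.Art.dual k k) a).1 ha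
      obtain ⟨b, hb⟩ : ∃ b : ↑(ArtFun.Art.dual k k), a = epsA (k := k) * b :=
        ⟨(TrivSqZeroExt.inl (TrivSqZeroExt.snd (a : DualNumber k)) : DualNumber k),
          eq_eps_mul_of_fst (a : DualNumber k) hfst⟩
      refine ⟨RefHull.stalkMapₗ D.π y (b • m), ?_⟩
      rw [← eps_smul_eq D ι hι, hb, mul_smul]
      rfl
    · rintro x x' ⟨z, hz⟩ ⟨z', hz'⟩
      exact ⟨z + z', by rw [map_add, hz, hz']⟩
  exact key

theorem exists_factor (N : D.sheaf ⟶ D.sheaf) (h1 : N ≫ D.π = 0) (h2 : ι ≫ N = 0) :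
    ∃ S : E ⟶ E, N = D.π ≫ S ≫ ι := by
  have hex := exact_ιπ D ι hι
  haveI : Epi D.π := epi_π D
  haveI : Epi (ShortComplex.mk ι D.π (ι_π D ι hι)).g := epi_π D
  haveI : Mono (ShortComplex.mk ι D.π (ι_π D ι hι)).f := mono_ι D ι hι
  have hN' : D.π ≫ hex.desc N h2 = N := hex.g_desc N h2
  have hN'π : hex.desc N h2 ≫ D.π = 0 := by
    rw [← cancel_epi D.π, ← Category.assoc, hN', h1, comp_zero]
  have hS : hex.lift (hex.desc N h2) hN'π ≫ ι = hex.desc N h2 := hex.lift_f _ hN'π
  exact ⟨hex.lift (hex.desc N h2) hN'π, by rw [hS, hN']⟩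

end Defo

end Groth.Agent.Lib.Helper25.TranspA
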