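import Mathlib
import Groth.Prelude
import Groth.Agent.Lib.Helper25.TranspA
import Groth.Agent.Lib.Helper25.LocSplit

/-!
# First-order deformations of a finite locally free module are locally trivial
-/

set_option autoImplicit false
set_option linter.style.haveILetI false
universe u
open CategoryTheory CategoryTheory.Limits AlgebraicGeometry TopologicalSpace Opposite
open Groth.Agent.Lib.Helper2.Stk Groth.Agent.Lib.Helper3
open Groth.Agent.Lib.Helper25

noncomputable section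

namespace Groth.Agent.Lib.Helper25.LocTrivDefo

open Groth.Agent.Lib.Helper25.TranspA

variable {X : Scheme.{u}}

/-- A short exact sequence with finite locally free quotient splits locally. -/
theorem exists_local_splitting (T : ShortComplex X.Modules) (hT : T.ShortExact)
    (hC : FlatMod.IsFinLocFree T.X₃) (x : X) :
    ∃ U : X.Opens, x ∈ U ∧
      Nonempty (T.map (Scheme.Modules.restrictFunctor U.ι)).Splitting := by
  classical
  haveI : Epi T.g := hT.epi_g
  obtain ⟨U₀, n, e, hxU₀, he⟩ := (LocFreeCrit.isFinLocFree_iff.mp hC) x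
  have hl : ∀ i : Fin n, ∃ (W' : X.Opens) (hW' : W' ≤ U₀) (_ : x ∈ W') (t : Γ(T.X₂, W')),
      T.g.app W' t = T.X₃.presheaf.map (homOfLE hW').op (e i) :=
    fun i => QCExact.exists_local_lift T.g U₀ (e i) x hxU₀
  choose W' hW' hxW' t ht using hl
  obtain ⟨W, hxW, hWW'⟩ := FTDescent.exists_opens_le_of_finite x W' hxW'
  have hU₀ : W ⊓ U₀ ≤ U₀ := inf_le_right
  have he' : FreeBasis.IsBasis T.X₃ (W ⊓ U₀)
      (fun i => QCSec.res T.X₃ hU₀ (e i)) := he.mono hU₀
  have hv : ∀ i, T.g.app (W ⊓ U₀)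
      (QCSec.res T.X₂ (inf_le_left.trans (hWW' i)) (t i)) = QCSec.res T.X₃ hU₀ (e i) := by
    intro i
    rw [QCExact.app_res', ht i]
    exact QCSec.res_res T.X₃ (inf_le_left.trans (hWW' i)) (hW' i) (e i)
  have hσθ : FreeBasis.homOfSecs T.X₂ (W ⊓ U₀)
        (fun i => QCSec.res T.X₂ (inf_le_left.trans (hWW' i)) (t i)) ≫
      (Scheme.Modules.restrictFunctor (W ⊓ U₀).ι).map T.g =
      FreeBasis.homOfSecs T.X₃ (W ⊓ U₀) (fun i => QCSec.res T.X₃ hU₀ (e i)) := by
    apply Sigma.hom_ext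
    intro i
    change FreeBasis.inj ((W ⊓ U₀ : X.Opens) : Scheme.{u}) n i ≫ _ =
      FreeBasis.inj ((W ⊓ U₀ : X.Opens) : Scheme.{u}) n i ≫ _
    rw [← Category.assoc, FreeBasis.inj_homOfSecs, FreeBasis.inj_homOfSecs,
      LocSplit.homOfSec_comp_restrict, hv i]
  haveI : IsIso (FreeBasis.homOfSecs T.X₃ (W ⊓ U₀)
      (fun i => QCSec.res T.X₃ hU₀ (e i))) := FreeBasis.isIso_homOfSecs he'
  let σ : T.X₃.restrict (W ⊓ U₀).ι ⟶ T.X₂.restrict (W ⊓ U₀).ι :=
    inv (FreeBasis.homOfSecs T.X₃ (W ⊓ U₀)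
      (fun i => QCSec.res T.X₃ hU₀ (e i))) ≫
    FreeBasis.homOfSecs T.X₂ (W ⊓ U₀) (fun i => QCSec.res T.X₂ (inf_le_left.trans (hWW' i)) (t i))
  have hσ : σ ≫ (Scheme.Modules.restrictFunctor (W ⊓ U₀).ι).map T.g = 𝟙 _ := by
    show (inv _ ≫ _) ≫ _ = _
    rw [Category.assoc, hσθ, IsIso.inv_hom_id]
  haveI : (Scheme.Modules.restrictFunctor (W ⊓ U₀).ι).IsLeftAdjoint :=
    (Scheme.Modules.restrictAdjunction (W ⊓ U₀).ι).isLeftAdjoint
  have hT' : (T.map (Scheme.Modules.restrictFunctor (W ⊓ U₀).ι)).ShortExact :=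
    hT.map_of_exact _
  exact ⟨W ⊓ U₀, ⟨hxW, hxU₀⟩, ⟨ShortComplex.Splitting.ofExactOfSection
    (T.map (Scheme.Modules.restrictFunctor (W ⊓ U₀).ι)) hT'.exact σ hσ hT'.mono_f⟩⟩

/-- Restrictions of multiplications by a global function commute with all morphisms. -/
theorem restrict_smulModΓ_comm (U : X.Opens) {M N : X.Modules} (g : Coh.Γtop X)
    (h : M.restrict U.ι ⟶ N.restrict U.ι) :
    (Scheme.Modules.restrictFunctor U.ι).map (Formal.smulModΓ M g) ≫ h =
      h ≫ (Scheme.Modules.restrictFunctor U.ι).map (Formal.smulModΓ N g) := by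
  apply Scheme.Modules.hom_ext
  intro V'
  ext m
  let W : X.Opens := U.ι ''ᵁ V'
  let ρ : Γ(X, W) := X.presheaf.map (homOfLE (le_top : W ≤ ⊤)).op g
  let m' : Γ(M, W) := m
  let n' : Γ(N, W) := h.app V' m
  have hinv : (U.ι.appIso V').inv ((U.ι.appIso V').hom ρ) = ρ :=
    Iso.hom_inv_id_apply (U.ι.appIso V') ρ
  have h1 : h.app V' (((U.ι.appIso V').hom ρ) • m) = ((U.ι.appIso V').hom ρ) • h.app V' m :=
    Scheme.Modules.Hom.app_smul h _ m
  have e1 : ((U.ι.appIso V').hom ρ) • m = ρ • m' := by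
    change ((U.ι.appIso V').inv ((U.ι.appIso V').hom ρ)) • m' = ρ • m'
    rw [hinv]
  have e2 : ((U.ι.appIso V').hom ρ) • h.app V' m = ρ • n' := by
    change ((U.ι.appIso V').inv ((U.ι.appIso V').hom ρ)) • n' = ρ • n'
    rw [hinv]
  rw [e1, e2] at h1
  exact h1

section Defo

variable {k : Type u} [Field k] [X.Over (Spec (CommRingCat.of k))] {E : X.Modules}

theorem restrict_smulMod_comm (U : X.Opens) {M N : X.Modules} (c : k)
    (h : M.restrict U.ι ⟶ N.restrict U.ι) :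
    (Scheme.Modules.restrictFunctor U.ι).map (Formal.smulMod k M c) ≫ h =
      h ≫ (Scheme.Modules.restrictFunctor U.ι).map (Formal.smulMod k N c) :=
  restrict_smulModΓ_comm U _ h

theorem eps_mul_of_fst (a : DualNumber k) (h : a.fst = 0) :
    (DualNumber.eps : DualNumber k) * a = 0 := by
  ext <;> simp [h]

theorem exists_ι (D : DefoSh.Defo E (ArtFun.Art.dual k k)) :
    ∃ ι : E ⟶ D.sheaf, D.π ≫ ι = epsHom D := by
  haveI := epi_π D
  have h0 : kernel.ι D.π ≫ epsHom D = 0 := by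
    apply Groth.Agent.Lib.Helper25.PullFaithful.eq_zero_of_stalk_zero
    intro y
    ext v
    change RefHull.stalkMapₗ (kernel.ι D.π ≫ epsHom D) y v = 0
    rw [DefoSh.stalkMapₗ_comp_apply]
    have hw : RefHull.stalkMapₗ D.π y (RefHull.stalkMapₗ (kernel.ι D.π) y v) = 0 := by
      rw [← DefoSh.stalkMapₗ_comp_apply, kernel.condition]
      exact DefoSh.stalkMapₗ_zero_apply y v
    letI := DefoSh.stalkModule D.sheaf D.act.toRingHom y
    have hmem := D.ker_le y _ hw
    refine Submodule.smul_induction_on hmem ?_ ?_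
    · intro a ha m _
      have hfst : (ArtFun.Art.dual k k).res a = 0 :=
        (ArtFun.Art.mem_maximalIdeal_iff (ArtFun.Art.dual k k) a).1 ha
      have h0 : epsA (k := k) * a = 0 := eps_mul_of_fst (a : DualNumber k) hfst
      change (epsA (k := k)) • (a • m) = 0
      rw [← mul_smul, h0, zero_smul]
    · intro x x' hx hx'
      rw [map_add, hx, hx', add_zero]
  exact ⟨Abelian.epiDesc D.π (epsHom D) h0, Abelian.comp_epiDesc D.π (epsHom D) h0⟩

theorem main (hE : FlatMod.IsFinLocFree E) (D : DefoSh.Defo E (ArtFun.Art.dual k k)) (x : X) :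
    ∃ (U : X.Opens) (e : D.sheaf.restrict U.ι ≅ (DefoSh.Defo.trivDual k E).sheaf.restrict U.ι),
      x ∈ U ∧
      e.hom ≫ (Scheme.Modules.restrictFunctor U.ι).map (DefoSh.Defo.trivDual k E).π =
        (Scheme.Modules.restrictFunctor U.ι).map D.π ∧
      ∀ a : ArtFun.Art.dual k k,
        (Scheme.Modules.restrictFunctor U.ι).map (D.act a) ≫ e.hom =
          e.hom ≫ (Scheme.Modules.restrictFunctor U.ι).map ((DefoSh.Defo.trivDual k E).act a) := by
  obtain ⟨ι, hι⟩ := exists_ι D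
  let T : ShortComplex X.Modules := ShortComplex.mk ι D.π (ι_π D ι hι)
  have hT : T.ShortExact :=
    { exact := exact_ιπ D ι hι
      mono_f := mono_ι D ι hι
      epi_g := epi_π D }
  obtain ⟨U, hxU, ⟨spl⟩⟩ := exists_local_splitting T hT hE x
  let R := Scheme.Modules.restrictFunctor U.ι
  let r : R.obj D.sheaf ⟶ R.obj E := spl.r
  let s : R.obj E ⟶ R.obj D.sheaf := spl.s
  have f_r : R.map ι ≫ r = 𝟙 _ := spl.f_r
  have s_g : s ≫ R.map D.π = 𝟙 _ := spl.s_g
  have hid : r ≫ R.map ι + R.map D.π ≫ s = 𝟙 _ := spl.id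
  have s_r : s ≫ r = 0 := spl.s_r
  have f_g : R.map ι ≫ R.map D.π = 0 := by
    rw [← R.map_comp, ι_π D ι hι, R.map_zero]
  -- reassociated identities
  have a1 : ∀ {Z : (U : Scheme.{u}).Modules} (h : R.obj E ⟶ Z),
      R.map (biprod.inl : E ⟶ E ⊞ E) ≫ R.map (biprod.fst : E ⊞ E ⟶ E) ≫ h = h := by
    intro Z h
    rw [← Category.assoc, ← R.map_comp, biprod.inl_fst, R.map_id, Category.id_comp]
  have a2 : ∀ {Z : (U : Scheme.{u}).Modules} (h : R.obj E ⟶ Z),
      R.map (biprod.inl : E ⟶ E ⊞ E) ≫ R.map (biprod.snd : E ⊞ E ⟶ E) ≫ h = 0 := by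
    intro Z h
    rw [← Category.assoc, ← R.map_comp, biprod.inl_snd, R.map_zero, zero_comp]
  have a3 : ∀ {Z : (U : Scheme.{u}).Modules} (h : R.obj E ⟶ Z),
      R.map (biprod.inr : E ⟶ E ⊞ E) ≫ R.map (biprod.fst : E ⊞ E ⟶ E) ≫ h = 0 := by
    intro Z h
    rw [← Category.assoc, ← R.map_comp, biprod.inr_fst, R.map_zero, zero_comp]
  have a4 : ∀ {Z : (U : Scheme.{u}).Modules} (h : R.obj E ⟶ Z),
      R.map (biprod.inr : E ⟶ E ⊞ E) ≫ R.map (biprod.snd : E ⊞ E ⟶ E) ≫ h = h := by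
    intro Z h
    rw [← Category.assoc, ← R.map_comp, biprod.inr_snd, R.map_id, Category.id_comp]
  have b1 : ∀ {Z : (U : Scheme.{u}).Modules} (h : R.obj E ⟶ Z), s ≫ R.map D.π ≫ h = h := by
    intro Z h
    rw [← Category.assoc, s_g, Category.id_comp]
  have b2 : ∀ {Z : (U : Scheme.{u}).Modules} (h : R.obj E ⟶ Z), s ≫ r ≫ h = 0 := by
    intro Z h
    rw [← Category.assoc, s_r, zero_comp]
  have b3 : ∀ {Z : (U : Scheme.{u}).Modules} (h : R.obj E ⟶ Z), R.map ι ≫ R.map D.π ≫ h = 0 := by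
    intro Z h
    rw [← Category.assoc, f_g, zero_comp]
  have b4 : ∀ {Z : (U : Scheme.{u}).Modules} (h : R.obj E ⟶ Z), R.map ι ≫ r ≫ h = h := by
    intro Z h
    rw [← Category.assoc, f_r, Category.id_comp]
  let ehom : R.obj D.sheaf ⟶ R.obj (E ⊞ E) :=
    R.map D.π ≫ R.map (biprod.inl : E ⟶ E ⊞ E) + r ≫ R.map (biprod.inr : E ⟶ E ⊞ E)
  let einv : R.obj (E ⊞ E) ⟶ R.obj D.sheaf :=
    R.map (biprod.fst : E ⊞ E ⟶ E) ≫ s + R.map (biprod.snd : E ⊞ E ⟶ E) ≫ R.map ι
  have hhi : ehom ≫ einv = 𝟙 _ := by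
    simp only [ehom, einv, Preadditive.add_comp, Preadditive.comp_add, Category.assoc, a1, a2, a3,
      a4, comp_zero, add_zero, zero_add]
    rw [add_comm]
    exact hid
  have hih : einv ≫ ehom = 𝟙 _ := by
    simp only [ehom, einv, Preadditive.add_comp, Preadditive.comp_add, Category.assoc, b1, b2, b3,
      b4, comp_zero, add_zero, zero_add]
    rw [← R.map_comp, ← R.map_comp, ← R.map_add, biprod.total, R.map_id]
  have hπ : ehom ≫ R.map (biprod.fst : E ⊞ E ⟶ E) = R.map D.π := by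
    have c1 : R.map (biprod.inl : E ⟶ E ⊞ E) ≫ R.map (biprod.fst : E ⊞ E ⟶ E) = 𝟙 _ := by
      rw [← R.map_comp, biprod.inl_fst, R.map_id]
    have c3 : R.map (biprod.inr : E ⟶ E ⊞ E) ≫ R.map (biprod.fst : E ⊞ E ⟶ E) = 0 := by
      rw [← R.map_comp, biprod.inr_fst, R.map_zero]
    simp only [ehom, Preadditive.add_comp, Category.assoc, c1, c3, Category.comp_id, comp_zero,
      add_zero]
  have hkey : R.map (epsHom D) ≫ ehom =
      ehom ≫ R.map ((biprod.fst : E ⊞ E ⟶ E) ≫ biprod.inr) := by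
    rw [← hι]
    simp only [ehom, CategoryTheory.Functor.map_comp, Category.assoc, Preadditive.comp_add,
      Preadditive.add_comp, a1, a3, b3, b4, comp_zero, zero_add, add_zero]
  refine ⟨U, ⟨ehom, einv, hhi, hih⟩, hxU, hπ, ?_⟩
  intro a
  have hD : R.map (D.act a) = R.map (Formal.smulMod k D.sheaf (a : DualNumber k).fst) +
      R.map (Formal.smulMod k D.sheaf (a : DualNumber k).snd) ≫ R.map (epsHom D) := by
    rw [← R.map_comp, ← R.map_add]
    congr 1
    rw [act_eq D a, KLin.smul_id, KLin.smul_def]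
  have hTr : R.map (DefoSh.dualAct k E (a : DualNumber k) : E ⊞ E ⟶ E ⊞ E) =
      R.map (Formal.smulMod k (E ⊞ E) (a : DualNumber k).fst) +
        R.map (Formal.smulMod k (E ⊞ E) (a : DualNumber k).snd) ≫
          R.map ((biprod.fst : E ⊞ E ⟶ E) ≫ biprod.inr) := by
    have h := DefoSh.dualAct_hom (k := k) E a
    rw [KLin.smul_id, KLin.smul_def] at h
    rw [h, R.map_add, R.map_comp]
  have c1 : R.map (Formal.smulMod k D.sheaf (a : DualNumber k).fst) ≫ ehom =
      ehom ≫ R.map (Formal.smulMod k (E ⊞ E) (a : DualNumber k).fst) :=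
    restrict_smulMod_comm U _ ehom
  have c2 : R.map (Formal.smulMod k D.sheaf (a : DualNumber k).snd) ≫ (R.map (epsHom D) ≫ ehom) =
      (R.map (epsHom D) ≫ ehom) ≫ R.map (Formal.smulMod k (E ⊞ E) (a : DualNumber k).snd) :=
    restrict_smulMod_comm U _ _
  have c3 : R.map (Formal.smulMod k (E ⊞ E) (a : DualNumber k).snd) ≫
        R.map ((biprod.fst : E ⊞ E ⟶ E) ≫ biprod.inr) =
      R.map ((biprod.fst : E ⊞ E ⟶ E) ≫ biprod.inr) ≫
        R.map (Formal.smulMod k (E ⊞ E) (a : DualNumber k).snd) :=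
    restrict_smulMod_comm U _ _
  change R.map (D.act a) ≫ ehom =
    ehom ≫ R.map (DefoSh.dualAct k E (a : DualNumber k) : E ⊞ E ⟶ E ⊞ E)
  rw [hD, hTr, Preadditive.add_comp, Category.assoc, c1, c2, hkey, Category.assoc, ← c3,
    Preadditive.comp_add]

end Defo

end Groth.Agent.Lib.Helper25.LocTrivDefo
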