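import Mathlib
import Groth.Prelude
import Groth.Agent.Lib.Helper25.TranspA
import Groth.Agent.Lib.Helper25.LocTrivDefo
import Groth.Agent.Lib.Helper25.DualFlat
import Groth.Agent.Lib.Helper6.ExtRealize

/-!
# First-order deformations of a module and `Ext¹(E, E)`
-/

set_option autoImplicit false
set_option linter.style.haveILetI false
universe u w' v' u'
open CategoryTheory CategoryTheory.Limits AlgebraicGeometry TopologicalSpace Opposite Abelian
open Groth.Agent.Lib.Helper2.Stk
open Groth.Agent.Lib.Helper25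

noncomputable section

namespace Groth.Agent.Lib.Helper25.DefoOfExt

open Groth.Agent.Lib.Helper25.TranspA

/-! ### generalities on extension classes -/

section General

variable {C : Type u'} [Category.{v'} C] [Abelian C] [HasExt.{w'} C]

theorem extClass_eq_zero_of_section {S : ShortComplex C} (hS : S.ShortExact) (s : S.X₃ ⟶ S.X₂)
    (hs : s ≫ S.g = 𝟙 _) : hS.extClass = 0 := by
  have h1 := hS.comp_extClass
  calc hS.extClass = (Ext.mk₀ (𝟙 S.X₃)).comp hS.extClass (zero_add 1) :=
        (Ext.mk₀_id_comp _).symm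
    _ = (Ext.mk₀ (s ≫ S.g)).comp hS.extClass (zero_add 1) := by rw [hs]
    _ = (Ext.mk₀ s).comp ((Ext.mk₀ S.g).comp hS.extClass (zero_add 1)) (zero_add 1) :=
        (Ext.mk₀_comp_mk₀_assoc s S.g hS.extClass).symm
    _ = 0 := by rw [h1, Ext.comp_zero]

theorem extClass_congr {A B M : C} {f f' : B ⟶ M} {g : M ⟶ A} (w : f ≫ g = 0)
    (w' : f' ≫ g = 0) (h : (ShortComplex.mk f g w).ShortExact)
    (h' : (ShortComplex.mk f' g w').ShortExact) (hf : f = f') :
    h.extClass = h'.extClass := by
  subst hf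
  rfl

end General

variable {X : Scheme.{u}} {k : Type u} [Field k] [X.Over (Spec (CommRingCat.of k))]
  {E : X.Modules}

/-! ### the deformation attached to an extension -/

section Build

variable {F : X.Modules} (i : E ⟶ F) (p : F ⟶ E) (w : i ≫ p = 0)

/-- the endomorphism `ε = i ∘ p` -/
def epsEnd : End F := p ≫ i

include w in
theorem epsEnd_mul_self : epsEnd i p * epsEnd i p = 0 := by
  rw [End.mul_def]
  change (p ≫ i) ≫ (p ≫ i) = 0
  rw [Category.assoc, ← Category.assoc i p i, w, zero_comp, comp_zero]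

variable (k) in
/-- the action of the dual numbers on the middle term of an extension -/
def extAct : DualNumber k →ₐ[k] End F :=
  DualNumber.lift ⟨(Algebra.ofId k (End F), epsEnd i p), epsEnd_mul_self i p w,
    fun a => (Algebra.commutes a (epsEnd i p)).symm⟩

theorem extAct_apply (z : DualNumber k) :
    extAct k i p w z = z.fst • (1 : End F) + z.snd • epsEnd i p := by
  change algebraMap k (End F) z.fst + (algebraMap k (End F) z.snd) * epsEnd i p = _
  rw [Algebra.algebraMap_eq_smul_one, Algebra.algebraMap_eq_smul_one, smul_mul_assoc, one_mul]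

theorem extAct_hom (z : DualNumber k) :
    (extAct k i p w z : F ⟶ F) = z.fst • 𝟙 F + z.snd • (p ≫ i) :=
  extAct_apply i p w z

theorem extAct_eps : (extAct k i p w (DualNumber.eps : DualNumber k) : F ⟶ F) = p ≫ i := by
  rw [extAct_hom, DualNumber.fst_eps, DualNumber.snd_eps, zero_smul, one_smul, zero_add]

theorem extAct_comp_p (z : DualNumber k) (hz : z.fst = 0) :
    (extAct k i p w z : F ⟶ F) ≫ p = 0 := by
  rw [extAct_hom, hz, zero_smul, zero_add, Linear.smul_comp, Category.assoc, w, comp_zero,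
    smul_zero]

variable (hS : (ShortComplex.mk i p w).ShortExact)
include hS

theorem stalk_surj (y : X) : Function.Surjective (RefHull.stalkMapₗ p y) := by
  have h := hS.map_of_exact (Φ y)
  haveI : Epi ((Φ y).map p) := h.epi_g
  have hs := (ModuleCat.epi_iff_surjective ((Φ y).map p)).1 inferInstance
  intro v
  obtain ⟨u, hu⟩ := hs v
  exact ⟨u, hu⟩

theorem stalk_inj (y : X) (v : ↑(E.presheaf.stalk y)) (hv : RefHull.stalkMapₗ i y v = 0) :
    v = 0 := by
  have h := hS.map_of_exact (Φ y)
  haveI : Mono ((Φ y).map i) := h.mono_f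
  have hs := (ModuleCat.mono_iff_injective ((Φ y).map i)).1 inferInstance
  apply hs
  exact hv.trans (map_zero (RefHull.stalkMapₗ i y)).symm

theorem stalk_exact (y : X) (v : ↑(F.presheaf.stalk y)) (hv : RefHull.stalkMapₗ p y v = 0) :
    ∃ z : ↑(E.presheaf.stalk y), RefHull.stalkMapₗ i y z = v := by
  have h := (hS.map_of_exact (Φ y)).exact
  rw [ShortComplex.moduleCat_exact_iff] at h
  obtain ⟨z, hz⟩ := h v hv
  exact ⟨z, hz⟩

theorem flat_stalk (y : X) :
    letI := DefoSh.stalkModule F (extAct k i p w).toRingHom y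
    Module.Flat (DualNumber k) ↑(F.presheaf.stalk y) := by
  letI mL : Module (DualNumber k) ↑(F.presheaf.stalk y) :=
    DefoSh.stalkModule F (extAct k i p w).toRingHom y
  apply Groth.Agent.Lib.Helper25.DualFlat.flat_of_eps
  intro m hm
  change RefHull.stalkMapₗ (extAct k i p w (DualNumber.eps : DualNumber k) : F ⟶ F) y m = 0 at hm
  rw [extAct_eps, DefoSh.stalkMapₗ_comp_apply] at hm
  have h1 : RefHull.stalkMapₗ p y m = 0 := stalk_inj i p w hS y _ hm
  obtain ⟨z, hz⟩ := stalk_exact i p w hS y m h1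
  obtain ⟨u, hu⟩ := stalk_surj i p w hS y z
  refine ⟨u, ?_⟩
  change m = RefHull.stalkMapₗ (extAct k i p w (DualNumber.eps : DualNumber k) : F ⟶ F) y u
  rw [extAct_eps, DefoSh.stalkMapₗ_comp_apply, hu, hz]

/-- the first-order deformation attached to an extension of `E` by `E` -/
def defoOfExt : DefoSh.Defo E (ArtFun.Art.dual k k) where
  sheaf := F
  act := extAct k i p w
  π := p
  act_π a ha := extAct_comp_p i p w a ha
  surj y := stalk_surj i p w hS y
  ker_le y v hv := by
    letI : Module (ArtFun.Art.dual k k) ↑(F.presheaf.stalk y) :=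
      DefoSh.stalkModule (A := ArtFun.Art.dual k k) F (extAct k i p w).toRingHom y
    let ε : (ArtFun.Art.dual k k) := (DualNumber.eps : DualNumber k)
    have hε : ε ∈ IsLocalRing.maximalIdeal (ArtFun.Art.dual k k) := by
      rw [ArtFun.Art.mem_maximalIdeal_iff]
      rfl
    obtain ⟨z, hz⟩ := stalk_exact i p w hS y v hv
    obtain ⟨u, hu⟩ := stalk_surj i p w hS y z
    have hv' : v = ε • u := by
      change v = RefHull.stalkMapₗ
        (extAct k i p w (DualNumber.eps : DualNumber k) : F ⟶ F) y u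
      rw [extAct_eps, DefoSh.stalkMapₗ_comp_apply, hu, hz]
    rw [hv']
    exact Submodule.smul_mem_smul hε Submodule.mem_top
  flat y := flat_stalk i p w hS y

end Build

/-! ### the class of a deformation -/

section Cls

variable (D : DefoSh.Defo E (ArtFun.Art.dual k k))

/-- the canonical map `E → D.sheaf` with `π ≫ ι = ε` -/
def iotaOf : E ⟶ D.sheaf := (LocTrivDefo.exists_ι D).choose

theorem π_iotaOf : D.π ≫ iotaOf D = epsHom D := (LocTrivDefo.exists_ι D).choose_spec

/-- the short complex `0 → E → D.sheaf → E → 0` -/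
def seqOf : ShortComplex X.Modules :=
  ShortComplex.mk (iotaOf D) D.π (ι_π D (iotaOf D) (π_iotaOf D))

theorem seqOf_shortExact : (seqOf D).ShortExact :=
  { exact := exact_ιπ D _ (π_iotaOf D)
    mono_f := mono_ι D _ (π_iotaOf D)
    epi_g := epi_π D }

variable [HasExt.{u} X.Modules]

/-- the extension class of a first-order deformation -/
def clsOf : Abelian.Ext E E 1 := (seqOf_shortExact D).extClass

theorem clsOf_eq (i : E ⟶ D.sheaf) (hi : D.π ≫ i = D.act (DualNumber.eps : DualNumber k))
    (h0 : i ≫ D.π = 0) (hS : (ShortComplex.mk i D.π h0).ShortExact) :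
    clsOf D = hS.extClass := by
  have hi' : iotaOf D = i := by
    haveI := epi_π D
    rw [← cancel_epi D.π, π_iotaOf D]
    exact hi.symm
  exact extClass_congr _ _ _ _ hi'

variable {D}

theorem clsOf_eq_of_iso {D' : DefoSh.Defo E (ArtFun.Art.dual k k)}
    (e : DefoSh.Defo.Iso D D') : clsOf D = clsOf D' := by
  have hcomm : iotaOf D ≫ e.iso.hom = iotaOf D' := by
    haveI := epi_π D
    rw [← cancel_epi D.π, ← Category.assoc, π_iotaOf D, ← e.hom_π, Category.assoc,
      π_iotaOf D']
    exact e.act_hom (epsA (k := k))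
  let φ : seqOf D ⟶ seqOf D' :=
    { τ₁ := 𝟙 E
      τ₂ := e.iso.hom
      τ₃ := 𝟙 E
      comm₁₂ := by
        change 𝟙 E ≫ iotaOf D' = iotaOf D ≫ e.iso.hom
        rw [Category.id_comp, hcomm]
      comm₂₃ := by
        change e.iso.hom ≫ D'.π = D.π ≫ 𝟙 E
        rw [Category.comp_id, e.hom_π] }
  have h := ShortComplex.ShortExact.extClass_naturality (seqOf_shortExact D)
    (seqOf_shortExact D') φ
  change (clsOf D).comp (Ext.mk₀ (𝟙 E)) (add_zero 1) =
    (Ext.mk₀ (𝟙 E)).comp (clsOf D') (zero_add 1) at h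
  rw [Ext.comp_mk₀_id, Ext.mk₀_id_comp] at h
  exact h

theorem exists_iso_of_clsOf_eq {D' : DefoSh.Defo E (ArtFun.Art.dual k k)}
    (h : clsOf D = clsOf D') : Nonempty (DefoSh.Defo.Iso D D') := by
  obtain ⟨β, hβ1, hβ2⟩ : ∃ β : D.sheaf ⟶ D'.sheaf,
      iotaOf D ≫ β = 𝟙 E ≫ iotaOf D' ∧ D.π ≫ 𝟙 E = β ≫ D'.π :=
    Groth.Agent.Lib.Helper6.ExtRealize.exists_map_of_extClass
    (seqOf_shortExact D) (seqOf_shortExact D') (𝟙 E) (𝟙 E) (by
      change (clsOf D).comp (Ext.mk₀ (𝟙 E)) (add_zero 1) =
        (Ext.mk₀ (𝟙 E)).comp (clsOf D') (zero_add 1)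
      rw [Ext.comp_mk₀_id, Ext.mk₀_id_comp]
      exact h)
  have h1 : iotaOf D ≫ β = iotaOf D' := hβ1.trans (Category.id_comp _)
  have h2 : β ≫ D'.π = D.π := hβ2.symm.trans (Category.comp_id _)
  let φ : seqOf D ⟶ seqOf D' :=
    { τ₁ := 𝟙 E
      τ₂ := β
      τ₃ := 𝟙 E
      comm₁₂ := by
        change 𝟙 E ≫ iotaOf D' = iotaOf D ≫ β
        rw [Category.id_comp, h1]
      comm₂₃ := by
        change β ≫ D'.π = D.π ≫ 𝟙 E
        rw [Category.comp_id, h2] }
  haveI : IsIso φ.τ₁ := inferInstanceAs (IsIso (𝟙 E))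
  haveI : IsIso φ.τ₃ := inferInstanceAs (IsIso (𝟙 E))
  haveI : IsIso β :=
    ShortComplex.isIso₂_of_shortExact_of_isIso₁₃ φ (seqOf_shortExact D) (seqOf_shortExact D')
  have hε : epsHom D ≫ β = β ≫ epsHom D' := by
    rw [← π_iotaOf D, Category.assoc, h1, ← π_iotaOf D', ← Category.assoc, h2]
  refine ⟨{ iso := asIso β, act_hom := ?_, hom_π := h2 }⟩
  intro a
  change D.act a ≫ β = β ≫ D'.act a
  rw [act_eq D a, act_eq D' a]
  simp only [Preadditive.add_comp, Preadditive.comp_add, Linear.smul_comp, Linear.comp_smul,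
    Category.id_comp, Category.comp_id, hε]

end Cls

/-! ### the bijection -/

section Main

variable [HasExt.{u} X.Modules]

/-- the class map on isomorphism classes -/
def clMap : DefoSh.FirstOrder k E → Abelian.Ext E E 1 :=
  Quotient.lift (s := DefoSh.Defo.setoid E (ArtFun.Art.dual k k)) (fun D => clsOf D)
    (fun D D' h => (show Nonempty (DefoSh.Defo.Iso D D') from h).elim
      (fun e => clsOf_eq_of_iso e))

theorem clMap_cl (D : DefoSh.Defo E (ArtFun.Art.dual k k)) : clMap D.cl = clsOf D := rfl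

theorem clMap_bijective : Function.Bijective (clMap (k := k) (E := E)) := by
  constructor
  · intro a b hab
    obtain ⟨D, rfl⟩ := Quotient.exists_rep a
    obtain ⟨D', rfl⟩ := Quotient.exists_rep b
    exact Quotient.sound (exists_iso_of_clsOf_eq hab)
  · intro x
    obtain ⟨F, i, p, w, hS, hx⟩ :=
      Groth.Agent.Lib.Helper6.ExtRealize.exists_shortExact_extClass x
    refine ⟨(defoOfExt (k := k) i p w hS).cl, ?_⟩
    rw [← hx, clMap_cl]
    exact clsOf_eq (defoOfExt (k := k) i p w hS) i (extAct_eps i p w).symm w hS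

theorem main :
    ∃ e : DefoSh.FirstOrder k E ≃ Abelian.Ext E E 1,
      e (DefoSh.Defo.trivDual k E).cl = 0 ∧
      ∀ (D : DefoSh.Defo E (ArtFun.Art.dual k k)) (i : E ⟶ D.sheaf)
        (hi : D.π ≫ i = D.act (DualNumber.eps : DualNumber k))
        (h0 : i ≫ D.π = 0) (hS : (ShortComplex.mk i D.π h0).ShortExact),
        e D.cl = hS.extClass := by
  refine ⟨Equiv.ofBijective clMap clMap_bijective, ?_, ?_⟩
  · change clsOf (DefoSh.Defo.trivDual k E) = 0
    have h0 : (biprod.inr : E ⟶ E ⊞ E) ≫ (biprod.fst : E ⊞ E ⟶ E) = 0 := biprod.inr_fst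
    have spl : (ShortComplex.mk (biprod.inr : E ⟶ E ⊞ E) (biprod.fst : E ⊞ E ⟶ E)
        h0).Splitting :=
      { r := biprod.snd
        s := biprod.inl
        f_r := biprod.inr_snd
        s_g := biprod.inl_fst
        id := by
          change (biprod.snd : E ⊞ E ⟶ E) ≫ biprod.inr + biprod.fst ≫ biprod.inl = 𝟙 _
          rw [add_comm]
          exact biprod.total }
    have hS := spl.shortExact
    rw [clsOf_eq (DefoSh.Defo.trivDual k E) (biprod.inr : E ⟶ E ⊞ E)
      (DefoSh.dualAct_eps (k := k) E).symm h0 hS]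
    exact extClass_eq_zero_of_section hS biprod.inl biprod.inl_fst
  · intro D i hi h0 hS
    exact clsOf_eq D i hi h0 hS

end Main

end Groth.Agent.Lib.Helper25.DefoOfExt
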