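import Mathlib
import Groth.Prelude.Def_ArtFun2
import Groth.Agent.Lib.Helper19.ArtFunTangent
import Groth.Agent.Lib.Helper19.ArtFunDouble

/-!
# The double of a semismall extension is `B ×_k k[kʳ]` (sub-lemma X1 requested by helper18)
-/

set_option autoImplicit false
universe u
open CategoryTheory
open ArtFun ArtFun.Art Groth.Agent.Lib.Helper19.ArtFunTangent
open Groth.Agent.Lib.Helper19.ArtFunBasic Groth.Agent.Lib.Helper19.ArtFunLength

namespace Groth.Agent.Lib.Helper25.DeltaSemismall

theorem exists_delta_semismall {k : Type u} [Field k] {B A G : Art k k} (μ : B ⟶ A)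
    (hμ : IsSemismallExt μ) (π₁ π₂ : G ⟶ B) (hG : IsFibreProd π₁ π₂ μ μ) :
    ∃ (r : ℕ) (δ : G ⟶ tsz k k (Fin r → k)),
      IsFibreProd π₁ δ (toBase B) (toBase (tsz k k (Fin r → k))) ∧
      Nonempty (↥(RingHom.ker μ.toAlgHom) ≃ₗ[k] (Fin r → k)) := by
  classical
  obtain ⟨hsurj, hkill⟩ := hμ
  set J : Ideal B := RingHom.ker μ.toAlgHom with hJ
  haveI : IsNoetherian k B := isNoetherian_art B
  haveI : IsNoetherian k ↥J :=
    isNoetherian_of_injective ((Submodule.subtype J).restrictScalars k)
      (fun x y h => Subtype.ext h)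
  let bas := Module.finBasis k ↥J
  let e : ↥J ≃ₗ[k] (Fin (Module.finrank k ↥J) → k) := bas.equivFun
  have hmJ : ∀ b ∈ IsLocalRing.maximalIdeal B, ∀ j ∈ J, b * j = 0 := by
    intro b hb j hj
    have h1 : b * j ∈ IsLocalRing.maximalIdeal B * J := Ideal.mul_mem_mul hb hj
    rw [hkill] at h1
    exact h1
  have hJm : J ≤ IsLocalRing.maximalIdeal B := ker_le_maximalIdeal μ
  have hscal : ∀ (b : B) (j : B), j ∈ J → b * j = algebraMap k B (B.res b) * j := by
    intro b j hj
    have hm : b - algebraMap k B (B.res b) ∈ IsLocalRing.maximalIdeal B := by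
      rw [mem_maximalIdeal_iff, map_sub, AlgHom.commutes, sub_eq_zero]
      rfl
    have h1 := hmJ _ hm j hj
    rw [sub_mul, sub_eq_zero] at h1
    exact h1
  have hd : ∀ g : G, π₂ g - π₁ g ∈ J := by
    intro g
    rw [hJ, RingHom.mem_ker, map_sub, sub_eq_zero]
    exact (hG.w_apply g).symm
  let dJ : G → ↥J := fun g => ⟨π₂ g - π₁ g, hd g⟩
  let c : G → (Fin (Module.finrank k ↥J) → k) := fun g => e (dJ g)
  have hc_zero : ∀ g : G, π₂ g - π₁ g = 0 → c g = 0 := by
    intro g h0
    have h1 : dJ g = 0 := Subtype.ext h0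
    change e (dJ g) = 0
    rw [h1, map_zero]
  have hc_add : ∀ g g' : G, c (g + g') = c g + c g' := by
    intro g g'
    have h1 : dJ (g + g') = dJ g + dJ g' := by
      apply Subtype.ext
      change π₂ (g + g') - π₁ (g + g') = (π₂ g - π₁ g) + (π₂ g' - π₁ g')
      rw [map_add, map_add]
      ring
    change e (dJ (g + g')) = e (dJ g) + e (dJ g')
    rw [h1, map_add]
  have hc_mul : ∀ g g' : G, c (g * g') = G.res g • c g' + G.res g' • c g := by
    intro g g'
    have h1 : dJ (g * g') = G.res g • dJ g' + G.res g' • dJ g := by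
      apply Subtype.ext
      change π₂ (g * g') - π₁ (g * g') =
        G.res g • (π₂ g' - π₁ g') + G.res g' • (π₂ g - π₁ g)
      rw [map_mul, map_mul, Algebra.smul_def, Algebra.smul_def, ← res_app π₁ g,
        ← res_app π₁ g', ← hscal (π₁ g) _ (hd g'), ← hscal (π₁ g') _ (hd g)]
      have hjj : (π₂ g - π₁ g) * (π₂ g' - π₁ g') = 0 := hmJ _ (hJm (hd g)) _ (hd g')
      linear_combination hjj
    change e (dJ (g * g')) = G.res g • e (dJ g') + G.res g' • e (dJ g)
    rw [h1, map_add, map_smul, map_smul]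
  let δ₀ : G →ₐ[k] TrivSqZeroExt k (Fin (Module.finrank k ↥J) → k) :=
    { toFun := fun g => (G.res g, c g)
      map_one' := by
        refine TrivSqZeroExt.ext (map_one G.res) ?_
        change c 1 = 0
        exact hc_zero 1 (by rw [map_one, map_one, sub_self])
      map_mul' := by
        intro g g'
        refine TrivSqZeroExt.ext (map_mul G.res g g') ?_
        change c (g * g') = G.res g • c g' + MulOpposite.op (G.res g') • c g
        rw [hc_mul, op_smul_eq_smul]
      map_zero' := by
        refine TrivSqZeroExt.ext (map_zero G.res) ?_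
        change c 0 = 0
        exact hc_zero 0 (by rw [map_zero, map_zero, sub_self])
      map_add' := by
        intro g g'
        refine TrivSqZeroExt.ext (map_add G.res g g') ?_
        change c (g + g') = c g + c g'
        exact hc_add g g'
      commutes' := by
        intro l
        refine TrivSqZeroExt.ext (G.res.commutes l) ?_
        change c (algebraMap k G l) = 0
        apply hc_zero
        have e1 : π₂ (algebraMap k G l) = algebraMap k B l := π₂.toAlgHom.commutes l
        have e2 : π₁ (algebraMap k G l) = algebraMap k B l := π₁.toAlgHom.commutes l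
        rw [e1, e2, sub_self] }
  let δ : G ⟶ tsz k k (Fin (Module.finrank k ↥J) → k) := ⟨δ₀, AlgHom.ext fun g => rfl⟩
  refine ⟨Module.finrank k ↥J, δ, ⟨?_, ?_, ?_⟩, ⟨e⟩⟩
  · rw [eq_toBase (π₁ ≫ toBase B), eq_toBase (δ ≫ toBase _)]
  · intro g₁ g₂ h1 h2
    apply hG.inj g₁ g₂ h1
    have hcc : c g₁ = c g₂ := congrArg TrivSqZeroExt.snd h2
    have hdd : dJ g₁ = dJ g₂ := e.injective hcc
    have hv : π₂ g₁ - π₁ g₁ = π₂ g₂ - π₁ g₂ := congrArg Subtype.val hdd
    rw [h1] at hv
    exact sub_left_inj.1 hv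
  · intro b d hbd
    have hbd' : B.res b = d.fst := hbd
    let j : ↥J := e.symm d.snd
    have hμeq : μ b = μ (b + (j : B)) := by
      rw [map_add]
      have h0 : μ (j : B) = 0 := j.2
      rw [h0, add_zero]
    obtain ⟨g, hg1, hg2⟩ := hG.surj b (b + (j : B)) hμeq
    refine ⟨g, hg1, ?_⟩
    have hdj : dJ g = j := by
      apply Subtype.ext
      change π₂ g - π₁ g = (j : B)
      rw [hg1, hg2]
      ring
    refine TrivSqZeroExt.ext ?_ ?_
    · change G.res g = d.fst
      rw [← res_app π₁ g, hg1, hbd']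
    · change e (dJ g) = d.snd
      rw [hdj]
      exact e.apply_symm_apply d.snd

end Groth.Agent.Lib.Helper25.DeltaSemismall
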