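import Mathlib

/-!
# Dubreil's bound for the number of generators of the ideal of a finite set of points in the plane

Elementary proof via a generic linear form (after base change to an extension field) and a
two-variable dimension count.
-/

set_option autoImplicit false
set_option linter.unusedSectionVars false
set_option linter.unusedVariables false

open MvPolynomial Module
open scoped TensorProduct

namespace Groth.Agent.Lib.Helper25.Dubreil

/-! ### A purely numerical lemma -/

lemma numeric (a s g h : ℕ → ℕ) (d : ℕ)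
    (h1 : ∀ n, g n + s n = a n)
    (h5 : ∀ n, h (n + 1) + a n = a (n + 1)) (h6 : h 0 = a 0)
    (h7 : ∀ n, h n ≠ 0 → a n + h n + 1 ≤ s (n + 1)) (h8 : ∀ n, h n ≤ n + 1) (h9 : a d ≠ 0) :
    ∀ N, ∑ n ∈ Finset.range (N + 1), g n ≤ d + 1 := by
  classical
  have hex : ∃ n, a n ≠ 0 := ⟨d, h9⟩
  obtain ⟨α, hα1, hα2⟩ : ∃ α, a α ≠ 0 ∧ ∀ n < α, a n = 0 :=
    ⟨Nat.find hex, Nat.find_spec hex, fun n hn => by
      by_contra hne; exact Nat.find_min hex hn hne⟩
  have hαd : α ≤ d := by
    by_contra hlt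
    exact h9 (hα2 d (by omega))
  have hg0 : ∀ n < α, g n = 0 := fun n hn => by
    have := h1 n; have := hα2 n hn; omega
  have hhα : h α = a α := by
    rcases Nat.eq_zero_or_pos α with h0 | h0
    · subst h0; exact h6
    · obtain ⟨m, rfl⟩ : ∃ m, α = m + 1 := ⟨α - 1, by omega⟩
      have := h5 m; have := hα2 m (by omega); omega
  have hPα : ∑ n ∈ Finset.range (α + 1), g n = g α := by
    rw [Finset.sum_range_succ,
      Finset.sum_eq_zero (fun n hn => hg0 n (Finset.mem_range.1 hn)), zero_add]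
  have main : ∀ N, α ≤ N →
      (∑ n ∈ Finset.range (N + 1), g n) + N ≤ h N + α ∧ 1 ≤ h N := by
    intro N hN
    induction N, hN using Nat.le_induction with
    | base =>
      have := h1 α
      constructor
      · rw [hPα]; omega
      · omega
    | succ N hN ih =>
      obtain ⟨ih1, ih2⟩ := ih
      have e1 := h7 N (by omega)
      have e2 := h5 N
      have e3 := h1 (N + 1)
      rw [Finset.sum_range_succ]
      constructor <;> omega
  intro N
  by_cases hN : α ≤ N
  · have := (main N hN).1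
    have := h8 N
    omega
  · rw [Finset.sum_eq_zero (fun n hn => hg0 n (by have := Finset.mem_range.1 hn; omega))]
    omega

/-! ### General linear algebra -/

section LinAlg

variable {F : Type*} [Field F]

lemma rank_nullity {M N : Type*} [AddCommGroup M] [Module F M] [AddCommGroup N] [Module F N]
    (f : M →ₗ[F] N) (p : Submodule F M) [FiniteDimensional F p] :
    finrank F (p.map f) + finrank F ↥(p ⊓ LinearMap.ker f) = finrank F p := by
  have h := LinearMap.finrank_range_add_finrank_ker (f.domRestrict p)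
  have h1 : LinearMap.range (f.domRestrict p) = p.map f := by
    ext y; constructor
    · rintro ⟨x, rfl⟩; exact ⟨x.1, x.2, rfl⟩
    · rintro ⟨x, hx, rfl⟩; exact ⟨⟨x, hx⟩, rfl⟩
  have h2 : finrank F (LinearMap.ker (f.domRestrict p)) =
      finrank F ↥(p ⊓ LinearMap.ker f) := by
    have : (LinearMap.ker (f.domRestrict p)).map p.subtype = p ⊓ LinearMap.ker f := by
      ext x; constructor
      · rintro ⟨y, hy, rfl⟩; exact ⟨y.2, hy⟩
      · rintro ⟨hx1, hx2⟩; exact ⟨⟨x, hx1⟩, hx2, rfl⟩
    rw [← this, Submodule.finrank_map_subtype_eq]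
  rw [h1, h2] at h
  exact h

lemma compl_basis {M : Type*} [AddCommGroup M] [Module F M] (p q : Submodule F M)
    (hpq : p ≤ q) [FiniteDimensional F q] :
    ∃ (m : ℕ) (b : Fin m → M), m + finrank F p = finrank F q ∧ (∀ i, b i ∈ q) ∧
      q ≤ p ⊔ Submodule.span F (Set.range b) := by
  haveI : FiniteDimensional F p := Submodule.finiteDimensional_of_le hpq
  obtain ⟨C, hC⟩ := Submodule.exists_isCompl p
  have hC'q : C ⊓ q ≤ q := inf_le_right
  haveI : FiniteDimensional F ↥(C ⊓ q) := Submodule.finiteDimensional_of_le hC'q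
  have hsup : p ⊔ (C ⊓ q) = q := by
    apply le_antisymm (sup_le hpq inf_le_right)
    intro x hx
    have hx' : x ∈ p ⊔ C := by rw [hC.sup_eq_top]; trivial
    obtain ⟨y, hy, z, hz, rfl⟩ := Submodule.mem_sup.1 hx'
    refine Submodule.mem_sup.2 ⟨y, hy, z, ⟨hz, ?_⟩, rfl⟩
    have : z = (y + z) - y := by abel
    rw [this]; exact q.sub_mem hx (hpq hy)
  have hinf : p ⊓ (C ⊓ q) = ⊥ := by
    rw [eq_bot_iff]
    calc p ⊓ (C ⊓ q) ≤ p ⊓ C := inf_le_inf_left p inf_le_left
      _ = ⊥ := hC.inf_eq_bot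
  have hdim := Submodule.finrank_sup_add_finrank_inf_eq p (C ⊓ q)
  rw [hinf, finrank_bot, add_zero, hsup] at hdim
  let bas := Module.finBasis F ↥(C ⊓ q)
  refine ⟨finrank F ↥(C ⊓ q), fun i => (bas i : M), by omega,
    fun i => hC'q (bas i).2, ?_⟩
  have hspan : Submodule.span F (Set.range (fun i => (bas i : M))) = C ⊓ q := by
    have h2 : Set.range (fun i => (bas i : M)) = ⇑(C ⊓ q).subtype '' Set.range bas := by
      rw [← Set.range_comp]; rfl
    rw [h2, Submodule.span_image, bas.span_eq, Submodule.map_subtype_top]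
  rw [hspan, hsup]

end LinAlg

/-! ### Homogeneous polynomials -/

section Hom

variable {F : Type*} [Field F]

instance instFinHom (σ : Type*) [Finite σ] (n : ℕ) :
    Module.Finite F (homogeneousSubmodule σ F n) :=
  Module.Finite.iff_fg.2 (homogeneousSubmodule_fg σ F n)

lemma comp_lin_mul {σ : Type*} (ℓ g : MvPolynomial σ F) (hℓ : ℓ.IsHomogeneous 1) (m : ℕ) :
    homogeneousComponent (m + 1) (ℓ * g) = ℓ * homogeneousComponent m g ∧
      homogeneousComponent 0 (ℓ * g) = 0 := by
  have hg := sum_homogeneousComponent g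
  have key : ∀ n, homogeneousComponent n (ℓ * g) =
      ∑ j ∈ Finset.range (g.totalDegree + 1),
        if n = 1 + j then ℓ * homogeneousComponent j g else 0 := by
    intro n
    conv_lhs => rw [← hg, Finset.mul_sum, map_sum]
    refine Finset.sum_congr rfl (fun j _ => ?_)
    exact homogeneousComponent_of_mem (hℓ.mul (homogeneousComponent_isHomogeneous j g))
  constructor
  · rw [key]
    by_cases hm : m ∈ Finset.range (g.totalDegree + 1)
    · rw [Finset.sum_eq_single m]
      · rw [if_pos (by omega)]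
      · intro j _ hj; rw [if_neg (by omega)]
      · intro h; exact absurd hm h
    · rw [Finset.mem_range] at hm
      rw [Finset.sum_eq_zero, homogeneousComponent_eq_zero _ _ (by omega), mul_zero]
      intro j hj
      rw [Finset.mem_range] at hj
      rw [if_neg (by omega)]
  · rw [key]
    apply Finset.sum_eq_zero
    intro j _
    rw [if_neg (by omega)]

/-- `S_1 · V`. -/
noncomputable def S1 {σ : Type*} (V : Submodule F (MvPolynomial σ F)) : Submodule F (MvPolynomial σ F) :=
  ⨆ i : σ, V.map (LinearMap.mulLeft F (X i))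

lemma mul_mem_S1 {σ : Type*} {V : Submodule F (MvPolynomial σ F)} {g : MvPolynomial σ F}
    (hg : g ∈ V) (i : σ) : X i * g ∈ S1 V :=
  Submodule.mem_iSup_of_mem i ⟨g, hg, rfl⟩

lemma S1_le {σ : Type*} {V T : Submodule F (MvPolynomial σ F)}
    (h : ∀ g ∈ V, ∀ i, X i * g ∈ T) : S1 V ≤ T :=
  iSup_le fun i => by
    rintro _ ⟨g, hg, rfl⟩
    exact h g hg i

lemma finrank_map_mul {σ : Type*} (V : Submodule F (MvPolynomial σ F)) (a : MvPolynomial σ F)
    (ha : a ≠ 0) : finrank F (V.map (LinearMap.mulLeft F a)) = finrank F V := by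
  have hinj : Function.Injective (LinearMap.mulLeft F a) := fun x y h => mul_left_cancel₀ ha h
  exact (Submodule.equivMapOfInjective _ hinj V).finrank_eq.symm

lemma finrank_hom_two_le (n : ℕ) : finrank F (homogeneousSubmodule (Fin 2) F n) ≤ n + 1 := by
  let w : Fin (n + 1) → MvPolynomial (Fin 2) F := fun i => X 0 ^ i.val * X 1 ^ (n - i.val)
  have hle : homogeneousSubmodule (Fin 2) F n ≤ Submodule.span F (Set.range w) := by
    intro f hf
    rw [← support_sum_monomial_coeff f]
    refine Submodule.sum_mem _ (fun d hd => ?_)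
    have hd2 : d 0 + d 1 = n := by
      have := IsHomogeneous.degree_eq_sum_deg_support hf hd
      rw [← Finsupp.degree_apply, Finsupp.degree_eq_sum, Fin.sum_univ_two] at this
      exact this.symm
    have hmon : monomial d (coeff d f) = coeff d f • w ⟨d 0, by omega⟩ := by
      rw [monomial_eq, Finsupp.prod_fintype _ _ (fun i => pow_zero _), Fin.prod_univ_two,
        smul_eq_C_mul]
      show _ = C _ * (X 0 ^ d 0 * X 1 ^ (n - d 0))
      rw [show n - d 0 = d 1 by omega]
    rw [hmon]
    exact Submodule.smul_mem _ _ (Submodule.subset_span ⟨_, rfl⟩)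
  haveI : Module.Finite F (Submodule.span F (Set.range w)) :=
    FiniteDimensional.span_of_finite F (Set.finite_range w)
  calc finrank F (homogeneousSubmodule (Fin 2) F n)
      ≤ finrank F (Submodule.span F (Set.range w)) := Submodule.finrank_mono hle
    _ ≤ Fintype.card (Fin (n + 1)) := finrank_range_le_card w
    _ = n + 1 := Fintype.card_fin _

/-- The two-variable lemma. -/
lemma two_var (n : ℕ) (V : Submodule F (MvPolynomial (Fin 2) F))
    (hV : V ≤ homogeneousSubmodule (Fin 2) F n) (hV0 : V ≠ ⊥) :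
    finrank F V + 1 ≤ finrank F (S1 V) := by
  haveI : FiniteDimensional F V := Submodule.finiteDimensional_of_le hV
  have hU : S1 V ≤ homogeneousSubmodule (Fin 2) F (n + 1) := by
    apply S1_le
    intro g hg i
    have := (isHomogeneous_X F i).mul (hV hg)
    rw [add_comm] at this
    exact this
  haveI : FiniteDimensional F (S1 V) := Submodule.finiteDimensional_of_le hU
  by_contra hlt
  have hle : finrank F (S1 V) ≤ finrank F V := by omega
  have hu : V.map (LinearMap.mulLeft F (X 0)) = S1 V :=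
    Submodule.eq_of_le_of_finrank_le (le_iSup (fun i => V.map (LinearMap.mulLeft F (X i))) 0)
      (by rw [finrank_map_mul V (X 0) (X_ne_zero 0)]; exact hle)
  have hv : V.map (LinearMap.mulLeft F (X 1)) = S1 V :=
    Submodule.eq_of_le_of_finrank_le (le_iSup (fun i => V.map (LinearMap.mulLeft F (X i))) 1)
      (by rw [finrank_map_mul V (X 1) (X_ne_zero 1)]; exact hle)
  have hstep : ∀ f ∈ V, ∃ f₁ ∈ V, X 1 * f₁ = X 0 * f := by
    intro f hf
    have : X 0 * f ∈ V.map (LinearMap.mulLeft F (X 1)) := by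
      rw [hv, ← hu]; exact ⟨f, hf, rfl⟩
    obtain ⟨f₁, hf₁, h⟩ := this
    exact ⟨f₁, hf₁, h⟩
  have hP : ∀ j : ℕ, ∃ f ∈ V, f ≠ 0 ∧ j ≤ degreeOf 0 f := by
    intro j
    induction j with
    | zero =>
      obtain ⟨f, hf, hf0⟩ := Submodule.exists_mem_ne_zero_of_ne_bot hV0
      exact ⟨f, hf, hf0, Nat.zero_le _⟩
    | succ j ih =>
      obtain ⟨f, hf, hf0, hj⟩ := ih
      obtain ⟨f₁, hf₁, h⟩ := hstep f hf
      have hf₁0 : f₁ ≠ 0 := by
        rintro rfl
        rw [mul_zero] at h
        exact hf0 ((mul_eq_zero.1 h.symm).resolve_left (X_ne_zero 0))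
      refine ⟨f₁, hf₁, hf₁0, ?_⟩
      have d1 : degreeOf 0 (f₁ * X 1) = degreeOf 0 f₁ :=
        degreeOf_mul_X_of_ne f₁ (by decide)
      have d2 : degreeOf 0 (f * X 0) = degreeOf 0 f + 1 :=
        (degreeOf_mul_X_eq_degreeOf_add_one_iff 0 f).2 hf0
      have h' : f₁ * X 1 = f * X 0 := by rw [mul_comm f₁, mul_comm f]; exact h
      rw [h'] at d1
      omega
  obtain ⟨f, hf, hf0, hdeg⟩ := hP (n + 1)
  have h1 : degreeOf 0 f ≤ totalDegree f := degreeOf_le_totalDegree f 0
  have h2 : totalDegree f = n := (hV hf).totalDegree hf0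
  omega

end Hom

/-! ### Vanishing forms and the projection from a generic linear form -/

section Vanish

variable {F : Type*} [Field F]

/-- polynomials vanishing on `Z` -/
noncomputable def vanish (Z : Finset (Fin 3 → F)) : Submodule F (MvPolynomial (Fin 3) F) where
  carrier := {f | ∀ p ∈ Z, eval p f = 0}
  add_mem' := by
    intro a b ha hb p hp
    rw [map_add, ha p hp, hb p hp, add_zero]
  zero_mem' := by
    intro p _
    exact map_zero _
  smul_mem' := by
    intro c a ha p hp
    rw [smul_eval, ha p hp, mul_zero]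

/-- forms of degree `n` vanishing on `Z` -/
noncomputable def Vn (Z : Finset (Fin 3 → F)) (n : ℕ) : Submodule F (MvPolynomial (Fin 3) F) :=
  homogeneousSubmodule (Fin 3) F n ⊓ vanish Z

lemma mem_Vn {Z : Finset (Fin 3 → F)} {n : ℕ} {f : MvPolynomial (Fin 3) F} :
    f ∈ Vn Z n ↔ f.IsHomogeneous n ∧ ∀ p ∈ Z, eval p f = 0 := Iff.rfl

lemma Vn_le_hom (Z : Finset (Fin 3 → F)) (n : ℕ) :
    Vn Z n ≤ homogeneousSubmodule (Fin 3) F n := inf_le_left

instance instFinVn (Z : Finset (Fin 3 → F)) (n : ℕ) : FiniteDimensional F (Vn Z n) :=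
  Submodule.finiteDimensional_of_le (Vn_le_hom Z n)

lemma X_mul_mem_Vn {Z : Finset (Fin 3 → F)} {n : ℕ} {g : MvPolynomial (Fin 3) F}
    (hg : g ∈ Vn Z n) (i : Fin 3) : X i * g ∈ Vn Z (n + 1) := by
  refine ⟨?_, ?_⟩
  · have := (isHomogeneous_X F i).mul hg.1
    rw [add_comm] at this
    exact this
  · intro p hp
    rw [map_mul, hg.2 p hp, mul_zero]

lemma S1_Vn_le (Z : Finset (Fin 3 → F)) (n : ℕ) : S1 (Vn Z n) ≤ Vn Z (n + 1) :=
  S1_le (fun g hg i => X_mul_mem_Vn hg i)

instance instFinS1Vn (Z : Finset (Fin 3 → F)) (n : ℕ) : FiniteDimensional F (S1 (Vn Z n)) :=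
  Submodule.finiteDimensional_of_le (S1_Vn_le Z n)

variable (c1 c2 : F)

/-- the linear form `x₀ + c₁ x₁ + c₂ x₂` -/
noncomputable def lin : MvPolynomial (Fin 3) F := X 0 + C c1 * X 1 + C c2 * X 2

/-- the projection `F[x₀,x₁,x₂] → F[u,v]` killing `lin` -/
noncomputable def proj : MvPolynomial (Fin 3) F →ₐ[F] MvPolynomial (Fin 2) F :=
  aeval ![-(C c1 * X 0 + C c2 * X 1), X 0, X 1]

lemma proj_X0 : proj c1 c2 (X 0) = -(C c1 * X 0 + C c2 * X 1) := by simp [proj]
lemma proj_X1 : proj c1 c2 (X 1) = X 0 := by simp [proj]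
lemma proj_X2 : proj c1 c2 (X 2) = X 1 := by simp [proj]
lemma proj_C (a : F) : proj c1 c2 (C a) = C a := by simp [proj]

lemma proj_lin : proj c1 c2 (lin c1 c2) = 0 := by
  simp only [lin, map_add, map_mul, proj_X0, proj_X1, proj_X2, proj_C]; ring

lemma eval_lin (p : Fin 3 → F) : eval p (lin c1 c2) = p 0 + c1 * p 1 + c2 * p 2 := by
  simp [lin]

lemma lin_hom : (lin c1 c2).IsHomogeneous 1 := by
  unfold lin
  exact ((isHomogeneous_X _ 0).add (isHomogeneous_C_mul_X c1 1)).add (isHomogeneous_C_mul_X c2 2)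

lemma lin_ne_zero : lin c1 c2 ≠ 0 := by
  intro h
  have := eval_lin c1 c2 ![1, 0, 0]
  rw [h] at this
  simp at this

lemma proj_hom {f : MvPolynomial (Fin 3) F} {n : ℕ} (hf : f.IsHomogeneous n) :
    (proj c1 c2 f).IsHomogeneous n := by
  have := hf.aeval (S := F)
    (![-(C c1 * X 0 + C c2 * X 1), X 0, X 1] : Fin 3 → MvPolynomial (Fin 2) F) (n := 1) (by
      intro i
      fin_cases i
      · simp only [Fin.zero_eta, Matrix.cons_val_zero]
        exact ((isHomogeneous_C_mul_X c1 0).add (isHomogeneous_C_mul_X c2 1)).neg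
      · simp only [Fin.mk_one, Matrix.cons_val_one, Matrix.cons_val_zero]
        exact isHomogeneous_X _ 0
      · simp only [Fin.reduceFinMk, Matrix.cons_val_two, Matrix.tail_cons, Matrix.head_cons]
        exact isHomogeneous_X _ 1)
  rw [one_mul] at this
  exact this

lemma ker_proj {f : MvPolynomial (Fin 3) F} (hf : proj c1 c2 f = 0) :
    ∃ g, f = lin c1 c2 * g := by
  let mk : MvPolynomial (Fin 3) F →ₐ[F] (MvPolynomial (Fin 3) F ⧸ Ideal.span {lin c1 c2}) :=
    Ideal.Quotient.mkₐ F _
  let ρ : MvPolynomial (Fin 2) F →ₐ[F] (MvPolynomial (Fin 3) F ⧸ Ideal.span {lin c1 c2}) :=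
    aeval ![mk (X 1), mk (X 2)]
  have hC : ∀ a : F, mk (C a) = algebraMap F _ a := fun a => by
    rw [← MvPolynomial.algebraMap_eq]; exact mk.commutes a
  have hρC : ∀ a : F, ρ (C a) = algebraMap F _ a := fun a => by
    rw [← MvPolynomial.algebraMap_eq]; exact ρ.commutes a
  have hρ0 : ρ (X 0) = mk (X 1) := by simp [ρ]
  have hρ1 : ρ (X 1) = mk (X 2) := by simp [ρ]
  have h0 : mk (lin c1 c2) = 0 := by
    change Ideal.Quotient.mk _ (lin c1 c2) = 0
    exact Ideal.Quotient.eq_zero_iff_mem.2 (Ideal.mem_span_singleton_self _)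
  have hcomp : ρ.comp (proj c1 c2) = mk := by
    apply MvPolynomial.algHom_ext
    intro i
    fin_cases i
    · show ρ (proj c1 c2 (X 0)) = mk (X 0)
      rw [proj_X0]
      have e : mk (X 0) = mk (-(C c1 * X 1 + C c2 * X 2)) := by
        rw [← sub_eq_zero, ← map_sub]
        have : (X 0 : MvPolynomial (Fin 3) F) - -(C c1 * X 1 + C c2 * X 2) = lin c1 c2 := by
          unfold lin; ring
        rw [this, h0]
      rw [e, map_neg, map_add, map_mul, map_mul, hρC, hρC, hρ0, hρ1, map_neg, map_add,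
        map_mul, map_mul, hC, hC]
    · show ρ (proj c1 c2 (X 1)) = mk (X 1)
      rw [proj_X1, hρ0]
    · show ρ (proj c1 c2 (X 2)) = mk (X 2)
      rw [proj_X2, hρ1]
  have hmk : mk f = 0 := by rw [← hcomp, AlgHom.comp_apply, hf, map_zero]
  have hmem : f ∈ Ideal.span {lin c1 c2} := by
    change Ideal.Quotient.mk _ f = 0 at hmk
    exact Ideal.Quotient.eq_zero_iff_mem.1 hmk
  obtain ⟨g, hg⟩ := Ideal.mem_span_singleton'.1 hmem
  exact ⟨g, by rw [← hg, mul_comm]⟩

lemma div_lin_hom {f : MvPolynomial (Fin 3) F} {n : ℕ} (hf : f.IsHomogeneous (n + 1))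
    (hπ : proj c1 c2 f = 0) : ∃ g, g.IsHomogeneous n ∧ f = lin c1 c2 * g := by
  obtain ⟨g', hg'⟩ := ker_proj c1 c2 hπ
  refine ⟨homogeneousComponent n g', homogeneousComponent_isHomogeneous n g', ?_⟩
  have := (comp_lin_mul (lin c1 c2) g' (lin_hom c1 c2) n).1
  rw [← hg', homogeneousComponent_eq_self hf] at this
  exact this

lemma div_lin_zero {f : MvPolynomial (Fin 3) F} (hf : f.IsHomogeneous 0)
    (hπ : proj c1 c2 f = 0) : f = 0 := by
  obtain ⟨g', hg'⟩ := ker_proj c1 c2 hπ
  have := (comp_lin_mul (lin c1 c2) g' (lin_hom c1 c2) 0).2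
  rw [← hg', homogeneousComponent_eq_self hf] at this
  exact this

variable (Z : Finset (Fin 3 → F)) (hℓ : ∀ p ∈ Z, p 0 + c1 * p 1 + c2 * p 2 ≠ 0)

lemma mul_lin_mem {n : ℕ} {g : MvPolynomial (Fin 3) F} (hg : g ∈ Vn Z n) :
    lin c1 c2 * g ∈ Vn Z (n + 1) := by
  refine ⟨?_, ?_⟩
  · have := (lin_hom c1 c2).mul hg.1
    rw [add_comm] at this
    exact this
  · intro p hp
    rw [map_mul, hg.2 p hp, mul_zero]

include hℓ in
lemma ker_inter_succ (n : ℕ) :
    Vn Z (n + 1) ⊓ LinearMap.ker (proj c1 c2).toLinearMap =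
      (Vn Z n).map (LinearMap.mulLeft F (lin c1 c2)) := by
  ext x; constructor
  · rintro ⟨hx, hxπ⟩
    obtain ⟨g, hg, rfl⟩ := div_lin_hom c1 c2 hx.1 (LinearMap.mem_ker.1 hxπ)
    refine ⟨g, ⟨hg, fun p hp => ?_⟩, rfl⟩
    have := hx.2 p hp
    rw [map_mul, eval_lin] at this
    exact (mul_eq_zero.1 this).resolve_left (hℓ p hp)
  · rintro ⟨g, hg, rfl⟩
    refine ⟨mul_lin_mem c1 c2 Z hg, ?_⟩
    show proj c1 c2 (lin c1 c2 * g) = 0
    rw [map_mul, proj_lin, zero_mul]

include hℓ in
lemma K1 (n : ℕ) :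
    finrank F ((Vn Z (n + 1)).map (proj c1 c2).toLinearMap) + finrank F (Vn Z n) =
      finrank F (Vn Z (n + 1)) := by
  have h := rank_nullity (proj c1 c2).toLinearMap (Vn Z (n + 1))
  rw [ker_inter_succ c1 c2 Z hℓ n, finrank_map_mul _ _ (lin_ne_zero c1 c2)] at h
  exact h

lemma K2 : finrank F ((Vn Z 0).map (proj c1 c2).toLinearMap) = finrank F (Vn Z 0) := by
  have h := rank_nullity (proj c1 c2).toLinearMap (Vn Z 0)
  have : Vn Z 0 ⊓ LinearMap.ker (proj c1 c2).toLinearMap = ⊥ := by
    rw [eq_bot_iff]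
    rintro x ⟨hx, hxπ⟩
    exact (Submodule.mem_bot F).2 (div_lin_zero c1 c2 hx.1 (LinearMap.mem_ker.1 hxπ))
  rw [this, finrank_bot, add_zero] at h
  exact h

lemma K4 (n : ℕ) : finrank F ((Vn Z n).map (proj c1 c2).toLinearMap) ≤ n + 1 := by
  have hle : (Vn Z n).map (proj c1 c2).toLinearMap ≤ homogeneousSubmodule (Fin 2) F n := by
    rintro _ ⟨f, hf, rfl⟩
    exact proj_hom c1 c2 hf.1
  exact le_trans (Submodule.finrank_mono hle) (finrank_hom_two_le n)

lemma K3 (n : ℕ) (hne : (Vn Z n).map (proj c1 c2).toLinearMap ≠ ⊥) :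
    finrank F (Vn Z n) + finrank F ((Vn Z n).map (proj c1 c2).toLinearMap) + 1 ≤
      finrank F (S1 (Vn Z n)) := by
  have h := rank_nullity (proj c1 c2).toLinearMap (S1 (Vn Z n))
  have h1 : finrank F (Vn Z n) ≤
      finrank F ↥(S1 (Vn Z n) ⊓ LinearMap.ker (proj c1 c2).toLinearMap) := by
    rw [← finrank_map_mul (Vn Z n) (lin c1 c2) (lin_ne_zero c1 c2)]
    haveI : FiniteDimensional F ↥(S1 (Vn Z n) ⊓ LinearMap.ker (proj c1 c2).toLinearMap) :=
      Submodule.finiteDimensional_of_le inf_le_left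
    apply Submodule.finrank_mono
    rintro _ ⟨g, hg, rfl⟩
    refine ⟨?_, ?_⟩
    · have e : lin c1 c2 * g = X 0 * g + c1 • (X 1 * g) + c2 • (X 2 * g) := by
        unfold lin; rw [smul_eq_C_mul, smul_eq_C_mul]; ring
      show lin c1 c2 * g ∈ S1 (Vn Z n)
      rw [e]
      exact add_mem (add_mem (mul_mem_S1 hg 0) (Submodule.smul_mem _ _ (mul_mem_S1 hg 1)))
        (Submodule.smul_mem _ _ (mul_mem_S1 hg 2))
    · show proj c1 c2 (lin c1 c2 * g) = 0
      rw [map_mul, proj_lin, zero_mul]
  have hle : (Vn Z n).map (proj c1 c2).toLinearMap ≤ homogeneousSubmodule (Fin 2) F n := by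
    rintro _ ⟨f, hf, rfl⟩
    exact proj_hom c1 c2 hf.1
  have h2 : finrank F ((Vn Z n).map (proj c1 c2).toLinearMap) + 1 ≤
      finrank F ((S1 (Vn Z n)).map (proj c1 c2).toLinearMap) := by
    refine le_trans (two_var n _ hle hne) (Submodule.finrank_mono ?_)
    apply S1_le
    rintro _ ⟨g, hg, rfl⟩ i
    fin_cases i
    · exact ⟨X 1 * g, mul_mem_S1 hg 1, by
        show proj c1 c2 (X 1 * g) = X 0 * proj c1 c2 g
        rw [map_mul, proj_X1]⟩
    · exact ⟨X 2 * g, mul_mem_S1 hg 2, by
        show proj c1 c2 (X 2 * g) = X 1 * proj c1 c2 g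
        rw [map_mul, proj_X2]⟩
  omega

end Vanish

/-! ### Base change -/

section BaseChange

variable {k K : Type*} [Field k] [Field K] [Algebra k K] {σ : Type*}

lemma eval_map_alg (p : σ → k) (g : MvPolynomial σ k) :
    eval (fun i => algebraMap k K (p i)) (MvPolynomial.map (algebraMap k K) g) =
      algebraMap k K (eval p g) := by
  induction g using MvPolynomial.induction_on with
  | C a => simp
  | add f g hf hg => rw [map_add, map_add, map_add, map_add, hf, hg]
  | mul_X f i hf => rw [map_mul, map_mul, map_mul, map_mul, hf]; simp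

lemma linInd_map {ι' : Type*} (v : ι' → MvPolynomial σ k) (hv : LinearIndependent k v) :
    LinearIndependent K (fun i => MvPolynomial.map (algebraMap k K) (v i)) := by
  have h1 : LinearIndependent K (fun i => (1 : K) ⊗ₜ[k] v i) :=
    Module.Flat.linearIndependent_one_tmul hv
  have h2 := h1.map' (MvPolynomial.algebraTensorAlgEquiv (σ := σ) k K).toLinearMap
    (LinearMap.ker_eq_bot.2 (MvPolynomial.algebraTensorAlgEquiv (σ := σ) k K).injective)
  have e : (fun i => MvPolynomial.map (algebraMap k K) (v i)) =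
      ⇑(MvPolynomial.algebraTensorAlgEquiv (σ := σ) k K).toLinearMap ∘
        fun i => (1 : K) ⊗ₜ[k] v i := by
    funext i
    simp
  rw [e]
  exact h2

lemma span_map_basis (V : Submodule k (MvPolynomial σ k)) [FiniteDimensional k V] :
    Submodule.span K (MvPolynomial.map (algebraMap k K) '' (V : Set (MvPolynomial σ k))) =
      Submodule.span K (Set.range (fun i : Fin (finrank k V) =>
        MvPolynomial.map (algebraMap k K) ((Module.finBasis k V i : V) : MvPolynomial σ k))) := by
  apply le_antisymm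
  · rw [Submodule.span_le]
    rintro _ ⟨v, hv, rfl⟩
    have hv' : v = ∑ i, ((Module.finBasis k V).repr ⟨v, hv⟩ i) •
        ((Module.finBasis k V i : V) : MvPolynomial σ k) := by
      have h3 := congrArg (Subtype.val) ((Module.finBasis k V).sum_repr ⟨v, hv⟩)
      simp only [Submodule.coe_sum, Submodule.coe_smul] at h3
      exact h3.symm
    rw [hv', map_sum]
    refine Submodule.sum_mem _ (fun i _ => ?_)
    rw [MvPolynomial.smul_eq_C_mul, map_mul, MvPolynomial.map_C, ← MvPolynomial.smul_eq_C_mul]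
    exact Submodule.smul_mem _ _ (Submodule.subset_span ⟨i, rfl⟩)
  · rw [Submodule.span_le]
    rintro _ ⟨i, rfl⟩
    exact Submodule.subset_span ⟨_, (Module.finBasis k V i).2, rfl⟩

lemma fd_span_map (V : Submodule k (MvPolynomial σ k)) [FiniteDimensional k V] :
    FiniteDimensional K ↥(Submodule.span K
      (MvPolynomial.map (algebraMap k K) '' (V : Set (MvPolynomial σ k)))) := by
  rw [span_map_basis]
  exact FiniteDimensional.span_of_finite K (Set.finite_range _)

lemma finrank_span_map (V : Submodule k (MvPolynomial σ k)) [FiniteDimensional k V] :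
    finrank K ↥(Submodule.span K
      (MvPolynomial.map (algebraMap k K) '' (V : Set (MvPolynomial σ k)))) = finrank k V := by
  rw [span_map_basis, finrank_span_eq_card, Fintype.card_fin]
  apply linInd_map (fun i : Fin (finrank k V) => ((Module.finBasis k V i : V) : MvPolynomial σ k))
  exact (Module.finBasis k V).linearIndependent.map' V.subtype (Submodule.ker_subtype V)

variable {ι : Type*} (b : Module.Basis ι k K)

/-- the `β`-component of a polynomial over `K`, with respect to a `k`-basis of `K` -/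
noncomputable def compo (β : ι) (f : MvPolynomial σ K) : MvPolynomial σ k :=
  ∑ m ∈ f.support, monomial m (b.repr (coeff m f) β)

lemma coeff_compo (β : ι) (f : MvPolynomial σ K) (m : σ →₀ ℕ) :
    coeff m (compo b β f) = b.repr (coeff m f) β := by
  classical
  unfold compo
  rw [coeff_sum]
  simp only [coeff_monomial]
  rw [Finset.sum_ite_eq' f.support m]
  split_ifs with h
  · rfl
  · rw [notMem_support_iff.1 h]; simp

lemma sum_repr_subset (x : K) (T : Finset ι) (hT : (b.repr x).support ⊆ T) :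
    ∑ β ∈ T, b β * algebraMap k K (b.repr x β) = x := by
  have h1 := b.linearCombination_repr x
  rw [Finsupp.linearCombination_apply, Finsupp.sum] at h1
  rw [← Finset.sum_subset hT (fun β _ hβ => by
    rw [Finsupp.notMem_support_iff.1 hβ]; simp)]
  conv_rhs => rw [← h1]
  refine Finset.sum_congr rfl (fun β _ => ?_)
  rw [Algebra.smul_def, mul_comm]

lemma decomp (f : MvPolynomial σ K) :
    ∃ T : Finset ι, f = ∑ β ∈ T, C (b β) * MvPolynomial.map (algebraMap k K) (compo b β f) := by
  classical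
  refine ⟨f.support.biUnion (fun m => (b.repr (coeff m f)).support), ?_⟩
  ext m
  rw [coeff_sum]
  simp only [coeff_C_mul, coeff_map, coeff_compo]
  symm
  apply sum_repr_subset
  by_cases hm : m ∈ f.support
  · exact Finset.subset_biUnion_of_mem (fun m => (b.repr (coeff m f)).support) hm
  · rw [notMem_support_iff.1 hm]; simp

lemma compo_eval (f : MvPolynomial σ K) (T : Finset ι)
    (hT : f = ∑ β ∈ T, C (b β) * MvPolynomial.map (algebraMap k K) (compo b β f)) (p : σ → k)
    (hp : eval (fun i => algebraMap k K (p i)) f = 0) : ∀ β ∈ T, eval p (compo b β f) = 0 := by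
  have h1 : eval (fun i => algebraMap k K (p i)) f = ∑ β ∈ T, (eval p (compo b β f)) • b β := by
    conv_lhs => rw [hT]
    rw [map_sum]
    refine Finset.sum_congr rfl (fun β _ => ?_)
    rw [map_mul, eval_C, eval_map_alg, Algebra.smul_def, mul_comm]
  rw [hp] at h1
  exact linearIndependent_iff'.1 b.linearIndependent T _ h1.symm

lemma compo_hom {n : ℕ} (f : MvPolynomial σ K) (hf : f.IsHomogeneous n) (β : ι) :
    (compo b β f).IsHomogeneous n := by
  intro d hd
  apply hf
  intro h0
  apply hd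
  rw [coeff_compo, h0]; simp

/-- the image of `Z` in `K³` -/
noncomputable def ZK (K : Type*) [Field K] [Algebra k K] (Z : Finset (Fin 3 → k)) :
    Finset (Fin 3 → K) := by
  classical exact Z.image (fun p i => algebraMap k K (p i))

lemma mem_ZK {Z : Finset (Fin 3 → k)} {p : Fin 3 → K} :
    p ∈ ZK K Z ↔ ∃ p₀ ∈ Z, (fun i => algebraMap k K (p₀ i)) = p := by
  classical
  unfold ZK
  exact Finset.mem_image

lemma Vn_K_eq (Z : Finset (Fin 3 → k)) (n : ℕ) :
    Vn (ZK K Z) n = Submodule.span K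
      (MvPolynomial.map (algebraMap k K) '' (Vn Z n : Set (MvPolynomial (Fin 3) k))) := by
  apply le_antisymm
  · intro f hf
    obtain ⟨T, hT⟩ := decomp (Module.Free.chooseBasis k K) f
    rw [hT]
    refine Submodule.sum_mem _ (fun β hβ => ?_)
    rw [← smul_eq_C_mul]
    refine Submodule.smul_mem _ _ (Submodule.subset_span
      ⟨compo (Module.Free.chooseBasis k K) β f,
        ⟨compo_hom _ f hf.1 β, fun p hp => ?_⟩, rfl⟩)
    exact compo_eval _ f T hT p (hf.2 _ (mem_ZK.2 ⟨p, hp, rfl⟩)) β hβ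
  · rw [Submodule.span_le]
    rintro _ ⟨v, hv, rfl⟩
    refine ⟨hv.1.map (algebraMap k K), fun p hp => ?_⟩
    obtain ⟨p₀, hp₀, rfl⟩ := mem_ZK.1 hp
    rw [eval_map_alg, hv.2 p₀ hp₀, map_zero]

lemma T1 (Z : Finset (Fin 3 → k)) (n : ℕ) :
    finrank K (Vn (ZK K Z) n) = finrank k (Vn Z n) := by
  rw [Vn_K_eq]
  exact finrank_span_map (Vn Z n)

lemma T2 (Z : Finset (Fin 3 → k)) (n : ℕ) :
    finrank K (S1 (Vn (ZK K Z) n)) ≤ finrank k (S1 (Vn Z n)) := by
  rw [← finrank_span_map (K := K) (S1 (Vn Z n))]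
  haveI := fd_span_map (K := K) (S1 (Vn Z n))
  apply Submodule.finrank_mono
  apply S1_le
  intro g hg i
  rw [Vn_K_eq] at hg
  induction hg using Submodule.span_induction with
  | mem x hx =>
    obtain ⟨v, hv, rfl⟩ := hx
    refine Submodule.subset_span ⟨X i * v, mul_mem_S1 hv i, ?_⟩
    rw [map_mul, map_X]
  | zero => rw [mul_zero]; exact zero_mem _
  | add x y _ _ hx hy => rw [mul_add]; exact add_mem hx hy
  | smul a x _ hx => rw [mul_smul_comm]; exact Submodule.smul_mem _ _ hx

end BaseChange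

/-! ### The numerical facts over `k` -/

section Facts

variable {k K : Type*} [Field k] [Field K] [Algebra k K]

lemma facts (Z : Finset (Fin 3 → k)) (c1 c2 : K)
    (hℓ : ∀ p ∈ Z, algebraMap k K (p 0) + c1 * algebraMap k K (p 1) +
      c2 * algebraMap k K (p 2) ≠ 0) :
    ∃ h : ℕ → ℕ,
      (∀ n, h (n + 1) + finrank k (Vn Z n) = finrank k (Vn Z (n + 1))) ∧
      h 0 = finrank k (Vn Z 0) ∧
      (∀ n, h n ≠ 0 → finrank k (Vn Z n) + h n + 1 ≤ finrank k (S1 (Vn Z n))) ∧
      (∀ n, h n ≤ n + 1) := by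
  have hℓ' : ∀ p ∈ ZK K Z, p 0 + c1 * p 1 + c2 * p 2 ≠ 0 := by
    intro p hp
    obtain ⟨p₀, hp₀, rfl⟩ := mem_ZK.1 hp
    exact hℓ p₀ hp₀
  refine ⟨fun n => finrank K ((Vn (ZK K Z) n).map (proj c1 c2).toLinearMap), ?_, ?_, ?_, ?_⟩
  · intro n
    have := K1 c1 c2 (ZK K Z) hℓ' n
    rw [T1, T1] at this
    exact this
  · have := K2 c1 c2 (ZK K Z)
    rw [T1] at this
    exact this
  · intro n hn
    have hne : (Vn (ZK K Z) n).map (proj c1 c2).toLinearMap ≠ ⊥ := by
      intro h0
      apply hn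
      show finrank K ↥((Vn (ZK K Z) n).map (proj c1 c2).toLinearMap) = 0
      rw [h0, finrank_bot]
    have := K3 c1 c2 (ZK K Z) n hne
    rw [T1] at this
    exact le_trans this (T2 Z n)
  · intro n
    exact K4 c1 c2 (ZK K Z) n

end Facts

/-! ### A generic linear form over the rational function field -/

section RatFunc

variable {k : Type*} [Field k]

lemma ratfunc_ne (p : Fin 3 → k) (hp : p ≠ 0) :
    algebraMap k (RatFunc k) (p 0) +
      algebraMap (Polynomial k) (RatFunc k) Polynomial.X * algebraMap k (RatFunc k) (p 1) +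
      algebraMap (Polynomial k) (RatFunc k) Polynomial.X ^ 2 * algebraMap k (RatFunc k) (p 2)
        ≠ 0 := by
  have hC : ∀ a : k, algebraMap k (RatFunc k) a =
      algebraMap (Polynomial k) (RatFunc k) (Polynomial.C a) := fun a => by
    rw [Polynomial.C_eq_algebraMap, ← IsScalarTower.algebraMap_apply]
  have hq : Polynomial.C (p 0) + Polynomial.X * Polynomial.C (p 1) +
      Polynomial.X ^ 2 * Polynomial.C (p 2) ≠ (0 : Polynomial k) := by
    intro h0
    apply hp
    have c0 := congrArg (fun q : Polynomial k => q.coeff 0) h0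
    have c1 := congrArg (fun q : Polynomial k => q.coeff 1) h0
    have c2 := congrArg (fun q : Polynomial k => q.coeff 2) h0
    simp at c0 c1 c2
    funext i
    fin_cases i
    · simpa using c0
    · simpa using c1
    · simpa using c2
  rw [hC, hC, hC, ← map_pow, ← map_mul, ← map_mul, ← map_add, ← map_add]
  exact (map_ne_zero_iff _ (IsFractionRing.injective (Polynomial k) (RatFunc k))).2 hq

end RatFunc

end Groth.Agent.Lib.Helper25.Dubreil
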