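import Mathlib
import Groth.Agent.Lib.Helper25.NoEmbSch

/-!
# One-dimensional Noetherian schemes with reduced global sections have no embedded points
-/

set_option autoImplicit false
set_option linter.style.haveILetI false
universe u
open CategoryTheory AlgebraicGeometry TopologicalSpace Opposite

namespace Groth.Agent.Lib.Helper25.EmbDimOne

section Top

variable {α : Type*} [TopologicalSpace α]

/-- in a T0 space of dimension `≤ 1`, a point with a proper generization is closed -/
lemma isClosed_singleton_of_specializes [T0Space α] (hdim : topologicalKrullDim α ≤ 1)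
    {x x' : α} (h : x' ⤳ x) (hne : x' ≠ x) : IsClosed ({x} : Set α) := by
  rw [← closure_eq_iff_isClosed]
  refine Set.Subset.antisymm ?_ subset_closure
  intro y hy
  by_contra hyx
  have hyx' : y ≠ x := hyx
  let a : IrreducibleCloseds α := ⟨closure {y}, isIrreducible_singleton.closure, isClosed_closure⟩
  let b : IrreducibleCloseds α := ⟨closure {x}, isIrreducible_singleton.closure, isClosed_closure⟩
  let c : IrreducibleCloseds α := ⟨closure {x'}, isIrreducible_singleton.closure, isClosed_closure⟩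
  have hxy : x ⤳ y := specializes_iff_mem_closure.mpr hy
  have hab : a < b := by
    refine lt_of_le_of_ne (show (a : Set α) ⊆ b from
      closure_minimal (Set.singleton_subset_iff.mpr hy) isClosed_closure) ?_
    intro heq
    have h1 : (closure {y} : Set α) = closure {x} :=
      congrArg (fun s : IrreducibleCloseds α => (s : Set α)) heq
    have h2 : x ∈ closure ({y} : Set α) := h1 ▸ subset_closure (Set.mem_singleton x)
    have hyx2 : y ⤳ x := specializes_iff_mem_closure.mpr h2
    exact hyx' (hyx2.antisymm hxy).eq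
  have hbc : b < c := by
    refine lt_of_le_of_ne (show (b : Set α) ⊆ c from
      closure_minimal (Set.singleton_subset_iff.mpr (specializes_iff_mem_closure.mp h))
        isClosed_closure) ?_
    intro heq
    have h1 : (closure {x} : Set α) = closure {x'} :=
      congrArg (fun s : IrreducibleCloseds α => (s : Set α)) heq
    have h2 : x' ∈ closure ({x} : Set α) := h1 ▸ subset_closure (Set.mem_singleton x')
    have hxx' : x ⤳ x' := specializes_iff_mem_closure.mpr h2
    exact hne (h.antisymm hxx').eq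
  let p : LTSeries (IrreducibleCloseds α) :=
    { length := 2
      toFun := ![a, b, c]
      step := by
        intro i
        fin_cases i
        · exact hab
        · exact hbc }
  have h2 : (2 : WithBot ℕ∞) ≤ topologicalKrullDim α := by
    have := Order.LTSeries.length_le_krullDim p
    exact this
  have : (2 : WithBot ℕ∞) ≤ 1 := h2.trans hdim
  exact absurd this (by decide)

end Top

section Aff

variable {X : Scheme.{u}} {U : X.Opens} (hU : IsAffineOpen U)

include hU in
theorem isUnit_germ (x : X) (hx : x ∈ U) (s : Γ(X, U))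
    (hs : s ∉ (hU.primeIdealOf ⟨x, hx⟩).asIdeal) :
    IsUnit ((X.presheaf.germ U x hx).hom s) := by
  letI algA : Algebra Γ(X, U) (X.presheaf.stalk x) :=
    TopCat.Presheaf.algebra_section_stalk X.presheaf (U := U) ⟨x, hx⟩
  haveI locA : IsLocalization.AtPrime (X.presheaf.stalk x)
      (hU.primeIdealOf ⟨x, hx⟩).asIdeal := hU.isLocalization_stalk ⟨x, hx⟩
  exact IsLocalization.map_units (X.presheaf.stalk x)
    (⟨s, hs⟩ : (hU.primeIdealOf ⟨x, hx⟩).asIdeal.primeCompl)

include hU in
theorem primeIdealOf_le_iff (z y : X) (hz : z ∈ U) (hy : y ∈ U) :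
    hU.primeIdealOf ⟨z, hz⟩ ≤ hU.primeIdealOf ⟨y, hy⟩ ↔ z ⤳ y := by
  have key := hU.fromSpec.isOpenEmbedding.isInducing.specializes_iff
    (x := hU.primeIdealOf ⟨z, hz⟩) (y := hU.primeIdealOf ⟨y, hy⟩)
  rw [hU.fromSpec_primeIdealOf, hU.fromSpec_primeIdealOf] at key
  exact (PrimeSpectrum.le_iff_specializes _ _).trans key.symm

end Aff

/-- an associated prime strictly containing another prime is the annihilator of a nonzero
square-zero element -/
theorem exists_sq_zero {A : Type*} [CommRing A] [IsNoetherianRing A] (P Q : Ideal A) [Q.IsPrime]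
    (hP : P ∈ associatedPrimes A A) (hQP : Q < P) :
    ∃ a : A, a ≠ 0 ∧ a * a = 0 ∧ ∀ b ∈ P, b * a = 0 := by
  obtain ⟨hPprime, a, ha⟩ := (isAssociatedPrime_iff (I := P) (M := A)).mp hP
  have hann : ∀ b, b ∈ P ↔ b * a = 0 := by
    intro b
    rw [ha, Submodule.mem_colon_singleton, Submodule.mem_bot, smul_eq_mul]
  have ha0 : a ≠ 0 := by
    rintro rfl
    have : (1 : A) ∈ P := (hann 1).mpr (mul_zero 1)
    exact hPprime.ne_top ((Ideal.eq_top_iff_one _).mpr this)
  have haP : a ∈ P := by
    by_contra haP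
    have hle : P ≤ Q := by
      intro b hb
      have h1 : b * a ∈ Q := by rw [(hann b).mp hb]; exact Q.zero_mem
      rcases Ideal.IsPrime.mem_or_mem ‹Q.IsPrime› h1 with h | h
      · exact h
      · exact absurd (hQP.le h) haP
    exact absurd hQP (not_lt_of_ge hle)
  exact ⟨a, ha0, (hann a).mp haP, fun b hb => (hann b).mp hb⟩

theorem noEmbedded_of_isReduced (C : Scheme.{u}) [IsNoetherian C]
    (hdim : topologicalKrullDim C ≤ 1) (hred : IsReduced Γ(C, ⊤)) :
    AssSch.NoEmbedded (Coh.structureModule C) := by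
  intro x hx y hy hyx
  by_contra hne
  have hne' : y ≠ x := fun h => hne h.symm
  have hxcl : IsClosed ({x} : Set C) := isClosed_singleton_of_specializes hdim hyx hne'
  obtain ⟨U, hU, hxU⟩ : ∃ U : C.Opens, IsAffineOpen U ∧ x ∈ U := by
    obtain ⟨U, hU, hxU, -⟩ := TopologicalSpace.Opens.isBasis_iff_nbhd.mp (C.isBasis_affineOpens)
      (show x ∈ (⊤ : C.Opens) from trivial)
    exact ⟨U, hU, hxU⟩
  have hyU : y ∈ U := hyx.mem_open U.2 hxU
  haveI : IsNoetherianRing Γ(C, U) := IsLocallyNoetherian.component_noetherian ⟨U, hU⟩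
  have hPx : (hU.primeIdealOf ⟨x, hxU⟩).asIdeal ∈ associatedPrimes Γ(C, U) Γ(C, U) :=
    (NoEmbBC.isAssPoint_structure_iff hU x hxU).mp hx
  have hQP : (hU.primeIdealOf ⟨y, hyU⟩).asIdeal < (hU.primeIdealOf ⟨x, hxU⟩).asIdeal := by
    have hle : hU.primeIdealOf ⟨y, hyU⟩ ≤ hU.primeIdealOf ⟨x, hxU⟩ :=
      (primeIdealOf_le_iff hU y x hyU hxU).mpr hyx
    refine lt_of_le_of_ne hle ?_
    intro heq
    have hge : hU.primeIdealOf ⟨x, hxU⟩ ≤ hU.primeIdealOf ⟨y, hyU⟩ := by
      change (hU.primeIdealOf ⟨x, hxU⟩).asIdeal ≤ (hU.primeIdealOf ⟨y, hyU⟩).asIdeal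
      exact heq.ge
    exact hne ((primeIdealOf_le_iff hU x y hxU hyU).mp hge |>.antisymm hyx).eq
  obtain ⟨a, ha0, haa, hann⟩ := exists_sq_zero (hU.primeIdealOf ⟨x, hxU⟩).asIdeal
    (hU.primeIdealOf ⟨y, hyU⟩).asIdeal hPx hQP
  let W : C.Opens := ⟨({x} : Set C)ᶜ, hxcl.isOpen_compl⟩
  have haV : ∀ (V : C.Opens) (hVU : V ≤ U), x ∉ V →
      (C.presheaf.map (homOfLE hVU).op).hom a = 0 := by
    intro V hVU hxV
    refine TopCat.Presheaf.section_ext C.sheaf V _ 0 (fun z hz => ?_)
    have hzU : z ∈ U := hVU hz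
    have hzx : z ≠ x := fun h => hxV (h ▸ hz)
    have hnot : ¬ (hU.primeIdealOf ⟨x, hxU⟩).asIdeal ≤ (hU.primeIdealOf ⟨z, hzU⟩).asIdeal := by
      intro hle
      have hsp : x ⤳ z := (primeIdealOf_le_iff hU x z hxU hzU).mp hle
      have hz' : z ∈ closure ({x} : Set C) := specializes_iff_mem_closure.mp hsp
      rw [hxcl.closure_eq] at hz'
      exact hzx hz'
    obtain ⟨b, hbP, hbz⟩ := Set.not_subset.mp hnot
    have hu := isUnit_germ hU z hzU b hbz
    have h0 : (C.presheaf.germ U z hzU).hom b * (C.presheaf.germ U z hzU).hom a = 0 := by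
      rw [← map_mul, hann b hbP, map_zero]
    have h1 : (C.presheaf.germ U z hzU).hom a = 0 := (hu.mul_right_eq_zero).mp h0
    have h2 : (C.presheaf.germ V z hz).hom ((C.presheaf.map (homOfLE hVU).op).hom a) =
        (C.presheaf.germ U z hzU).hom a :=
      congr($(C.presheaf.germ_res (homOfLE hVU) z hz).hom a)
    have h3 : (C.presheaf.germ V z hz).hom (0 : Γ(C, V)) = 0 := map_zero _
    exact (h2.trans h1).trans h3.symm
  let Uι : Bool → C.Opens := fun b => match b with
    | true => U
    | false => W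
  let sf : ∀ b : Bool, Γ(C, Uι b) := fun b => match b with
    | true => a
    | false => (0 : Γ(C, W))
  have hxW : x ∉ W := fun h => h rfl
  have hcompat : TopCat.Presheaf.IsCompatible C.presheaf Uι sf := by
    intro i j
    cases i <;> cases j
    · rfl
    · change (C.presheaf.map (homOfLE (inf_le_left : W ⊓ U ≤ W)).op).hom (0 : Γ(C, W)) =
        (C.presheaf.map (homOfLE (inf_le_right : W ⊓ U ≤ U)).op).hom a
      rw [map_zero, haV (W ⊓ U) inf_le_right (fun h => hxW h.1)]
    · change (C.presheaf.map (homOfLE (inf_le_left : U ⊓ W ≤ U)).op).hom a =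
        (C.presheaf.map (homOfLE (inf_le_right : U ⊓ W ≤ W)).op).hom (0 : Γ(C, W))
      rw [map_zero, haV (U ⊓ W) inf_le_left (fun h => hxW h.2)]
    · rfl
  have hcover : (⊤ : C.Opens) ≤ iSup Uι := by
    intro z _
    rw [TopologicalSpace.Opens.mem_iSup]
    by_cases hzx : z = x
    · exact ⟨true, hzx ▸ hxU⟩
    · exact ⟨false, hzx⟩
  obtain ⟨t, ht⟩ : ∃ t : Γ(C, ⊤), ∀ i : Bool,
      (C.presheaf.map (homOfLE (le_top : Uι i ≤ ⊤)).op).hom t = sf i := by
    obtain ⟨t, ht, -⟩ := C.sheaf.existsUnique_gluing' Uι ⊤ (fun i => homOfLE le_top) hcover sf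
      hcompat
    exact ⟨t, ht⟩
  have htU : (C.presheaf.map (homOfLE (le_top : U ≤ ⊤)).op).hom t = a := ht true
  have htW : (C.presheaf.map (homOfLE (le_top : W ≤ ⊤)).op).hom t = 0 := ht false
  have ht0 : t ≠ 0 := by
    rintro rfl
    rw [map_zero] at htU
    exact ha0 htU.symm
  have htt : t * t = 0 := by
    have hloc : ∀ i : Bool, (C.presheaf.map (homOfLE (le_top : Uι i ≤ ⊤)).op).hom (t * t) =
        (C.presheaf.map (homOfLE (le_top : Uι i ≤ ⊤)).op).hom 0 := by
      intro i
      cases i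
      · change (C.presheaf.map (homOfLE (le_top : W ≤ ⊤)).op).hom (t * t) =
          (C.presheaf.map (homOfLE (le_top : W ≤ ⊤)).op).hom 0
        rw [map_mul, htW, map_zero, mul_zero]
      · change (C.presheaf.map (homOfLE (le_top : U ≤ ⊤)).op).hom (t * t) =
          (C.presheaf.map (homOfLE (le_top : U ≤ ⊤)).op).hom 0
        rw [map_mul, htU, map_zero, haa]
    exact C.sheaf.eq_of_locally_eq' Uι ⊤ (fun i => homOfLE le_top) hcover (t * t) 0 hloc
  exact ht0 (IsReduced.eq_zero t ⟨2, by rw [pow_two]; exact htt⟩)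

end Groth.Agent.Lib.Helper25.EmbDimOne
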