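import Mathlib
import Groth.Agent.Lib.Helper25.DualFlat

/-!
# Flatness over the dual numbers: module form and quotient-ring form
(sub-lemmas F1, F1' requested by helper9)
-/

set_option autoImplicit false
universe u

namespace Groth.Agent.Lib.Helper25.EmbR3F1

/-- F1 (pure algebra): flatness criterion over the dual numbers. -/
theorem flat_dualNumber_of_ann {k : Type u} [Field k] {M : Type u} [AddCommGroup M]
    [Module (DualNumber k) M]
    (h : ∀ m : M, (DualNumber.eps : DualNumber k) • m = 0 →
      ∃ m' : M, m = (DualNumber.eps : DualNumber k) • m') :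
    Module.Flat (DualNumber k) M :=
  Groth.Agent.Lib.Helper25.DualFlat.flat_of_eps h

/-- F1' (corollary of F1, ring form). -/
theorem flat_quotient_dualNumber {k : Type u} [Field k] {B : Type u} [CommRing B]
    (a : DualNumber k →+* B) (J : Ideal B)
    (hJ : ∀ b : B, a DualNumber.eps * b ∈ J → ∃ j ∈ J, ∃ c : B, b = j + a DualNumber.eps * c) :
    ((Ideal.Quotient.mk J).comp a).Flat := by
  letI : Algebra (DualNumber k) (B ⧸ J) := ((Ideal.Quotient.mk J).comp a).toAlgebra
  change Module.Flat (DualNumber k) (B ⧸ J)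
  apply Groth.Agent.Lib.Helper25.DualFlat.flat_of_eps
  intro m hm
  obtain ⟨b, rfl⟩ := Ideal.Quotient.mk_surjective m
  have hsm : ∀ x : B, (DualNumber.eps : DualNumber k) • (Ideal.Quotient.mk J x) =
      Ideal.Quotient.mk J (a DualNumber.eps * x) := by
    intro x
    rw [Algebra.smul_def, map_mul]
    rfl
  rw [hsm, Ideal.Quotient.eq_zero_iff_mem] at hm
  obtain ⟨j, hj, c, hc⟩ := hJ b hm
  refine ⟨Ideal.Quotient.mk J c, ?_⟩
  rw [hsm, hc, map_add, Ideal.Quotient.eq_zero_iff_mem.2 hj, zero_add]

end Groth.Agent.Lib.Helper25.EmbR3F1
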