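import Mathlib
import Groth.Agent.Lib.Helper17.ExtPowCoh
import Groth.Agent.Lib.Helper3.InvMonoidal
import Groth.Agent.Lib.Helper3.QCExact

/-!
# Transport of exterior power structures along isomorphisms (helper25)
-/

set_option autoImplicit false
set_option linter.style.haveILetI false
set_option linter.unusedSectionVars false
universe u
open CategoryTheory CategoryTheory.Limits AlgebraicGeometry TopologicalSpace Opposite

namespace Groth.Agent.Lib.Helper25.ExtPowIso

open Groth.Agent.Lib.Helper3 Groth.Agent.Lib.Helper3.QCSec Groth.Agent.Lib.Helper17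

/-- the linear equivalence of exterior powers induced by a linear equivalence -/
noncomputable def extEquiv {R : Type*} [CommRing R] {M N : Type*} [AddCommGroup M] [Module R M]
    [AddCommGroup N] [Module R N] (p : ℕ) (e : M ≃ₗ[R] N) : ↥(⋀[R]^p M) ≃ₗ[R] ↥(⋀[R]^p N) :=
  LinearEquiv.ofLinear (exteriorPower.map p e.toLinearMap)
    (exteriorPower.map p e.symm.toLinearMap)
    (by rw [← exteriorPower.map_comp, LinearEquiv.comp_symm, exteriorPower.map_id])
    (by rw [← exteriorPower.map_comp, LinearEquiv.symm_comp, exteriorPower.map_id])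

theorem extEquiv_symm_ιMulti {R : Type*} [CommRing R] {M N : Type*} [AddCommGroup M] [Module R M]
    [AddCommGroup N] [Module R N] (p : ℕ) (e : M ≃ₗ[R] N) (m : Fin p → N) :
    (extEquiv p e).symm (exteriorPower.ιMulti R p m) =
      exteriorPower.ιMulti R p (fun j => e.symm (m j)) := by
  show exteriorPower.map p e.symm.toLinearMap (exteriorPower.ιMulti R p m) = _
  rw [exteriorPower.map_apply_ιMulti]
  rfl

variable {X : Scheme.{u}}

/-- the linear equivalence on sections induced by an isomorphism of modules -/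
noncomputable def secEquiv {M N : X.Modules} (α : M ≅ N) (U : X.Opens) :
    Γ(M, U) ≃ₗ[Γ(X, U)] Γ(N, U) :=
  { toFun := fun s => α.hom.app U s
    invFun := fun s => α.inv.app U s
    map_add' := fun a b => QCExact.app_add α.hom U a b
    map_smul' := fun r s => Scheme.Modules.Hom.app_smul α.hom r s
    left_inv := fun s => InvMonoidal.iso_inv_hom_app α U s
    right_inv := fun s => InvMonoidal.iso_hom_inv_app α U s }

/-- exterior power structures can be transported along isomorphisms -/
theorem isExtPow_of_iso {p : ℕ} {E E' L L' : X.Modules} (α : E ≅ E') (β : L ≅ L')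
    (h : ExtPow.IsExtPow p E L) : ExtPow.IsExtPow p E' L' := by
  obtain ⟨φ, hφ⟩ := ExtPowCoh.exists_phi h
  have hmain : ∃ φ' : ∀ U : X.affineOpens,
      Γ(L', U.1) ≃ₗ[Γ(X, U.1)] ↥(⋀[Γ(X, U.1)]^p Γ(E', U.1)),
      ∀ (U V : X.affineOpens) (h : V.1 ≤ U.1) (e : Fin p → Γ(E', U.1)),
        res L' h ((φ' U).symm (exteriorPower.ιMulti _ p e)) =
          (φ' V).symm (exteriorPower.ιMulti _ p (fun j => res E' h (e j))) := by
    refine ⟨fun U => (secEquiv β U.1).symm ≪≫ₗ φ U ≪≫ₗ extEquiv p (secEquiv α U.1), ?_⟩
    intro U V h e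
    have key : ∀ (W : X.affineOpens) (e' : Fin p → Γ(E', W.1)),
        ((secEquiv β W.1).symm ≪≫ₗ φ W ≪≫ₗ extEquiv p (secEquiv α W.1)).symm
            (exteriorPower.ιMulti _ p e') =
          β.hom.app W.1 ((φ W).symm
            (exteriorPower.ιMulti _ p (fun j => α.inv.app W.1 (e' j)))) := by
      intro W e'
      show β.hom.app W.1 ((φ W).symm
        ((extEquiv p (secEquiv α W.1)).symm (exteriorPower.ιMulti _ p e'))) = _
      rw [extEquiv_symm_ιMulti]
      rfl
    rw [key U e, key V, ← QCExact.app_res', hφ U V h]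
    have h1 : (fun j => res E h (α.inv.app U.1 (e j))) =
        fun j => α.inv.app V.1 (res E' h (e j)) :=
      funext fun j => (QCExact.app_res' α.inv h (e j)).symm
    rw [h1]
  obtain ⟨φ', hφ'⟩ := hmain
  exact ⟨φ', hφ'⟩

end Groth.Agent.Lib.Helper25.ExtPowIso
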