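import Mathlib
import Groth.Agent.Lib.Helper6.ExtBC
import Groth.Agent.Lib.Helper17.UnitBC

/-!
# Semilinear maps on exterior powers and base change (helper25)
-/

set_option autoImplicit false
set_option linter.style.haveILetI false
set_option linter.unusedSectionVars false
universe u

namespace Groth.Agent.Lib.Helper25.ExtSemi

open Groth.Agent.Lib.Helper6 Groth.Agent.Lib.Helper17.UnitBC TensorProduct

/-- two additive semilinear maps out of an exterior power agreeing on the generators agree -/
theorem ext_semilinear {B B' : Type*} [CommRing B] [CommRing B'] (r : B →+* B')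
    {P T : Type*} [AddCommGroup P] [Module B P] [AddCommGroup T] [Module B' T] (p : ℕ)
    (F G : ↥(⋀[B]^p P) → T)
    (hFadd : ∀ a b, F (a + b) = F a + F b) (hGadd : ∀ a b, G (a + b) = G a + G b)
    (hFsm : ∀ (b : B) z, F (b • z) = r b • F z) (hGsm : ∀ (b : B) z, G (b • z) = r b • G z)
    (hFG : ∀ e : Fin p → P, F (exteriorPower.ιMulti B p e) = G (exteriorPower.ιMulti B p e))
    (z : ↥(⋀[B]^p P)) : F z = G z := by
  have hF0 : F 0 = 0 := by
    have h := hFsm 0 0
    rwa [zero_smul, map_zero, zero_smul] at h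
  have hG0 : G 0 = 0 := by
    have h := hGsm 0 0
    rwa [zero_smul, map_zero, zero_smul] at h
  have hspan := exteriorPower.ιMulti_span B p P
  have hz : z ∈ Submodule.span B (Set.range (exteriorPower.ιMulti B p (M := P))) := by
    rw [hspan]; trivial
  induction hz using Submodule.span_induction with
  | mem y hy =>
    obtain ⟨e, rfl⟩ := hy
    exact hFG e
  | zero => rw [hF0, hG0]
  | add a b _ _ ha hb => rw [hFadd, hGadd, ha, hb]
  | smul c a _ ha => rw [hFsm, hGsm, ha]

/-- a semilinear map of modules induces a semilinear map of exterior powers -/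
theorem exists_extSemi {B B' : Type u} [CommRing B] [CommRing B'] (r : B →+* B')
    {P P' : Type u} [AddCommGroup P] [Module B P] [AddCommGroup P'] [Module B' P'] (p : ℕ)
    (σ : P → P') (hσadd : ∀ a b, σ (a + b) = σ a + σ b)
    (hσsm : ∀ (b : B) x, σ (b • x) = r b • σ x) :
    ∃ Sg : ↥(⋀[B]^p P) →+ ↥(⋀[B']^p P'),
      (∀ e : Fin p → P, Sg (exteriorPower.ιMulti B p e) =
        exteriorPower.ιMulti B' p (fun j => σ (e j))) ∧
      (∀ (b : B) z, Sg (b • z) = r b • Sg z) := by
  letI := r.toAlgebra
  letI : Module B P' := Module.compHom P' r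
  haveI : IsScalarTower B B' P' := IsScalarTower.of_algebraMap_smul fun _ _ => rfl
  let σlin : P →ₗ[B] P' :=
    { toFun := σ
      map_add' := hσadd
      map_smul' := fun b x => hσsm b x }
  refine ⟨(ExtBC.extMap (B := B') σlin p).toAddMonoidHom, fun e => ?_, fun b z => ?_⟩
  · exact ExtBC.extMap_ιMulti σlin p e
  · show ExtBC.extMap (B := B') σlin p (b • z) = r b • ExtBC.extMap (B := B') σlin p z
    rw [map_smul]
    exact (algebraMap_smul B' b _).symm

/-- two additive semilinear maps out of an exterior power of a base-changed module agreeing on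
the generators coming from the base agree -/
theorem ext_of_isBCHom {A B B' : Type u} [CommRing A] [CommRing B] [CommRing B'] (ρ : A →+* B)
    (r : B →+* B') {M N : Type u} [AddCommGroup M] [Module A M] [AddCommGroup N] [Module B N]
    {T : Type*} [AddCommGroup T] [Module B' T] {β : M → N} (hβ : IsBCHom ρ β) (p : ℕ)
    (F G : ↥(⋀[B]^p N) → T)
    (hFadd : ∀ a b, F (a + b) = F a + F b) (hGadd : ∀ a b, G (a + b) = G a + G b)
    (hFsm : ∀ (b : B) z, F (b • z) = r b • F z) (hGsm : ∀ (b : B) z, G (b • z) = r b • G z)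
    (hFG : ∀ m : Fin p → M, F (exteriorPower.ιMulti B p (fun j => β (m j))) =
      G (exteriorPower.ιMulti B p (fun j => β (m j))))
    (z : ↥(⋀[B]^p N)) : F z = G z := by
  have hF0 : F 0 = 0 := by
    have h := hFsm 0 0
    rwa [zero_smul, map_zero, zero_smul] at h
  have hG0 : G 0 = 0 := by
    have h := hGsm 0 0
    rwa [zero_smul, map_zero, zero_smul] at h
  letI := ρ.toAlgebra
  letI : Module A N := Module.compHom N ρ
  haveI : IsScalarTower A B N := IsScalarTower.of_algebraMap_smul fun _ _ => rfl
  obtain ⟨lin, hlin, hbc⟩ := hβ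
  have hbc' := ExtBC.isBaseChange_extMap hbc p
  refine hbc'.inductionOn z (fun z => F z = G z) ?_ ?_ ?_ ?_
  · show F 0 = G 0
    rw [hF0, hG0]
  · intro w
    show F (ExtBC.extMap (B := B) lin p w) = G (ExtBC.extMap (B := B) lin p w)
    have hw : w ∈ Submodule.span A (Set.range (exteriorPower.ιMulti A p (M := M))) := by
      rw [exteriorPower.ιMulti_span A p M]; trivial
    induction hw using Submodule.span_induction with
    | mem y hy =>
      obtain ⟨m, rfl⟩ := hy
      rw [ExtBC.extMap_ιMulti]
      have h1 : (fun i => lin (m i)) = fun j => β (m j) := funext fun i => hlin (m i)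
      rw [h1]
      exact hFG m
    | zero => rw [map_zero, hF0, hG0]
    | add a b _ _ ha hb => rw [map_add, hFadd, hGadd, ha, hb]
    | smul c a _ ha =>
      rw [map_smul]
      have h1 : c • (ExtBC.extMap (B := B) lin p a) = ρ c • ExtBC.extMap (B := B) lin p a :=
        (algebraMap_smul B c _).symm
      rw [h1, hFsm, hGsm, ha]
  · intro b n hn
    show F (b • n) = G (b • n)
    rw [hFsm, hGsm, hn]
  · intro n₁ n₂ h1 h2
    show F (n₁ + n₂) = G (n₁ + n₂)
    rw [hFadd, hGadd, h1, h2]

/-- base change of an identification with an exterior power -/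
theorem exists_equiv_of_isBCHom {A B : Type u} [CommRing A] [CommRing B] (ρ : A →+* B)
    {M N L K : Type u} [AddCommGroup M] [Module A M] [AddCommGroup N] [Module B N]
    [AddCommGroup L] [Module A L] [AddCommGroup K] [Module B K]
    {βM : M → N} {βL : L → K} (hM : IsBCHom ρ βM) (hL : IsBCHom ρ βL) (p : ℕ)
    (φ : L ≃ₗ[A] ↥(⋀[A]^p M)) :
    ∃ φ' : K ≃ₗ[B] ↥(⋀[B]^p N), ∀ m : Fin p → M,
      φ'.symm (exteriorPower.ιMulti B p (fun j => βM (m j))) =
        βL (φ.symm (exteriorPower.ιMulti A p m)) := by
  letI := ρ.toAlgebra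
  letI : Module A N := Module.compHom N ρ
  haveI : IsScalarTower A B N := IsScalarTower.of_algebraMap_smul fun _ _ => rfl
  letI : Module A K := Module.compHom K ρ
  haveI : IsScalarTower A B K := IsScalarTower.of_algebraMap_smul fun _ _ => rfl
  obtain ⟨linM, hlinM, hbcM⟩ := hM
  obtain ⟨linL, hlinL, hbcL⟩ := hL
  have hbcE := ExtBC.isBaseChange_extMap hbcM p
  let φ' : K ≃ₗ[B] ↥(⋀[B]^p N) :=
    hbcL.equiv.symm ≪≫ₗ
      (TensorProduct.AlgebraTensorModule.congr (LinearEquiv.refl B B) φ) ≪≫ₗ hbcE.equiv
  refine ⟨φ', fun m => ?_⟩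
  have h1 : exteriorPower.ιMulti B p (fun j => βM (m j)) =
      ExtBC.extMap (B := B) linM p (exteriorPower.ιMulti A p m) := by
    rw [ExtBC.extMap_ιMulti]
    have h2 : (fun i => linM (m i)) = fun j => βM (m j) := funext fun i => hlinM (m i)
    rw [h2]
  rw [h1]
  apply φ'.injective
  rw [LinearEquiv.apply_symm_apply]
  show _ = hbcE.equiv ((TensorProduct.AlgebraTensorModule.congr (LinearEquiv.refl B B) φ)
    (hbcL.equiv.symm (βL (φ.symm (exteriorPower.ιMulti A p m)))))
  rw [← hlinL, IsBaseChange.equiv_symm_apply, TensorProduct.AlgebraTensorModule.congr_tmul,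
    LinearEquiv.refl_apply, LinearEquiv.apply_symm_apply, hbcE.equiv_tmul, one_smul]

end Groth.Agent.Lib.Helper25.ExtSemi
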