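import Mathlib
import Groth.Agent.Lib.Helper25.ExtSemi
import Groth.Agent.Lib.Helper17.ExtPowCoh

/-!
# Restriction maps on exterior powers of sections (helper25)
-/

set_option autoImplicit false
set_option linter.style.haveILetI false
set_option linter.unusedSectionVars false
universe u
open CategoryTheory CategoryTheory.Limits AlgebraicGeometry TopologicalSpace Opposite

namespace Groth.Agent.Lib.Helper25.ExtResSec

open Groth.Agent.Lib.Helper3 Groth.Agent.Lib.Helper3.QCSec

variable {X : Scheme.{u}}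

theorem exists_extRes (M : X.Modules) {A B : X.Opens} (h : A ≤ B) (p : ℕ) :
    ∃ Sg : ↥(⋀[Γ(X, B)]^p Γ(M, B)) →+ ↥(⋀[Γ(X, A)]^p Γ(M, A)),
      (∀ e : Fin p → Γ(M, B), Sg (exteriorPower.ιMulti _ p e) =
        exteriorPower.ιMulti _ p (fun j => res M h (e j))) ∧
      (∀ (r : Γ(X, B)) z, Sg (r • z) = rres X h r • Sg z) :=
  ExtSemi.exists_extSemi (X.presheaf.map (homOfLE h).op).hom p (fun s => res M h s)
    (fun a b => map_add _ a b) (fun r s => res_smul M h r s)

/-- the restriction map on exterior powers of sections -/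
noncomputable def extRes (M : X.Modules) {A B : X.Opens} (h : A ≤ B) (p : ℕ) :
    ↥(⋀[Γ(X, B)]^p Γ(M, B)) →+ ↥(⋀[Γ(X, A)]^p Γ(M, A)) :=
  (exists_extRes M h p).choose

theorem extRes_ιMulti (M : X.Modules) {A B : X.Opens} (h : A ≤ B) (p : ℕ)
    (e : Fin p → Γ(M, B)) :
    extRes M h p (exteriorPower.ιMulti _ p e) =
      exteriorPower.ιMulti _ p (fun j => res M h (e j)) :=
  (exists_extRes M h p).choose_spec.1 e

theorem extRes_smul (M : X.Modules) {A B : X.Opens} (h : A ≤ B) (p : ℕ) (r : Γ(X, B))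
    (z : ↥(⋀[Γ(X, B)]^p Γ(M, B))) :
    extRes M h p (r • z) = rres X h r • extRes M h p z :=
  (exists_extRes M h p).choose_spec.2 r z

/-- uniqueness of semilinear maps on exterior powers of sections -/
theorem ext_sec (M : X.Modules) {A B : X.Opens} (h : A ≤ B) (p : ℕ) {T : Type*}
    [AddCommGroup T] [Module Γ(X, A) T] (F G : ↥(⋀[Γ(X, B)]^p Γ(M, B)) → T)
    (hFadd : ∀ a b, F (a + b) = F a + F b) (hGadd : ∀ a b, G (a + b) = G a + G b)
    (hFsm : ∀ (b : Γ(X, B)) z, F (b • z) = rres X h b • F z)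
    (hGsm : ∀ (b : Γ(X, B)) z, G (b • z) = rres X h b • G z)
    (hFG : ∀ e : Fin p → Γ(M, B), F (exteriorPower.ιMulti _ p e) =
      G (exteriorPower.ιMulti _ p e))
    (z : ↥(⋀[Γ(X, B)]^p Γ(M, B))) : F z = G z :=
  ExtSemi.ext_semilinear (X.presheaf.map (homOfLE h).op).hom p F G hFadd hGadd hFsm hGsm hFG z

theorem extRes_extRes (M : X.Modules) {A B C : X.Opens} (hAB : A ≤ B) (hBC : B ≤ C) (p : ℕ)
    (z : ↥(⋀[Γ(X, C)]^p Γ(M, C))) :
    extRes M hAB p (extRes M hBC p z) = extRes M (hAB.trans hBC) p z := by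
  refine ext_sec M (hAB.trans hBC) p (fun z => extRes M hAB p (extRes M hBC p z))
    (fun z => extRes M (hAB.trans hBC) p z) ?_ ?_ ?_ ?_ ?_ z
  · intro a b
    show extRes M hAB p (extRes M hBC p (a + b)) = _
    rw [map_add, map_add]
  · intro a b
    show extRes M (hAB.trans hBC) p (a + b) = _
    rw [map_add]
  · intro r z
    show extRes M hAB p (extRes M hBC p (r • z)) = _
    rw [extRes_smul, extRes_smul, rres_rres]
  · intro r z
    exact extRes_smul M (hAB.trans hBC) p r z
  · intro e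
    show extRes M hAB p (extRes M hBC p (exteriorPower.ιMulti _ p e)) =
      extRes M (hAB.trans hBC) p (exteriorPower.ιMulti _ p e)
    rw [extRes_ιMulti, extRes_ιMulti, extRes_ιMulti]
    have h1 : (fun j => res M hAB (res M hBC (e j))) = fun j => res M (hAB.trans hBC) (e j) :=
      funext fun j => res_res M hAB hBC (e j)
    rw [h1]

end Groth.Agent.Lib.Helper25.ExtResSec
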