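import Mathlib
import Groth.Agent.Lib.Helper25.ExtResSec
import Groth.Agent.Lib.Helper25.ExtPowIso
import Groth.Agent.Lib.Helper17.UnitBC2
import Groth.Agent.Lib.Helper3.PullLemmas

/-!
# Exterior powers on affine schemes (helper25)
On an affine scheme, quasi-coherent modules `F`, `N` with `N(X) ≃ ⋀^n F(X)` satisfy
`ExtPow.IsExtPow n F N`.
-/

set_option autoImplicit false
set_option linter.style.haveILetI false
set_option linter.unusedSectionVars false
universe u
open CategoryTheory CategoryTheory.Limits AlgebraicGeometry TopologicalSpace Opposite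

namespace Groth.Agent.Lib.Helper25.ExtPowAff

open Groth.Agent.Lib.Helper3 Groth.Agent.Lib.Helper3.QCSec Groth.Agent.Lib.Helper3.PbBasic
open Groth.Agent.Lib.Helper17 Groth.Agent.Lib.Helper17.UnitBC
open Groth.Agent.Lib.Helper25.ExtResSec

variable {X : Scheme.{u}}

theorem id_appLE' {V U : X.Opens} (e : U ≤ (𝟙 X : X ⟶ X) ⁻¹ᵁ V) :
    (𝟙 X : X ⟶ X).appLE V U e = X.presheaf.map (homOfLE (show U ≤ V from e)).op := by
  unfold Scheme.Hom.appLE
  rw [Scheme.Hom.id_app]
  exact Category.id_comp _

/-- restriction between affine opens is a base change for quasi-coherent modules -/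
theorem isBCHom_res (Q : X.Modules) [Q.IsQuasicoherent] {V U : X.Opens} (hV : IsAffineOpen V)
    (hU : IsAffineOpen U) (h : U ≤ V) :
    IsBCHom (X.presheaf.map (homOfLE h).op).hom (fun σ : Γ(Q, V) => res Q h σ) := by
  have e : U ≤ (𝟙 X : X ⟶ X) ⁻¹ᵁ V := h
  have h1 := UnitBC.isBCHom_unitSec (𝟙 X) Q hV hU e
  have h2 := h1.comp_equiv (ExtPowIso.secEquiv ((Scheme.Modules.pullbackId X).app Q) U)
  have h3 : ((𝟙 X : X ⟶ X).appLE V U e).hom = (X.presheaf.map (homOfLE h).op).hom := by
    rw [id_appLE']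
  refine (h2.of_eq h3).congr (fun σ => ?_)
  show ((Scheme.Modules.pullbackId X).hom.app Q).app U (res _ e (pull (𝟙 X) Q V σ)) = res Q h σ
  rw [QCExact.app_res']
  exact congrArg (res Q h) (PullLemmas.pullbackId_hom_pull Q V σ)

/-- on an affine scheme, an identification of global sections with an exterior power extends to
an exterior power structure -/
theorem isExtPow_of_affine [IsAffine X] {F N : X.Modules} [F.IsQuasicoherent]
    [N.IsQuasicoherent] (n : ℕ)
    (φ₀ : Γ(N, ⊤) ≃ₗ[Γ(X, ⊤)] ↥(⋀[Γ(X, ⊤)]^n Γ(F, ⊤))) : ExtPow.IsExtPow n F N := by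
  have htop : IsAffineOpen (⊤ : X.Opens) := isAffineOpen_top X
  have key : ∀ U : X.affineOpens,
      ∃ φ' : Γ(N, U.1) ≃ₗ[Γ(X, U.1)] ↥(⋀[Γ(X, U.1)]^n Γ(F, U.1)),
      ∀ m : Fin n → Γ(F, ⊤),
        φ'.symm (exteriorPower.ιMulti _ n (fun j => res F le_top (m j))) =
          res N le_top (φ₀.symm (exteriorPower.ιMulti _ n m)) := fun U =>
    ExtSemi.exists_equiv_of_isBCHom (X.presheaf.map (homOfLE (le_top : U.1 ≤ ⊤)).op).hom
      (isBCHom_res F htop U.2 le_top) (isBCHom_res N htop U.2 le_top) n φ₀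
  choose φ' hφ' using key
  have hmain : ∃ φ'' : ∀ U : X.affineOpens,
      Γ(N, U.1) ≃ₗ[Γ(X, U.1)] ↥(⋀[Γ(X, U.1)]^n Γ(F, U.1)),
      ∀ (U V : X.affineOpens) (h : V.1 ≤ U.1) (e : Fin n → Γ(F, U.1)),
        res N h ((φ'' U).symm (exteriorPower.ιMulti _ n e)) =
          (φ'' V).symm (exteriorPower.ιMulti _ n (fun j => res F h (e j))) := by
    refine ⟨φ', fun U V h e => ?_⟩
    have hgen : ∀ z : ↥(⋀[Γ(X, U.1)]^n Γ(F, U.1)),
        res N h ((φ' U).symm z) = (φ' V).symm (extRes F h n z) := by
      intro z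
      refine ExtSemi.ext_of_isBCHom (X.presheaf.map (homOfLE (le_top : U.1 ≤ ⊤)).op).hom
        (X.presheaf.map (homOfLE h).op).hom (isBCHom_res F htop U.2 le_top) n
        (fun z => res N h ((φ' U).symm z)) (fun z => (φ' V).symm (extRes F h n z))
        ?_ ?_ ?_ ?_ ?_ z
      · intro a b
        show res N h ((φ' U).symm (a + b)) =
          res N h ((φ' U).symm a) + res N h ((φ' U).symm b)
        rw [map_add]
        exact map_add _ _ _
      · intro a b
        show (φ' V).symm (extRes F h n (a + b)) = _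
        rw [map_add, map_add]
      · intro r z
        show res N h ((φ' U).symm (r • z)) = rres X h r • res N h ((φ' U).symm z)
        rw [map_smul, res_smul]
      · intro r z
        show (φ' V).symm (extRes F h n (r • z)) = rres X h r • (φ' V).symm (extRes F h n z)
        rw [extRes_smul, map_smul]
      · intro m
        show res N h ((φ' U).symm
            (exteriorPower.ιMulti _ n (fun j => res F le_top (m j)))) =
          (φ' V).symm (extRes F h n (exteriorPower.ιMulti _ n (fun j => res F le_top (m j))))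
        rw [hφ' U m, res_res, extRes_ιMulti]
        have h1 : (fun j => res F h (res F le_top (m j))) = fun j => res F le_top (m j) :=
          funext fun j => res_res F h le_top (m j)
        rw [h1, hφ' V m]
    have h2 := hgen (exteriorPower.ιMulti _ n e)
    rw [extRes_ιMulti] at h2
    exact h2
  obtain ⟨φ'', hφ''⟩ := hmain
  exact ⟨φ'', hφ''⟩

end Groth.Agent.Lib.Helper25.ExtPowAff
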