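import Mathlib
import Groth.Agent.Lib.Helper25.ExtResSec
import Groth.Agent.Lib.Helper3.ModBasis
import Groth.Agent.Lib.Helper3.InvGen

/-!
# Extending an exterior power structure from a basis of small affine opens (helper25)
-/

set_option autoImplicit false
set_option linter.style.haveILetI false
set_option linter.unusedSectionVars false
universe u
open CategoryTheory CategoryTheory.Limits AlgebraicGeometry TopologicalSpace Opposite

namespace Groth.Agent.Lib.Helper25.ExtPowGlue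

open Groth.Agent.Lib.Helper3 Groth.Agent.Lib.Helper3.QCSec Groth.Agent.Lib.Helper3.SecLoc
  Groth.Agent.Lib.Helper3.InvGen
open Groth.Agent.Lib.Helper6 Groth.Agent.Lib.Helper25.ExtResSec

variable {X : Scheme.{u}}

attribute [local instance] SecLoc.modBasicOpen

/-- the restriction map on exterior powers to a basic open is a localization -/
theorem extRes_loc {F : X.Modules} (p : ℕ) [F.IsQuasicoherent] {U : X.Opens}
    (hU : IsAffineOpen U) (s : Γ(X, U)) :
    (∀ y : ↥(⋀[Γ(X, U)]^p Γ(F, U)), extRes F (X.basicOpen_le s) p y = 0 →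
      ∃ n : ℕ, s ^ n • y = 0) ∧
    (∀ w : ↥(⋀[Γ(X, X.basicOpen s)]^p Γ(F, X.basicOpen s)),
      ∃ (n : ℕ) (y : ↥(⋀[Γ(X, U)]^p Γ(F, U))),
        extRes F (X.basicOpen_le s) p y = rres X (X.basicOpen_le s) (s ^ n) • w) := by
  haveI := hU.isLocalization_basicOpen s
  haveI hκ : IsLocalizedModule (Submonoid.powers s) (resLin F s) :=
    isLocalizedModule_resLin F hU s
  have hbc : IsBaseChange Γ(X, X.basicOpen s) (resLin F s) :=
    IsLocalizedModule.isBaseChange (Submonoid.powers s) Γ(X, X.basicOpen s) (resLin F s)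
  have hbc' := ExtBC.isBaseChange_extMap hbc p
  haveI hloc : IsLocalizedModule (Submonoid.powers s)
      (ExtBC.extMap (B := Γ(X, X.basicOpen s)) (resLin F s) p) :=
    (isLocalizedModule_iff_isBaseChange (Submonoid.powers s) Γ(X, X.basicOpen s) _).mpr hbc'
  have hsm : ∀ (r : Γ(X, U)) (z : ↥(⋀[Γ(X, X.basicOpen s)]^p Γ(F, X.basicOpen s))),
      r • z = rres X (X.basicOpen_le s) r • z := fun r z =>
    (algebraMap_smul Γ(X, X.basicOpen s) r z).symm
  have heq : ∀ y, extRes F (X.basicOpen_le s) p y =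
      ExtBC.extMap (B := Γ(X, X.basicOpen s)) (resLin F s) p y := by
    intro y
    refine ext_sec F (X.basicOpen_le s) p (fun y => extRes F (X.basicOpen_le s) p y)
      (fun y => ExtBC.extMap (B := Γ(X, X.basicOpen s)) (resLin F s) p y) ?_ ?_ ?_ ?_ ?_ y
    · intro a b
      show extRes F (X.basicOpen_le s) p (a + b) = _
      rw [map_add]
    · intro a b
      show ExtBC.extMap (B := Γ(X, X.basicOpen s)) (resLin F s) p (a + b) = _
      rw [map_add]
    · intro r z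
      exact extRes_smul F (X.basicOpen_le s) p r z
    · intro r z
      show ExtBC.extMap (B := Γ(X, X.basicOpen s)) (resLin F s) p (r • z) =
        rres X (X.basicOpen_le s) r • ExtBC.extMap (B := Γ(X, X.basicOpen s)) (resLin F s) p z
      rw [map_smul]
      exact hsm r _
    · intro e
      show extRes F (X.basicOpen_le s) p (exteriorPower.ιMulti _ p e) =
        ExtBC.extMap (B := Γ(X, X.basicOpen s)) (resLin F s) p (exteriorPower.ιMulti _ p e)
      rw [extRes_ιMulti, ExtBC.extMap_ιMulti]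
      rfl
  constructor
  · intro y hy
    rw [heq] at hy
    obtain ⟨c, hc⟩ := (IsLocalizedModule.eq_zero_iff (Submonoid.powers s)
      (ExtBC.extMap (B := Γ(X, X.basicOpen s)) (resLin F s) p)).mp hy
    obtain ⟨n, hn⟩ := c.2
    have hn' : s ^ n = (c : Γ(X, U)) := hn
    exact ⟨n, by rw [hn']; exact hc⟩
  · intro w
    obtain ⟨⟨y, c⟩, hyc⟩ := hloc.surj w
    obtain ⟨n, hn⟩ := c.2
    have hn' : s ^ n = (c : Γ(X, U)) := hn
    refine ⟨n, y, ?_⟩
    have h2 : (c : Γ(X, U)) • w = ExtBC.extMap (B := Γ(X, X.basicOpen s)) (resLin F s) p y := hyc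
    rw [heq, ← h2, hn', hsm]

section

variable {F N : X.Modules} (p : ℕ) (Small : X.Opens → Prop)
  (hdown : ∀ (U U' : X.Opens), IsAffineOpen U' → U' ≤ U → Small U → Small U')
  (hcov : ∀ x : X, ∃ U : X.Opens, IsAffineOpen U ∧ Small U ∧ x ∈ U)
  (φ : ∀ U : X.affineOpens, Small U.1 →
    (Γ(N, U.1) ≃ₗ[Γ(X, U.1)] ↥(⋀[Γ(X, U.1)]^p Γ(F, U.1))))
  (hφ : ∀ (U V : X.affineOpens) (hU : Small U.1) (hV : Small V.1) (h : V.1 ≤ U.1)
    (e : Fin p → Γ(F, U.1)),
    res N h ((φ U hU).symm (exteriorPower.ιMulti _ p e)) =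
      (φ V hV).symm (exteriorPower.ιMulti _ p (fun j => res F h (e j))))

include hdown hcov in
theorem exists_small (W : X.Opens) (x : X) (hx : x ∈ W) :
    ∃ V : X.Opens, IsAffineOpen V ∧ Small V ∧ x ∈ V ∧ V ≤ W := by
  obtain ⟨U, hU, hUs, hxU⟩ := hcov x
  obtain ⟨V, hV, hxV, hVle⟩ := Opens.isBasis_iff_nbhd.mp X.isBasis_affineOpens
    (show x ∈ U ⊓ W from ⟨hxU, hx⟩)
  exact ⟨V, hV, hdown U V hV (hVle.trans inf_le_left) hUs, hxV, hVle.trans inf_le_right⟩

include hφ in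
theorem phi_res_gen (U V : X.affineOpens) (hU : Small U.1) (hV : Small V.1) (h : V.1 ≤ U.1)
    (z : ↥(⋀[Γ(X, U.1)]^p Γ(F, U.1))) :
    res N h ((φ U hU).symm z) = (φ V hV).symm (extRes F h p z) := by
  refine ext_sec F h p (fun z => res N h ((φ U hU).symm z))
    (fun z => (φ V hV).symm (extRes F h p z)) ?_ ?_ ?_ ?_ ?_ z
  · intro a b
    show res N h ((φ U hU).symm (a + b)) =
      res N h ((φ U hU).symm a) + res N h ((φ U hU).symm b)
    rw [map_add]
    exact map_add _ _ _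
  · intro a b
    show (φ V hV).symm (extRes F h p (a + b)) = _
    rw [map_add, map_add]
  · intro r z
    show res N h ((φ U hU).symm (r • z)) = rres X h r • res N h ((φ U hU).symm z)
    rw [map_smul, res_smul]
  · intro r z
    show (φ V hV).symm (extRes F h p (r • z)) = rres X h r • (φ V hV).symm (extRes F h p z)
    rw [extRes_smul, map_smul]
  · intro e
    show res N h ((φ U hU).symm (exteriorPower.ιMulti _ p e)) =
      (φ V hV).symm (extRes F h p (exteriorPower.ιMulti _ p e))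
    rw [extRes_ιMulti]
    exact hφ U V hU hV h e

include hdown hcov hφ in
theorem exists_glue (U : X.Opens) (y : ↥(⋀[Γ(X, U)]^p Γ(F, U))) :
    ∃ b : Γ(N, U), ∀ (V : X.Opens) (hVa : IsAffineOpen V) (hVs : Small V) (hVU : V ≤ U),
      res N hVU b = (φ ⟨V, hVa⟩ hVs).symm (extRes F hVU p y) := by
  let J := {V : X.Opens // IsAffineOpen V ∧ Small V ∧ V ≤ U}
  obtain ⟨b, hb⟩ := sec_glue N (fun j : J => j.1) U (fun j => j.2.2.2)
    (by
      intro x hx
      obtain ⟨V, hVa, hVs, hxV, hVU⟩ := exists_small Small hdown hcov U x hx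
      exact Opens.mem_iSup.mpr ⟨⟨V, hVa, hVs, hVU⟩, hxV⟩)
    (fun j => (φ ⟨j.1, j.2.1⟩ j.2.2.1).symm (extRes F j.2.2.2 p y))
    (by
      intro i j
      have h0 : res N (inf_le_left : i.1 ⊓ j.1 ≤ i.1)
            ((φ ⟨i.1, i.2.1⟩ i.2.2.1).symm (extRes F i.2.2.2 p y)) -
          res N (inf_le_right : i.1 ⊓ j.1 ≤ j.1)
            ((φ ⟨j.1, j.2.1⟩ j.2.2.1).symm (extRes F j.2.2.2 p y)) = 0 := by
        refine ModBasis.eq_zero_of_locally_zero N _ _ (fun x hx => ?_)
        obtain ⟨V, hVa, hVs, hxV, hVle⟩ := exists_small Small hdown hcov (i.1 ⊓ j.1) x hx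
        refine ⟨V, hVle, hxV, ?_⟩
        rw [res_sub, res_res, res_res,
          phi_res_gen p Small φ hφ ⟨i.1, i.2.1⟩ ⟨V, hVa⟩ i.2.2.1 hVs (hVle.trans inf_le_left),
          phi_res_gen p Small φ hφ ⟨j.1, j.2.1⟩ ⟨V, hVa⟩ j.2.2.1 hVs (hVle.trans inf_le_right),
          extRes_extRes, extRes_extRes, sub_self]
      exact sub_eq_zero.mp h0)
  exact ⟨b, fun V hVa hVs hVU => hb ⟨V, hVa, hVs, hVU⟩⟩

include hdown hcov in
theorem bijective_of_local [F.IsQuasicoherent] [N.IsQuasicoherent] {U : X.Opens}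
    (hU : IsAffineOpen U) (Ψ : ↥(⋀[Γ(X, U)]^p Γ(F, U)) →ₗ[Γ(X, U)] Γ(N, U))
    (hΨ : ∀ (V : X.Opens) (hVa : IsAffineOpen V) (hVs : Small V) (hVU : V ≤ U)
      (y : ↥(⋀[Γ(X, U)]^p Γ(F, U))),
      res N hVU (Ψ y) = (φ ⟨V, hVa⟩ hVs).symm (extRes F hVU p y)) :
    Function.Bijective Ψ := by
  obtain ⟨S, hS⟩ : ∃ S : Set Γ(X, U), ∀ s, s ∈ S ↔ Small (X.basicOpen s) :=
    ⟨{s | Small (X.basicOpen s)}, fun s => Iff.rfl⟩
  have hspan : Ideal.span S = ⊤ := by
    rw [← hU.self_le_iSup_basicOpen_iff]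
    intro x hx
    obtain ⟨V, hVa, hVs, hxV, hVU⟩ := exists_small Small hdown hcov U x hx
    obtain ⟨s, hsV, hxs⟩ := hU.exists_basicOpen_le ⟨x, hxV⟩ hx
    exact Opens.mem_iSup.mpr
      ⟨⟨s, (hS s).mpr (hdown V _ (hU.basicOpen s) hsV hVs)⟩, hxs⟩
  have htop : ∀ I : Ideal Γ(X, U), (∀ s ∈ S, ∃ n : ℕ, s ^ n ∈ I) → (1 : Γ(X, U)) ∈ I := by
    intro I hI
    have h1 : Ideal.span S ≤ I.radical := Ideal.span_le.mpr (fun s hs => hI s hs)
    rw [hspan, top_le_iff, Ideal.radical_eq_top] at h1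
    rw [h1]
    trivial
  constructor
  · refine (injective_iff_map_eq_zero Ψ).mpr (fun y hy => ?_)
    obtain ⟨I, hI⟩ : ∃ I : Ideal Γ(X, U), ∀ a, a ∈ I ↔ a • y = 0 :=
      ⟨LinearMap.ker (LinearMap.toSpanSingleton Γ(X, U) _ y), fun a => by
        rw [LinearMap.mem_ker, LinearMap.toSpanSingleton_apply]⟩
    have h1 : (1 : Γ(X, U)) ∈ I := by
      apply htop
      intro s hs
      have hs' := (hS s).mp hs
      have hres := hΨ (X.basicOpen s) (hU.basicOpen s) hs' (X.basicOpen_le s) y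
      rw [hy, res_zero] at hres
      have h0 : extRes F (X.basicOpen_le s) p y = 0 := by
        have h3 := congrArg (φ ⟨X.basicOpen s, hU.basicOpen s⟩ hs') hres
        rw [LinearEquiv.apply_symm_apply, map_zero] at h3
        exact h3.symm
      obtain ⟨n, hn⟩ := (extRes_loc p hU s).1 y h0
      exact ⟨n, (hI _).mpr hn⟩
    have h2 := (hI 1).mp h1
    rwa [one_smul] at h2
  · intro t
    obtain ⟨I, hI⟩ : ∃ I : Ideal Γ(X, U), ∀ a, a ∈ I ↔ ∃ y, Ψ y = a • t :=
      ⟨Submodule.comap (LinearMap.toSpanSingleton Γ(X, U) _ t) (LinearMap.range Ψ), fun a => by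
        rw [Submodule.mem_comap, LinearMap.mem_range, LinearMap.toSpanSingleton_apply]⟩
    have h1 : (1 : Γ(X, U)) ∈ I := by
      apply htop
      intro s hs
      have hs' := (hS s).mp hs
      obtain ⟨n, y, hy⟩ := (extRes_loc p hU s).2
        (φ ⟨X.basicOpen s, hU.basicOpen s⟩ hs' (res N (X.basicOpen_le s) t))
      have hres : res N (X.basicOpen_le s) (Ψ y - s ^ n • t) = 0 := by
        rw [res_sub, hΨ (X.basicOpen s) (hU.basicOpen s) hs' (X.basicOpen_le s) y, hy, map_smul,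
          LinearEquiv.symm_apply_apply, res_smul, sub_self]
      obtain ⟨m, hm⟩ := (isLocSec_of_isQuasicoherent N hU s (X.basicOpen s) rfl
        (X.basicOpen_le s)).inj _ hres
      refine ⟨m + n, (hI _).mpr ⟨s ^ m • y, ?_⟩⟩
      rw [map_smul, pow_add, mul_smul]
      rw [smul_sub] at hm
      exact sub_eq_zero.mp hm
    obtain ⟨y, hy⟩ := (hI 1).mp h1
    exact ⟨y, by rw [hy, one_smul]⟩

include hdown hcov hφ in
/-- an exterior power structure on a basis of small affine opens extends to all affine opens -/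
theorem isExtPow_of_small [F.IsQuasicoherent] [N.IsQuasicoherent] : ExtPow.IsExtPow p F N := by
  have key := exists_glue p Small hdown hcov φ hφ
  choose Ψ hΨ using key
  have huniq : ∀ (U : X.Opens) (y : ↥(⋀[Γ(X, U)]^p Γ(F, U))) (b : Γ(N, U)),
      (∀ (V : X.Opens) (hVa : IsAffineOpen V) (hVs : Small V) (hVU : V ≤ U),
        res N hVU b = (φ ⟨V, hVa⟩ hVs).symm (extRes F hVU p y)) → b = Ψ U y := by
    intro U y b hb
    have h0 : b - Ψ U y = 0 := by
      refine ModBasis.eq_zero_of_locally_zero N U _ (fun x hx => ?_)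
      obtain ⟨V, hVa, hVs, hxV, hVU⟩ := exists_small Small hdown hcov U x hx
      refine ⟨V, hVU, hxV, ?_⟩
      rw [res_sub, hb V hVa hVs hVU, hΨ U y V hVa hVs hVU, sub_self]
    exact sub_eq_zero.mp h0
  have hadd : ∀ (U : X.Opens) (y y' : ↥(⋀[Γ(X, U)]^p Γ(F, U))),
      Ψ U (y + y') = Ψ U y + Ψ U y' := by
    intro U y y'
    refine (huniq U (y + y') _ (fun V hVa hVs hVU => ?_)).symm
    have h1 : res N hVU (Ψ U y + Ψ U y') = res N hVU (Ψ U y) + res N hVU (Ψ U y') :=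
      map_add _ _ _
    rw [h1, hΨ U y V hVa hVs hVU, hΨ U y' V hVa hVs hVU, map_add, map_add]
  have hsmul : ∀ (U : X.Opens) (a : Γ(X, U)) (y : ↥(⋀[Γ(X, U)]^p Γ(F, U))),
      Ψ U (a • y) = a • Ψ U y := by
    intro U a y
    refine (huniq U (a • y) _ (fun V hVa hVs hVU => ?_)).symm
    rw [res_smul, hΨ U y V hVa hVs hVU, extRes_smul, map_smul]
  let ΨL : ∀ U : X.Opens, ↥(⋀[Γ(X, U)]^p Γ(F, U)) →ₗ[Γ(X, U)] Γ(N, U) := fun U =>
    { toFun := Ψ U
      map_add' := hadd U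
      map_smul' := fun a y => hsmul U a y }
  have hbij : ∀ U : X.affineOpens, Function.Bijective (ΨL U.1) := fun U =>
    bijective_of_local p Small hdown hcov φ U.2 (ΨL U.1)
      (fun V hVa hVs hVU y => hΨ U.1 y V hVa hVs hVU)
  have hmain : ∃ φ' : ∀ U : X.affineOpens,
      Γ(N, U.1) ≃ₗ[Γ(X, U.1)] ↥(⋀[Γ(X, U.1)]^p Γ(F, U.1)),
      ∀ (U V : X.affineOpens) (h : V.1 ≤ U.1) (e : Fin p → Γ(F, U.1)),
        res N h ((φ' U).symm (exteriorPower.ιMulti _ p e)) =
          (φ' V).symm (exteriorPower.ιMulti _ p (fun j => res F h (e j))) := by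
    refine ⟨fun U => (LinearEquiv.ofBijective (ΨL U.1) (hbij U)).symm, ?_⟩
    intro U V h e
    show res N h (Ψ U.1 (exteriorPower.ιMulti _ p e)) =
      Ψ V.1 (exteriorPower.ιMulti _ p (fun j => res F h (e j)))
    refine huniq V.1 _ _ (fun W hWa hWs hWV => ?_)
    rw [res_res, hΨ U.1 _ W hWa hWs (hWV.trans h), extRes_ιMulti, extRes_ιMulti]
    have h1 : (fun j => res F (hWV.trans h) (e j)) = fun j => res F hWV (res F h (e j)) :=
      funext fun j => (res_res F hWV h (e j)).symm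
    rw [h1]
  obtain ⟨φ', hφ'⟩ := hmain
  exact ⟨φ', hφ'⟩

end

end Groth.Agent.Lib.Helper25.ExtPowGlue
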