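import Mathlib
import Groth.Agent.Lib.Helper25.ExtPowGlue
import Groth.Agent.Lib.Helper17.UnitBC2
import Groth.Agent.Lib.Helper17.PbStalk

/-!
# Pullback of exterior powers (helper25)
-/

set_option autoImplicit false
set_option linter.style.haveILetI false
set_option linter.unusedSectionVars false
universe u
open CategoryTheory CategoryTheory.Limits AlgebraicGeometry TopologicalSpace Opposite

namespace Groth.Agent.Lib.Helper25.ExtPowPull

open Groth.Agent.Lib.Helper3 Groth.Agent.Lib.Helper3.QCSec Groth.Agent.Lib.Helper3.PbBasic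
open Groth.Agent.Lib.Helper17 Groth.Agent.Lib.Helper17.UnitBC
open Groth.Agent.Lib.Helper25.ExtResSec

variable {X Y : Scheme.{u}} (f : X ⟶ Y)

theorem unitSec_res (M : Y.Modules) {V V' : Y.Opens} {U U' : X.Opens} (hV : V' ≤ V)
    (hU : U' ≤ U) (e : U ≤ f ⁻¹ᵁ V) (e' : U' ≤ f ⁻¹ᵁ V') (σ : Γ(M, V)) :
    res ((Scheme.Modules.pullback f).obj M) hU (unitSec f M V U e σ) =
      unitSec f M V' U' e' (res M hV σ) := by
  unfold unitSec
  rw [res_res, ← res_pull f M hV σ, res_res]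

/-- an open of `X` is small if it maps into an affine open of `Y` -/
def Small (U : X.Opens) : Prop := ∃ V : Y.affineOpens, U ≤ f ⁻¹ᵁ V.1

theorem small_down (U U' : X.Opens) (_ : IsAffineOpen U') (h : U' ≤ U) (hU : Small f U) :
    Small f U' := by
  obtain ⟨V, hV⟩ := hU
  exact ⟨V, h.trans hV⟩

theorem small_cov (x : X) : ∃ U : X.Opens, IsAffineOpen U ∧ Small f U ∧ x ∈ U := by
  obtain ⟨V, hV, hxV, -⟩ := Opens.isBasis_iff_nbhd.mp Y.isBasis_affineOpens
    (show f x ∈ (⊤ : Y.Opens) from trivial)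
  obtain ⟨U, hU, hxU, hUle⟩ := Opens.isBasis_iff_nbhd.mp X.isBasis_affineOpens
    (show x ∈ f ⁻¹ᵁ V from hxV)
  exact ⟨U, hU, ⟨⟨V, hV⟩, hUle⟩, hxU⟩

section

variable {E L : Y.Modules} [E.IsQuasicoherent] [L.IsQuasicoherent] (p : ℕ)
  (φ : ∀ V : Y.affineOpens, Γ(L, V.1) ≃ₗ[Γ(Y, V.1)] ↥(⋀[Γ(Y, V.1)]^p Γ(E, V.1)))
  (hφ : ∀ (U V : Y.affineOpens) (h : V.1 ≤ U.1) (e : Fin p → Γ(E, U.1)),
    res L h ((φ U).symm (exteriorPower.ιMulti _ p e)) =
      (φ V).symm (exteriorPower.ιMulti _ p (fun j => res E h (e j))))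

/-- the property characterizing the pulled back identification -/
def IsPhiPair (U : X.affineOpens) (V : Y.affineOpens) (e : U.1 ≤ f ⁻¹ᵁ V.1)
    (φ' : Γ((Scheme.Modules.pullback f).obj L, U.1) ≃ₗ[Γ(X, U.1)]
      ↥(⋀[Γ(X, U.1)]^p Γ((Scheme.Modules.pullback f).obj E, U.1))) : Prop :=
  ∀ m : Fin p → Γ(E, V.1),
    φ'.symm (exteriorPower.ιMulti _ p (fun j => unitSec f E V.1 U.1 e (m j))) =
      unitSec f L V.1 U.1 e ((φ V).symm (exteriorPower.ιMulti _ p m))

theorem exists_phiPair (U : X.affineOpens) (V : Y.affineOpens) (e : U.1 ≤ f ⁻¹ᵁ V.1) :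
    ∃ φ', IsPhiPair f p φ U V e φ' :=
  ExtSemi.exists_equiv_of_isBCHom (f.appLE V.1 U.1 e).hom
    (UnitBC.isBCHom_unitSec f E V.2 U.2 e) (UnitBC.isBCHom_unitSec f L V.2 U.2 e) p (φ V)

include hφ in
theorem phiPair_res (U U' : X.affineOpens) (V V' : Y.affineOpens) (e : U.1 ≤ f ⁻¹ᵁ V.1)
    (e' : U'.1 ≤ f ⁻¹ᵁ V'.1) (hU : U'.1 ≤ U.1) (hV : V'.1 ≤ V.1)
    (φ₁ : Γ((Scheme.Modules.pullback f).obj L, U.1) ≃ₗ[Γ(X, U.1)]
      ↥(⋀[Γ(X, U.1)]^p Γ((Scheme.Modules.pullback f).obj E, U.1)))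
    (hφ₁ : IsPhiPair f p φ U V e φ₁)
    (φ₂ : Γ((Scheme.Modules.pullback f).obj L, U'.1) ≃ₗ[Γ(X, U'.1)]
      ↥(⋀[Γ(X, U'.1)]^p Γ((Scheme.Modules.pullback f).obj E, U'.1)))
    (hφ₂ : IsPhiPair f p φ U' V' e' φ₂)
    (z : ↥(⋀[Γ(X, U.1)]^p Γ((Scheme.Modules.pullback f).obj E, U.1))) :
    res ((Scheme.Modules.pullback f).obj L) hU (φ₁.symm z) =
      φ₂.symm (extRes ((Scheme.Modules.pullback f).obj E) hU p z) := by
  refine ExtSemi.ext_of_isBCHom (f.appLE V.1 U.1 e).hom (X.presheaf.map (homOfLE hU).op).hom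
    (UnitBC.isBCHom_unitSec f E V.2 U.2 e) p
    (fun z => res ((Scheme.Modules.pullback f).obj L) hU (φ₁.symm z))
    (fun z => φ₂.symm (extRes ((Scheme.Modules.pullback f).obj E) hU p z)) ?_ ?_ ?_ ?_ ?_ z
  · intro a b
    show res ((Scheme.Modules.pullback f).obj L) hU (φ₁.symm (a + b)) =
      res ((Scheme.Modules.pullback f).obj L) hU (φ₁.symm a) +
        res ((Scheme.Modules.pullback f).obj L) hU (φ₁.symm b)
    rw [map_add]
    exact map_add _ _ _
  · intro a b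
    show φ₂.symm (extRes ((Scheme.Modules.pullback f).obj E) hU p (a + b)) = _
    rw [map_add, map_add]
  · intro r z
    show res ((Scheme.Modules.pullback f).obj L) hU (φ₁.symm (r • z)) =
      rres X hU r • res ((Scheme.Modules.pullback f).obj L) hU (φ₁.symm z)
    rw [map_smul, res_smul]
  · intro r z
    show φ₂.symm (extRes ((Scheme.Modules.pullback f).obj E) hU p (r • z)) =
      rres X hU r • φ₂.symm (extRes ((Scheme.Modules.pullback f).obj E) hU p z)
    rw [extRes_smul, map_smul]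
  · intro m
    show res ((Scheme.Modules.pullback f).obj L) hU
        (φ₁.symm (exteriorPower.ιMulti _ p (fun j => unitSec f E V.1 U.1 e (m j)))) =
      φ₂.symm (extRes ((Scheme.Modules.pullback f).obj E) hU p
        (exteriorPower.ιMulti _ p (fun j => unitSec f E V.1 U.1 e (m j))))
    rw [hφ₁ m, unitSec_res f L hV hU e e', hφ V V' hV m, ← hφ₂, extRes_ιMulti]
    have h1 : (fun j => res ((Scheme.Modules.pullback f).obj E) hU
          (unitSec f E V.1 U.1 e (m j))) =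
        fun j => unitSec f E V'.1 U'.1 e' (res E hV (m j)) :=
      funext fun j => unitSec_res f E hV hU e e' (m j)
    rw [h1]

/-- the chosen identification on a small affine open -/
noncomputable def phiS (U : X.affineOpens) (hU : Small f U.1) :
    Γ((Scheme.Modules.pullback f).obj L, U.1) ≃ₗ[Γ(X, U.1)]
      ↥(⋀[Γ(X, U.1)]^p Γ((Scheme.Modules.pullback f).obj E, U.1)) :=
  (exists_phiPair f p φ U hU.choose hU.choose_spec).choose

theorem phiS_spec (U : X.affineOpens) (hU : Small f U.1) :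
    IsPhiPair f p φ U hU.choose hU.choose_spec (phiS f p φ U hU) :=
  (exists_phiPair f p φ U hU.choose hU.choose_spec).choose_spec

include hφ in
theorem phiS_res (U U' : X.affineOpens) (hU : Small f U.1) (hU' : Small f U'.1)
    (h : U'.1 ≤ U.1) (e : Fin p → Γ((Scheme.Modules.pullback f).obj E, U.1)) :
    res ((Scheme.Modules.pullback f).obj L) h
        ((phiS f p φ U hU).symm (exteriorPower.ιMulti _ p e)) =
      (phiS f p φ U' hU').symm (exteriorPower.ιMulti _ p
        (fun j => res ((Scheme.Modules.pullback f).obj E) h (e j))) := by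
  have h0 : res ((Scheme.Modules.pullback f).obj L) h
        ((phiS f p φ U hU).symm (exteriorPower.ιMulti _ p e)) -
      (phiS f p φ U' hU').symm (exteriorPower.ιMulti _ p
        (fun j => res ((Scheme.Modules.pullback f).obj E) h (e j))) = 0 := by
    refine ModBasis.eq_zero_of_locally_zero _ U'.1 _ (fun x hx => ?_)
    obtain ⟨V₃, hV₃, hxV₃, hV₃le⟩ := Opens.isBasis_iff_nbhd.mp Y.isBasis_affineOpens
      (show f x ∈ hU.choose.1 ⊓ hU'.choose.1 from
        ⟨hU.choose_spec (h hx), hU'.choose_spec hx⟩)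
    obtain ⟨U₃, hU₃, hxU₃, hU₃le⟩ := Opens.isBasis_iff_nbhd.mp X.isBasis_affineOpens
      (show x ∈ U'.1 ⊓ f ⁻¹ᵁ V₃ from ⟨hx, hxV₃⟩)
    have e₃ : U₃ ≤ f ⁻¹ᵁ V₃ := hU₃le.trans inf_le_right
    have h₃ : U₃ ≤ U'.1 := hU₃le.trans inf_le_left
    obtain ⟨φ₃, hφ₃⟩ := exists_phiPair f p φ ⟨U₃, hU₃⟩ ⟨V₃, hV₃⟩ e₃
    refine ⟨U₃, h₃, hxU₃, ?_⟩
    have hA := phiPair_res f p φ hφ U ⟨U₃, hU₃⟩ hU.choose ⟨V₃, hV₃⟩ hU.choose_spec e₃
      (h₃.trans h) (hV₃le.trans inf_le_left) _ (phiS_spec f p φ U hU) φ₃ hφ₃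
      (exteriorPower.ιMulti _ p e)
    have hB := phiPair_res f p φ hφ U' ⟨U₃, hU₃⟩ hU'.choose ⟨V₃, hV₃⟩ hU'.choose_spec e₃
      h₃ (hV₃le.trans inf_le_right) _ (phiS_spec f p φ U' hU') φ₃ hφ₃
      (exteriorPower.ιMulti _ p (fun j => res ((Scheme.Modules.pullback f).obj E) h (e j)))
    rw [res_sub, res_res, hA, hB, extRes_ιMulti, extRes_ιMulti]
    have h1 : (fun j => res ((Scheme.Modules.pullback f).obj E) h₃
          (res ((Scheme.Modules.pullback f).obj E) h (e j))) =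
        fun j => res ((Scheme.Modules.pullback f).obj E) (h₃.trans h) (e j) :=
      funext fun j => res_res ((Scheme.Modules.pullback f).obj E) h₃ h (e j)
    rw [h1, sub_self]
  exact sub_eq_zero.mp h0

include hφ in
theorem isExtPow_pullback_of_phi :
    ExtPow.IsExtPow p ((Scheme.Modules.pullback f).obj E)
      ((Scheme.Modules.pullback f).obj L) := by
  haveI := PbStalk.isQuasicoherent_pullback f E
  haveI := PbStalk.isQuasicoherent_pullback f L
  exact ExtPowGlue.isExtPow_of_small p (Small f) (small_down f) (small_cov f) (phiS f p φ)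
    (fun U V hU hV h e => phiS_res f p φ hφ U V hU hV h e)

end

/-- **the pullback of an exterior power of a quasi-coherent module is an exterior power of the
pullback** -/
theorem isExtPow_pullback {E L : Y.Modules} [E.IsQuasicoherent] (p : ℕ)
    (hL : ExtPow.IsExtPow p E L) :
    ExtPow.IsExtPow p ((Scheme.Modules.pullback f).obj E)
      ((Scheme.Modules.pullback f).obj L) := by
  obtain ⟨φ, hφ⟩ := ExtPowCoh.exists_phi hL
  haveI : L.IsQuasicoherent := ExtPowCoh.isQuasicoherent_of_isExtPow hL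
  exact isExtPow_pullback_of_phi f p φ hφ

end Groth.Agent.Lib.Helper25.ExtPowPull
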