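import Mathlib
import Groth.Agent.Lib.Helper25.ExtPowAff

/-!
# The module associated to an exterior power is an exterior power (helper25)
-/

set_option autoImplicit false
set_option linter.style.haveILetI false
set_option linter.unusedSectionVars false
universe u
open CategoryTheory CategoryTheory.Limits AlgebraicGeometry TopologicalSpace Opposite

namespace Groth.Agent.Lib.Helper25.ExtPowTilde

open Groth.Agent.Lib.Helper25.ExtSemi

/-- exterior powers are compatible with semilinear isomorphisms -/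
theorem exists_equiv_of_semilinear {A B : Type u} [CommRing A] [CommRing B] (r₁ : A →+* B)
    (r₂ : B →+* A) (h₁₂ : ∀ a, r₂ (r₁ a) = a) (h₂₁ : ∀ b, r₁ (r₂ b) = b)
    {M P K : Type u} [AddCommGroup M] [Module A M] [AddCommGroup P] [Module B P]
    [AddCommGroup K] [Module B K] (n : ℕ)
    (σM : M ≃+ P) (hσM : ∀ (a : A) m, σM (a • m) = r₁ a • σM m)
    (σL : ↥(⋀[A]^n M) ≃+ K) (hσL : ∀ (a : A) z, σL (a • z) = r₁ a • σL z) :
    Nonempty (K ≃ₗ[B] ↥(⋀[B]^n P)) := by
  obtain ⟨S₁, hS₁, hS₁sm⟩ := exists_extSemi r₁ n σM (map_add σM) hσM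
  have hσM' : ∀ (b : B) x, σM.symm (b • x) = r₂ b • σM.symm x := by
    intro b x
    apply σM.injective
    rw [hσM, AddEquiv.apply_symm_apply, AddEquiv.apply_symm_apply, h₂₁]
  have hσL' : ∀ (b : B) k, σL.symm (b • k) = r₂ b • σL.symm k := by
    intro b k
    apply σL.injective
    rw [hσL, AddEquiv.apply_symm_apply, AddEquiv.apply_symm_apply, h₂₁]
  obtain ⟨S₂, hS₂, hS₂sm⟩ := exists_extSemi r₂ n σM.symm (map_add σM.symm) hσM'
  have h21 : ∀ z, S₂ (S₁ z) = z := by
    intro z
    refine ext_semilinear (RingHom.id A) n (fun z => S₂ (S₁ z)) (fun z => z) ?_ ?_ ?_ ?_ ?_ z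
    · intro a b
      show S₂ (S₁ (a + b)) = S₂ (S₁ a) + S₂ (S₁ b)
      rw [map_add, map_add]
    · intro a b; rfl
    · intro a z
      show S₂ (S₁ (a • z)) = a • S₂ (S₁ z)
      rw [hS₁sm, hS₂sm, h₁₂]
    · intro a z; rfl
    · intro e
      show S₂ (S₁ (exteriorPower.ιMulti A n e)) = exteriorPower.ιMulti A n e
      rw [hS₁, hS₂]
      have h1 : (fun j => σM.symm (σM (e j))) = e := funext fun j => σM.symm_apply_apply (e j)
      rw [h1]
  have h12 : ∀ z, S₁ (S₂ z) = z := by
    intro z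
    refine ext_semilinear (RingHom.id B) n (fun z => S₁ (S₂ z)) (fun z => z) ?_ ?_ ?_ ?_ ?_ z
    · intro a b
      show S₁ (S₂ (a + b)) = S₁ (S₂ a) + S₁ (S₂ b)
      rw [map_add, map_add]
    · intro a b; rfl
    · intro a z
      show S₁ (S₂ (a • z)) = a • S₁ (S₂ z)
      rw [hS₂sm, hS₁sm, h₂₁]
    · intro a z; rfl
    · intro e
      show S₁ (S₂ (exteriorPower.ιMulti B n e)) = exteriorPower.ιMulti B n e
      rw [hS₂, hS₁]
      have h1 : (fun j => σM (σM.symm (e j))) = e := funext fun j => σM.apply_symm_apply (e j)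
      rw [h1]
  exact ⟨{ toFun := fun k => S₁ (σL.symm k)
           invFun := fun z => σL (S₂ z)
           map_add' := fun a b => by rw [map_add, map_add]
           map_smul' := fun b k => by
             show S₁ (σL.symm (b • k)) = b • S₁ (σL.symm k)
             rw [hσL', hS₁sm, h₂₁]
           left_inv := fun k => by
             show σL (S₂ (S₁ (σL.symm k))) = k
             rw [h21, AddEquiv.apply_symm_apply]
           right_inv := fun z => by
             show S₁ (σL.symm (σL (S₂ z))) = z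
             rw [AddEquiv.symm_apply_apply, h12] }⟩

variable {R : CommRingCat.{u}}

theorem map_leTop_top (x : Γ(Spec R, ⊤)) :
    (Spec R).presheaf.map (⊤ : (Spec R).Opens).leTop.op x = x :=
  congr($((Spec R).presheaf.map_id (op ⊤)) x)

/-- the semilinear identification `Q ≃ Γ(Q~, ⊤)` -/
theorem exists_sigma (Q : ModuleCat.{u} R) :
    ∃ σ : Q ≃+ Γ(tilde Q, ⊤), ∀ (a : R) (q : Q),
      σ (a • q) = (Scheme.ΓSpecIso R).inv.hom a • σ q := by
  have hbij : Function.Bijective (tilde.toOpen Q ⊤).hom :=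
    (ConcreteCategory.isIso_iff_bijective (tilde.toOpen Q ⊤)).mp inferInstance
  let f : Q →+ Γ(tilde Q, ⊤) :=
    AddMonoidHom.mk' (fun q => ((tilde.toOpen Q ⊤).hom q : Γ(tilde Q, ⊤)))
      (fun a b => map_add (tilde.toOpen Q ⊤).hom a b)
  refine ⟨AddEquiv.ofBijective f hbij, fun a q => ?_⟩
  show f (a • q) = (Scheme.ΓSpecIso R).inv.hom a • f q
  have h1 := (tilde.toOpen Q ⊤).hom.map_smul a q
  have h2 := Scheme.Modules.smul_Spec_def (M := tilde Q) (U := ⊤) a (f q)
  rw [map_leTop_top] at h2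
  exact h1.trans h2

/-- **the module associated to an exterior power is an exterior power of the associated
module** -/
theorem isExtPow_tilde (M : ModuleCat.{u} R) (n : ℕ) :
    ExtPow.IsExtPow n (tilde M) (tilde (ModuleCat.of R ↥(⋀[R]^n M))) := by
  obtain ⟨σM, hσM⟩ := exists_sigma M
  obtain ⟨σL, hσL⟩ := exists_sigma (ModuleCat.of R ↥(⋀[R]^n M))
  obtain ⟨φ₀⟩ := exists_equiv_of_semilinear (Scheme.ΓSpecIso R).inv.hom
    (Scheme.ΓSpecIso R).hom.hom
    (fun a => congr($((Scheme.ΓSpecIso R).inv_hom_id) a))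
    (fun b => congr($((Scheme.ΓSpecIso R).hom_inv_id) b))
    (M := M) (P := Γ(tilde M, ⊤)) (K := Γ(tilde (ModuleCat.of R ↥(⋀[R]^n M)), ⊤)) n
    σM hσM σL hσL
  exact ExtPowAff.isExtPow_of_affine n φ₀

end Groth.Agent.Lib.Helper25.ExtPowTilde
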