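import Mathlib
import Groth.Prelude.Def_SchFin
import Groth.Prelude.Def_SchFin2

/-!
# Affine up-closed subsets of a finite ringed poset: the counit and faithfully flat descent
along the map from sections to the product of the rings of the points
-/

set_option autoImplicit false
universe u

namespace Groth.Agent.Lib.Helper25.FEtAff

open SchFin TensorProduct

/-! ### Families of algebras whose product is faithfully flat -/

section Family

variable {O : Type u} [CommRing O] {I : Type u} [Fintype I] [DecidableEq I]
  (Rq : I → Type u) [∀ q, CommRing (Rq q)] [∀ q, Algebra O (Rq q)]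
  {N₁ N₂ : Type u} [AddCommGroup N₁] [AddCommGroup N₂] [Module O N₁] [Module O N₂]
  (F : N₁ →ₗ[O] N₂)

lemma piLeft_lTensor_apply (t : (∀ q, Rq q) ⊗[O] N₁) (q : I) :
    TensorProduct.piLeft O N₂ Rq (F.lTensor (∀ q, Rq q) t) q =
      (F.lTensor (Rq q)) (TensorProduct.piLeft O N₁ Rq t q) := by
  induction t using TensorProduct.induction_on with
  | zero => simp
  | tmul p n => simp [TensorProduct.piLeft]
  | add a b ha hb => simp only [map_add, Pi.add_apply, ha, hb]

lemma piLeft_lTensor (t : (∀ q, Rq q) ⊗[O] N₁) :
    TensorProduct.piLeft O N₂ Rq (F.lTensor (∀ q, Rq q) t) =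
      fun q => (F.lTensor (Rq q)) (TensorProduct.piLeft O N₁ Rq t q) :=
  funext fun q => piLeft_lTensor_apply Rq F t q

lemma lTensor_pi_eq :
    ⇑(F.lTensor (∀ q, Rq q)) = (TensorProduct.piLeft O N₂ Rq).symm ∘
      (Pi.map fun q => ⇑(F.lTensor (Rq q))) ∘ (TensorProduct.piLeft O N₁ Rq) := by
  funext t
  apply (TensorProduct.piLeft O N₂ Rq).injective
  rw [piLeft_lTensor]
  simp only [Function.comp_apply, LinearEquiv.apply_symm_apply]
  rfl

theorem bijective_of_forall_lTensor [Module.FaithfullyFlat O (∀ q, Rq q)]
    (hF : ∀ q, Function.Bijective (F.lTensor (Rq q))) : Function.Bijective F := by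
  rw [← Module.FaithfullyFlat.lTensor_bijective_iff_bijective O (∀ q, Rq q), lTensor_pi_eq]
  exact (TensorProduct.piLeft O N₂ Rq).symm.bijective.comp
    ((Function.Bijective.piMap hF).comp (TensorProduct.piLeft O N₁ Rq).bijective)

theorem surjective_of_forall_lTensor [Module.FaithfullyFlat O (∀ q, Rq q)]
    (hF : ∀ q, Function.Surjective (F.lTensor (Rq q))) : Function.Surjective F := by
  rw [← Module.FaithfullyFlat.lTensor_surjective_iff_surjective O (∀ q, Rq q), lTensor_pi_eq]
  exact (TensorProduct.piLeft O N₂ Rq).symm.surjective.comp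
    ((Function.Surjective.piMap hF).comp (TensorProduct.piLeft O N₁ Rq).surjective)

end Family

section Descent

variable {R O : Type u} [CommRing R] [CommRing O] [Algebra R O]
  {I : Type u} [Fintype I] [DecidableEq I]
  (Rq : I → Type u) [∀ q, CommRing (Rq q)] [∀ q, Algebra O (Rq q)] [∀ q, Algebra R (Rq q)]
  [∀ q, IsScalarTower R O (Rq q)] [Module.FaithfullyFlat O (∀ q, Rq q)]
  {M N : Type u} [AddCommGroup M] [Module R M] [AddCommGroup N] [Module O N] [Module R N]
  [IsScalarTower R O N]
  (Mq : I → Type u) [∀ q, AddCommGroup (Mq q)] [∀ q, Module (Rq q) (Mq q)]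
  [∀ q, Module O (Mq q)] [∀ q, Module R (Mq q)]
  [∀ q, IsScalarTower O (Rq q) (Mq q)] [∀ q, IsScalarTower R (Rq q) (Mq q)]
  [∀ q, IsScalarTower R O (Mq q)]

/-- If `N → M_q` is a base change along `O → R_q` and `M → N → M_q` is a base change along
`R → R_q` for every `q`, and the product of the `R_q` is faithfully flat over `O`, then `M → N` is a
base change along `R → O`. -/
theorem isBaseChange_of_family (f : M →ₗ[R] N) (h : ∀ q, N →ₗ[O] Mq q)
    (hh : ∀ q, IsBaseChange (Rq q) (h q))
    (hhf : ∀ q, IsBaseChange (Rq q) ((h q).restrictScalars R ∘ₗ f)) :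
    IsBaseChange O f := by
  have hb₀ := TensorProduct.isBaseChange R M O
  let F : O ⊗[R] M →ₗ[O] N := hb₀.lift f
  have hF1 : ∀ m, F (1 ⊗ₜ m) = f m := fun m => hb₀.lift_eq f m
  have hq : ∀ q, IsBaseChange (Rq q) ((h q) ∘ₗ F) := by
    intro q
    apply IsBaseChange.of_comp hb₀
    have e : ((h q ∘ₗ F : O ⊗[R] M →ₗ[O] Mq q).restrictScalars R) ∘ₗ (TensorProduct.mk R O M 1) =
        (h q).restrictScalars R ∘ₗ f := by
      apply LinearMap.ext
      intro m
      show h q (F (1 ⊗ₜ m)) = h q (f m)
      rw [hF1]
    rw [e]
    exact hhf q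
  have hbij : ∀ q, Function.Bijective (F.lTensor (Rq q)) := by
    intro q
    have e : ⇑(F.lTensor (Rq q)) = (hh q).equiv.symm ∘ (hq q).equiv := by
      funext t
      apply (hh q).equiv.injective
      simp only [Function.comp_apply, LinearEquiv.apply_symm_apply]
      induction t using TensorProduct.induction_on with
      | zero => simp
      | tmul r n =>
        rw [LinearMap.lTensor_tmul, IsBaseChange.equiv_tmul, IsBaseChange.equiv_tmul]
        rfl
      | add a b ha hb => simp only [map_add, ha, hb]
    rw [e]
    exact (hh q).equiv.symm.bijective.comp (hq q).equiv.bijective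
  have hFb : Function.Bijective F := bijective_of_forall_lTensor Rq F hbij
  exact IsBaseChange.of_equiv (LinearEquiv.ofBijective F hFb) hF1

end Descent

/-! ### Sections over a subset and over the restricted space -/

section Transfer

variable {X : RSpace.{u}} (U : Set X.pt)

/-- sections over all points of the restricted space as sections over the subset -/
def secOfRestrict (M : OMod X) (n : (M.restrict U).sect Set.univ) : M.sect U :=
  ⟨fun q => n.1 ⟨q, trivial⟩, fun q q' h => n.2 ⟨q, trivial⟩ ⟨q', trivial⟩ h⟩

/-- sections over the subset as sections over all points of the restricted space -/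
def secToRestrict (M : OMod X) (n : M.sect U) : (M.restrict U).sect Set.univ :=
  ⟨fun q => n.1 q.1, fun q q' h => n.2 q.1 q'.1 h⟩

/-- ring sections over all points of the restricted space as ring sections over the subset -/
def ringOfRestrict (o : (X.restrict U).sectRing Set.univ) : X.sectRing U :=
  ⟨fun q => o.1 ⟨q, trivial⟩, fun q q' h => o.2 ⟨q, trivial⟩ ⟨q', trivial⟩ h⟩

/-- The counit at a point of an affine subset: evaluation exhibits the module at the point as the
base change of the sections over the subset. -/
theorem counit_U (hUa : (X.restrict U).IsAffine) (M : OMod X) (hM : M.IsQcoh) (q : U) :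
    IsBCAlong (X.evalRing U q) (M.evalMod U q) := by
  have hMU : (M.restrict U).IsQcoh := fun p p' h => hM p.1 p'.1 h
  have h' := hUa.2.2.1 (M.restrict U) hMU q
  let ev' : (X.restrict U).sectRing Set.univ →+* X.ring q.1 :=
    (X.restrict U).evalRing Set.univ ⟨q, trivial⟩
  letI algO' : Algebra ((X.restrict U).sectRing Set.univ) (X.ring q.1) := ev'.toAlgebra
  letI modO' : Module ((X.restrict U).sectRing Set.univ) (M.carrier q.1) :=
    Module.compHom _ ev'
  haveI : IsScalarTower ((X.restrict U).sectRing Set.univ) (X.ring q.1) (M.carrier q.1) :=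
    IsScalarTower.of_algebraMap_smul fun _ _ => rfl
  letI algO : Algebra (X.sectRing U) (X.ring q.1) := (X.evalRing U q).toAlgebra
  letI modO : Module (X.sectRing U) (M.carrier q.1) := Module.compHom _ (X.evalRing U q)
  haveI : IsScalarTower (X.sectRing U) (X.ring q.1) (M.carrier q.1) :=
    IsScalarTower.of_algebraMap_smul fun _ _ => rfl
  let h'lin : (M.restrict U).sect Set.univ →ₗ[(X.restrict U).sectRing Set.univ] M.carrier q.1 :=
    { toFun := (M.restrict U).evalMod Set.univ ⟨q, trivial⟩
      map_add' := ((M.restrict U).evalMod Set.univ ⟨q, trivial⟩).map_add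
      map_smul' := ((M.restrict U).evalMod Set.univ ⟨q, trivial⟩).map_smulₛₗ }
  let hlin : M.sect U →ₗ[X.sectRing U] M.carrier q.1 :=
    { toFun := M.evalMod U q
      map_add' := (M.evalMod U q).map_add
      map_smul' := (M.evalMod U q).map_smulₛₗ }
  have hb' : IsBaseChange (X.ring q.1) h'lin := h'
  show IsBaseChange (X.ring q.1) hlin
  apply IsBaseChange.of_lift_unique
  intro Q _ _ _ _ g
  letI : Module ((X.restrict U).sectRing Set.univ) Q := Module.compHom Q ev'
  haveI : IsScalarTower ((X.restrict U).sectRing Set.univ) (X.ring q.1) Q :=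
    IsScalarTower.of_algebraMap_smul fun _ _ => rfl
  let g₁ : (M.restrict U).sect Set.univ →ₗ[(X.restrict U).sectRing Set.univ] Q :=
    { toFun := fun n' => g (secOfRestrict U M n')
      map_add' := fun a b => by
        have : secOfRestrict U M (a + b) = secOfRestrict U M a + secOfRestrict U M b := rfl
        rw [this, map_add]
      map_smul' := fun o' n' => by
        have e1 : secOfRestrict U M (o' • n') = ringOfRestrict U o' • secOfRestrict U M n' := rfl
        rw [e1, map_smul, ← algebraMap_smul (X.ring q.1) (ringOfRestrict U o')]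
        rfl }
  refine ⟨hb'.lift g₁, ?_, ?_⟩
  · apply LinearMap.ext
    intro n
    have e2 := hb'.lift_eq g₁ (secToRestrict U M n)
    exact e2
  · intro g'' hg''
    apply hb'.algHom_ext
    intro n'
    rw [hb'.lift_eq g₁ n']
    have e3 := congrArg (fun k => k (secOfRestrict U M n')) hg''
    exact e3

end Transfer

/-! ### Restriction from a point to an affine subset above it is a base change -/

theorem resSect_isBC {X : RSpace.{u}} (x : X.pt) (U : Set X.pt) (hU : U ⊆ X.up x)
    (hUa : (X.restrict U).IsAffine)
    (hff : Module.FaithfullyFlat (X.sectRing U) ((q : ↥U) → X.ring q.1)) (M : OMod X)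
    (hM : M.IsQcoh) : IsBCAlong (X.resSect x U hU) (M.resSect x U hU) := by
  classical
  haveI : Fintype ↥U := Fintype.ofFinite _
  letI : Algebra (X.ring x) (X.sectRing U) := (X.resSect x U hU).toAlgebra
  letI : Module (X.ring x) (M.sect U) := Module.compHom _ (X.resSect x U hU)
  haveI : IsScalarTower (X.ring x) (X.sectRing U) (M.sect U) :=
    IsScalarTower.of_algebraMap_smul fun _ _ => rfl
  letI : ∀ q : U, Algebra (X.sectRing U) (X.ring q.1) := fun q => (X.evalRing U q).toAlgebra
  letI : ∀ q : U, Algebra (X.ring x) (X.ring q.1) := fun q => (X.res (hU q.2)).toAlgebra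
  haveI : ∀ q : U, IsScalarTower (X.ring x) (X.sectRing U) (X.ring q.1) :=
    fun q => IsScalarTower.of_algebraMap_eq fun r => rfl
  letI : ∀ q : U, Module (X.sectRing U) (M.carrier q.1) :=
    fun q => Module.compHom _ (X.evalRing U q)
  letI : ∀ q : U, Module (X.ring x) (M.carrier q.1) :=
    fun q => Module.compHom _ (X.res (hU q.2))
  haveI : ∀ q : U, IsScalarTower (X.sectRing U) (X.ring q.1) (M.carrier q.1) :=
    fun q => IsScalarTower.of_algebraMap_smul fun _ _ => rfl
  haveI : ∀ q : U, IsScalarTower (X.ring x) (X.ring q.1) (M.carrier q.1) :=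
    fun q => IsScalarTower.of_algebraMap_smul fun _ _ => rfl
  haveI : ∀ q : U, IsScalarTower (X.ring x) (X.sectRing U) (M.carrier q.1) :=
    fun q => ⟨fun r o m => by
      show (X.evalRing U q (X.resSect x U hU r * o)) • m =
        X.res (hU q.2) r • (X.evalRing U q o • m)
      rw [map_mul, mul_smul]
      rfl⟩
  haveI hff' : Module.FaithfullyFlat (X.sectRing U) ((q : ↥U) → X.ring q.1) := hff
  let f : M.carrier x →ₗ[X.ring x] M.sect U :=
    { toFun := M.resSect x U hU
      map_add' := (M.resSect x U hU).map_add
      map_smul' := (M.resSect x U hU).map_smulₛₗ }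
  let h : ∀ q : U, M.sect U →ₗ[X.sectRing U] M.carrier q.1 := fun q =>
    { toFun := M.evalMod U q
      map_add' := (M.evalMod U q).map_add
      map_smul' := (M.evalMod U q).map_smulₛₗ }
  have hh : ∀ q : U, IsBaseChange (X.ring q.1) (h q) := fun q => counit_U U hUa M hM q
  have hhf : ∀ q : U, IsBaseChange (X.ring q.1) ((h q).restrictScalars (X.ring x) ∘ₗ f) := by
    intro q
    have h0 := hM x q.1 (hU q.2)
    have e : (h q).restrictScalars (X.ring x) ∘ₗ f =
        ({ toFun := M.res (hU q.2)
           map_add' := (M.res (hU q.2)).map_add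
           map_smul' := (M.res (hU q.2)).map_smulₛₗ } : M.carrier x →ₗ[X.ring x] M.carrier q.1) := by
      apply LinearMap.ext
      intro m
      rfl
    rw [e]
    exact h0
  show IsBaseChange (X.sectRing U) f
  exact isBaseChange_of_family (fun q : U => X.ring q.1) (fun q : U => M.carrier q.1) f h hh hhf

end Groth.Agent.Lib.Helper25.FEtAff
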