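import Mathlib
import Groth.Agent.Lib.Helper25.FEtAff1

/-!
# Descent of flatness, faithful flatness, finiteness and étaleness along a finite family of
algebras whose product is faithfully flat
-/

set_option autoImplicit false
universe u

namespace Groth.Agent.Lib.Helper25.FEtAff

open TensorProduct

lemma subsingleton_tensor_of_right {R M N : Type*} [CommRing R] [AddCommGroup M] [AddCommGroup N]
    [Module R M] [Module R N] [Subsingleton N] : Subsingleton (M ⊗[R] N) := by
  have h0 : ∀ t : M ⊗[R] N, t = 0 := by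
    intro t
    induction t using TensorProduct.induction_on with
    | zero => rfl
    | tmul m n => rw [Subsingleton.elim n 0, TensorProduct.tmul_zero]
    | add a b ha hb => rw [ha, hb, add_zero]
  exact ⟨fun a b => by rw [h0 a, h0 b]⟩

/-! ### A single base change -/

section Single

variable {O R' : Type u} [CommRing O] [CommRing R'] [Algebra O R']

theorem etale_of_isBaseChange {AU A' : Type u} [CommRing AU] [CommRing A'] [Algebra O AU]
    [Algebra R' A'] [Algebra AU A'] [Algebra O A'] [IsScalarTower O R' A'] [IsScalarTower O AU A']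
    (hb : IsBaseChange R' (IsScalarTower.toAlgHom O AU A').toLinearMap) [Algebra.Etale O AU] :
    Algebra.Etale R' A' := by
  obtain ⟨μ, hμdef⟩ : ∃ μ : R' ⊗[O] AU →ₐ[R'] A',
      ∀ r a, μ (r ⊗ₜ a) = algebraMap R' A' r * algebraMap AU A' a :=
    ⟨Algebra.TensorProduct.lift (Algebra.ofId R' A') (IsScalarTower.toAlgHom O AU A')
      (fun _ _ => Commute.all _ _), fun r a => rfl⟩
  have hμ : ⇑μ = ⇑hb.equiv := by
    funext t
    induction t using TensorProduct.induction_on with
    | zero => simp
    | tmul r a =>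
      rw [hμdef, IsBaseChange.equiv_tmul, Algebra.smul_def]
      rfl
    | add a b ha hb' => simp only [map_add, ha, hb']
  have hμb : Function.Bijective μ := by
    rw [hμ]
    exact hb.equiv.bijective
  exact Algebra.Etale.of_equiv (AlgEquiv.ofBijective μ hμb)

end Single

/-! ### Families -/

section Family2

variable {O : Type u} [CommRing O] {I : Type u} [Fintype I] [DecidableEq I]
  (Rq : I → Type u) [∀ q, CommRing (Rq q)] [∀ q, Algebra O (Rq q)]

theorem injective_of_forall_lTensor {N₁ N₂ : Type u} [AddCommGroup N₁] [AddCommGroup N₂]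
    [Module O N₁] [Module O N₂] (F : N₁ →ₗ[O] N₂) [Module.FaithfullyFlat O (∀ q, Rq q)]
    (hF : ∀ q, Function.Injective (F.lTensor (Rq q))) : Function.Injective F := by
  rw [← Module.FaithfullyFlat.lTensor_injective_iff_injective O (∀ q, Rq q), lTensor_pi_eq]
  exact (TensorProduct.piLeft O N₂ Rq).symm.injective.comp
    ((Function.Injective.piMap hF).comp (TensorProduct.piLeft O N₁ Rq).injective)

theorem flat_factor [Module.Flat O (∀ q, Rq q)] (q : I) : Module.Flat O (Rq q) := by
  refine Module.Flat.of_retract (LinearMap.single O Rq q) (LinearMap.proj q) ?_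
  apply LinearMap.ext
  intro r
  show (Pi.single q r : ∀ q, Rq q) q = r
  exact Pi.single_eq_same q r

variable [Module.FaithfullyFlat O (∀ q, Rq q)]
  {N : Type u} [AddCommGroup N] [Module O N]
  (Mq : I → Type u) [∀ q, AddCommGroup (Mq q)] [∀ q, Module (Rq q) (Mq q)]
  [∀ q, Module O (Mq q)] [∀ q, IsScalarTower O (Rq q) (Mq q)]
  (ev : ∀ q, N →ₗ[O] Mq q)

include ev in
theorem flat_of_family (hb : ∀ q, IsBaseChange (Rq q) (ev q))
    (h : ∀ q, Module.Flat (Rq q) (Mq q)) : Module.Flat O N := by
  have hR : ∀ q, Module.Flat O (Rq q) := fun q => flat_factor Rq q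
  have hM : ∀ q, Module.Flat O (Mq q) := fun q =>
    haveI := hR q
    haveI := h q
    Module.Flat.trans O (Rq q) (Mq q)
  have hT : ∀ q, Module.Flat O (Rq q ⊗[O] N) := fun q =>
    haveI := hM q
    Module.Flat.of_linearEquiv ((hb q).equiv.restrictScalars O)
  rw [Module.Flat.iff_lTensor_preserves_injective_linearMap]
  intro N₁ N₂ _ _ _ _ f hf
  apply injective_of_forall_lTensor Rq (f.lTensor N)
  intro q
  haveI := hT q
  have e : LinearMap.lTensor (Rq q) (LinearMap.lTensor N f) =
      (TensorProduct.assoc O (Rq q) N N₂).toLinearMap ∘ₗ LinearMap.lTensor (Rq q ⊗[O] N) f ∘ₗ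
        (TensorProduct.assoc O (Rq q) N N₁).symm.toLinearMap := by
    ext
    simp
  have hinj := Module.Flat.lTensor_preserves_injective_linearMap (M := Rq q ⊗[O] N) f hf
  rw [e, LinearMap.coe_comp, LinearMap.coe_comp]
  exact (TensorProduct.assoc O (Rq q) N N₂).injective.comp
    (hinj.comp (TensorProduct.assoc O (Rq q) N N₁).symm.injective)

include ev in
theorem faithfullyFlat_of_family (hb : ∀ q, IsBaseChange (Rq q) (ev q))
    (h : ∀ q, Module.FaithfullyFlat (Rq q) (Mq q)) : Module.FaithfullyFlat O N := by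
  rw [Module.FaithfullyFlat.iff_flat_and_lTensor_reflects_triviality]
  refine ⟨flat_of_family Rq Mq ev hb fun q => (h q).toFlat, ?_⟩
  intro N' _ _ hN'
  have hq : ∀ q, Subsingleton (Rq q ⊗[O] N') := by
    intro q
    haveI := h q
    haveI h1 : Subsingleton (Rq q ⊗[O] (N ⊗[O] N')) := subsingleton_tensor_of_right
    haveI h2 : Subsingleton ((Rq q ⊗[O] N) ⊗[O] N') :=
      (TensorProduct.assoc O (Rq q) N N').subsingleton
    haveI h3 : Subsingleton (Mq q ⊗[O] N') :=
      (TensorProduct.congr ((hb q).equiv.restrictScalars O)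
        (LinearEquiv.refl O N')).symm.subsingleton
    haveI h4 : Subsingleton (Mq q ⊗[Rq q] (Rq q ⊗[O] N')) :=
      (TensorProduct.AlgebraTensorModule.cancelBaseChange O (Rq q) (Rq q) (Mq q) N').subsingleton
    exact Module.FaithfullyFlat.lTensor_reflects_triviality (Rq q) (Mq q) (Rq q ⊗[O] N')
  haveI : ∀ q, Subsingleton (Rq q ⊗[O] N') := hq
  haveI : Subsingleton ((∀ q, Rq q) ⊗[O] N') := (TensorProduct.piLeft O N' Rq).subsingleton
  exact Module.FaithfullyFlat.lTensor_reflects_triviality O (∀ q, Rq q) N'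

include ev in
theorem finite_of_family (hb : ∀ q, IsBaseChange (Rq q) (ev q))
    (h : ∀ q, Module.Finite (Rq q) (Mq q)) : Module.Finite O N := by
  classical
  have hT : ∀ q, Module.Finite (Rq q) (Rq q ⊗[O] N) := fun q =>
    haveI := h q
    Module.Finite.equiv (hb q).equiv.symm
  have hex : ∀ q, ∃ N' : Submodule O N, N'.FG ∧
      Function.Surjective (N'.subtype.lTensor (Rq q)) := by
    intro q
    obtain ⟨S, hS⟩ := Module.finite_def.mp (hT q)
    obtain ⟨N', hN', hsub⟩ := TensorProduct.exists_finite_submodule_right_of_setFinite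
      (S : Set (Rq q ⊗[O] N)) S.finite_toSet
    refine ⟨N', Module.Finite.iff_fg.mp hN', ?_⟩
    have hr : LinearMap.range (N'.subtype.baseChange (Rq q)) = ⊤ := by
      rw [eq_top_iff, ← hS, Submodule.span_le]
      intro s hs
      obtain ⟨t, ht⟩ := hsub hs
      exact ⟨t, ht⟩
    intro x
    have hx : x ∈ LinearMap.range (N'.subtype.baseChange (Rq q)) := by
      rw [hr]
      trivial
    obtain ⟨t, ht⟩ := hx
    exact ⟨t, ht⟩
  choose N' hN' hsurj using hex
  have hN₀ : (⨆ q, N' q).FG := Submodule.fg_iSup N' hN'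
  haveI : Module.Finite O ↥(⨆ q, N' q) := Module.Finite.iff_fg.mpr hN₀
  have hs : Function.Surjective (⨆ q, N' q).subtype := by
    apply surjective_of_forall_lTensor Rq (⨆ q, N' q).subtype
    intro q
    have hle : N' q ≤ ⨆ q, N' q := le_iSup N' q
    have e : (N' q).subtype = (⨆ q, N' q).subtype ∘ₗ Submodule.inclusion hle :=
      LinearMap.ext fun _ => rfl
    have hs' := hsurj q
    rw [e, LinearMap.lTensor_comp, LinearMap.coe_comp] at hs'
    exact Function.Surjective.of_comp hs'
  exact Module.Finite.of_surjective (⨆ q, N' q).subtype hs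

end Family2

/-! ### Étale algebras -/

section Etale

attribute [-instance] Pi.instAlgebraForall

variable {O : Type u} [CommRing O] {I : Type u} [Fintype I] [DecidableEq I]
  (Rq : I → Type u) [∀ q, CommRing (Rq q)] [∀ q, Algebra O (Rq q)]
  [Module.FaithfullyFlat O (∀ q, Rq q)]
  (AU : Type u) [CommRing AU] [Algebra O AU]
  (Aq : I → Type u) [∀ q, CommRing (Aq q)] [∀ q, Algebra (Rq q) (Aq q)] [∀ q, Algebra AU (Aq q)]
  [∀ q, Algebra O (Aq q)] [∀ q, IsScalarTower O (Rq q) (Aq q)] [∀ q, IsScalarTower O AU (Aq q)]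

theorem etale_of_family
    (hb : ∀ q, IsBaseChange (Rq q) (IsScalarTower.toAlgHom O AU (Aq q)).toLinearMap)
    (h : ∀ q, Algebra.Etale (Rq q) (Aq q)) : Algebra.Etale O AU := by
  classical
  letI algPR : ∀ q, Algebra (∀ q, Rq q) (Rq q) := fun q => (Pi.evalRingHom Rq q).toAlgebra
  letI algPA : ∀ q, Algebra (∀ q, Rq q) (Aq q) := fun q =>
    ((algebraMap (Rq q) (Aq q)).comp (Pi.evalRingHom Rq q)).toAlgebra
  haveI tPRA : ∀ q, IsScalarTower (∀ q, Rq q) (Rq q) (Aq q) := fun q =>
    IsScalarTower.of_algebraMap_eq fun _ => rfl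
  haveI tOPA : ∀ q, IsScalarTower O (∀ q, Rq q) (Aq q) := fun q =>
    IsScalarTower.of_algebraMap_eq fun o => by
      show algebraMap O (Aq q) o = algebraMap (Rq q) (Aq q) (algebraMap O (Rq q) o)
      exact IsScalarTower.algebraMap_apply O (Rq q) (Aq q) o
  have hloc : ∀ q, IsLocalization.Away (Pi.single q 1 : ∀ q, Rq q) (Rq q) := by
    intro q
    apply IsLocalization.away_of_isIdempotentElem_of_mul
    · show (Pi.single q 1 : ∀ q, Rq q) * Pi.single q 1 = Pi.single q 1
      funext q'
      by_cases hq : q' = q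
      · subst hq
        simp
      · simp [Pi.single_eq_of_ne hq]
    · intro x y
      show x q = y q ↔ _
      constructor
      · intro hxy
        funext q'
        by_cases hq : q' = q
        · subst hq
          simp [hxy]
        · simp [Pi.single_eq_of_ne hq]
      · intro hxy
        have := congrFun hxy q
        simpa using this
    · intro r
      exact ⟨Pi.single q r, Pi.single_eq_same q r⟩
  haveI hePR : ∀ q, Algebra.Etale (∀ q, Rq q) (Rq q) := fun q =>
    haveI := hloc q
    Algebra.Etale.of_isLocalizationAway (Pi.single q 1)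
  haveI hePA : ∀ q, Algebra.Etale (∀ q, Rq q) (Aq q) := fun q =>
    haveI := h q
    Algebra.Etale.comp (∀ q, Rq q) (Rq q) (Aq q)
  haveI hePC : Algebra.Etale (∀ q, Rq q) (∀ q, Aq q) := inferInstance
  obtain ⟨ν, hνdef⟩ : ∃ ν : (∀ q, Rq q) ⊗[O] AU →ₐ[∀ q, Rq q] ∀ q, Aq q,
      ∀ p a, ν (p ⊗ₜ a) = algebraMap (∀ q, Rq q) (∀ q, Aq q) p * algebraMap AU (∀ q, Aq q) a :=
    ⟨Algebra.TensorProduct.lift (Algebra.ofId (∀ q, Rq q) (∀ q, Aq q))
      (IsScalarTower.toAlgHom O AU (∀ q, Aq q)) (fun _ _ => Commute.all _ _), fun p a => rfl⟩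
  have hν : ∀ (t : (∀ q, Rq q) ⊗[O] AU) (q : I),
      ν t q = (hb q).equiv (TensorProduct.piLeft O AU Rq t q) := by
    intro t q
    induction t using TensorProduct.induction_on with
    | zero => simp
    | tmul p a =>
      have e1 : TensorProduct.piLeft O AU Rq (p ⊗ₜ[O] a) q = p q ⊗ₜ[O] a := by
        simp [TensorProduct.piLeft]
      rw [hνdef, e1, IsBaseChange.equiv_tmul, Algebra.smul_def]
      rfl
    | add a b ha hb' => simp only [map_add, Pi.add_apply, ha, hb']
  have hνb : Function.Bijective ν := by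
    have e : ⇑ν = (Pi.map fun q => ⇑(hb q).equiv) ∘ ⇑(TensorProduct.piLeft O AU Rq) := by
      funext t
      funext q
      exact hν t q
    rw [e]
    exact (Function.Bijective.piMap fun q => (hb q).equiv.bijective).comp
      (TensorProduct.piLeft O AU Rq).bijective
  haveI : Algebra.Etale (∀ q, Rq q) ((∀ q, Rq q) ⊗[O] AU) :=
    Algebra.Etale.of_equiv (AlgEquiv.ofBijective ν hνb).symm
  exact Algebra.Etale.of_etale_tensorProduct_of_faithfullyFlat (∀ q, Rq q)

end Etale

end Groth.Agent.Lib.Helper25.FEtAff
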