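import Mathlib
import Groth.Prelude.Def_SchFin
import Groth.Prelude.Def_SchFin2
import Groth.Agent.Lib.Helper25.FEtAff2

/-!
# Quasi-coherent algebras over an affine up-closed subset: pointwise properties against
properties of the ring map on sections
-/

set_option autoImplicit false
universe u

namespace Groth.Agent.Lib.Helper25.FEtAff

open SchFin TensorProduct

section Inst

variable {X : RSpace.{u}} (A : Alg X) (U : Set X.pt)

/-- sections of the underlying module of an algebra are the sections of its total space -/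
def sectEquiv :
    letI : Algebra (X.sectRing U) (A.total.sectRing U) := (A.sectMap U).toAlgebra
    A.toMod.sect U ≃ₗ[X.sectRing U] A.total.sectRing U :=
  letI : Algebra (X.sectRing U) (A.total.sectRing U) := (A.sectMap U).toAlgebra
  { toFun := fun s => ⟨s.1, fun q q' h => s.2 q q' h⟩
    invFun := fun s => ⟨s.1, fun q q' h => s.2 q q' h⟩
    map_add' := fun _ _ => rfl
    map_smul' := fun o s => by
      apply Subtype.ext
      funext q
      exact Algebra.smul_def (R := X.ring q.1) (A := A.carrier q.1) (o.1 q) (s.1 q)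
    left_inv := fun _ => rfl
    right_inv := fun _ => rfl }

theorem flat_iff (hA : A.IsQcoh) (hUa : (X.restrict U).IsAffine)
    (hφ : Module.FaithfullyFlat (X.sectRing U) ((q : ↥U) → X.ring q.1)) :
    (∀ q : X.pt, q ∈ U → Module.Flat (X.ring q) (A.carrier q)) ↔ (A.sectMap U).Flat := by
  classical
  haveI : Fintype ↥U := Fintype.ofFinite _
  letI : ∀ q : U, Algebra (X.sectRing U) (X.ring q.1) := fun q => (X.evalRing U q).toAlgebra
  letI : ∀ q : U, Module (X.sectRing U) (A.carrier q.1) :=
    fun q => Module.compHom _ (X.evalRing U q)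
  haveI : ∀ q : U, IsScalarTower (X.sectRing U) (X.ring q.1) (A.carrier q.1) :=
    fun q => IsScalarTower.of_algebraMap_smul fun _ _ => rfl
  haveI hff' : Module.FaithfullyFlat (X.sectRing U) ((q : ↥U) → X.ring q.1) := hφ
  let h : ∀ q : U, A.toMod.sect U →ₗ[X.sectRing U] A.carrier q.1 := fun q =>
    { toFun := A.toMod.evalMod U q
      map_add' := (A.toMod.evalMod U q).map_add
      map_smul' := (A.toMod.evalMod U q).map_smulₛₗ }
  have hh : ∀ q : U, IsBaseChange (X.ring q.1) (h q) := fun q => counit_U U hUa A.toMod hA q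
  letI algOA : Algebra (X.sectRing U) (A.total.sectRing U) := (A.sectMap U).toAlgebra
  have hiff : (∀ q : X.pt, q ∈ U → Module.Flat (X.ring q) (A.carrier q)) ↔
      ∀ q : U, Module.Flat (X.ring q.1) (A.carrier q.1) :=
    ⟨fun h' q => h' q.1 q.2, fun h' q hq => h' ⟨q, hq⟩⟩
  rw [hiff]
  constructor
  · intro hq
    have hfl : Module.Flat (X.sectRing U) (A.toMod.sect U) :=
      flat_of_family (fun q : U => X.ring q.1) (fun q : U => A.carrier q.1) h hh hq
    show Module.Flat (X.sectRing U) (A.total.sectRing U)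
    exact Module.Flat.of_linearEquiv (sectEquiv A U).symm
  · intro hfl q
    have hfl' : Module.Flat (X.sectRing U) (A.total.sectRing U) := hfl
    haveI : Module.Flat (X.sectRing U) (A.toMod.sect U) :=
      Module.Flat.of_linearEquiv (sectEquiv A U)
    exact Module.Flat.isBaseChange (X.sectRing U) (X.ring q.1) (A.toMod.sect U)
      (A.carrier q.1) (hh q)

theorem faithfullyFlat_iff (hA : A.IsQcoh) (hUa : (X.restrict U).IsAffine)
    (hφ : Module.FaithfullyFlat (X.sectRing U) ((q : ↥U) → X.ring q.1)) :
    (∀ q : X.pt, q ∈ U → Module.FaithfullyFlat (X.ring q) (A.carrier q)) ↔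
      (A.sectMap U).FaithfullyFlat := by
  classical
  haveI : Fintype ↥U := Fintype.ofFinite _
  letI : ∀ q : U, Algebra (X.sectRing U) (X.ring q.1) := fun q => (X.evalRing U q).toAlgebra
  letI : ∀ q : U, Module (X.sectRing U) (A.carrier q.1) :=
    fun q => Module.compHom _ (X.evalRing U q)
  haveI : ∀ q : U, IsScalarTower (X.sectRing U) (X.ring q.1) (A.carrier q.1) :=
    fun q => IsScalarTower.of_algebraMap_smul fun _ _ => rfl
  haveI hff' : Module.FaithfullyFlat (X.sectRing U) ((q : ↥U) → X.ring q.1) := hφ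
  let h : ∀ q : U, A.toMod.sect U →ₗ[X.sectRing U] A.carrier q.1 := fun q =>
    { toFun := A.toMod.evalMod U q
      map_add' := (A.toMod.evalMod U q).map_add
      map_smul' := (A.toMod.evalMod U q).map_smulₛₗ }
  have hh : ∀ q : U, IsBaseChange (X.ring q.1) (h q) := fun q => counit_U U hUa A.toMod hA q
  letI algOA : Algebra (X.sectRing U) (A.total.sectRing U) := (A.sectMap U).toAlgebra
  have hiff : (∀ q : X.pt, q ∈ U → Module.FaithfullyFlat (X.ring q) (A.carrier q)) ↔
      ∀ q : U, Module.FaithfullyFlat (X.ring q.1) (A.carrier q.1) :=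
    ⟨fun h' q => h' q.1 q.2, fun h' q hq => h' ⟨q, hq⟩⟩
  rw [hiff]
  constructor
  · intro hq
    have hfl : Module.FaithfullyFlat (X.sectRing U) (A.toMod.sect U) :=
      faithfullyFlat_of_family (fun q : U => X.ring q.1) (fun q : U => A.carrier q.1) h hh hq
    show Module.FaithfullyFlat (X.sectRing U) (A.total.sectRing U)
    exact Module.FaithfullyFlat.of_linearEquiv (X.sectRing U) (A.toMod.sect U)
      (sectEquiv A U).symm
  · intro hfl q
    have hfl' : Module.FaithfullyFlat (X.sectRing U) (A.total.sectRing U) := hfl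
    haveI : Module.FaithfullyFlat (X.sectRing U) (A.toMod.sect U) :=
      Module.FaithfullyFlat.of_linearEquiv (X.sectRing U) (A.total.sectRing U) (sectEquiv A U)
    exact Module.FaithfullyFlat.of_linearEquiv (X.ring q.1)
      (X.ring q.1 ⊗[X.sectRing U] A.toMod.sect U) (hh q).equiv.symm

theorem finite_iff (hA : A.IsQcoh) (hUa : (X.restrict U).IsAffine)
    (hφ : Module.FaithfullyFlat (X.sectRing U) ((q : ↥U) → X.ring q.1)) :
    (∀ q : X.pt, q ∈ U → Module.Finite (X.ring q) (A.carrier q)) ↔ (A.sectMap U).Finite := by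
  classical
  haveI : Fintype ↥U := Fintype.ofFinite _
  letI : ∀ q : U, Algebra (X.sectRing U) (X.ring q.1) := fun q => (X.evalRing U q).toAlgebra
  letI : ∀ q : U, Module (X.sectRing U) (A.carrier q.1) :=
    fun q => Module.compHom _ (X.evalRing U q)
  haveI : ∀ q : U, IsScalarTower (X.sectRing U) (X.ring q.1) (A.carrier q.1) :=
    fun q => IsScalarTower.of_algebraMap_smul fun _ _ => rfl
  haveI hff' : Module.FaithfullyFlat (X.sectRing U) ((q : ↥U) → X.ring q.1) := hφ
  let h : ∀ q : U, A.toMod.sect U →ₗ[X.sectRing U] A.carrier q.1 := fun q =>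
    { toFun := A.toMod.evalMod U q
      map_add' := (A.toMod.evalMod U q).map_add
      map_smul' := (A.toMod.evalMod U q).map_smulₛₗ }
  have hh : ∀ q : U, IsBaseChange (X.ring q.1) (h q) := fun q => counit_U U hUa A.toMod hA q
  letI algOA : Algebra (X.sectRing U) (A.total.sectRing U) := (A.sectMap U).toAlgebra
  have hiff : (∀ q : X.pt, q ∈ U → Module.Finite (X.ring q) (A.carrier q)) ↔
      ∀ q : U, Module.Finite (X.ring q.1) (A.carrier q.1) :=
    ⟨fun h' q => h' q.1 q.2, fun h' q hq => h' ⟨q, hq⟩⟩
  rw [hiff]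
  constructor
  · intro hq
    have hfl : Module.Finite (X.sectRing U) (A.toMod.sect U) :=
      finite_of_family (fun q : U => X.ring q.1) (fun q : U => A.carrier q.1) h hh hq
    show Module.Finite (X.sectRing U) (A.total.sectRing U)
    exact Module.Finite.equiv (sectEquiv A U)
  · intro hfl q
    have hfl' : Module.Finite (X.sectRing U) (A.total.sectRing U) := hfl
    haveI : Module.Finite (X.sectRing U) (A.toMod.sect U) :=
      Module.Finite.equiv (sectEquiv A U).symm
    exact Module.Finite.equiv (hh q).equiv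

theorem etale_iff (hA : A.IsQcoh) (hUa : (X.restrict U).IsAffine)
    (hφ : Module.FaithfullyFlat (X.sectRing U) ((q : ↥U) → X.ring q.1)) :
    (∀ q : X.pt, q ∈ U → Algebra.Etale (X.ring q) (A.carrier q)) ↔ (A.sectMap U).Etale := by
  classical
  haveI : Fintype ↥U := Fintype.ofFinite _
  letI : ∀ q : U, Algebra (X.sectRing U) (X.ring q.1) := fun q => (X.evalRing U q).toAlgebra
  letI : ∀ q : U, Algebra (X.sectRing U) (A.carrier q.1) :=
    fun q => Algebra.compHom (A.carrier q.1) (X.evalRing U q)
  haveI : ∀ q : U, IsScalarTower (X.sectRing U) (X.ring q.1) (A.carrier q.1) :=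
    fun q => IsScalarTower.of_algebraMap_eq fun _ => rfl
  haveI hff' : Module.FaithfullyFlat (X.sectRing U) ((q : ↥U) → X.ring q.1) := hφ
  let h : ∀ q : U, A.toMod.sect U →ₗ[X.sectRing U] A.carrier q.1 := fun q =>
    { toFun := A.toMod.evalMod U q
      map_add' := (A.toMod.evalMod U q).map_add
      map_smul' := (A.toMod.evalMod U q).map_smulₛₗ }
  have hh : ∀ q : U, IsBaseChange (X.ring q.1) (h q) := fun q => counit_U U hUa A.toMod hA q
  letI algOA : Algebra (X.sectRing U) (A.total.sectRing U) := (A.sectMap U).toAlgebra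
  let evA : ∀ q : U, A.total.sectRing U →+* A.carrier q.1 := fun q => A.total.evalRing U q
  letI : ∀ q : U, Algebra (A.total.sectRing U) (A.carrier q.1) := fun q => (evA q).toAlgebra
  haveI : ∀ q : U, IsScalarTower (X.sectRing U) (A.total.sectRing U) (A.carrier q.1) :=
    fun q => IsScalarTower.of_algebraMap_eq fun _ => rfl
  have hb : ∀ q : U, IsBaseChange (X.ring q.1)
      (IsScalarTower.toAlgHom (X.sectRing U) (A.total.sectRing U)
        (A.carrier q.1)).toLinearMap := by
    intro q
    have h1 := IsBaseChange.comp_equiv (sectEquiv A U).symm (h q) (hh q)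
    have e : (h q).comp (sectEquiv A U).symm.toLinearMap =
        (IsScalarTower.toAlgHom (X.sectRing U) (A.total.sectRing U)
          (A.carrier q.1)).toLinearMap :=
      LinearMap.ext fun _ => rfl
    rw [← e]
    exact h1
  have hiff : (∀ q : X.pt, q ∈ U → Algebra.Etale (X.ring q) (A.carrier q)) ↔
      ∀ q : U, Algebra.Etale (X.ring q.1) (A.carrier q.1) :=
    ⟨fun h' q => h' q.1 q.2, fun h' q hq => h' ⟨q, hq⟩⟩
  rw [hiff]
  constructor
  · intro hq
    show Algebra.Etale (X.sectRing U) (A.total.sectRing U)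
    exact etale_of_family (fun q : U => X.ring q.1) (A.total.sectRing U)
      (fun q : U => A.carrier q.1) hb hq
  · intro het q
    haveI : Algebra.Etale (X.sectRing U) (A.total.sectRing U) := het
    exact etale_of_isBaseChange (hb q)

end Inst

end Groth.Agent.Lib.Helper25.FEtAff
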