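import Mathlib
import Groth.Prelude.Def_SchFin
import Groth.Prelude.Def_SchFin2
import Groth.Agent.Lib.Helper25.SchFinH0

/-!
# Base change criteria and degree-zero restriction for finite ringed posets
-/

set_option autoImplicit false
universe u

namespace Groth.Agent.Lib.Helper25.SchFinBC

open SchFin TensorProduct Groth.Agent.Lib.Helper25.SchFinH0

section algebra

variable {R S M N : Type u} [CommRing R] [CommRing S] [Algebra R S] [AddCommGroup M]
  [AddCommGroup N] [Module R M] [Module R N] [Module S N] [IsScalarTower R S N]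

theorem isBaseChange_of_bijective (f : M →ₗ[R] N)
    (h : Function.Bijective (f.liftBaseChange S)) : IsBaseChange S f :=
  IsBaseChange.of_equiv (LinearEquiv.ofBijective (f.liftBaseChange S) h) (fun x => by
    show f.liftBaseChange S (1 ⊗ₜ x) = f x
    rw [LinearMap.liftBaseChange_tmul, one_smul])

theorem isBaseChange_of_tensor_subsingleton (f : M →ₗ[R] N) [Subsingleton N]
    (h : Subsingleton (S ⊗[R] M)) : IsBaseChange S f :=
  isBaseChange_of_bijective f
    ⟨fun a b _ => Subsingleton.elim a b, fun n => ⟨0, Subsingleton.elim _ _⟩⟩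

theorem isBaseChange_of_subsingleton (f : M →ₗ[R] N) [Subsingleton M] [Subsingleton N] :
    IsBaseChange S f := by
  apply isBaseChange_of_tensor_subsingleton
  constructor
  intro a b
  have h0 : ∀ t : S ⊗[R] M, t = 0 := by
    intro t
    induction t using TensorProduct.induction_on with
    | zero => rfl
    | tmul s m => rw [Subsingleton.elim m 0, TensorProduct.tmul_zero]
    | add x y hx hy => rw [hx, hy, add_zero]
  rw [h0 a, h0 b]

theorem isBaseChange_of_epi (hepi : ∀ s : S, s ⊗ₜ[R] (1 : S) = (1 : S) ⊗ₜ[R] s)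
    (f : M →ₗ[R] N) (hf : Function.Bijective f) : IsBaseChange S f := by
  apply isBaseChange_of_bijective
  let e := Equiv.ofBijective f hf
  have hfe : ∀ n : N, f (e.symm n) = n := fun n => e.apply_symm_apply n
  have hesymm : ∀ (r : R) (n : N), e.symm (r • n) = r • e.symm n := by
    intro r n
    apply hf.1
    calc f (e.symm (r • n)) = r • n := hfe _
      _ = r • f (e.symm n) := by rw [hfe n]
      _ = f (r • e.symm n) := (map_smul f r _).symm
  have hesymm_add : ∀ n n' : N, e.symm (n + n') = e.symm n + e.symm n' := by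
    intro n n'
    apply hf.1
    calc f (e.symm (n + n')) = n + n' := hfe _
      _ = f (e.symm n) + f (e.symm n') := by rw [hfe n, hfe n']
      _ = f (e.symm n + e.symm n') := (map_add f _ _).symm
  have key : ∀ (s : S) (m : M), s ⊗ₜ[R] m = (1 : S) ⊗ₜ[R] e.symm (s • f m) := by
    intro s m
    let ψ : S →ₗ[R] M :=
      { toFun := fun s₂ => e.symm (s₂ • f m)
        map_add' := fun a b => by rw [add_smul, hesymm_add]
        map_smul' := fun r a => by
          rw [RingHom.id_apply, smul_assoc, hesymm] }
    have h1 := congrArg (ψ.lTensor S) (hepi s)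
    rw [LinearMap.lTensor_tmul, LinearMap.lTensor_tmul] at h1
    have h2 : ψ 1 = m := by
      show e.symm ((1 : S) • f m) = m
      rw [one_smul]
      exact e.symm_apply_apply m
    rw [h2] at h1
    exact h1
  have hall : ∀ t : S ⊗[R] M, ∃ m : M, t = (1 : S) ⊗ₜ[R] m := by
    intro t
    induction t using TensorProduct.induction_on with
    | zero => exact ⟨0, (TensorProduct.tmul_zero _ _).symm⟩
    | tmul s m => exact ⟨_, key s m⟩
    | add x y hx hy =>
      obtain ⟨m1, rfl⟩ := hx
      obtain ⟨m2, rfl⟩ := hy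
      exact ⟨m1 + m2, (TensorProduct.tmul_add _ _ _).symm⟩
  constructor
  · rw [injective_iff_map_eq_zero]
    intro t ht
    obtain ⟨m, rfl⟩ := hall t
    rw [LinearMap.liftBaseChange_tmul, one_smul] at ht
    have hm : m = 0 := hf.1 (ht.trans (map_zero f).symm)
    rw [hm, TensorProduct.tmul_zero]
  · intro n
    obtain ⟨m, rfl⟩ := hf.2 n
    exact ⟨1 ⊗ₜ m, by rw [LinearMap.liftBaseChange_tmul, one_smul]⟩

end algebra

theorem tmul_one_eq_of_epi {R S : Type u} [CommRing R] [CommRing S] [Algebra R S]
    (hepi : ∀ {T : Type u} [CommRing T] (g₁ g₂ : S →+* T),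
      g₁.comp (algebraMap R S) = g₂.comp (algebraMap R S) → g₁ = g₂) (s : S) :
    s ⊗ₜ[R] (1 : S) = (1 : S) ⊗ₜ[R] s := by
  have hg : (Algebra.TensorProduct.includeLeft : S →ₐ[R] S ⊗[R] S).toRingHom =
      (Algebra.TensorProduct.includeRight : S →ₐ[R] S ⊗[R] S).toRingHom := by
    apply hepi
    ext r
    show (Algebra.TensorProduct.includeLeft : S →ₐ[R] S ⊗[R] S) (algebraMap R S r) =
      (Algebra.TensorProduct.includeRight : S →ₐ[R] S ⊗[R] S) (algebraMap R S r)
    rw [AlgHom.commutes, AlgHom.commutes]
  exact RingHom.congr_fun hg s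

section along

variable {R S : Type u} [CommRing R] [CommRing S] (g : R →+* S) {M N : Type u}
  [AddCommGroup M] [AddCommGroup N] [Module R M] [Module S N] (f : M →ₛₗ[g] N)

theorem isBCAlong_of_epi
    (hepi : ∀ {T : Type u} [CommRing T] (g₁ g₂ : S →+* T), g₁.comp g = g₂.comp g → g₁ = g₂)
    (hf : Function.Bijective f) : IsBCAlong g f := by
  letI : Algebra R S := g.toAlgebra
  letI : Module R N := Module.compHom N g
  haveI : IsScalarTower R S N := IsScalarTower.of_algebraMap_smul fun _ _ => rfl
  exact isBaseChange_of_epi (fun s => tmul_one_eq_of_epi (R := R) (S := S) hepi s) _ hf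

theorem isBCAlong_of_subsingleton [Subsingleton M] [Subsingleton N] : IsBCAlong g f := by
  letI : Algebra R S := g.toAlgebra
  letI : Module R N := Module.compHom N g
  haveI : IsScalarTower R S N := IsScalarTower.of_algebraMap_smul fun _ _ => rfl
  exact isBaseChange_of_subsingleton _

theorem isBCAlong_of_tensor_subsingleton [Subsingleton N]
    (h : letI : Algebra R S := g.toAlgebra; Subsingleton (S ⊗[R] M)) : IsBCAlong g f := by
  letI : Algebra R S := g.toAlgebra
  letI : Module R N := Module.compHom N g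
  haveI : IsScalarTower R S N := IsScalarTower.of_algebraMap_smul fun _ _ => rfl
  exact isBaseChange_of_tensor_subsingleton _ h

end along

section cohomology

variable {X : RSpace.{u}} {U U' : Set X.pt} {R R' : Type u} [CommRing R] [CommRing R']

lemma H_subsingleton_of_isEmpty (φ : Coef X U R) (M : OMod X) (n : ℕ) [IsEmpty (Chain U n)] :
    Subsingleton (H φ M n) := by
  constructor
  intro a b
  obtain ⟨ca, rfl⟩ := Submodule.mkQ_surjective _ a
  obtain ⟨cb, rfl⟩ := Submodule.mkQ_surjective _ b
  congr 1
  exact Subtype.ext (funext fun σ => (IsEmpty.false σ).elim)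

/-- restriction of sections to a smaller subset -/
def restrSect (h : U' ⊆ U) (g : X.sectRing U) : X.sectRing U' :=
  ⟨fun q => g.1 ⟨q.1, h q.2⟩, fun q q' hq => g.2 ⟨q.1, h q.2⟩ ⟨q'.1, h q'.2⟩ hq⟩

lemma restrSect_bijective (h : U' ⊆ U) (h' : U ⊆ U') :
    Function.Bijective (restrSect (X := X) h) := by
  constructor
  · intro g g' e
    apply Subtype.ext
    funext q
    have h1 := congrArg (fun k : X.sectRing U' => k.1 ⟨q.1, h' q.2⟩) e
    exact h1
  · intro k
    exact ⟨restrSect h' k, Subtype.ext (funext fun q => rfl)⟩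

lemma resH_w {φ : Coef X U R} {φ' : Coef X U' R'} (s : Coef.Sub φ φ') (g : X.sectRing U) :
    resH X.str s 0 (w φ g) = w φ' (restrSect s.le g) := by
  have e1 : resH X.str s 0 (w φ g) = H.mk φ' X.str 0
      ⟨Cochain.restr X.str s 0 (ofSect φ g).1, (by
        show diff φ' X.str 0 (resCochain X.str s 0 (ofSect φ g).1) = 0
        rw [diff_resCochain, show diff φ X.str 0 (ofSect φ g).1 = 0 from (ofSect φ g).2,
          map_zero])⟩ := rfl
  rw [e1, w_apply]
  refine congrArg (H.mk φ' X.str 0) (Subtype.ext (funext fun σ => ?_))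
  rfl

lemma resH_bijective {φ : Coef X U R} {φ' : Coef X U' R'} (s : Coef.Sub φ φ') (h' : U ⊆ U') :
    Function.Bijective (resH X.str s 0) := by
  have hr := restrSect_bijective (X := X) s.le h'
  constructor
  · intro v v' hv
    obtain ⟨g, rfl⟩ := w_surjective φ v
    obtain ⟨g', rfl⟩ := w_surjective φ v'
    rw [resH_w, resH_w] at hv
    rw [hr.1 (w_injective φ' hv)]
  · intro v'
    obtain ⟨k, rfl⟩ := w_surjective φ' v'
    obtain ⟨g, rfl⟩ := hr.2 k
    exact ⟨w φ g, resH_w s g⟩

end cohomology

end Groth.Agent.Lib.Helper25.SchFinBC
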