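import Mathlib
import Groth.Prelude.Def_SchFin
import Groth.Prelude.Def_SchFin2
import Groth.Agent.Lib.Helper25.SchFinBC

/-!
# Initial object and pushouts of étale covers over a finite ringed poset
-/

set_option autoImplicit false
universe u

namespace Groth.Agent.Lib.Helper25.FEtPO

open SchFin TensorProduct CategoryTheory CategoryTheory.Limits

/-! ### Pure algebra: the tensor product of two ring maps out of the same ring -/

namespace PO

section ring

variable {A B C : Type u} [CommRing A] [CommRing B] [CommRing C] (f : A →+* B) (g : A →+* C)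

/-- the tensor product `B ⊗[A] C` along two ring maps -/
def T : Type u :=
  letI := f.toAlgebra
  letI := g.toAlgebra
  B ⊗[A] C

noncomputable instance : CommRing (T f g) := by
  letI := f.toAlgebra
  letI := g.toAlgebra
  exact (inferInstance : CommRing (B ⊗[A] C))

/-- left inclusion -/
noncomputable def inl : B →+* T f g :=
  letI := f.toAlgebra
  letI := g.toAlgebra
  (Algebra.TensorProduct.includeLeftRingHom : B →+* B ⊗[A] C)

/-- right inclusion -/
noncomputable def inr : C →+* T f g :=
  letI := f.toAlgebra
  letI := g.toAlgebra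
  (Algebra.TensorProduct.includeRight : C →ₐ[A] B ⊗[A] C).toRingHom

lemma isPushout : IsPushout (CommRingCat.ofHom f) (CommRingCat.ofHom g)
    (CommRingCat.ofHom (inl f g)) (CommRingCat.ofHom (inr f g)) := by
  letI := f.toAlgebra
  letI := g.toAlgebra
  exact CommRingCat.isPushout_tensorProduct A B C

lemma comm : (inl f g).comp f = (inr f g).comp g :=
  congrArg CommRingCat.Hom.hom (isPushout f g).w

variable {f g}

/-- the induced map out of the tensor product -/
noncomputable def desc {W : Type u} [CommRing W] (u : B →+* W) (v : C →+* W)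
    (h : u.comp f = v.comp g) : T f g →+* W :=
  ((isPushout f g).desc (CommRingCat.ofHom u) (CommRingCat.ofHom v) (by
    rw [← CommRingCat.ofHom_comp, ← CommRingCat.ofHom_comp, h])).hom

lemma desc_inl {W : Type u} [CommRing W] (u : B →+* W) (v : C →+* W)
    (h : u.comp f = v.comp g) : (desc u v h).comp (inl f g) = u :=
  congrArg CommRingCat.Hom.hom ((isPushout f g).inl_desc _ _ _)

lemma desc_inr {W : Type u} [CommRing W] (u : B →+* W) (v : C →+* W)
    (h : u.comp f = v.comp g) : (desc u v h).comp (inr f g) = v :=
  congrArg CommRingCat.Hom.hom ((isPushout f g).inr_desc _ _ _)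

lemma desc_inl_apply {W : Type u} [CommRing W] (u : B →+* W) (v : C →+* W)
    (h : u.comp f = v.comp g) (b : B) : desc u v h (inl f g b) = u b :=
  RingHom.congr_fun (desc_inl u v h) b

lemma desc_inr_apply {W : Type u} [CommRing W] (u : B →+* W) (v : C →+* W)
    (h : u.comp f = v.comp g) (c : C) : desc u v h (inr f g c) = v c :=
  RingHom.congr_fun (desc_inr u v h) c

lemma ringHom_ext {W : Type u} [CommRing W] (φ ψ : T f g →+* W)
    (h1 : φ.comp (inl f g) = ψ.comp (inl f g)) (h2 : φ.comp (inr f g) = ψ.comp (inr f g)) :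
    φ = ψ := by
  have := (isPushout f g).hom_ext (k := CommRingCat.ofHom φ) (l := CommRingCat.ofHom ψ)
    (by rw [← CommRingCat.ofHom_comp, ← CommRingCat.ofHom_comp, h1])
    (by rw [← CommRingCat.ofHom_comp, ← CommRingCat.ofHom_comp, h2])
  exact congrArg CommRingCat.Hom.hom this

end ring

section alg

variable {R A B C : Type u} [CommRing R] [CommRing A] [CommRing B] [CommRing C]
  [Algebra R B] (f : A →+* B) (g : A →+* C)

noncomputable instance : Algebra R (T f g) := ((inl f g).comp (algebraMap R B)).toAlgebra

lemma algebraMap_eq (r : R) : algebraMap R (T f g) r = inl f g (algebraMap R B r) := rfl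

variable {f g}

/-- the induced algebra map out of the tensor product -/
noncomputable def descAlg {W : Type u} [CommRing W] [Algebra R W] (u : B →ₐ[R] W) (v : C →+* W)
    (h : u.toRingHom.comp f = v.comp g) : T f g →ₐ[R] W :=
  { desc u.toRingHom v h with
    commutes' := fun r => by
      show desc u.toRingHom v h (inl f g (algebraMap R B r)) = _
      rw [desc_inl_apply]
      exact u.commutes r }

lemma descAlg_apply {W : Type u} [CommRing W] [Algebra R W] (u : B →ₐ[R] W) (v : C →+* W)
    (h : u.toRingHom.comp f = v.comp g) (t : T f g) :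
    descAlg u v h t = desc u.toRingHom v h t := rfl

variable (f g)

lemma finite [Algebra R A] [Algebra R C]
    (hg : ∀ r, g (algebraMap R A r) = algebraMap R C r) [Module.Finite R B] [Module.Finite R C] :
    Module.Finite R (T f g) := by
  letI := f.toAlgebra
  letI := g.toAlgebra
  haveI : IsScalarTower R A C := IsScalarTower.of_algebraMap_eq (fun r => (hg r).symm)
  haveI : Module.Finite A C := Module.Finite.of_restrictScalars_finite R A C
  letI instBT : Algebra B (T f g) := (inferInstance : Algebra B (B ⊗[A] C))
  haveI : IsScalarTower R B (T f g) := IsScalarTower.of_algebraMap_eq (fun r => rfl)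
  haveI : Module.Finite B (T f g) := (inferInstance : Module.Finite B (B ⊗[A] C))
  exact Module.Finite.trans B (T f g)

lemma etale [Algebra R A] [Algebra R C]
    (hg : ∀ r, g (algebraMap R A r) = algebraMap R C r)
    [Algebra.Etale R A] [Algebra.Etale R B] [Algebra.Etale R C] :
    Algebra.Etale R (T f g) := by
  letI := f.toAlgebra
  letI := g.toAlgebra
  haveI : IsScalarTower R A C := IsScalarTower.of_algebraMap_eq (fun r => (hg r).symm)
  haveI : Algebra.Etale A C := Algebra.Etale.of_restrictScalars R A C
  letI instBT : Algebra B (T f g) := (inferInstance : Algebra B (B ⊗[A] C))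
  haveI : IsScalarTower R B (T f g) := IsScalarTower.of_algebraMap_eq (fun r => rfl)
  haveI : Algebra.Etale B (T f g) := (inferInstance : Algebra.Etale B (B ⊗[A] C))
  exact Algebra.Etale.comp R B (T f g)

end alg

end PO

/-! ### Base change and pushout squares of commutative rings -/

lemma isBCAlong_iff_isPushout {R S M N : Type u} [CommRing R] [CommRing S] [CommRing M]
    [CommRing N] [Algebra R M] [Algebra S N] (g : R →+* S) (φ : M →+* N)
    (f : M →ₛₗ[g] N) (hf : ∀ m, f m = φ m)
    (hφ : ∀ r, φ (algebraMap R M r) = algebraMap S N (g r)) :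
    IsBCAlong g f ↔ IsPushout (CommRingCat.ofHom g) (CommRingCat.ofHom (algebraMap R M))
      (CommRingCat.ofHom (algebraMap S N)) (CommRingCat.ofHom φ) := by
  letI : Algebra R S := g.toAlgebra
  letI : Algebra R N := Algebra.compHom N g
  haveI : IsScalarTower R S N := IsScalarTower.of_algebraMap_smul fun _ _ => rfl
  letI : Algebra M N := φ.toAlgebra
  haveI : IsScalarTower R M N := IsScalarTower.of_algebraMap_eq (fun r => by
    show algebraMap S N (g r) = φ (algebraMap R M r)
    rw [hφ])
  constructor
  · intro h
    let fL : M →ₗ[R] N :=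
      { toFun := f
        map_add' := f.map_add
        map_smul' := f.map_smulₛₗ }
    have h' : IsBaseChange S fL := h
    haveI : Algebra.IsPushout R S M N := ⟨by
      convert h' using 1
      ext m
      exact (hf m).symm⟩
    exact CommRingCat.isPushout_of_isPushout R S M N
  · intro h
    have h2 : Algebra.IsPushout R S M N := CommRingCat.isPushout_iff_isPushout.mp h
    have h3 := h2.out
    let fL : M →ₗ[R] N :=
      { toFun := f
        map_add' := f.map_add
        map_smul' := f.map_smulₛₗ }
    show IsBaseChange S fL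
    convert h3 using 1
    ext m
    exact hf m

lemma cube {D : Type*} [Category D] {R S A A' B B' C C' T T' : D}
    {g : R ⟶ S} {a : R ⟶ A} {a' : S ⟶ A'} {α : A ⟶ A'}
    {b : R ⟶ B} {b' : S ⟶ B'} {β : B ⟶ B'} {c : R ⟶ C} {c' : S ⟶ C'} {γ : C ⟶ C'}
    {f : A ⟶ B} {f' : A' ⟶ B'} {k : A ⟶ C} {k' : A' ⟶ C'}
    {il : B ⟶ T} {ir : C ⟶ T} {il' : B' ⟶ T'} {ir' : C' ⟶ T'} {τ : T ⟶ T'}
    (PA : IsPushout g a a' α) (PB : IsPushout g b b' β) (PC : IsPushout g c c' γ)
    (PT : IsPushout f k il ir) (PT' : IsPushout f' k' il' ir')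
    (hb : a ≫ f = b) (hb' : a' ≫ f' = b') (hc : a ≫ k = c) (hc' : a' ≫ k' = c')
    (hf : f ≫ β = α ≫ f') (hk : k ≫ γ = α ≫ k') (hl : il ≫ τ = β ≫ il')
    (hr : ir ≫ τ = γ ≫ ir') :
    IsPushout g (b ≫ il) (b' ≫ il') τ := by
  subst hb hb' hc hc'
  have QB : IsPushout f α β f' := IsPushout.of_left PB.flip hf PA.flip
  have big : IsPushout f (α ≫ k') (β ≫ il') ir' := QB.paste_vert PT'
  rw [← hk, ← hl] at big
  have XX : IsPushout ir γ τ ir' := IsPushout.of_top big hr PT
  have fin := (PC.flip.paste_horiz XX).flip
  have e1 : (a ≫ k) ≫ ir = (a ≫ f) ≫ il := by rw [Category.assoc, Category.assoc, PT.w]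
  have e2 : (a' ≫ k') ≫ ir' = (a' ≫ f') ≫ il' := by rw [Category.assoc, Category.assoc, PT'.w]
  rw [e1, e2] at fin
  exact fin

end Groth.Agent.Lib.Helper25.FEtPO
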