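import Mathlib
import Groth.Prelude.Def_SchFin
import Groth.Prelude.Def_SchFin2
import Groth.Agent.Lib.Helper25.FEtPO

/-!
# Initial object and pushouts of étale covers over a finite ringed poset (space level)
-/

set_option autoImplicit false
universe u

namespace Groth.Agent.Lib.Helper25.FEtPO

open SchFin TensorProduct CategoryTheory CategoryTheory.Limits

variable {X : RSpace.{u}}

section pushout

variable {A B C : Alg X} (f : A ⟶ B) (g : A ⟶ C)

lemma res_cond {p q : X.pt} (h : p ≤ q) :
    ((PO.inl (f.app q).toRingHom (g.app q).toRingHom).comp (B.res h)).comp (f.app p).toRingHom =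
      ((PO.inr (f.app q).toRingHom (g.app q).toRingHom).comp (C.res h)).comp
        (g.app p).toRingHom :=
  RingHom.ext fun a => by
    show PO.inl _ _ (B.res h (f.app p a)) = PO.inr _ _ (C.res h (g.app p a))
    rw [f.compat h a, g.compat h a]
    exact RingHom.congr_fun (PO.comm _ _) (A.res h a)

/-- the pointwise tensor product of two algebras over a third -/
noncomputable def poAlg : Alg X where
  carrier p := PO.T (f.app p).toRingHom (g.app p).toRingHom
  res {p q} h := PO.desc ((PO.inl _ _).comp (B.res h)) ((PO.inr _ _).comp (C.res h))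
    (res_cond f g h)
  res_algebraMap {p q} h a := by
    show PO.desc _ _ (res_cond f g h) (PO.inl _ _ (algebraMap (X.ring p) (B.carrier p) a)) =
      PO.inl _ _ (algebraMap (X.ring q) (B.carrier q) (X.res h a))
    rw [PO.desc_inl_apply]
    show PO.inl _ _ (B.res h (algebraMap (X.ring p) (B.carrier p) a)) = _
    rw [B.res_algebraMap]
  res_self p t := by
    have : PO.desc ((PO.inl _ _).comp (B.res (le_refl p))) ((PO.inr _ _).comp (C.res (le_refl p)))
        (res_cond f g (le_refl p)) = RingHom.id _ := by
      apply PO.ringHom_ext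
      · rw [PO.desc_inl]
        ext b
        show PO.inl _ _ (B.res (le_refl p) b) = PO.inl _ _ b
        rw [B.res_self]
      · rw [PO.desc_inr]
        ext c
        show PO.inr _ _ (C.res (le_refl p) c) = PO.inr _ _ c
        rw [C.res_self]
    exact RingHom.congr_fun this t
  res_comp {p q s} h h' t := by
    have : (PO.desc ((PO.inl _ _).comp (B.res h')) ((PO.inr _ _).comp (C.res h'))
        (res_cond f g h')).comp (PO.desc ((PO.inl _ _).comp (B.res h))
          ((PO.inr _ _).comp (C.res h)) (res_cond f g h)) =
        PO.desc ((PO.inl _ _).comp (B.res (h.trans h'))) ((PO.inr _ _).comp (C.res (h.trans h')))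
          (res_cond f g (h.trans h')) := by
      apply PO.ringHom_ext
      · rw [RingHom.comp_assoc, PO.desc_inl, ← RingHom.comp_assoc, PO.desc_inl, PO.desc_inl]
        ext b
        show PO.inl _ _ (B.res h' (B.res h b)) = PO.inl _ _ (B.res (h.trans h') b)
        rw [B.res_comp]
      · rw [RingHom.comp_assoc, PO.desc_inr, ← RingHom.comp_assoc, PO.desc_inr, PO.desc_inr]
        ext c
        show PO.inr _ _ (C.res h' (C.res h c)) = PO.inr _ _ (C.res (h.trans h') c)
        rw [C.res_comp]
    exact RingHom.congr_fun this t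

lemma poAlg_res_inl {p q : X.pt} (h : p ≤ q) (b : B.carrier p) :
    (poAlg f g).res h (PO.inl (f.app p).toRingHom (g.app p).toRingHom b) =
      PO.inl (f.app q).toRingHom (g.app q).toRingHom (B.res h b) :=
  PO.desc_inl_apply _ _ (res_cond f g h) b

lemma poAlg_res_inr {p q : X.pt} (h : p ≤ q) (c : C.carrier p) :
    (poAlg f g).res h (PO.inr (f.app p).toRingHom (g.app p).toRingHom c) =
      PO.inr (f.app q).toRingHom (g.app q).toRingHom (C.res h c) :=
  PO.desc_inr_apply _ _ (res_cond f g h) c

lemma poAlg_isQcoh (hA : A.IsQcoh) (hB : B.IsQcoh) (hC : C.IsQcoh) : (poAlg f g).IsQcoh := by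
  intro p q h
  have PA := (isBCAlong_iff_isPushout (X.res h) (A.res h) (A.toMod.res h) (fun _ => rfl)
    (fun r => A.res_algebraMap h r)).mp (hA p q h)
  have PB := (isBCAlong_iff_isPushout (X.res h) (B.res h) (B.toMod.res h) (fun _ => rfl)
    (fun r => B.res_algebraMap h r)).mp (hB p q h)
  have PC := (isBCAlong_iff_isPushout (X.res h) (C.res h) (C.toMod.res h) (fun _ => rfl)
    (fun r => C.res_algebraMap h r)).mp (hC p q h)
  have key := cube PA PB PC (PO.isPushout (f.app p).toRingHom (g.app p).toRingHom)
    (PO.isPushout (f.app q).toRingHom (g.app q).toRingHom)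
    (τ := CommRingCat.ofHom (R := PO.T (f.app p).toRingHom (g.app p).toRingHom)
      (S := PO.T (f.app q).toRingHom (g.app q).toRingHom) ((poAlg f g).res h))
    (CommRingCat.hom_ext (RingHom.ext fun r => (f.app p).commutes r))
    (CommRingCat.hom_ext (RingHom.ext fun r => (f.app q).commutes r))
    (CommRingCat.hom_ext (RingHom.ext fun r => (g.app p).commutes r))
    (CommRingCat.hom_ext (RingHom.ext fun r => (g.app q).commutes r))
    (CommRingCat.hom_ext (RingHom.ext fun a => f.compat h a))
    (CommRingCat.hom_ext (RingHom.ext fun a => g.compat h a))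
    (CommRingCat.hom_ext (RingHom.ext fun b => poAlg_res_inl f g h b))
    (CommRingCat.hom_ext (RingHom.ext fun c => poAlg_res_inr f g h c))
  refine (isBCAlong_iff_isPushout (X.res h) ((poAlg f g).res h) ((poAlg f g).toMod.res h)
    (fun _ => rfl) (fun r => (poAlg f g).res_algebraMap h r)).mpr ?_
  exact key

lemma poAlg_isEtCover (hA : A.IsEtCover) (hB : B.IsEtCover) (hC : C.IsEtCover) :
    (poAlg f g).IsEtCover := by
  refine ⟨poAlg_isQcoh f g hA.1 hB.1 hC.1, fun p => ?_⟩
  have := (hA.2 p).2
  have := (hB.2 p).1
  have := (hB.2 p).2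
  have := (hC.2 p).1
  have := (hC.2 p).2
  exact ⟨PO.finite (R := X.ring p) (f.app p).toRingHom (g.app p).toRingHom
      (fun r => (g.app p).commutes r),
    PO.etale (R := X.ring p) (f.app p).toRingHom (g.app p).toRingHom
      (fun r => (g.app p).commutes r)⟩

/-- left inclusion into the pushout -/
noncomputable def poInl : B ⟶ poAlg f g :=
  ⟨fun p => { PO.inl (f.app p).toRingHom (g.app p).toRingHom with commutes' := fun _ => rfl },
    fun h b => poAlg_res_inl f g h b⟩

/-- right inclusion into the pushout -/
noncomputable def poInr : C ⟶ poAlg f g :=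
  ⟨fun p => { PO.inr (f.app p).toRingHom (g.app p).toRingHom with
      commutes' := fun r => by
        show PO.inr _ _ (algebraMap (X.ring p) (C.carrier p) r) =
          PO.inl _ _ (algebraMap (X.ring p) (B.carrier p) r)
        rw [← (g.app p).commutes r, ← (f.app p).commutes r]
        exact (RingHom.congr_fun (PO.comm (f.app p).toRingHom (g.app p).toRingHom)
          (algebraMap (X.ring p) (A.carrier p) r)).symm },
    fun h c => poAlg_res_inr f g h c⟩

lemma po_comm : f ≫ poInl f g = g ≫ poInr f g := by
  apply Alg.hom_ext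
  intro p
  apply AlgHom.ext
  intro a
  exact RingHom.congr_fun (PO.comm (f.app p).toRingHom (g.app p).toRingHom) a

variable {f g}

lemma desc_cond {W : Alg X} (u : B ⟶ W) (v : C ⟶ W) (huv : f ≫ u = g ≫ v) (p : X.pt) :
    (u.app p).toRingHom.comp (f.app p).toRingHom =
      (v.app p).toRingHom.comp (g.app p).toRingHom :=
  RingHom.ext fun a => congrArg (fun k : A ⟶ W => k.app p a) huv

/-- the induced map out of the pushout -/
noncomputable def poDesc {W : Alg X} (u : B ⟶ W) (v : C ⟶ W) (huv : f ≫ u = g ≫ v) :
    poAlg f g ⟶ W :=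
  ⟨fun p => PO.descAlg (u.app p) (v.app p).toRingHom (desc_cond u v huv p), fun {p q} h t => by
    have : (W.res h).comp (PO.desc (u.app p).toRingHom (v.app p).toRingHom
          (desc_cond u v huv p)) =
        (PO.desc (u.app q).toRingHom (v.app q).toRingHom (desc_cond u v huv q)).comp
          ((poAlg f g).res h) := by
      apply PO.ringHom_ext
      · rw [RingHom.comp_assoc, PO.desc_inl]
        ext b
        show W.res h (u.app p b) = PO.desc _ _ (desc_cond u v huv q)
          ((poAlg f g).res h (PO.inl _ _ b))
        rw [poAlg_res_inl, PO.desc_inl_apply]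
        exact u.compat h b
      · rw [RingHom.comp_assoc, PO.desc_inr]
        ext c
        show W.res h (v.app p c) = PO.desc _ _ (desc_cond u v huv q)
          ((poAlg f g).res h (PO.inr _ _ c))
        rw [poAlg_res_inr, PO.desc_inr_apply]
        exact v.compat h c
    exact RingHom.congr_fun this t⟩

lemma poInl_desc {W : Alg X} (u : B ⟶ W) (v : C ⟶ W) (huv : f ≫ u = g ≫ v) :
    poInl f g ≫ poDesc u v huv = u := by
  apply Alg.hom_ext
  intro p
  apply AlgHom.ext
  intro b
  exact PO.desc_inl_apply _ _ (desc_cond u v huv p) b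

lemma poInr_desc {W : Alg X} (u : B ⟶ W) (v : C ⟶ W) (huv : f ≫ u = g ≫ v) :
    poInr f g ≫ poDesc u v huv = v := by
  apply Alg.hom_ext
  intro p
  apply AlgHom.ext
  intro c
  exact PO.desc_inr_apply _ _ (desc_cond u v huv p) c

lemma po_hom_ext {W : Alg X} (m m' : poAlg f g ⟶ W) (h1 : poInl f g ≫ m = poInl f g ≫ m')
    (h2 : poInr f g ≫ m = poInr f g ≫ m') : m = m' := by
  apply Alg.hom_ext
  intro p
  have : (m.app p).toRingHom = (m'.app p).toRingHom := by
    apply PO.ringHom_ext
    · ext b
      exact congrArg (fun k : B ⟶ W => k.app p b) h1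
    · ext c
      exact congrArg (fun k : C ⟶ W => k.app p c) h2
  apply AlgHom.ext
  intro t
  exact RingHom.congr_fun this t

end pushout

section FEtLevel

variable {A B C : FEt X} (f : A ⟶ B) (g : A ⟶ C)

/-- the pushout in the category of étale covers -/
noncomputable def poFEt : FEt X :=
  ⟨poAlg f.hom g.hom, poAlg_isEtCover f.hom g.hom A.property B.property C.property⟩

/-- the pushout cocone -/
noncomputable def poCocone : PushoutCocone f g :=
  PushoutCocone.mk (W := poFEt f g) (ObjectProperty.homMk (poInl f.hom g.hom))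
    (ObjectProperty.homMk (poInr f.hom g.hom)) (by
      apply ObjectProperty.hom_ext
      exact po_comm f.hom g.hom)

lemma descCond (s : PushoutCocone f g) : f.hom ≫ s.inl.hom = g.hom ≫ s.inr.hom :=
  congrArg InducedCategory.Hom.hom s.condition

/-- the pushout cocone is a colimit -/
noncomputable def poIsColimit : IsColimit (poCocone f g) :=
  PushoutCocone.IsColimit.mk _
    (fun s => ObjectProperty.homMk (poDesc s.inl.hom s.inr.hom (descCond f g s)))
    (fun s => by
      apply ObjectProperty.hom_ext
      exact poInl_desc s.inl.hom s.inr.hom (descCond f g s))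
    (fun s => by
      apply ObjectProperty.hom_ext
      exact poInr_desc s.inl.hom s.inr.hom (descCond f g s))
    (fun s m h1 h2 => by
      apply ObjectProperty.hom_ext
      have e1 : poInl f.hom g.hom ≫ (m.hom : poAlg f.hom g.hom ⟶ s.pt.obj) = s.inl.hom :=
        congrArg InducedCategory.Hom.hom h1
      have e2 : poInr f.hom g.hom ≫ (m.hom : poAlg f.hom g.hom ⟶ s.pt.obj) = s.inr.hom :=
        congrArg InducedCategory.Hom.hom h2
      exact po_hom_ext (m.hom : poAlg f.hom g.hom ⟶ s.pt.obj)
        (poDesc s.inl.hom s.inr.hom (descCond f g s))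
        (by rw [e1, poInl_desc]) (by rw [e2, poInr_desc]))

end FEtLevel

theorem hasPushouts (X : RSpace.{u}) : HasPushouts (FEt X) := by
  have : ∀ {A B C : FEt X} {f : A ⟶ B} {g : A ⟶ C}, HasColimit (span f g) :=
    fun {A B C f g} => HasColimit.mk ⟨poCocone f g, poIsColimit f g⟩
  exact hasPushouts_of_hasColimit_span (FEt X)

/-! ### The initial object -/

lemma str_isEtCover (X : RSpace.{u}) : (Alg.str X).IsEtCover := by
  refine ⟨?_, fun p => ⟨?_, ?_⟩⟩
  · intro p q h
    let _ : Algebra (X.ring p) (X.ring q) := (X.res h).toAlgebra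
    exact IsBaseChange.linearMap (X.ring p) (X.ring q)
  · show Module.Finite (X.ring p) (X.ring p)
    infer_instance
  · show Algebra.Etale (X.ring p) (X.ring p)
    infer_instance

/-- the rings themselves as an étale cover -/
def strFEt (X : RSpace.{u}) : FEt X := ⟨Alg.str X, str_isEtCover X⟩

/-- the unique map from the rings themselves -/
def strHom (A : Alg X) : Alg.str X ⟶ A :=
  ⟨fun p => Algebra.ofId (X.ring p) (A.carrier p), fun h b => A.res_algebraMap h b⟩

/-- the rings themselves are initial -/
def strIsInitial (X : RSpace.{u}) : IsInitial (strFEt X) :=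
  IsInitial.ofUniqueHom (fun A => ObjectProperty.homMk (strHom A.obj)) (fun A m => by
    apply ObjectProperty.hom_ext
    apply Alg.hom_ext
    intro p
    apply AlgHom.ext
    intro b
    exact (m.hom.app p).commutes b)

theorem hasInitial (X : RSpace.{u}) : HasInitial (FEt X) := (strIsInitial X).hasInitial

end Groth.Agent.Lib.Helper25.FEtPO
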