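import Mathlib
import Groth.Prelude.Def_SchFin
import Groth.Prelude.Def_SchFin2
import Groth.Agent.Lib.Helper25.SchFinBC

/-!
# Finite products of étale covers over a finite ringed poset
-/

set_option autoImplicit false
universe u

namespace Groth.Agent.Lib.Helper25.FEtProd

open SchFin TensorProduct CategoryTheory CategoryTheory.Limits

variable {X : RSpace.{u}}

/-- Pointwise product of a family of algebras. -/
def piAlg {ι : Type} (A : ι → Alg X) : Alg X where
  carrier p := ∀ i, (A i).carrier p
  res h := Pi.ringHom (fun i => ((A i).res h).comp (Pi.evalRingHom _ i))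
  res_algebraMap h a := funext fun i => (A i).res_algebraMap h a
  res_self p b := funext fun i => (A i).res_self p (b i)
  res_comp h h' b := funext fun i => (A i).res_comp h h' (b i)

lemma piAlg_isQcoh {ι : Type} [Finite ι] (A : ι → Alg X) (hA : ∀ i, (A i).IsQcoh) :
    (piAlg A).IsQcoh := by
  intro p q h
  letI : Algebra (X.ring p) (X.ring q) := (X.res h).toAlgebra
  letI : ∀ i, Module (X.ring p) ((A i).carrier q) := fun i => Module.compHom _ (X.res h)
  haveI : ∀ i, IsScalarTower (X.ring p) (X.ring q) ((A i).carrier q) :=
    fun i => IsScalarTower.of_algebraMap_smul fun _ _ => rfl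
  have key := IsBaseChange.pi (R := X.ring p) (S := X.ring q) (M := fun i => (A i).carrier p)
    (M' := fun i => (A i).carrier q)
    (fun i => ({ toFun := (A i).toMod.res h, map_add' := ((A i).toMod.res h).map_add,
                 map_smul' := ((A i).toMod.res h).map_smulₛₗ } :
                 (A i).carrier p →ₗ[X.ring p] (A i).carrier q)) (fun i => hA i p q h)
  exact key

lemma piAlg_isEtCover {ι : Type} [Finite ι] (A : ι → Alg X) (hA : ∀ i, (A i).IsEtCover) :
    (piAlg A).IsEtCover := by
  refine ⟨piAlg_isQcoh A (fun i => (hA i).1), fun p => ?_⟩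
  haveI : ∀ i, Module.Finite (X.ring p) ((A i).carrier p) := fun i => ((hA i).2 p).1
  haveI : ∀ i, Algebra.Etale (X.ring p) ((A i).carrier p) := fun i => ((hA i).2 p).2
  constructor
  · show Module.Finite (X.ring p) (∀ i, (A i).carrier p)
    infer_instance
  · show Algebra.Etale (X.ring p) (∀ i, (A i).carrier p)
    infer_instance

/-- projection from the product -/
def piProj {ι : Type} (A : ι → Alg X) (i : ι) : piAlg A ⟶ A i :=
  ⟨fun p => Pi.evalAlgHom (X.ring p) (fun j => (A j).carrier p) i, fun _ _ => rfl⟩

/-- the map into the product -/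
def piLift {ι : Type} (A : ι → Alg X) {W : Alg X} (f : ∀ i, W ⟶ A i) : W ⟶ piAlg A :=
  ⟨fun p => AlgHom.pi (fun i => (f i).app p), fun h b => funext fun i => (f i).compat h b⟩

/-- product in the category of étale covers -/
def piFEt {ι : Type} [Finite ι] (A : ι → FEt X) : FEt X :=
  ⟨piAlg (fun i => (A i).obj), piAlg_isEtCover _ (fun i => (A i).property)⟩

/-- the product fan -/
def piFan {ι : Type} [Finite ι] (A : ι → FEt X) : Fan A :=
  Fan.mk (piFEt A) (fun i => ObjectProperty.homMk (piProj (fun i => (A i).obj) i))

/-- the product fan is a limit -/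
def piIsLimit {ι : Type} [Finite ι] (A : ι → FEt X) : IsLimit (piFan A) :=
  Fan.IsLimit.mk (piFan A)
    (fun s => ObjectProperty.homMk (piLift (fun i => (A i).obj) (fun i => (s.proj i).hom)))
    (fun s j => by
      apply ObjectProperty.hom_ext
      apply Alg.hom_ext
      intro p
      rfl)
    (fun s m hm => by
      apply ObjectProperty.hom_ext
      apply Alg.hom_ext
      intro p
      apply AlgHom.ext
      intro b
      funext i
      have := congrArg (fun k => k.hom.app p b) (hm i)
      exact this)

theorem hasLimitsOfShape_discrete (X : RSpace.{u}) (ι : Type) [Finite ι] :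
    HasLimitsOfShape (Discrete ι) (FEt X) := by
  constructor
  intro K
  haveI : HasLimit (Discrete.functor (K.obj ∘ Discrete.mk)) :=
    HasLimit.mk ⟨_, piIsLimit (K.obj ∘ Discrete.mk)⟩
  exact hasLimit_of_iso (Discrete.natIsoFunctor (F := K)).symm

end Groth.Agent.Lib.Helper25.FEtProd
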