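import Mathlib

/-!
# Ring-level facts on finite étale algebras: kernels generated by idempotents, retractions
-/

set_option autoImplicit false
universe u

namespace Groth.Agent.Lib.Helper25.FEtRing

open TensorProduct

section traceIdeal

variable (A P : Type u) [CommRing A] [AddCommGroup P] [Module A P] [Module.Finite A P]
  [Module.Projective A P]

theorem exists_dualBasis : ∃ (n : ℕ) (x : Fin n → P) (ψ : Fin n → (P →ₗ[A] A)),
    ∀ y : P, y = ∑ i, ψ i y • x i := by
  obtain ⟨n, f, g, -, -, hfg⟩ := Module.Finite.exists_comp_eq_id_of_projective A P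
  refine ⟨n, fun i => f (fun j => if i = j then 1 else 0),
    fun i => (LinearMap.proj i).comp g, fun y => ?_⟩
  calc y = f (g y) := (LinearMap.congr_fun hfg y).symm
    _ = ∑ i, g y i • f (fun j => if i = j then 1 else 0) :=
      LinearMap.pi_apply_eq_sum_univ f (g y)

theorem exists_idem_annihilator :
    ∃ (e' : A) (n : ℕ) (x : Fin n → P) (ψ : Fin n → (P →ₗ[A] A)),
      IsIdempotentElem e' ∧
      Ideal.span (Set.range fun ij : Fin n × Fin n => ψ ij.1 (x ij.2)) = Ideal.span {e'} ∧
      (∀ a : A, (∀ y : P, a • y = 0) ↔ a * e' = 0) := by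
  obtain ⟨n, x, ψ, hdb⟩ := exists_dualBasis A P
  let τ : Ideal A := Ideal.span (Set.range fun ij : Fin n × Fin n => ψ ij.1 (x ij.2))
  have hexp : ∀ i (y : P), ψ i y = ∑ k, ψ k y * ψ i (x k) := by
    intro i y
    conv_lhs => rw [hdb y]
    rw [map_sum]
    refine Finset.sum_congr rfl fun k _ => ?_
    rw [map_smul, smul_eq_mul]
  have hgen : ∀ i k, ψ i (x k) ∈ τ := fun i k => Ideal.subset_span ⟨(i, k), rfl⟩
  have hmem : ∀ i (y : P), ψ i y ∈ τ := by
    intro i y
    rw [hexp i y]
    exact Ideal.sum_mem _ fun k _ => Ideal.mul_mem_left _ _ (hgen i k)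
  have hidem : IsIdempotentElem τ := by
    apply le_antisymm
    · exact Ideal.mul_le_left
    · show τ ≤ τ * τ
      refine Ideal.span_le.mpr ?_
      rintro _ ⟨⟨i, j⟩, rfl⟩
      show ψ i (x j) ∈ τ * τ
      rw [hexp i (x j)]
      exact Ideal.sum_mem _ fun k _ => Ideal.mul_mem_mul (hmem k (x j)) (hgen i k)
  have hfg : τ.FG := Submodule.fg_span (Set.finite_range _)
  obtain ⟨e', he', hτe⟩ := (Ideal.isIdempotentElem_iff_of_fg τ hfg).mp hidem
  have he'mem : e' ∈ τ := by rw [hτe]; exact Ideal.mem_span_singleton_self e'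
  refine ⟨e', n, x, ψ, he', hτe, fun a => ⟨fun ha => ?_, fun ha y => ?_⟩⟩
  · have h0 : ∀ t ∈ τ, a * t = 0 := by
      intro t ht
      refine Submodule.span_induction ?_ ?_ ?_ ?_ ht
      · rintro _ ⟨⟨i, j⟩, rfl⟩
        show a * ψ i (x j) = 0
        rw [← smul_eq_mul, ← map_smul, ha, map_zero]
      · exact mul_zero a
      · intro u v _ _ hu hv
        rw [mul_add, hu, hv, add_zero]
      · intro c u _ hu
        rw [smul_eq_mul, mul_left_comm, hu, mul_zero]
    exact h0 e' he'mem
  · rw [hdb y, Finset.smul_sum]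
    refine Finset.sum_eq_zero fun i _ => ?_
    have hi := hmem i y
    rw [hτe] at hi
    obtain ⟨t, ht⟩ := Ideal.mem_span_singleton'.mp hi
    rw [smul_smul, ← ht, mul_comm t e', ← mul_assoc, ha, zero_mul, zero_smul]

end traceIdeal

section algebra

variable (A B : Type u) [CommRing A] [CommRing B] [Algebra A B] [Module.Finite A B]
  [Module.Projective A B]

theorem ker_algebraMap_idem :
    ∃ e : A, IsIdempotentElem e ∧ ∀ a : A, algebraMap A B a = 0 ↔ e * a = a := by
  obtain ⟨e', n, x, ψ, he', -, hann⟩ := exists_idem_annihilator A B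
  refine ⟨1 - e', he'.one_sub, fun a => ⟨fun ha => ?_, fun ha => ?_⟩⟩
  · have : a * e' = 0 := (hann a).mp (fun y => by rw [Algebra.smul_def, ha, zero_mul])
    rw [sub_mul, one_mul, mul_comm e' a, this, sub_zero]
  · have h0 : a * e' = 0 := by
      rw [← ha, mul_assoc, sub_mul, one_mul, mul_comm a e', ← mul_assoc, he'.eq, sub_self]
    have h1 := (hann a).mpr h0 1
    rwa [Algebra.smul_def, mul_one] at h1

theorem exists_retraction_of_injective (hinj : Function.Injective (algebraMap A B)) :
    ∃ ρ : B →ₗ[A] A, ρ 1 = 1 := by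
  obtain ⟨e', n, x, ψ, he', hτ, hann⟩ := exists_idem_annihilator A B
  have h1 : (1 - e') = 0 := by
    apply hinj
    rw [map_zero]
    have h0 : (1 - e') * e' = 0 := by rw [sub_mul, one_mul, he'.eq, sub_self]
    have h := (hann _).mpr h0 1
    rwa [Algebra.smul_def, mul_one] at h
  have he1 : e' = 1 := (sub_eq_zero.mp h1).symm
  have hmem : (1 : A) ∈ Ideal.span (Set.range fun ij : Fin n × Fin n => ψ ij.1 (x ij.2)) := by
    rw [hτ, he1]
    exact Ideal.mem_span_singleton_self 1
  obtain ⟨c, hc⟩ := Ideal.mem_span_range_iff_exists_fun.mp hmem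
  refine ⟨∑ ij : Fin n × Fin n, c ij • (ψ ij.1).comp (LinearMap.mulLeft A (x ij.2)), ?_⟩
  simp only [LinearMap.sum_apply, LinearMap.smul_apply, LinearMap.comp_apply,
    LinearMap.mulLeft_apply, mul_one, smul_eq_mul]
  exact hc

end algebra

section etale

variable {R A B : Type u} [CommRing R] [CommRing A] [CommRing B] [Algebra R A] [Algebra R B]
  [Module.Finite R B] [Algebra.Etale R A] [Algebra.Etale R B] (φ : A →ₐ[R] B)

lemma finite_projective_of_etale :
    letI := φ.toRingHom.toAlgebra
    Module.Finite A B ∧ Module.Projective A B := by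
  letI := φ.toRingHom.toAlgebra
  haveI : IsScalarTower R A B := IsScalarTower.of_algebraMap_eq (fun r => (φ.commutes r).symm)
  haveI : Module.Finite A B := Module.Finite.of_restrictScalars_finite R A B
  haveI : Algebra.Etale A B := Algebra.Etale.of_restrictScalars R A B
  haveI : Module.FinitePresentation A B :=
    Module.FinitePresentation.of_finite_of_finitePresentation A B
  haveI : Module.Flat A B := inferInstance
  exact ⟨inferInstance, Module.Flat.projective_of_finitePresentation⟩

/-- `e` is the idempotent generating the kernel of `φ` -/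
def IsKerIdem {A B : Type u} [CommRing A] [CommRing B] (φ : A →+* B) (e : A) : Prop :=
  IsIdempotentElem e ∧ ∀ a : A, φ a = 0 ↔ e * a = a

lemma IsKerIdem.unique {A B : Type u} [CommRing A] [CommRing B] {φ : A →+* B} {e e₂ : A}
    (h1 : IsKerIdem φ e) (h2 : IsKerIdem φ e₂) : e = e₂ := by
  have a1 : φ e = 0 := (h1.2 e).mpr h1.1.eq
  have a2 : φ e₂ = 0 := (h2.2 e₂).mpr h2.1.eq
  have b1 : e₂ * e = e := (h2.2 e).mp a1
  have b2 : e * e₂ = e₂ := (h1.2 e₂).mp a2
  rw [← b1, mul_comm, b2]

lemma IsKerIdem.map_self {A B : Type u} [CommRing A] [CommRing B] {φ : A →+* B} {e : A}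
    (h : IsKerIdem φ e) : φ e = 0 := (h.2 e).mpr h.1.eq

theorem exists_isKerIdem : ∃ e : A, IsKerIdem φ.toRingHom e := by
  letI := φ.toRingHom.toAlgebra
  obtain ⟨h1, h2⟩ := finite_projective_of_etale φ
  exact ker_algebraMap_idem A B

theorem exists_retraction (hφ : Function.Injective φ) : ∃ ρ : B →ₗ[R] A, ∀ a, ρ (φ a) = a := by
  letI := φ.toRingHom.toAlgebra
  haveI : IsScalarTower R A B := IsScalarTower.of_algebraMap_eq (fun r => (φ.commutes r).symm)
  obtain ⟨h1, h2⟩ := finite_projective_of_etale φ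
  obtain ⟨ρ, hρ⟩ := exists_retraction_of_injective A B hφ
  refine ⟨ρ.restrictScalars R, fun a => ?_⟩
  show ρ (φ a) = a
  have : φ a = a • (1 : B) := by
    rw [Algebra.smul_def, mul_one]
    rfl
  rw [this, map_smul, hρ, smul_eq_mul, mul_one]

theorem surjective_of_injective_of_rank [Module.Finite R A] (hφ : Function.Injective φ)
    (hrank : ∀ P : PrimeSpectrum R, Module.rankAtStalk A P = Module.rankAtStalk B P) :
    Function.Surjective φ := by
  obtain ⟨ρ, hρ⟩ := exists_retraction φ hφ
  let K := LinearMap.ker ρ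
  let π : B →ₗ[R] K := LinearMap.codRestrict K (LinearMap.id - φ.toLinearMap.comp ρ) (fun b => by
    show ρ (b - φ (ρ b)) = 0
    rw [map_sub, hρ, sub_self])
  have hπ : ∀ b, (π b : B) = b - φ (ρ b) := fun b => rfl
  let toF : B →ₗ[R] A × K := LinearMap.prod ρ π
  let invF : A × K →ₗ[R] B := LinearMap.coprod φ.toLinearMap K.subtype
  let e : B ≃ₗ[R] A × K := LinearEquiv.ofLinear toF invF
    (by
      apply LinearMap.ext
      rintro ⟨a, k⟩
      have hk : ρ (k : B) = 0 := k.2
      apply Prod.ext
      · show ρ (φ a + k) = a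
        rw [map_add, hρ, hk, add_zero]
      · apply Subtype.ext
        show (φ a + k) - φ (ρ (φ a + k)) = k
        rw [map_add, hρ, hk, add_zero, add_sub_cancel_left])
    (by
      apply LinearMap.ext
      intro b
      show φ (ρ b) + (b - φ (ρ b)) = b
      rw [add_sub_cancel])
  haveI : Module.Flat R K := Module.Flat.of_retract K.subtype π (by
    apply LinearMap.ext
    intro k
    apply Subtype.ext
    have hk : ρ (k : B) = 0 := k.2
    show (k : B) - φ (ρ k) = k
    rw [hk, map_zero, sub_zero])
  haveI : Module.Finite R K := Module.Finite.of_surjective π (fun k => ⟨k, by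
    apply Subtype.ext
    have hk : ρ (k : B) = 0 := k.2
    show (k : B) - φ (ρ k) = k
    rw [hk, map_zero, sub_zero]⟩)
  have hsum : Module.rankAtStalk (R := R) B = Module.rankAtStalk A + Module.rankAtStalk K := by
    rw [Module.rankAtStalk_eq_of_equiv e, Module.rankAtStalk_prod]
  have hK : Module.rankAtStalk (R := R) K = 0 := by
    funext P
    have := congrFun hsum P
    rw [Pi.add_apply, ← hrank P] at this
    show Module.rankAtStalk K P = 0
    omega
  haveI : Subsingleton K := Module.rankAtStalk_eq_zero_iff_subsingleton.mp hK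
  intro b
  refine ⟨ρ b, ?_⟩
  have : π b = 0 := Subsingleton.elim _ _
  have h2 : (π b : B) = 0 := by rw [this]; rfl
  rw [hπ b, sub_eq_zero] at h2
  exact h2.symm

end etale

section baseChange

variable {R S A A' B B' : Type u} [CommRing R] [CommRing S] [Algebra R S] [Module.Flat R S]
  [CommRing A] [CommRing A'] [CommRing B] [CommRing B'] [Algebra R A] [Algebra R B]
  [Algebra S A'] [Algebra S B'] [Algebra R A'] [Algebra R B'] [IsScalarTower R S A']
  [IsScalarTower R S B']

theorem kerIdem_baseChange (φ : A →ₐ[R] B) (φ' : A' →ₐ[S] B') (α : A →ₐ[R] A') (β : B →ₐ[R] B')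
    (hα : IsBaseChange S α.toLinearMap) (hβ : IsBaseChange S β.toLinearMap)
    (hcomm : ∀ a, φ' (α a) = β (φ a)) (e : A) (he : ∀ a, φ a = 0 ↔ e * a = a)
    (a' : A') (ha' : φ' a' = 0) : α e * a' = a' := by
  let K := LinearMap.ker φ.toLinearMap
  let K' := LinearMap.ker φ'.toLinearMap
  let h₁ : K →ₗ[R] K' :=
    { toFun := fun k => ⟨α k.1, by
        show φ' (α k.1) = 0
        rw [hcomm]
        have : φ k.1 = 0 := k.2
        rw [this, map_zero]⟩
      map_add' := fun k k' => by
        apply Subtype.ext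
        exact map_add α k.1 k'.1
      map_smul' := fun r k => by
        apply Subtype.ext
        exact map_smul α r k.1 }
  have hb : IsBaseChange S h₁ := by
    refine IsBaseChange.of_left_exact S h₁ α.toLinearMap β.toLinearMap
      (f := K.subtype) (g := φ.toLinearMap) (f' := K'.subtype) (g' := φ'.toLinearMap)
      ?_ ?_ hα hβ ?_ ?_ ?_ ?_
    · apply LinearMap.ext
      intro k
      rfl
    · apply LinearMap.ext
      intro a
      exact (hcomm a).symm
    · exact LinearMap.exact_subtype_ker_map φ.toLinearMap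
    · exact Subtype.val_injective
    · exact LinearMap.exact_subtype_ker_map φ'.toLinearMap
    · exact Subtype.val_injective
  have key : ∀ k' : K', α e * k'.1 = k'.1 := by
    intro k'
    refine hb.inductionOn k' (fun n => α e * n.1 = n.1) ?_ ?_ ?_ ?_
    · show α e * (0 : A') = 0
      rw [mul_zero]
    · intro k
      show α e * α k.1 = α k.1
      rw [← map_mul, (he k.1).mp k.2]
    · intro s n hn
      show α e * (s • n.1) = s • n.1
      rw [mul_smul_comm, hn]
    · intro n₁ n₂ h1 h2
      show α e * (n₁.1 + n₂.1) = n₁.1 + n₂.1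
      rw [mul_add, h1, h2]
  exact key ⟨a', ha'⟩

end baseChange

end Groth.Agent.Lib.Helper25.FEtRing
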