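import Mathlib
import Groth.Prelude.Def_SchFin
import Groth.Prelude.Def_SchFin2
import Groth.Agent.Lib.Helper25.FEtRing
import Groth.Agent.Lib.Helper25.FEtProd
import Groth.Agent.Lib.Helper25.FEtPO2

/-!
# Idempotent sections of étale covers: localisations, kernels, product decompositions
-/

set_option autoImplicit false
universe u

namespace Groth.Agent.Lib.Helper25.FEtIdem

open SchFin TensorProduct CategoryTheory CategoryTheory.Limits Groth.Agent.Lib.Helper25.FEtRing

variable {X : RSpace.{u}}

/-- a compatible family of idempotents -/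
structure IdemSec (A : Alg X) where
  e : ∀ p, A.carrier p
  idem : ∀ p, IsIdempotentElem (e p)
  compat : ∀ {p q : X.pt} (h : p ≤ q), A.res h (e p) = e q

namespace IdemSec

variable {A : Alg X} (s : IdemSec A)

/-- the complementary family -/
def compl : IdemSec A where
  e p := 1 - s.e p
  idem p := (s.idem p).one_sub
  compat h := by rw [map_sub, map_one, s.compat h]

/-- the ideal generated by the complement -/
abbrev ideal (p : X.pt) : Ideal (A.carrier p) := Ideal.span {1 - s.e p}

lemma ideal_le {p q : X.pt} (h : p ≤ q) : s.ideal p ≤ (s.ideal q).comap (A.res h) := by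
  refine Ideal.span_le.mpr ?_
  intro x hx
  rw [Set.mem_singleton_iff] at hx
  subst hx
  show A.res h (1 - s.e p) ∈ s.ideal q
  rw [map_sub, map_one, s.compat h]
  exact Ideal.subset_span rfl

lemma mem_ideal_iff (p : X.pt) (a : A.carrier p) : a ∈ s.ideal p ↔ s.e p * a = 0 := by
  constructor
  · intro h
    obtain ⟨t, rfl⟩ := Ideal.mem_span_singleton'.mp h
    rw [mul_comm t, ← mul_assoc, mul_sub, mul_one, (s.idem p).eq, sub_self, zero_mul]
  · intro h
    have : a = a * (1 - s.e p) := by rw [mul_sub, mul_one, mul_comm a, h, sub_zero]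
    rw [this]
    exact Ideal.mem_span_singleton'.mpr ⟨a, rfl⟩

/-- the localisation of `A` at the idempotent family: `A / (1 - e)` -/
def locAlg : Alg X where
  carrier p := A.carrier p ⧸ s.ideal p
  res {p q} h := Ideal.quotientMap (s.ideal q) (A.res h) (s.ideal_le h)
  res_algebraMap {p q} h a := by
    show Ideal.quotientMap (s.ideal q) (A.res h) (s.ideal_le h)
      (Ideal.Quotient.mk (s.ideal p) (algebraMap (X.ring p) (A.carrier p) a)) =
      Ideal.Quotient.mk (s.ideal q) (algebraMap (X.ring q) (A.carrier q) (X.res h a))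
    rw [Ideal.quotientMap_mk, A.res_algebraMap]
  res_self p b := by
    obtain ⟨a, rfl⟩ := Ideal.Quotient.mk_surjective b
    rw [Ideal.quotientMap_mk, A.res_self]
  res_comp {p q r} h h' b := by
    obtain ⟨a, rfl⟩ := Ideal.Quotient.mk_surjective b
    rw [Ideal.quotientMap_mk, Ideal.quotientMap_mk, Ideal.quotientMap_mk, A.res_comp]

/-- the projection to the localisation -/
def locProj : A ⟶ s.locAlg :=
  ⟨fun p => Ideal.Quotient.mkₐ (X.ring p) (s.ideal p), fun _ _ => rfl⟩

lemma locProj_apply (p : X.pt) (a : A.carrier p) :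
    s.locProj.app p a = Ideal.Quotient.mk (s.ideal p) a := rfl

lemma locAlg_isQcoh (hA : A.IsQcoh) : s.locAlg.IsQcoh := by
  intro p q h
  letI : Algebra (X.ring p) (X.ring q) := (X.res h).toAlgebra
  letI : Module (X.ring p) (A.carrier q) := Module.compHom _ (X.res h)
  haveI : IsScalarTower (X.ring p) (X.ring q) (A.carrier q) :=
    IsScalarTower.of_algebraMap_smul fun _ _ => rfl
  letI : Module (X.ring p) (A.carrier q ⧸ s.ideal q) := Module.compHom _ (X.res h)
  haveI : IsScalarTower (X.ring p) (X.ring q) (A.carrier q ⧸ s.ideal q) :=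
    IsScalarTower.of_algebraMap_smul fun _ _ => rfl
  let h₂ : A.carrier p →ₗ[X.ring p] A.carrier q :=
    { toFun := A.toMod.res h
      map_add' := (A.toMod.res h).map_add
      map_smul' := (A.toMod.res h).map_smulₛₗ }
  let h₃ : (A.carrier p ⧸ s.ideal p) →ₗ[X.ring p] (A.carrier q ⧸ s.ideal q) :=
    { toFun := s.locAlg.toMod.res h
      map_add' := (s.locAlg.toMod.res h).map_add
      map_smul' := (s.locAlg.toMod.res h).map_smulₛₗ }
  have isb₂ : IsBaseChange (X.ring q) h₂ := hA p q h
  show IsBaseChange (X.ring q) h₃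
  refine IsBaseChange.of_right_exact (X.ring q) h₂ h₂ h₃
    (f := LinearMap.mulLeft (X.ring p) (1 - s.e p))
    (g := (Ideal.Quotient.mkₐ (X.ring p) (s.ideal p)).toLinearMap)
    (f' := LinearMap.mulLeft (X.ring q) (1 - s.e q))
    (g' := (Ideal.Quotient.mkₐ (X.ring q) (s.ideal q)).toLinearMap)
    ?_ ?_ isb₂ isb₂ ?_ ?_ ?_ ?_
  · apply LinearMap.ext
    intro a
    show A.res h ((1 - s.e p) * a) = (1 - s.e q) * A.res h a
    rw [map_mul, map_sub, map_one, s.compat h]
  · apply LinearMap.ext
    intro a
    rfl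
  · intro y
    constructor
    · intro hy
      have hy' : y ∈ s.ideal p := Ideal.Quotient.eq_zero_iff_mem.mp hy
      obtain ⟨t, ht⟩ := Ideal.mem_span_singleton'.mp hy'
      exact ⟨t, by
        show (1 - s.e p) * t = y
        rw [mul_comm]
        exact ht⟩
    · rintro ⟨t, rfl⟩
      exact Ideal.Quotient.eq_zero_iff_mem.mpr
        (Ideal.mem_span_singleton'.mpr ⟨t, mul_comm _ _⟩)
  · exact Ideal.Quotient.mk_surjective
  · intro y
    constructor
    · intro hy
      have hy' : y ∈ s.ideal q := Ideal.Quotient.eq_zero_iff_mem.mp hy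
      obtain ⟨t, ht⟩ := Ideal.mem_span_singleton'.mp hy'
      exact ⟨t, by
        show (1 - s.e q) * t = y
        rw [mul_comm]
        exact ht⟩
    · rintro ⟨t, rfl⟩
      exact Ideal.Quotient.eq_zero_iff_mem.mpr
        (Ideal.mem_span_singleton'.mpr ⟨t, mul_comm _ _⟩)
  · exact Ideal.Quotient.mk_surjective

lemma locAlg_isEtCover (hA : A.IsEtCover) : s.locAlg.IsEtCover := by
  refine ⟨s.locAlg_isQcoh hA.1, fun p => ?_⟩
  have := (hA.2 p).1
  have := (hA.2 p).2
  refine ⟨?_, ?_⟩
  · show Module.Finite (X.ring p) (A.carrier p ⧸ s.ideal p)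
    exact Module.Finite.of_surjective (Ideal.Quotient.mkₐ (X.ring p) (s.ideal p)).toLinearMap
      (Ideal.Quotient.mkₐ_surjective (X.ring p) (s.ideal p))
  · show Algebra.Etale (X.ring p) (A.carrier p ⧸ s.ideal p)
    haveI : IsLocalization.Away (s.e p) (A.carrier p ⧸ s.ideal p) :=
      IsLocalization.Away.quotient_of_isIdempotentElem (s.idem p)
    haveI : Algebra.Etale (A.carrier p) (A.carrier p ⧸ s.ideal p) :=
      Algebra.Etale.of_isLocalizationAway (s.e p)
    exact Algebra.Etale.comp (X.ring p) (A.carrier p) (A.carrier p ⧸ s.ideal p)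

end IdemSec

/-! ### Kernels -/

lemma isKerIdem_res {A B : Alg X} (f : A ⟶ B) (hA : A.IsQcoh) (hB : B.IsQcoh) {p q : X.pt}
    (h : p ≤ q) (hflat : (X.res h).Flat) {e : A.carrier p}
    (he : IsKerIdem (f.app p).toRingHom e) : IsKerIdem (f.app q).toRingHom (A.res h e) := by
  have hfe : f.app q (A.res h e) = 0 := by
    rw [← f.compat h e]
    have : f.app p e = 0 := he.map_self
    rw [this, map_zero]
  refine ⟨?_, fun a' => ⟨fun ha' => ?_, fun ha' => ?_⟩⟩
  · show A.res h e * A.res h e = A.res h e
    rw [← map_mul, he.1.eq]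
  · letI : Algebra (X.ring p) (X.ring q) := (X.res h).toAlgebra
    haveI : Module.Flat (X.ring p) (X.ring q) := hflat
    letI : Algebra (X.ring p) (A.carrier q) := Algebra.compHom _ (X.res h)
    letI : Algebra (X.ring p) (B.carrier q) := Algebra.compHom _ (X.res h)
    haveI : IsScalarTower (X.ring p) (X.ring q) (A.carrier q) :=
      IsScalarTower.of_algebraMap_smul fun _ _ => rfl
    haveI : IsScalarTower (X.ring p) (X.ring q) (B.carrier q) :=
      IsScalarTower.of_algebraMap_smul fun _ _ => rfl
    let α : A.carrier p →ₐ[X.ring p] A.carrier q :=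
      { A.res h with commutes' := fun r => A.res_algebraMap h r }
    let β : B.carrier p →ₐ[X.ring p] B.carrier q :=
      { B.res h with commutes' := fun r => B.res_algebraMap h r }
    have hα : IsBaseChange (X.ring q) α.toLinearMap := hA p q h
    have hβ : IsBaseChange (X.ring q) β.toLinearMap := hB p q h
    exact kerIdem_baseChange (f.app p) (f.app q) α β hα hβ (fun a => (f.compat h a).symm) e
      he.2 a' ha'
  · show f.app q a' = 0
    rw [← ha', map_mul, hfe, zero_mul]

lemma exists_kerIdem {A B : Alg X} (f : A ⟶ B) (hA : A.IsEtCover) (hB : B.IsEtCover)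
    (p : X.pt) : ∃ e : A.carrier p, IsKerIdem (f.app p).toRingHom e := by
  have := (hA.2 p).2
  have := (hB.2 p).1
  have := (hB.2 p).2
  exact exists_isKerIdem (f.app p)

/-- the family of idempotents generating the kernels -/
noncomputable def kerSec {A B : Alg X} (f : A ⟶ B) (hA : A.IsEtCover) (hB : B.IsEtCover)
    (hX : X.IsFinSp) : IdemSec A where
  e p := Classical.choose (exists_kerIdem f hA hB p)
  idem p := (Classical.choose_spec (exists_kerIdem f hA hB p)).1
  compat {p q} h := (isKerIdem_res f hA.1 hB.1 h (hX.2 p q h)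
    (Classical.choose_spec (exists_kerIdem f hA hB p))).unique
    (Classical.choose_spec (exists_kerIdem f hA hB q))

lemma kerSec_spec {A B : Alg X} (f : A ⟶ B) (hA : A.IsEtCover) (hB : B.IsEtCover)
    (hX : X.IsFinSp) (p : X.pt) : IsKerIdem (f.app p).toRingHom ((kerSec f hA hB hX).e p) :=
  Classical.choose_spec (exists_kerIdem f hA hB p)

end Groth.Agent.Lib.Helper25.FEtIdem
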