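import Mathlib
import Groth.Prelude.Def_SchFin
import Groth.Prelude.Def_SchFin2
import Groth.Agent.Lib.Helper25.FEtIdem

/-!
# Product decompositions, image factorisations, monomorphisms and isomorphisms of étale covers
-/

set_option autoImplicit false
universe u

namespace Groth.Agent.Lib.Helper25.FEtIdem

open SchFin TensorProduct CategoryTheory CategoryTheory.Limits Groth.Agent.Lib.Helper25.FEtRing
  Groth.Agent.Lib.Helper25.FEtProd Groth.Agent.Lib.Helper25.FEtPO

variable {X : RSpace.{u}}

/-! ### Product decomposition along a pointwise surjective map -/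

section prodDecomp

variable {A B : Alg X} (f : A ⟶ B) (s : IdemSec A)

/-- the pair map `A_p → B_p × A_p/(1-e)` -/
def pairHom (p : X.pt) : A.carrier p →ₐ[X.ring p] (B.carrier p × s.locAlg.carrier p) :=
  AlgHom.prod (f.app p) (s.locProj.app p)

lemma pairHom_apply (p : X.pt) (a : A.carrier p) :
    pairHom f s p a = (f.app p a, Ideal.Quotient.mk (s.ideal p) a) := rfl

variable (hk : ∀ p, IsKerIdem (f.app p).toRingHom (s.e p))

include hk in
lemma pairHom_injective (p : X.pt) : Function.Injective (pairHom f s p) := by
  rw [injective_iff_map_eq_zero]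
  intro a ha
  rw [pairHom_apply] at ha
  have h1 : f.app p a = 0 := congrArg Prod.fst ha
  have h2 : Ideal.Quotient.mk (s.ideal p) a = 0 := congrArg Prod.snd ha
  have h3 : s.e p * a = a := ((hk p).2 a).mp h1
  have h4 : s.e p * a = 0 := (s.mem_ideal_iff p a).mp (Ideal.Quotient.eq_zero_iff_mem.mp h2)
  rw [← h3, h4]

variable (hs : ∀ p, Function.Surjective (f.app p))

include hk hs in
lemma pairHom_bijective (p : X.pt) : Function.Bijective (pairHom f s p) := by
  refine ⟨pairHom_injective f s hk p, ?_⟩
  rintro ⟨b, d⟩
  obtain ⟨a₁, rfl⟩ := hs p b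
  obtain ⟨a₂, rfl⟩ := Ideal.Quotient.mk_surjective d
  refine ⟨(1 - s.e p) * a₁ + s.e p * a₂, ?_⟩
  rw [pairHom_apply]
  apply Prod.ext
  · show f.app p ((1 - s.e p) * a₁ + s.e p * a₂) = f.app p a₁
    have h0 : f.app p (s.e p) = 0 := (hk p).map_self
    rw [map_add, map_mul, map_mul, map_sub, map_one, h0, sub_zero, one_mul, zero_mul, add_zero]
  · show Ideal.Quotient.mk (s.ideal p) ((1 - s.e p) * a₁ + s.e p * a₂) =
      Ideal.Quotient.mk (s.ideal p) a₂
    rw [Ideal.Quotient.eq, s.mem_ideal_iff]
    have he := (s.idem p).eq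
    linear_combination (a₂ - a₁) * he

/-- the pair map as an equivalence -/
noncomputable def pairEquiv (p : X.pt) :
    A.carrier p ≃ₐ[X.ring p] (B.carrier p × s.locAlg.carrier p) :=
  AlgEquiv.ofBijective (pairHom f s p) (pairHom_bijective f s hk hs p)

lemma pairEquiv_apply (p : X.pt) (a : A.carrier p) :
    pairEquiv f s hk hs p a = (f.app p a, Ideal.Quotient.mk (s.ideal p) a) := rfl

variable {W : Alg X} (u : W ⟶ B) (v : W ⟶ s.locAlg)

/-- the pointwise lift -/
noncomputable def liftFun (p : X.pt) : W.carrier p →ₐ[X.ring p] A.carrier p :=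
  ((pairEquiv f s hk hs p).symm : _ →ₐ[X.ring p] _).comp (AlgHom.prod (u.app p) (v.app p))

lemma pair_liftFun (p : X.pt) (w : W.carrier p) :
    pairEquiv f s hk hs p (liftFun f s hk hs u v p w) = (u.app p w, v.app p w) :=
  (pairEquiv f s hk hs p).apply_symm_apply _

lemma f_liftFun (p : X.pt) (w : W.carrier p) :
    f.app p (liftFun f s hk hs u v p w) = u.app p w :=
  congrArg Prod.fst (pair_liftFun f s hk hs u v p w)

lemma mk_liftFun (p : X.pt) (w : W.carrier p) :
    Ideal.Quotient.mk (s.ideal p) (liftFun f s hk hs u v p w) = v.app p w :=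
  congrArg Prod.snd (pair_liftFun f s hk hs u v p w)

/-- the lift to `A` of a pair of maps to `B` and to the localisation -/
noncomputable def prodLift : W ⟶ A :=
  ⟨liftFun f s hk hs u v, fun {p q} h w => by
    apply pairHom_injective f s hk q
    rw [pairHom_apply, pairHom_apply]
    apply Prod.ext
    · show f.app q (A.res h (liftFun f s hk hs u v p w)) =
        f.app q (liftFun f s hk hs u v q (W.res h w))
      rw [← f.compat h, f_liftFun, f_liftFun, u.compat h]
    · show Ideal.Quotient.mk (s.ideal q) (A.res h (liftFun f s hk hs u v p w)) =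
        Ideal.Quotient.mk (s.ideal q) (liftFun f s hk hs u v q (W.res h w))
      rw [mk_liftFun]
      have := s.locProj.compat h (liftFun f s hk hs u v p w)
      rw [IdemSec.locProj_apply, IdemSec.locProj_apply, mk_liftFun] at this
      rw [← this, v.compat h]⟩

lemma prodLift_fst : prodLift f s hk hs u v ≫ f = u := by
  apply Alg.hom_ext
  intro p
  apply AlgHom.ext
  intro w
  exact f_liftFun f s hk hs u v p w

lemma prodLift_snd : prodLift f s hk hs u v ≫ s.locProj = v := by
  apply Alg.hom_ext
  intro p
  apply AlgHom.ext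
  intro w
  exact mk_liftFun f s hk hs u v p w

include hk in
lemma prod_hom_ext (m m' : W ⟶ A) (h1 : m ≫ f = m' ≫ f) (h2 : m ≫ s.locProj = m' ≫ s.locProj) :
    m = m' := by
  apply Alg.hom_ext
  intro p
  apply AlgHom.ext
  intro w
  apply pairHom_injective f s hk p
  rw [pairHom_apply, pairHom_apply]
  apply Prod.ext
  · exact congrArg (fun k : W ⟶ B => k.app p w) h1
  · exact congrArg (fun k : W ⟶ s.locAlg => k.app p w) h2

end prodDecomp

/-- A pointwise surjective morphism of étale covers is a projection of a product. -/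
theorem exists_prod_of_surjective (hX : X.IsFinSp) {A B : FEt X} (f : A ⟶ B)
    (hf : ∀ p : X.pt, Function.Surjective (f.hom.app p)) :
    ∃ (D : FEt X) (π : A ⟶ D), Nonempty (IsLimit (BinaryFan.mk f π)) := by
  let s := kerSec f.hom A.property B.property hX
  have hk := kerSec_spec f.hom A.property B.property hX
  let D : FEt X := ⟨s.locAlg, s.locAlg_isEtCover A.property⟩
  let π : A ⟶ D := ObjectProperty.homMk s.locProj
  refine ⟨D, π, ⟨BinaryFan.isLimitMk
    (fun t => ObjectProperty.homMk (prodLift f.hom s hk hf (t.fst.hom : t.pt.obj ⟶ B.obj)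
      (t.snd.hom : t.pt.obj ⟶ s.locAlg)))
    (fun t => ?_) (fun t => ?_) (fun t m h1 h2 => ?_)⟩⟩
  · apply ObjectProperty.hom_ext
    exact prodLift_fst f.hom s hk hf (t.fst.hom : t.pt.obj ⟶ B.obj)
      (t.snd.hom : t.pt.obj ⟶ s.locAlg)
  · apply ObjectProperty.hom_ext
    exact prodLift_snd f.hom s hk hf (t.fst.hom : t.pt.obj ⟶ B.obj)
      (t.snd.hom : t.pt.obj ⟶ s.locAlg)
  · apply ObjectProperty.hom_ext
    have e1 : (m.hom : t.pt.obj ⟶ A.obj) ≫ f.hom = (t.fst.hom : t.pt.obj ⟶ B.obj) :=
      congrArg InducedCategory.Hom.hom h1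
    have e2 : (m.hom : t.pt.obj ⟶ A.obj) ≫ s.locProj = (t.snd.hom : t.pt.obj ⟶ s.locAlg) :=
      congrArg InducedCategory.Hom.hom h2
    exact prod_hom_ext f.hom s hk (m.hom : t.pt.obj ⟶ A.obj)
      (prodLift f.hom s hk hf (t.fst.hom : t.pt.obj ⟶ B.obj) (t.snd.hom : t.pt.obj ⟶ s.locAlg))
      (by rw [prodLift_fst]; exact e1) (by rw [prodLift_snd]; exact e2)

/-! ### Image factorisation -/

section image

variable {A B : Alg X} (f : A ⟶ B) (s : IdemSec A)
  (hk : ∀ p, IsKerIdem (f.app p).toRingHom (s.e p))

include hk in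
lemma f_eq_zero_of_mem (p : X.pt) (a : A.carrier p) (ha : a ∈ s.compl.ideal p) :
    f.app p a = 0 := by
  have h1 : s.compl.e p * a = 0 := (s.compl.mem_ideal_iff p a).mp ha
  have h2 : (1 - s.e p) * a = 0 := h1
  apply ((hk p).2 a).mpr
  have : a - s.e p * a = 0 := by rw [← h2]; ring
  exact (sub_eq_zero.mp this).symm

/-- the induced map from the quotient by the kernel -/
def imageHom : s.compl.locAlg ⟶ B :=
  ⟨fun p => Ideal.Quotient.liftₐ (s.compl.ideal p) (f.app p) (f_eq_zero_of_mem f s hk p),
    fun {p q} h b => by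
      obtain ⟨a, rfl⟩ := Ideal.Quotient.mk_surjective b
      exact f.compat h a⟩

lemma locProj_imageHom : s.compl.locProj ≫ imageHom f s hk = f := by
  apply Alg.hom_ext
  intro p
  apply AlgHom.ext
  intro a
  rfl

include hk in
lemma imageHom_injective (p : X.pt) : Function.Injective ((imageHom f s hk).app p) := by
  rw [injective_iff_map_eq_zero]
  intro b hb
  obtain ⟨a, rfl⟩ := Ideal.Quotient.mk_surjective b
  have h1 : f.app p a = 0 := hb
  have h2 : s.e p * a = a := ((hk p).2 a).mp h1
  apply Ideal.Quotient.eq_zero_iff_mem.mpr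
  apply (s.compl.mem_ideal_iff p a).mpr
  show (1 - s.e p) * a = 0
  rw [sub_mul, one_mul, h2, sub_self]

end image

/-- Epi–mono factorisation of a morphism of étale covers. -/
theorem exists_factorisation (hX : X.IsFinSp) {A B : FEt X} (f : A ⟶ B) :
    ∃ (Q : FEt X) (g : A ⟶ Q) (h : Q ⟶ B), g ≫ h = f ∧
      (∀ p : X.pt, Function.Surjective (g.hom.app p)) ∧
      ∀ p : X.pt, Function.Injective (h.hom.app p) := by
  let s := kerSec f.hom A.property B.property hX
  have hk := kerSec_spec f.hom A.property B.property hX
  refine ⟨⟨s.compl.locAlg, s.compl.locAlg_isEtCover A.property⟩,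
    ObjectProperty.homMk s.compl.locProj, ObjectProperty.homMk (imageHom f.hom s hk), ?_, ?_, ?_⟩
  · apply ObjectProperty.hom_ext
    exact locProj_imageHom f.hom s hk
  · intro p
    exact Ideal.Quotient.mk_surjective
  · intro p
    exact imageHom_injective f.hom s hk p

/-! ### Monomorphisms are pointwise injective -/

/-- the trivial double cover -/
def dbl (X : RSpace.{u}) : Alg X where
  carrier p := Bool → X.ring p
  res h := Pi.ringHom (fun i => (X.res h).comp (Pi.evalRingHom _ i))
  res_algebraMap _ _ := rfl
  res_self p b := funext fun i => X.res_self p (b i)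
  res_comp h h' b := funext fun i => X.res_comp h h' (b i)

lemma dbl_isEtCover (X : RSpace.{u}) : (dbl X).IsEtCover :=
  piAlg_isEtCover (fun _ : Bool => Alg.str X) (fun _ => str_isEtCover X)

/-- the map from the trivial double cover attached to an idempotent family -/
def idemHom {A : Alg X} (s : IdemSec A) : dbl X ⟶ A :=
  ⟨fun p => AlgHom.ofLinearMap
      ((LinearMap.proj (R := X.ring p) (φ := fun _ : Bool => X.ring p) true).smulRight (s.e p) +
        (LinearMap.proj (R := X.ring p) (φ := fun _ : Bool => X.ring p) false).smulRight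
          (1 - s.e p))
      (by
        show (1 : X.ring p) • s.e p + (1 : X.ring p) • (1 - s.e p) = 1
        rw [one_smul, one_smul, add_sub_cancel])
      (fun x y => by
        show ((x true : X.ring p) * (y true : X.ring p)) • s.e p +
            ((x false : X.ring p) * (y false : X.ring p)) • (1 - s.e p) =
          ((x true : X.ring p) • s.e p + (x false : X.ring p) • (1 - s.e p)) *
            ((y true : X.ring p) • s.e p + (y false : X.ring p) • (1 - s.e p))
        have he := (s.idem p).eq
        simp only [Algebra.smul_def, map_mul]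
        linear_combination (-(algebraMap (X.ring p) (A.carrier p) (x true) *
            algebraMap (X.ring p) (A.carrier p) (y true) -
          algebraMap (X.ring p) (A.carrier p) (x true) *
            algebraMap (X.ring p) (A.carrier p) (y false) -
          algebraMap (X.ring p) (A.carrier p) (x false) *
            algebraMap (X.ring p) (A.carrier p) (y true) +
          algebraMap (X.ring p) (A.carrier p) (x false) *
            algebraMap (X.ring p) (A.carrier p) (y false))) * he),
    fun {p q} h r => by
      show A.res h ((r true : X.ring p) • s.e p + (r false : X.ring p) • (1 - s.e p)) =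
        (X.res h (r true : X.ring p)) • s.e q + (X.res h (r false : X.ring p)) • (1 - s.e q)
      simp only [Algebra.smul_def, map_add, map_mul, map_sub, map_one, A.res_algebraMap,
        s.compat h]⟩

lemma idemHom_apply {A : Alg X} (s : IdemSec A) (p : X.pt) (r : (dbl X).carrier p) :
    (idemHom s).app p r =
      (r true : X.ring p) • s.e p + (r false : X.ring p) • (1 - s.e p) := rfl

/-- the zero family -/
def zeroSec (A : Alg X) : IdemSec A where
  e _ := 0
  idem _ := IsIdempotentElem.zero
  compat _ := map_zero _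

theorem injective_of_mono (hX : X.IsFinSp) {A B : FEt X} (f : A ⟶ B) [Mono f] (p : X.pt) :
    Function.Injective (f.hom.app p) := by
  let s := kerSec f.hom A.property B.property hX
  have hk := kerSec_spec f.hom A.property B.property hX
  let T : FEt X := ⟨dbl X, dbl_isEtCover X⟩
  let u : T ⟶ A := ObjectProperty.homMk (idemHom s)
  let v : T ⟶ A := ObjectProperty.homMk (idemHom (zeroSec A.obj))
  have huv : u ≫ f = v ≫ f := by
    apply ObjectProperty.hom_ext
    apply Alg.hom_ext
    intro q
    apply AlgHom.ext
    intro r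
    show f.hom.app q ((idemHom s).app q r) = f.hom.app q ((idemHom (zeroSec A.obj)).app q r)
    rw [idemHom_apply, idemHom_apply]
    have h0 : f.hom.app q (s.e q) = 0 := (hk q).map_self
    show f.hom.app q ((r true : X.ring q) • s.e q + (r false : X.ring q) • (1 - s.e q)) =
      f.hom.app q ((r true : X.ring q) • (0 : A.obj.carrier q) + (r false : X.ring q) • (1 - 0))
    simp only [map_add, map_smul, map_sub, map_one, h0, map_zero, smul_zero, sub_zero]
  have huv' : u = v := (cancel_mono f).mp huv
  have he0 : s.e p = 0 := by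
    have h1 := congrArg (fun k : T ⟶ A => k.hom.app p
      ((fun b => if b then 1 else 0 : Bool → X.ring p))) huv'
    have h2 : (idemHom s).app p ((fun b => if b then 1 else 0 : Bool → X.ring p)) =
        (idemHom (zeroSec A.obj)).app p ((fun b => if b then 1 else 0 : Bool → X.ring p)) := h1
    rw [idemHom_apply, idemHom_apply] at h2
    have h3 : (1 : X.ring p) • s.e p + (0 : X.ring p) • (1 - s.e p) =
        (1 : X.ring p) • (0 : A.obj.carrier p) + (0 : X.ring p) • (1 - 0) := h2
    rw [one_smul, zero_smul, add_zero, smul_zero, zero_smul, add_zero] at h3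
    exact h3
  rw [injective_iff_map_eq_zero]
  intro a ha
  have h2 : s.e p * a = a := ((hk p).2 a).mp ha
  rw [← h2, he0, zero_mul]

/-! ### Isomorphisms -/

theorem isIso_of_bijective {A B : FEt X} (f : A ⟶ B)
    (hf : ∀ p : X.pt, Function.Bijective (f.hom.app p)) : IsIso f := by
  let inv : B.obj ⟶ A.obj :=
    ⟨fun p => ((AlgEquiv.ofBijective (f.hom.app p) (hf p)).symm : _ →ₐ[X.ring p] _),
      fun {p q} h b => by
        apply (hf q).1
        show f.hom.app q (A.obj.res h ((AlgEquiv.ofBijective (f.hom.app p) (hf p)).symm b)) =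
          f.hom.app q ((AlgEquiv.ofBijective (f.hom.app q) (hf q)).symm (B.obj.res h b))
        rw [← f.hom.compat h]
        have e1 : f.hom.app p ((AlgEquiv.ofBijective (f.hom.app p) (hf p)).symm b) = b :=
          (AlgEquiv.ofBijective (f.hom.app p) (hf p)).apply_symm_apply b
        have e2 : f.hom.app q ((AlgEquiv.ofBijective (f.hom.app q) (hf q)).symm
            (B.obj.res h b)) = B.obj.res h b :=
          (AlgEquiv.ofBijective (f.hom.app q) (hf q)).apply_symm_apply _
        rw [e1, e2]⟩
  refine ⟨⟨ObjectProperty.homMk inv, ?_, ?_⟩⟩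
  · apply ObjectProperty.hom_ext
    apply Alg.hom_ext
    intro p
    apply AlgHom.ext
    intro a
    exact (AlgEquiv.ofBijective (f.hom.app p) (hf p)).symm_apply_apply a
  · apply ObjectProperty.hom_ext
    apply Alg.hom_ext
    intro p
    apply AlgHom.ext
    intro b
    exact (AlgEquiv.ofBijective (f.hom.app p) (hf p)).apply_symm_apply b

theorem isIso_of_injective_of_rank {A B : FEt X} (f : A ⟶ B)
    (hf : ∀ p : X.pt, Function.Injective (f.hom.app p))
    (hdeg : ∀ (p : X.pt) (P : PrimeSpectrum (X.ring p)),
      Module.rankAtStalk (A.obj.carrier p) P = Module.rankAtStalk (B.obj.carrier p) P) :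
    IsIso f := by
  apply isIso_of_bijective
  intro p
  have := (A.property.2 p).1
  have := (A.property.2 p).2
  have := (B.property.2 p).1
  have := (B.property.2 p).2
  exact ⟨hf p, surjective_of_injective_of_rank (f.hom.app p) (hf p) (hdeg p)⟩

end Groth.Agent.Lib.Helper25.FEtIdem
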