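import Mathlib
import Groth.Prelude.Def_SchFin
import Groth.Prelude.Def_SchFin2
import Groth.Agent.Lib.Helper25.FEtIdem2

/-!
# The fibre functor through base change to the field and Mathlib's finite spectrum functor
-/

set_option autoImplicit false
universe u

namespace Groth.Agent.Lib.Helper25.FEtFib

open SchFin TensorProduct CategoryTheory CategoryTheory.Limits CommAlgCat

variable {X : RSpace.{u}} {Ω : Type u} [Field Ω] [IsAlgClosed Ω] (ξ : GeomPt X Ω)

/-- the algebra structure on the field over the ring of the base point -/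
@[reducible] noncomputable def algΩ : Algebra (X.ring ξ.base) Ω := ξ.toField.toAlgebra

/-- the base change of an étale cover at the geometric point, as a finite étale algebra -/
noncomputable def ΦObj (A : FEt X) : FiniteEtale.{u} Ω :=
  letI := algΩ ξ
  haveI := (A.property.2 ξ.base).1
  haveI := (A.property.2 ξ.base).2
  FiniteEtale.of Ω (Ω ⊗[X.ring ξ.base] A.obj.carrier ξ.base)

/-- base change of a morphism -/
noncomputable def ΦMap {A B : FEt X} (f : A ⟶ B) : ΦObj ξ A ⟶ ΦObj ξ B :=
  letI := algΩ ξ
  ObjectProperty.homMk
    (CommAlgCat.ofHom (Algebra.TensorProduct.map (AlgHom.id Ω Ω) (f.hom.app ξ.base)))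

/-- base change to the field at the geometric point -/
noncomputable def Φ : FEt X ⥤ FiniteEtale.{u} Ω where
  obj := ΦObj ξ
  map f := ΦMap ξ f
  map_id A := by
    letI := algΩ ξ
    apply ObjectProperty.hom_ext
    apply CommAlgCat.hom_ext
    exact Algebra.TensorProduct.map_id
  map_comp {A B C} f g := by
    letI := algΩ ξ
    apply ObjectProperty.hom_ext
    apply CommAlgCat.hom_ext
    show Algebra.TensorProduct.map (AlgHom.id Ω Ω) ((g.hom.app ξ.base).comp (f.hom.app ξ.base)) =
      (Algebra.TensorProduct.map (AlgHom.id Ω Ω) (g.hom.app ξ.base)).comp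
        (Algebra.TensorProduct.map (AlgHom.id Ω Ω) (f.hom.app ξ.base))
    rw [← Algebra.TensorProduct.map_comp]
    rfl

/-- the fibre functor is base change followed by the finite spectrum -/
noncomputable def fibIso : ξ.fibFunctor ≅ (Φ ξ).op ⋙ FiniteEtale.finiteSpec.{u} Ω :=
  NatIso.ofComponents (fun A => Iso.refl _) (by
    intro A B f
    apply FintypeCat.hom_ext
    intro x
    rfl)

end Groth.Agent.Lib.Helper25.FEtFib
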