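import Mathlib
import Groth.Prelude.Def_SchFin
import Groth.Prelude.Def_SchFin2
import Groth.Agent.Lib.Helper25.FEtFib

/-!
# The fibre functor preserves terminal objects, pullbacks, finite coproducts and epimorphisms
-/

set_option autoImplicit false
universe u

namespace Groth.Agent.Lib.Helper25.FEtFib

open SchFin TensorProduct CategoryTheory CategoryTheory.Limits CommAlgCat
  Groth.Agent.Lib.Helper25.FEtProd Groth.Agent.Lib.Helper25.FEtPO
  Groth.Agent.Lib.Helper25.FEtIdem Groth.Agent.Lib.Helper25.FEtRing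

/-! ### Pure algebra: maps out of a base change to a field -/

section pure

variable {R Ω : Type u} [CommRing R] [Field Ω] [Algebra R Ω]
  {E E' W : Type u} [CommRing E] [Algebra R E] [CommRing E'] [Algebra R E'] [CommRing W]
  [Algebra Ω W]

/-- restriction to the right factor -/
def rs (m : Ω ⊗[R] E →ₐ[Ω] W) : E →+* W :=
  m.toRingHom.comp (Algebra.TensorProduct.includeRight : E →ₐ[R] Ω ⊗[R] E).toRingHom

lemma rs_apply (m : Ω ⊗[R] E →ₐ[Ω] W) (e : E) : rs m e = m (1 ⊗ₜ e) := rfl

lemma rs_algebraMap (m : Ω ⊗[R] E →ₐ[Ω] W) (r : R) :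
    rs m (algebraMap R E r) = algebraMap Ω W (algebraMap R Ω r) := by
  rw [rs_apply]
  have : (1 : Ω) ⊗ₜ[R] algebraMap R E r = algebraMap Ω (Ω ⊗[R] E) (algebraMap R Ω r) := by
    calc (1 : Ω) ⊗ₜ[R] algebraMap R E r = (1 : Ω) ⊗ₜ[R] (r • (1 : E)) := by
          rw [Algebra.algebraMap_eq_smul_one]
      _ = (r • (1 : Ω)) ⊗ₜ[R] (1 : E) := by
          rw [TensorProduct.tmul_smul, TensorProduct.smul_tmul']
      _ = (algebraMap R Ω r) ⊗ₜ[R] (1 : E) := by rw [Algebra.algebraMap_eq_smul_one]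
      _ = algebraMap Ω (Ω ⊗[R] E) (algebraMap R Ω r) := by
          rw [Algebra.TensorProduct.algebraMap_apply]
          rfl
  rw [this, AlgHom.commutes]

lemma ext_of_rs' (m m' : Ω ⊗[R] E →ₐ[Ω] W) (h : ∀ e : E, m (1 ⊗ₜ e) = m' (1 ⊗ₜ e)) : m = m' := by
  apply AlgHom.ext
  intro t
  induction t using TensorProduct.induction_on with
  | zero => rw [map_zero, map_zero]
  | tmul ω e =>
    have : ω ⊗ₜ[R] e = ω • ((1 : Ω) ⊗ₜ[R] e) := by
      rw [TensorProduct.smul_tmul', smul_eq_mul, mul_one]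
    rw [this, map_smul, map_smul, h e]
  | add a b ha hb => rw [map_add, map_add, ha, hb]

lemma ext_of_rs (m m' : Ω ⊗[R] E →ₐ[Ω] W) (h : rs m = rs m') : m = m' :=
  ext_of_rs' m m' (fun e => RingHom.congr_fun h e)

/-- extension of a ring map over `R` to the base change -/
noncomputable def ex (d : E →+* W)
    (hd : ∀ r : R, d (algebraMap R E r) = algebraMap Ω W (algebraMap R Ω r)) :
    Ω ⊗[R] E →ₐ[Ω] W :=
  letI : Algebra R W := Algebra.compHom W (algebraMap R Ω)
  haveI : IsScalarTower R Ω W := IsScalarTower.of_algebraMap_eq (fun _ => rfl)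
  Algebra.TensorProduct.lift (Algebra.ofId Ω W) ({ d with commutes' := hd } : E →ₐ[R] W)
    (fun _ _ => Commute.all _ _)

lemma rs_ex (d : E →+* W)
    (hd : ∀ r : R, d (algebraMap R E r) = algebraMap Ω W (algebraMap R Ω r)) :
    rs (ex d hd) = d := by
  ext e
  rw [rs_apply]
  letI : Algebra R W := Algebra.compHom W (algebraMap R Ω)
  haveI : IsScalarTower R Ω W := IsScalarTower.of_algebraMap_eq (fun _ => rfl)
  show Algebra.TensorProduct.lift (Algebra.ofId Ω W) ({ d with commutes' := hd } : E →ₐ[R] W)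
    (fun _ _ => Commute.all _ _) (1 ⊗ₜ e) = d e
  rw [Algebra.TensorProduct.lift_tmul, map_one, one_mul]
  rfl

lemma rs_comp_map (m : Ω ⊗[R] E' →ₐ[Ω] W) (φ : E →ₐ[R] E') :
    rs (m.comp (Algebra.TensorProduct.map (AlgHom.id Ω Ω) φ)) = (rs m).comp φ.toRingHom := rfl

end pure

variable {X : RSpace.{u}} {Ω : Type u} [Field Ω] [IsAlgClosed Ω] (ξ : GeomPt X Ω)

/-- morphisms of finite étale algebras from algebra maps -/
noncomputable def feMk {S T : FiniteEtale.{u} Ω} (φ : S.obj →ₐ[Ω] T.obj) : S ⟶ T :=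
  ObjectProperty.homMk (ConcreteCategory.ofHom (C := CommAlgCat Ω) φ)

lemma fe_hom_ext {S T : FiniteEtale.{u} Ω} {f g : S ⟶ T} (h : f.hom.hom = g.hom.hom) : f = g :=
  ObjectProperty.hom_ext _ (CommAlgCat.hom_ext h)

/-! ### Initial object -/

/-- base change of the initial object is initial -/
noncomputable def ΦstrIsInitial : IsInitial ((Φ ξ).obj (strFEt X)) := by
  letI := algΩ ξ
  refine IsInitial.ofUniqueHom (fun W => feMk (S := (Φ ξ).obj (strFEt X)) (T := W)
    ((Algebra.ofId Ω W.obj).comp (Algebra.TensorProduct.rid (X.ring ξ.base) Ω Ω).toAlgHom))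
    (fun W m => ?_)
  apply fe_hom_ext
  apply AlgHom.ext
  intro t
  have ht : t = algebraMap Ω (Ω ⊗[X.ring ξ.base] X.ring ξ.base)
      (Algebra.TensorProduct.rid (X.ring ξ.base) Ω Ω t) := by
    have h1 := (Algebra.TensorProduct.rid (X.ring ξ.base) Ω Ω).symm_apply_apply t
    rw [Algebra.TensorProduct.rid_symm_apply] at h1
    rw [Algebra.TensorProduct.algebraMap_apply]
    exact h1.symm
  have h2 : m.hom.hom t = algebraMap Ω W.obj (Algebra.TensorProduct.rid (X.ring ξ.base) Ω Ω t) := by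
    conv_lhs => rw [ht]
    exact AlgHom.commutes m.hom.hom _
  rw [h2]
  rfl

instance : PreservesColimit (Functor.empty.{0} (FEt X)) (Φ ξ) :=
  preservesColimit_of_preserves_colimit_cocone (strIsInitial X)
    ((isColimitMapCoconeEmptyCoconeEquiv (Φ ξ) (strFEt X)).symm (ΦstrIsInitial ξ))

instance : PreservesColimitsOfShape (Discrete PEmpty.{1}) (Φ ξ) :=
  preservesColimitsOfShape_pempty_of_preservesInitial (Φ ξ)

/-! ### Pushouts -/

section pushout

variable {A B C : FEt X} (f : A ⟶ B) (g : A ⟶ C)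

/-- the left inclusion of the pushout -/
noncomputable abbrev inlF : B ⟶ poFEt f g := ObjectProperty.homMk (poInl f.hom g.hom)
/-- the right inclusion of the pushout -/
noncomputable abbrev inrF : C ⟶ poFEt f g := ObjectProperty.homMk (poInr f.hom g.hom)

lemma inl_inr_comm : f ≫ inlF f g = g ≫ inrF f g := by
  apply ObjectProperty.hom_ext
  exact po_comm f.hom g.hom

/-- the induced map out of the base change of the pushout -/
noncomputable def bcDesc (W : FiniteEtale.{u} Ω) (u : (Φ ξ).obj B ⟶ W) (v : (Φ ξ).obj C ⟶ W)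
    (h : (Φ ξ).map f ≫ u = (Φ ξ).map g ≫ v) : (Φ ξ).obj (poFEt f g) ⟶ W := by
  letI := algΩ ξ
  have cond : (rs u.hom.hom).comp (f.hom.app ξ.base).toRingHom =
      (rs v.hom.hom).comp (g.hom.app ξ.base).toRingHom := by
    have h' := congrArg (fun k => rs k.hom.hom) h
    exact h'
  exact feMk (S := (Φ ξ).obj (poFEt f g)) (T := W)
    (ex (PO.desc (rs u.hom.hom) (rs v.hom.hom) cond) (fun r => by
      show PO.desc (rs u.hom.hom) (rs v.hom.hom) cond
        (PO.inl _ _ (algebraMap (X.ring ξ.base) (B.obj.carrier ξ.base) r)) = _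
      rw [PO.desc_inl_apply]
      exact rs_algebraMap u.hom.hom r))

lemma rs_bcDesc (W : FiniteEtale.{u} Ω) (u : (Φ ξ).obj B ⟶ W) (v : (Φ ξ).obj C ⟶ W)
    (h : (Φ ξ).map f ≫ u = (Φ ξ).map g ≫ v) :
    letI := algΩ ξ
    ∃ cond, rs (E := PO.T (f.hom.app ξ.base).toRingHom (g.hom.app ξ.base).toRingHom)
      (bcDesc ξ f g W u v h).hom.hom = PO.desc (rs u.hom.hom) (rs v.hom.hom) cond := by
  letI := algΩ ξ
  exact ⟨_, rs_ex _ _⟩

/-- the image of the pushout cocone is a colimit -/
noncomputable def ΦpoIsColimit :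
    IsColimit (PushoutCocone.mk ((Φ ξ).map (inlF f g)) ((Φ ξ).map (inrF f g))
      (by rw [← (Φ ξ).map_comp, ← (Φ ξ).map_comp, inl_inr_comm]) :
        PushoutCocone ((Φ ξ).map f) ((Φ ξ).map g)) := by
  letI := algΩ ξ
  refine PushoutCocone.IsColimit.mk _ (fun s => bcDesc ξ f g s.pt s.inl s.inr s.condition)
    (fun s => ?_) (fun s => ?_) (fun s m h1 h2 => ?_)
  · apply fe_hom_ext
    apply ext_of_rs'
    intro b
    obtain ⟨cond, hc⟩ := rs_bcDesc ξ f g s.pt s.inl s.inr s.condition
    have e1 := RingHom.congr_fun hc (PO.inl _ _ b)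
    rw [PO.desc_inl_apply] at e1
    exact e1
  · apply fe_hom_ext
    apply ext_of_rs'
    intro c
    obtain ⟨cond, hc⟩ := rs_bcDesc ξ f g s.pt s.inl s.inr s.condition
    have e1 := RingHom.congr_fun hc (PO.inr _ _ c)
    rw [PO.desc_inr_apply] at e1
    exact e1
  · apply fe_hom_ext
    apply ext_of_rs
    obtain ⟨cond, hc⟩ := rs_bcDesc ξ f g s.pt s.inl s.inr s.condition
    have key : rs (E := PO.T (f.hom.app ξ.base).toRingHom (g.hom.app ξ.base).toRingHom)
        m.hom.hom = PO.desc (rs s.inl.hom.hom) (rs s.inr.hom.hom) cond := by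
      apply PO.ringHom_ext
      · rw [PO.desc_inl]
        exact congrArg (fun k => rs k.hom.hom) h1
      · rw [PO.desc_inr]
        exact congrArg (fun k => rs k.hom.hom) h2
    exact key.trans hc.symm

instance preservesColimit_span : PreservesColimit (span f g) (Φ ξ) :=
  preservesColimit_of_preserves_colimit_cocone (poIsColimit f g)
    ((isColimitMapCoconePushoutCoconeEquiv (Φ ξ) (inl_inr_comm f g)).symm (ΦpoIsColimit ξ f g))

end pushout

instance : PreservesColimitsOfShape WalkingSpan (Φ ξ) :=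
  ⟨fun {K} => by
    haveI : PreservesColimit (span (K.map WalkingSpan.Hom.fst) (K.map WalkingSpan.Hom.snd))
        (Φ ξ) := preservesColimit_span ξ _ _
    exact preservesColimit_of_iso_diagram (Φ ξ) (diagramIsoSpan K).symm⟩

end Groth.Agent.Lib.Helper25.FEtFib
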