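import Mathlib
import Groth.Prelude.Def_SchFin
import Groth.Prelude.Def_SchFin2
import Groth.Agent.Lib.Helper25.FEtFib2

/-!
# The fibre functor preserves finite coproducts and epimorphisms; packaging
-/

set_option autoImplicit false
universe u

namespace Groth.Agent.Lib.Helper25.FEtFib

open SchFin TensorProduct CategoryTheory CategoryTheory.Limits CommAlgCat
  Groth.Agent.Lib.Helper25.FEtProd Groth.Agent.Lib.Helper25.FEtPO
  Groth.Agent.Lib.Helper25.FEtIdem Groth.Agent.Lib.Helper25.FEtRing

variable {X : RSpace.{u}} {Ω : Type u} [Field Ω] [IsAlgClosed Ω] (ξ : GeomPt X Ω)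

/-! ### Finite products -/

section products

variable {ι : Type} [Fintype ι] [DecidableEq ι] (A : ι → FEt X)

lemma map_eval_eq_piRight (i : ι) :
    letI := algΩ ξ
    ∀ t : Ω ⊗[X.ring ξ.base] (∀ j, (A j).obj.carrier ξ.base),
      Algebra.TensorProduct.map (AlgHom.id Ω Ω)
        (Pi.evalAlgHom (X.ring ξ.base) (fun j => (A j).obj.carrier ξ.base) i) t =
      Algebra.TensorProduct.piRight (X.ring ξ.base) Ω Ω (fun j => (A j).obj.carrier ξ.base) t i := by
  letI := algΩ ξ
  intro t
  induction t using TensorProduct.induction_on with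
  | zero => rw [map_zero, map_zero]; rfl
  | tmul ω a => rfl
  | add a b ha hb => rw [map_add, map_add, ha, hb]; rfl

/-- the image of the product fan is a limit -/
noncomputable def ΦpiIsLimit :
    IsLimit (Fan.mk ((Φ ξ).obj (piFEt A)) (fun i => (Φ ξ).map ((piFan A).proj i)) :
      Fan fun i => (Φ ξ).obj (A i)) := by
  letI := algΩ ξ
  refine Fan.IsLimit.mk _
    (fun s => feMk (S := s.pt) (T := (Φ ξ).obj (piFEt A))
      ((Algebra.TensorProduct.piRight (X.ring ξ.base) Ω Ω
        (fun j => (A j).obj.carrier ξ.base)).symm.toAlgHom.comp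
          (AlgHom.pi (fun i => (s.proj i).hom.hom))))
    (fun s i => ?_) (fun s m hm => ?_)
  · apply fe_hom_ext
    apply AlgHom.ext
    intro w
    have h1 := map_eval_eq_piRight ξ A i
      ((Algebra.TensorProduct.piRight (X.ring ξ.base) Ω Ω
        (fun j => (A j).obj.carrier ξ.base)).symm (fun j => (s.proj j).hom.hom w))
    rw [AlgEquiv.apply_symm_apply] at h1
    exact h1
  · apply fe_hom_ext
    apply AlgHom.ext
    intro w
    apply (Algebra.TensorProduct.piRight (X.ring ξ.base) Ω Ω
        (fun j => (A j).obj.carrier ξ.base)).injective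
    show Algebra.TensorProduct.piRight (X.ring ξ.base) Ω Ω
        (fun j => (A j).obj.carrier ξ.base) (m.hom.hom w) =
      Algebra.TensorProduct.piRight (X.ring ξ.base) Ω Ω (fun j => (A j).obj.carrier ξ.base)
        ((Algebra.TensorProduct.piRight (X.ring ξ.base) Ω Ω
          (fun j => (A j).obj.carrier ξ.base)).symm (fun j => (s.proj j).hom.hom w))
    rw [AlgEquiv.apply_symm_apply]
    funext i
    rw [← map_eval_eq_piRight ξ A i]
    exact congrArg (fun k => k.hom.hom w) (hm i)

instance preservesLimit_discrete : PreservesLimit (Discrete.functor A) (Φ ξ) :=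
  preservesLimit_of_preserves_limit_cone (piIsLimit A)
    ((isLimitMapConeFanMkEquiv (Φ ξ) A _).symm (ΦpiIsLimit ξ A))

end products

instance (ι : Type) [Fintype ι] [DecidableEq ι] : PreservesLimitsOfShape (Discrete ι) (Φ ξ) :=
  ⟨fun {K} => by
    haveI : PreservesLimit (Discrete.functor (K.obj ∘ Discrete.mk)) (Φ ξ) :=
      preservesLimit_discrete ξ _
    exact preservesLimit_of_iso_diagram (Φ ξ) (Discrete.natIsoFunctor (F := K)).symm⟩

instance : PreservesFiniteProducts (Φ ξ) := ⟨fun _ => inferInstance⟩

/-! ### Monomorphisms -/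

lemma Φ_map_injective {A B : FEt X} (f : A ⟶ B)
    (hf : Function.Injective (f.hom.app ξ.base)) :
    Function.Injective ((Φ ξ).map f).hom.hom := by
  letI := algΩ ξ
  have := (A.property.2 ξ.base).2
  have := (B.property.2 ξ.base).1
  have := (B.property.2 ξ.base).2
  obtain ⟨ρ, hρ⟩ := exists_retraction (f.hom.app ξ.base) hf
  have hleft : ∀ t : Ω ⊗[X.ring ξ.base] A.obj.carrier ξ.base,
      ρ.baseChange Ω (Algebra.TensorProduct.map (AlgHom.id Ω Ω) (f.hom.app ξ.base) t) = t := by
    intro t
    induction t using TensorProduct.induction_on with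
    | zero => rw [map_zero, map_zero]
    | tmul ω a =>
      show ρ.baseChange Ω (ω ⊗ₜ f.hom.app ξ.base a) = ω ⊗ₜ a
      rw [LinearMap.baseChange_tmul, hρ]
    | add a b ha hb => rw [map_add, map_add, ha, hb]
  intro t t' h
  have := congrArg (ρ.baseChange Ω) h
  exact (hleft t).symm.trans (this.trans (hleft t'))

lemma Φ_mono (hX : X.IsFinSp) {A B : FEt X} (f : A ⟶ B) [Mono f] : Mono ((Φ ξ).map f) := by
  have hinj := Φ_map_injective ξ f (injective_of_mono hX f ξ.base)
  constructor
  intro Z g h w
  apply fe_hom_ext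
  apply AlgHom.ext
  intro z
  apply hinj
  exact congrArg (fun k => k.hom.hom z) w

/-! ### The four preservation properties of the fibre functor -/

theorem fib_preserves (hX : X.IsFinSp) :
    PreservesLimitsOfShape (Discrete PEmpty.{1}) ξ.fibFunctor ∧
      PreservesLimitsOfShape WalkingCospan ξ.fibFunctor ∧
      PreservesFiniteCoproducts ξ.fibFunctor ∧ ξ.fibFunctor.PreservesEpimorphisms := by
  refine ⟨?_, ?_, ?_, ?_⟩
  · haveI : PreservesColimitsOfShape (Discrete PEmpty.{1})ᵒᵖ (Φ ξ) :=
      preservesColimitsOfShape_of_equiv (Discrete.opposite PEmpty.{1}).symm (Φ ξ)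
    haveI : PreservesLimitsOfShape (Discrete PEmpty.{1}) (Φ ξ).op :=
      preservesLimitsOfShape_op _ _
    exact preservesLimitsOfShape_of_natIso (fibIso ξ).symm
  · haveI : PreservesColimitsOfShape WalkingCospanᵒᵖ (Φ ξ) :=
      preservesColimitsOfShape_of_equiv walkingCospanOpEquiv.symm (Φ ξ)
    haveI : PreservesLimitsOfShape WalkingCospan (Φ ξ).op :=
      preservesLimitsOfShape_op _ _
    exact preservesLimitsOfShape_of_natIso (fibIso ξ).symm
  · haveI : PreservesFiniteCoproducts (Φ ξ).op := preservesFiniteCoproducts_op _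
    refine ⟨fun n => ?_⟩
    haveI : PreservesColimitsOfShape (Discrete (Fin n)) (Φ ξ).op :=
      PreservesFiniteCoproducts.preserves n
    exact preservesColimitsOfShape_of_natIso (fibIso ξ).symm
  · haveI : ((Φ ξ).op ⋙ FiniteEtale.finiteSpec.{u} Ω).PreservesEpimorphisms := by
      constructor
      intro A B f hf
      haveI : Mono f.unop := inferInstance
      haveI hm : Mono ((Φ ξ).map f.unop) := Φ_mono ξ hX f.unop
      haveI : Epi ((Φ ξ).op.map f) := by
        show Epi ((Φ ξ).map f.unop).op
        infer_instance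
      show Epi ((FiniteEtale.finiteSpec.{u} Ω).map ((Φ ξ).op.map f))
      infer_instance
    exact Functor.PreservesEpimorphisms.of_iso (fibIso ξ).symm

end Groth.Agent.Lib.Helper25.FEtFib
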