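import Mathlib
import Groth.Prelude.Def_SchFin
import Groth.Prelude.Def_SchFin2
import Groth.Agent.Lib.Helper25.FEtFib3

/-!
# The fibre functor reflects isomorphisms (given local triviality of étale covers)
-/

set_option autoImplicit false
universe u

namespace Groth.Agent.Lib.Helper25.FEtFib

open SchFin TensorProduct CategoryTheory CategoryTheory.Limits CommAlgCat
open Groth.Agent.Lib.Helper25.FEtRing Groth.Agent.Lib.Helper25.FEtIdem

section Ring

variable {R : Type u} [CommRing R]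

theorem rank_of_trivial (C M : Type u) [CommRing C] [Algebra R C] [Module.FaithfullyFlat R C]
    [CommRing M] [Algebra R M] [Module.Finite R M] [Module.Flat R M]
    (n : ℕ) (e : (C ⊗[R] M) ≃ₐ[C] (Fin n → C)) (P : PrimeSpectrum R) :
    Module.rankAtStalk M P = n := by
  obtain ⟨Q, rfl⟩ := PrimeSpectrum.comap_surjective_of_faithfullyFlat (A := R) (B := C) P
  haveI : Nontrivial C := Q.nontrivial
  rw [← Module.rankAtStalk_baseChange (R := R) (M := M) (S := C) Q,
    Module.rankAtStalk_eq_of_equiv e.toLinearEquiv, Module.rankAtStalk_eq_finrank_of_free]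
  simp

theorem n_eq_zero (C M Ω : Type u) [CommRing C] [Algebra R C] [Module.FaithfullyFlat R C]
    [CommRing M] [Algebra R M] [Module.Finite R M] [Module.Flat R M]
    [Field Ω] [Algebra R Ω]
    (n : ℕ) (e : (C ⊗[R] M) ≃ₐ[C] (Fin n → C)) (hs : Subsingleton (Ω ⊗[R] M)) : n = 0 := by
  let q : PrimeSpectrum Ω := ⟨⊥, Ideal.isPrime_bot⟩
  have h := rank_of_trivial C M n e (q.comap (algebraMap R Ω))
  rw [← Module.rankAtStalk_baseChange (R := R) (M := M) (S := Ω) q,
    Module.rankAtStalk_eq_zero_of_subsingleton] at h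
  exact h.symm

theorem n_eq_of_equiv (C₁ C₂ M₁ M₂ Ω : Type u) [CommRing C₁] [Algebra R C₁]
    [Module.FaithfullyFlat R C₁] [CommRing C₂] [Algebra R C₂] [Module.FaithfullyFlat R C₂]
    [CommRing M₁] [Algebra R M₁] [Module.Finite R M₁] [Module.Flat R M₁]
    [CommRing M₂] [Algebra R M₂] [Module.Finite R M₂] [Module.Flat R M₂]
    [Field Ω] [Algebra R Ω] (n₁ n₂ : ℕ)
    (e₁ : (C₁ ⊗[R] M₁) ≃ₐ[C₁] (Fin n₁ → C₁)) (e₂ : (C₂ ⊗[R] M₂) ≃ₐ[C₂] (Fin n₂ → C₂))
    (g : (Ω ⊗[R] M₁) ≃ₗ[Ω] (Ω ⊗[R] M₂)) : n₁ = n₂ := by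
  let q : PrimeSpectrum Ω := ⟨⊥, Ideal.isPrime_bot⟩
  have h1 := rank_of_trivial C₁ M₁ n₁ e₁ (q.comap (algebraMap R Ω))
  have h2 := rank_of_trivial C₂ M₂ n₂ e₂ (q.comap (algebraMap R Ω))
  rw [← Module.rankAtStalk_baseChange (R := R) (S := Ω) q] at h1 h2
  rw [Module.rankAtStalk_eq_of_equiv g] at h1
  exact h1.symm.trans h2

end Ring

variable {X : RSpace.{u}} {Ω : Type u} [Field Ω] [IsAlgClosed Ω] (ξ : GeomPt X Ω)

lemma bijective_of_isIso {A B : FEt X} (f : A ⟶ B) (h : IsIso ((Φ ξ).map f)) :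
    letI := algΩ ξ
    Function.Bijective (Algebra.TensorProduct.map (AlgHom.id Ω Ω) (f.hom.app ξ.base)) := by
  letI := algΩ ξ
  have h1 := IsIso.hom_inv_id ((Φ ξ).map f)
  have h2 := IsIso.inv_hom_id ((Φ ξ).map f)
  rw [Function.bijective_iff_has_inverse]
  refine ⟨fun b => (inv ((Φ ξ).map f)).hom.hom b, fun a => ?_, fun b => ?_⟩
  · exact congrArg (fun g => g.hom.hom a) h1
  · exact congrArg (fun g => g.hom.hom b) h2

theorem isIso_of_fib_bijective (hX : X.IsFinSp)
    (hlt : ∀ A : FEt X, ∃ (B : Alg X) (n : ℕ), B.IsCovering ∧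
      ∀ p : X.pt, Nonempty (TensorProduct (X.ring p) (B.carrier p) (A.obj.carrier p)
        ≃ₐ[B.carrier p] (Fin n → B.carrier p)))
    {A B : FEt X} (f : A ⟶ B)
    (hbij : letI := algΩ ξ
      Function.Bijective (Algebra.TensorProduct.map (AlgHom.id Ω Ω) (f.hom.app ξ.base))) :
    IsIso f := by
  letI := algΩ ξ
  obtain ⟨s, hs⟩ : ∃ s : IdemSec A.obj, ∀ p, IsKerIdem (f.hom.app p).toRingHom (s.e p) :=
    ⟨kerSec f.hom A.property B.property hX, kerSec_spec f.hom A.property B.property hX⟩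
  have hDet : s.locAlg.IsEtCover := s.locAlg_isEtCover A.property
  let D : FEt X := ⟨s.locAlg, hDet⟩
  -- the base change of the kernel part to the field is trivial
  have hsub : Subsingleton (Ω ⊗[X.ring ξ.base] s.locAlg.carrier ξ.base) := by
    have h0 : (1 : Ω) ⊗ₜ[X.ring ξ.base] (s.e ξ.base) = 0 := by
      apply hbij.1
      rw [Algebra.TensorProduct.map_tmul, map_zero]
      have : f.hom.app ξ.base (s.e ξ.base) = 0 := (hs ξ.base).map_self
      rw [this, TensorProduct.tmul_zero]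
    have h1 := congrArg (Algebra.TensorProduct.map (AlgHom.id Ω Ω) (s.locProj.app ξ.base)) h0
    rw [Algebra.TensorProduct.map_tmul, map_zero] at h1
    have h2 : s.locProj.app ξ.base (s.e ξ.base) = 1 := by
      show Ideal.Quotient.mk (s.ideal ξ.base) (s.e ξ.base) =
        Ideal.Quotient.mk (s.ideal ξ.base) 1
      rw [Ideal.Quotient.eq, ← neg_sub]
      exact (s.ideal ξ.base).neg_mem (Ideal.subset_span rfl)
    rw [h2] at h1
    have h3 : (1 : Ω) ⊗ₜ[X.ring ξ.base] (1 : s.locAlg.carrier ξ.base) = 0 := h1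
    refine subsingleton_of_zero_eq_one ?_
    rw [Algebra.TensorProduct.one_def]
    exact h3.symm
  obtain ⟨CD, nD, hCD, hD⟩ := hlt D
  have hnD : nD = 0 := by
    obtain ⟨eD⟩ := hD ξ.base
    haveI := (hCD.2 ξ.base).2
    haveI := (hDet.2 ξ.base).1
    haveI := (hDet.2 ξ.base).2
    haveI : Module.Flat (X.ring ξ.base) (s.locAlg.carrier ξ.base) := inferInstance
    exact n_eq_zero (CD.carrier ξ.base) (s.locAlg.carrier ξ.base) Ω nD eD hsub
  subst hnD
  have hinj : ∀ p, Function.Injective (f.hom.app p) := by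
    intro p
    obtain ⟨eD⟩ := hD p
    haveI := (hCD.2 p).2
    haveI : Subsingleton (CD.carrier p ⊗[X.ring p] s.locAlg.carrier p) :=
      eD.toEquiv.injective.subsingleton
    haveI : Subsingleton (s.locAlg.carrier p) :=
      Module.FaithfullyFlat.lTensor_reflects_triviality (X.ring p) (CD.carrier p) _
    have he : s.e p = 0 := by
      have h1 : (1 : A.obj.carrier p) ∈ s.ideal p := by
        rw [← Ideal.Quotient.eq_zero_iff_mem]
        exact Subsingleton.elim (α := s.locAlg.carrier p) _ _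
      have h2 := (s.mem_ideal_iff p 1).mp h1
      rwa [mul_one] at h2
    rw [injective_iff_map_eq_zero]
    intro a ha
    have h2 : s.e p * a = a := ((hs p).2 a).mp ha
    rw [← h2, he, zero_mul]
  obtain ⟨CA, nA, hCA, hA⟩ := hlt A
  obtain ⟨CB, nB, hCB, hB⟩ := hlt B
  have hn : nA = nB := by
    obtain ⟨eA⟩ := hA ξ.base
    obtain ⟨eB⟩ := hB ξ.base
    haveI := (hCA.2 ξ.base).2
    haveI := (hCB.2 ξ.base).2
    haveI := (A.property.2 ξ.base).1
    haveI := (A.property.2 ξ.base).2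
    haveI := (B.property.2 ξ.base).1
    haveI := (B.property.2 ξ.base).2
    haveI : Module.Flat (X.ring ξ.base) (A.obj.carrier ξ.base) := inferInstance
    haveI : Module.Flat (X.ring ξ.base) (B.obj.carrier ξ.base) := inferInstance
    exact n_eq_of_equiv (CA.carrier ξ.base) (CB.carrier ξ.base) (A.obj.carrier ξ.base)
      (B.obj.carrier ξ.base) Ω nA nB eA eB
      (LinearEquiv.ofBijective
        (Algebra.TensorProduct.map (AlgHom.id Ω Ω) (f.hom.app ξ.base)).toLinearMap hbij)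
  apply isIso_of_injective_of_rank f hinj
  intro p P
  obtain ⟨eA⟩ := hA p
  obtain ⟨eB⟩ := hB p
  haveI := (hCA.2 p).2
  haveI := (hCB.2 p).2
  haveI := (A.property.2 p).1
  haveI := (A.property.2 p).2
  haveI := (B.property.2 p).1
  haveI := (B.property.2 p).2
  haveI : Module.Flat (X.ring p) (A.obj.carrier p) := inferInstance
  haveI : Module.Flat (X.ring p) (B.obj.carrier p) := inferInstance
  rw [rank_of_trivial (CA.carrier p) (A.obj.carrier p) nA eA P,
    rank_of_trivial (CB.carrier p) (B.obj.carrier p) nB eB P, hn]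

theorem fib_reflects (hX : X.IsFinSp)
    (hlt : ∀ A : FEt X, ∃ (B : Alg X) (n : ℕ), B.IsCovering ∧
      ∀ p : X.pt, Nonempty (TensorProduct (X.ring p) (B.carrier p) (A.obj.carrier p)
        ≃ₐ[B.carrier p] (Fin n → B.carrier p))) :
    ξ.fibFunctor.ReflectsIsomorphisms := by
  constructor
  intro A B φ hφ
  have h1 : IsIso (((Φ ξ).op ⋙ FiniteEtale.finiteSpec.{u} Ω).map φ) :=
    (NatIso.isIso_map_iff (fibIso ξ) φ).mp hφ
  have h2 : IsIso ((FiniteEtale.finiteSpec.{u} Ω).map ((Φ ξ).op.map φ)) := h1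
  have h3 : IsIso ((Φ ξ).op.map φ) := isIso_of_reflects_iso _ (FiniteEtale.finiteSpec.{u} Ω)
  have h4 : IsIso ((Φ ξ).map φ.unop) := by
    haveI : IsIso ((Φ ξ).map φ.unop).op := h3
    exact isIso_of_op _
  have hb := bijective_of_isIso ξ φ.unop h4
  haveI : IsIso φ.unop := isIso_of_fib_bijective ξ hX hlt φ.unop hb
  exact (isIso_unop_iff φ).mp inferInstance

end Groth.Agent.Lib.Helper25.FEtFib
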