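import Mathlib
import Groth.Prelude.Def_SchFin
import Groth.Prelude.Def_SchFin2
import Groth.Agent.Lib.Helper25.FEtFib4

/-!
# Invariants of a finite family of endomorphisms of a finite étale algebra (ring level)
-/

set_option autoImplicit false
universe u v

namespace Groth.Agent.Lib.Helper25.FEtInv

open TensorProduct

/-! ### Minimal idempotents and connected corners -/

section MinIdem

variable {C : Type u} [CommRing C]

/-- only trivial idempotents -/
def TrivIdem (C : Type u) [CommRing C] : Prop := ∀ e : C, IsIdempotentElem e → e = 0 ∨ e = 1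

theorem exists_minimal_idem [IsNoetherianRing C] [Nontrivial C] :
    ∃ ε : C, IsIdempotentElem ε ∧ ε ≠ 0 ∧
      ∀ e : C, IsIdempotentElem e → e * ε = e → e = 0 ∨ e = ε := by
  let 𝒮 : Set (Ideal C) := {I | ∃ e : C, IsIdempotentElem e ∧ e ≠ 0 ∧ I = Ideal.span {1 - e}}
  have hne : 𝒮.Nonempty := ⟨Ideal.span {1 - 1}, 1, IsIdempotentElem.one, one_ne_zero, rfl⟩
  obtain ⟨I, ⟨ε, hε, hε0, rfl⟩, hmax⟩ :=
    (set_has_maximal_iff_noetherian.mpr (inferInstance : IsNoetherian C C)) 𝒮 hne
  refine ⟨ε, hε, hε0, fun e he hee => ?_⟩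
  by_cases he0 : e = 0
  · exact Or.inl he0
  right
  have hle : Ideal.span {1 - ε} ≤ Ideal.span {1 - e} := by
    refine Ideal.span_le.mpr (Set.singleton_subset_iff.mpr ?_)
    refine Ideal.mem_span_singleton'.mpr ⟨1 - ε, ?_⟩
    have : (1 - ε) * (1 - e) = 1 - ε - (e - e * ε) := by ring
    rw [this, hee, sub_self, sub_zero]
  have hmem : Ideal.span {1 - e} ∈ 𝒮 := ⟨e, he, he0, rfl⟩
  have heq : Ideal.span {1 - ε} = Ideal.span {1 - e} := by
    by_contra hne'
    exact hmax _ hmem (lt_of_le_of_ne hle hne')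
  have h1 : 1 - e ∈ Ideal.span {1 - ε} := heq ▸ Ideal.subset_span rfl
  obtain ⟨a, ha⟩ := Ideal.mem_span_singleton'.mp h1
  have h2 : ε * (1 - e) = 0 := by
    rw [← ha]
    have : ε * (a * (1 - ε)) = a * (ε - ε * ε) := by ring
    rw [this, hε.eq, sub_self, mul_zero]
  have h3 : ε = ε * e := by
    have : ε * (1 - e) = ε - ε * e := by ring
    rw [this] at h2
    exact sub_eq_zero.mp h2
  calc e = e * ε := hee.symm
    _ = ε * e := mul_comm _ _
    _ = ε := h3.symm

variable (ε : C)

/-- the quotient by the complementary idempotent -/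
abbrev Corner (ε : C) : Type u := C ⧸ Ideal.span {1 - ε}

lemma mk_eps : Ideal.Quotient.mk (Ideal.span {1 - ε}) ε = 1 := by
  have h : ε - 1 ∈ Ideal.span {1 - ε} := by
    have h1 : ε - 1 = -(1 - ε) := by ring
    rw [h1]
    exact (Ideal.span {1 - ε}).neg_mem (Ideal.mem_span_singleton_self _)
  exact (Ideal.Quotient.eq.mpr h).trans (map_one _)

lemma eps_mul_of_mem (hε : IsIdempotentElem ε) {x : C} (hx : x ∈ Ideal.span {1 - ε}) :
    ε * x = 0 := by
  obtain ⟨a, rfl⟩ := Ideal.mem_span_singleton'.mp hx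
  have : ε * (a * (1 - ε)) = a * (ε - ε * ε) := by ring
  rw [this, hε.eq, sub_self, mul_zero]

theorem corner_nontrivial (hε : IsIdempotentElem ε) (h0 : ε ≠ 0) : Nontrivial (Corner ε) := by
  rw [Ideal.Quotient.nontrivial_iff]
  intro htop
  have h1 : (1 : C) ∈ Ideal.span {1 - ε} := htop ▸ Submodule.mem_top
  have := eps_mul_of_mem ε hε h1
  rw [mul_one] at this
  exact h0 this

theorem corner_trivIdem (hε : IsIdempotentElem ε)
    (hmin : ∀ e : C, IsIdempotentElem e → e * ε = e → e = 0 ∨ e = ε) : TrivIdem (Corner ε) := by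
  intro ebar hebar
  obtain ⟨e, rfl⟩ := Ideal.Quotient.mk_surjective ebar
  have hmem : e * e - e ∈ Ideal.span {1 - ε} := by
    rw [← Ideal.Quotient.eq, map_mul]
    exact hebar.eq
  have h0 := eps_mul_of_mem ε hε hmem
  have hid : IsIdempotentElem (ε * e) := by
    show ε * e * (ε * e) = ε * e
    have : ε * e * (ε * e) = (ε * ε) * e + ε * (ε * (e * e - e)) := by ring
    rw [this, h0, mul_zero, add_zero, hε.eq]
  have hle : ε * e * ε = ε * e := by
    have : ε * e * ε = (ε * ε) * e := by ring
    rw [this, hε.eq]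
  have hmk : Ideal.Quotient.mk (Ideal.span {1 - ε}) (ε * e) =
      Ideal.Quotient.mk (Ideal.span {1 - ε}) e := by
    rw [map_mul, mk_eps ε, one_mul]
  rcases hmin (ε * e) hid hle with h | h
  · left
    rw [← hmk, h, map_zero]
  · right
    rw [← hmk, h, mk_eps ε]

section Alg

variable {R : Type u} [CommRing R] [Algebra R C]

theorem corner_flat [Module.Flat R C] (hε : IsIdempotentElem ε) : Module.Flat R (Corner ε) := by
  let iC : Corner ε →ₗ[C] C := Submodule.liftQ (Ideal.span {1 - ε}) (LinearMap.mulLeft C ε) (by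
    intro x hx
    rw [LinearMap.mem_ker]
    exact eps_mul_of_mem ε hε hx)
  let rC : C →ₗ[C] Corner ε := Submodule.mkQ (Ideal.span {1 - ε})
  refine Module.Flat.of_retract (iC.restrictScalars R) (rC.restrictScalars R) ?_
  apply LinearMap.ext
  intro x
  obtain ⟨c, rfl⟩ := Ideal.Quotient.mk_surjective x
  show Ideal.Quotient.mk (Ideal.span {1 - ε}) (ε * c) = Ideal.Quotient.mk (Ideal.span {1 - ε}) c
  rw [map_mul, mk_eps ε, one_mul]

theorem corner_finite [Module.Finite R C] : Module.Finite R (Corner ε) :=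
  Module.Finite.of_surjective (Ideal.Quotient.mkₐ R (Ideal.span {1 - ε})).toLinearMap
    (Ideal.Quotient.mkₐ_surjective R _)

end Alg

end MinIdem

theorem faithfullyFlat_of_connected {R S : Type u} [CommRing R] [CommRing S] [Algebra R S]
    [IsNoetherianRing R] [PreconnectedSpace (PrimeSpectrum R)] [Module.Finite R S]
    [Module.Flat R S] [Nontrivial S] : Module.FaithfullyFlat R S := by
  haveI : Module.FinitePresentation R S := Module.finitePresentation_of_finite R S
  have hlc := Module.isLocallyConstant_rankAtStalk (R := R) (M := S)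
  apply Module.FaithfullyFlat.of_comap_surjective
  rw [← PrimeSpectrum.rankAtStalk_pos_iff_comap_surjective]
  intro p
  by_contra h0
  have h0' : Module.rankAtStalk S p = 0 := Nat.eq_zero_of_not_pos h0
  have hall : Module.rankAtStalk (R := R) S = 0 := by
    funext q
    rw [hlc.apply_eq_of_preconnectedSpace q p, h0']
    rfl
  have hsub : Subsingleton S := Module.rankAtStalk_eq_zero_iff_subsingleton.mp hall
  exact not_subsingleton S hsub

/-! ### Algebra maps out of a finite power of a connected ring -/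

theorem algHom_pi_eq_eval {C : Type u} [CommRing C] [Nontrivial C] (hC : TrivIdem C)
    {ι : Type v} [Fintype ι] [DecidableEq ι] (ψ : (ι → C) →ₐ[C] C) : ∃ j, ∀ t, ψ t = t j := by
  let u : ι → C := fun i => ψ (Pi.single i 1)
  have hu : ∀ i, IsIdempotentElem (u i) := by
    intro i
    show ψ (Pi.single i 1) * ψ (Pi.single i 1) = ψ (Pi.single i 1)
    rw [← map_mul, ← Pi.single_mul, mul_one]
  have hsum : ∑ i, u i = 1 := by
    have h1 : (∑ i, Pi.single i (1 : C) : ι → C) = 1 := Finset.univ_sum_single (1 : ι → C)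
    calc ∑ i, u i = ψ (∑ i, Pi.single i (1 : C)) := (map_sum ψ _ _).symm
      _ = ψ 1 := by rw [h1]
      _ = 1 := map_one ψ
  obtain ⟨j, hj⟩ : ∃ j, u j = 1 := by
    by_contra hno
    push Not at hno
    have hz : ∀ i, u i = 0 := fun i => (hC _ (hu i)).resolve_right (hno i)
    rw [Finset.sum_eq_zero (fun i _ => hz i)] at hsum
    exact zero_ne_one hsum
  have horth : ∀ i, i ≠ j → u i = 0 := by
    intro i hij
    have h1 : u i * u j = 0 := by
      show ψ (Pi.single i 1) * ψ (Pi.single j 1) = 0
      rw [← map_mul]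
      have : (Pi.single i (1 : C) * Pi.single j 1 : ι → C) = 0 := by
        funext k
        by_cases hk : k = i
        · subst hk
          simp [Pi.single_eq_of_ne hij]
        · simp [Pi.single_eq_of_ne hk]
      rw [this, map_zero]
    rw [hj, mul_one] at h1
    exact h1
  refine ⟨j, fun t => ?_⟩
  have hψ : ψ t = ∑ i, t i * u i := by
    have ht : t = ∑ i, t i • (Pi.single i (1 : C) : ι → C) := by
      funext k
      simp [Finset.sum_apply, Pi.single_apply]
    conv_lhs => rw [ht]
    rw [map_sum]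
    refine Finset.sum_congr rfl fun i _ => ?_
    rw [map_smul, smul_eq_mul]
  rw [hψ, Finset.sum_eq_single j (fun i _ hij => by rw [horth i hij, mul_zero])
    (fun h => absurd (Finset.mem_univ j) h), hj, mul_one]

theorem algHom_pi_pi {C : Type u} [CommRing C] [Nontrivial C] (hC : TrivIdem C)
    {ι : Type v} [Fintype ι] [DecidableEq ι] (Ψ : (ι → C) →ₐ[C] (ι → C)) :
    ∃ σ : ι → ι, ∀ t j, Ψ t j = t (σ j) := by
  choose σ hσ using fun j => algHom_pi_eq_eval hC ((Pi.evalAlgHom C (fun _ => C) j).comp Ψ)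
  exact ⟨σ, fun t j => hσ j t⟩

/-! ### Invariants and flat base change -/

section Inv

variable {R : Type u} [CommRing R] {A : Type u} [CommRing A] [Algebra R A] {G : Type u}
  (ρ : G → (A →ₐ[R] A))

/-- the subalgebra of elements fixed by every member of the family -/
def Inv : Subalgebra R A := ⨅ g, AlgHom.equalizer (ρ g) (AlgHom.id R A)

lemma mem_Inv {a : A} : a ∈ Inv ρ ↔ ∀ g, ρ g a = a := by
  simp only [Inv, Algebra.mem_iInf, AlgHom.mem_equalizer, AlgHom.coe_id, id_eq]

variable (S : Type u) [CommRing S] [Algebra R S]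

/-- the base-changed family -/
noncomputable def bc : G → (S ⊗[R] A →ₐ[S] S ⊗[R] A) :=
  fun g => Algebra.TensorProduct.map (AlgHom.id S S) (ρ g)

lemma bc_tmul (g : G) (s : S) (a : A) : bc ρ S g (s ⊗ₜ a) = s ⊗ₜ ρ g a := rfl

/-- the base change of the inclusion of the invariants -/
noncomputable def inclBC : S ⊗[R] Inv ρ →ₐ[S] S ⊗[R] A :=
  Algebra.TensorProduct.map (AlgHom.id S S) (Inv ρ).val

lemma inclBC_tmul (s : S) (b : Inv ρ) : inclBC ρ S (s ⊗ₜ b) = s ⊗ₜ (b : A) := rfl

lemma inclBC_eq_lTensor (t : S ⊗[R] Inv ρ) :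
    inclBC ρ S t = (Inv ρ).val.toLinearMap.lTensor S t := by
  induction t using TensorProduct.induction_on with
  | zero => rw [map_zero, map_zero]
  | tmul s b => rfl
  | add x y hx hy => rw [map_add, map_add, hx, hy]

theorem inclBC_injective [Module.Flat R S] : Function.Injective (inclBC ρ S) := by
  have h := Module.Flat.lTensor_preserves_injective_linearMap (M := S)
    (Inv ρ).val.toLinearMap Subtype.val_injective
  intro x y hxy
  apply h
  rw [← inclBC_eq_lTensor, ← inclBC_eq_lTensor, hxy]

lemma inclBC_mem (t : S ⊗[R] Inv ρ) : inclBC ρ S t ∈ Inv (bc ρ S) := by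
  rw [mem_Inv]
  intro g
  induction t using TensorProduct.induction_on with
  | zero => rw [map_zero, map_zero]
  | tmul s b => rw [inclBC_tmul, bc_tmul, (mem_Inv ρ).mp b.2 g]
  | add x y hx hy => rw [map_add, map_add, hx, hy]

theorem mem_range_inclBC [Module.Flat R S] [Finite G] {t : S ⊗[R] A}
    (ht : t ∈ Inv (bc ρ S)) : ∃ s, inclBC ρ S s = t := by
  classical
  cases nonempty_fintype G
  let δ : A →ₗ[R] (G → A) := LinearMap.pi fun g => (ρ g).toLinearMap - LinearMap.id
  have hex : Function.Exact (Inv ρ).val.toLinearMap δ := by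
    intro a
    constructor
    · intro h
      refine ⟨⟨a, (mem_Inv ρ).mpr fun g => ?_⟩, rfl⟩
      have := congrFun h g
      exact sub_eq_zero.mp this
    · rintro ⟨b, rfl⟩
      funext g
      exact sub_eq_zero.mpr ((mem_Inv ρ).mp b.2 g)
  have hex' := Module.Flat.lTensor_exact S hex
  have key : ∀ (t : S ⊗[R] A) (g : G),
      TensorProduct.piRight R S S (fun _ : G => A) (δ.lTensor S t) g = bc ρ S g t - t := by
    intro t g
    induction t using TensorProduct.induction_on with
    | zero => simp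
    | tmul s a =>
      rw [LinearMap.lTensor_tmul, TensorProduct.piRight_apply, TensorProduct.piRightHom_tmul,
        bc_tmul]
      show s ⊗ₜ[R] (ρ g a - a) = _
      rw [TensorProduct.tmul_sub]
    | add x y hx hy =>
      rw [map_add, map_add, map_add, Pi.add_apply, hx, hy]
      abel
  have h0 : δ.lTensor S t = 0 := by
    apply (TensorProduct.piRight R S S (fun _ : G => A)).injective
    rw [map_zero]
    funext g
    rw [key t g, (mem_Inv _).mp ht g, sub_self]
    rfl
  obtain ⟨s, hs⟩ := (hex' t).mp h0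
  exact ⟨s, by rw [inclBC_eq_lTensor]; exact hs⟩

/-! ### Permutation actions on a split algebra -/

section Perm

variable {S} {ι : Type v} (σ : G → ι → ι)

/-- the relation generating the orbits -/
def OrbRel : ι → ι → Prop := fun j j' => ∃ g, σ g j = j'

/-- the set of orbits -/
abbrev Orb : Type v := Quot (OrbRel σ)

variable (S) in
/-- functions on the orbit set as functions on the index set -/
def orbMap : (Orb σ → S) →ₐ[S] (ι → S) where
  toFun f j := f (Quot.mk _ j)
  map_one' := rfl
  map_mul' _ _ := rfl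
  map_zero' := rfl
  map_add' _ _ := rfl
  commutes' _ := rfl

lemma orbMap_injective : Function.Injective (orbMap S σ) := by
  intro f f' h
  funext q
  obtain ⟨j, rfl⟩ := Quot.exists_rep q
  exact congrFun h j

theorem equiv_of_perm [Module.Flat R S] [Finite G] (θ : S ⊗[R] A ≃ₐ[S] (ι → S))
    (hσ : ∀ g t j, θ (bc ρ S g t) j = θ t (σ g j)) :
    Nonempty (S ⊗[R] Inv ρ ≃ₐ[S] (Orb σ → S)) := by
  let u : S ⊗[R] Inv ρ →ₐ[S] (ι → S) := (θ : S ⊗[R] A →ₐ[S] (ι → S)).comp (inclBC ρ S)
  have hu : Function.Injective u := θ.injective.comp (inclBC_injective ρ S)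
  have hrange : u.range = (orbMap S σ).range := by
    apply le_antisymm
    · rintro w ⟨s, rfl⟩
      have hinv := (mem_Inv _).mp (inclBC_mem ρ S s)
      have hw : ∀ g j, u s (σ g j) = u s j := by
        intro g j
        show θ (inclBC ρ S s) (σ g j) = θ (inclBC ρ S s) j
        rw [← hσ g (inclBC ρ S s) j, hinv g]
      refine ⟨Quot.lift (u s) (by rintro j j' ⟨g, rfl⟩; exact (hw g j).symm), ?_⟩
      rfl
    · rintro w ⟨f, rfl⟩
      have ht : θ.symm (orbMap S σ f) ∈ Inv (bc ρ S) := by
        rw [mem_Inv]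
        intro g
        apply θ.injective
        funext j
        rw [hσ, θ.apply_symm_apply]
        exact congrArg f (Quot.sound ⟨g, rfl⟩).symm
      obtain ⟨s, hs⟩ := mem_range_inclBC ρ S ht
      refine ⟨s, ?_⟩
      show θ (inclBC ρ S s) = _
      rw [hs, θ.apply_symm_apply]
      rfl
  exact ⟨(AlgEquiv.ofInjective u hu).trans ((Subalgebra.equivOfEq _ _ hrange).trans
    (AlgEquiv.ofInjective (orbMap S σ) (orbMap_injective σ)).symm)⟩

theorem etale_Inv_of_perm [Module.FaithfullyFlat R S] [Finite G] [Finite ι]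
    (θ : S ⊗[R] A ≃ₐ[S] (ι → S))
    (hσ : ∀ g t j, θ (bc ρ S g t) j = θ t (σ g j)) : Algebra.Etale R (Inv ρ) := by
  obtain ⟨e⟩ := equiv_of_perm ρ σ θ hσ
  haveI : Finite (Orb σ) := inferInstance
  haveI : Algebra.Etale S (Orb σ → S) := inferInstance
  haveI : Algebra.Etale S (S ⊗[R] Inv ρ) := Algebra.Etale.of_equiv e.symm
  exact Algebra.Etale.of_etale_tensorProduct_of_faithfullyFlat S

end Perm

end Inv

end Groth.Agent.Lib.Helper25.FEtInv
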