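import Mathlib
import Groth.Prelude.Def_SchFin
import Groth.Prelude.Def_SchFin2
import Groth.Agent.Lib.Helper25.FEtInv1

/-!
# Invariants of étale covers under a finite family of endomorphisms
-/

set_option autoImplicit false
universe u v

namespace Groth.Agent.Lib.Helper25.FEtInv

open TensorProduct

/-! ### Étaleness of the invariants (ring level) -/

theorem etale_Inv {R A : Type u} [CommRing R] [CommRing A] [Algebra R A] [IsNoetherianRing R]
    [ConnectedSpace (PrimeSpectrum R)] {G : Type u} [Finite G] (ρ : G → (A →ₐ[R] A))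
    (C : Type u) [CommRing C] [Algebra R C] [Module.Finite R C] [Module.FaithfullyFlat R C]
    (n : ℕ) (θ : C ⊗[R] A ≃ₐ[C] (Fin n → C)) : Algebra.Etale R (Inv ρ) := by
  haveI : Nontrivial R := (Classical.arbitrary (PrimeSpectrum R)).nontrivial
  haveI : Nontrivial (C ⊗[R] R) := inferInstance
  haveI : Nontrivial C := (TensorProduct.rid R C).symm.toEquiv.nontrivial
  haveI : IsNoetherianRing C :=
    isNoetherian_of_tower R (isNoetherian_of_isNoetherianRing_of_finite R C)
  obtain ⟨ε, hε, hε0, hmin⟩ := exists_minimal_idem (C := C)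
  haveI := corner_nontrivial ε hε hε0
  have htriv := corner_trivIdem ε hε hmin
  haveI : Module.Flat R (Corner ε) := corner_flat ε hε
  haveI : Module.Finite R (Corner ε) := corner_finite ε
  haveI : Module.FaithfullyFlat R (Corner ε) := faithfullyFlat_of_connected
  let θ' : Corner ε ⊗[R] A ≃ₐ[Corner ε] (Fin n → Corner ε) :=
    ((Algebra.TensorProduct.cancelBaseChange R C (Corner ε) (Corner ε) A).symm.trans
      (Algebra.TensorProduct.congr (AlgEquiv.refl : Corner ε ≃ₐ[Corner ε] Corner ε) θ)).trans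
      ((Algebra.TensorProduct.piRight C (Corner ε) (Corner ε) (fun _ : Fin n => C)).trans
        (AlgEquiv.piCongrRight fun _ => Algebra.TensorProduct.rid C (Corner ε) (Corner ε)))
  have hσ : ∀ g, ∃ σ : Fin n → Fin n, ∀ t j, θ' (bc ρ (Corner ε) g t) j = θ' t (σ j) := by
    intro g
    obtain ⟨σ, hσ⟩ := algHom_pi_pi htriv
      ((θ'.toAlgHom.comp (bc ρ (Corner ε) g)).comp θ'.symm.toAlgHom)
    refine ⟨σ, fun t j => ?_⟩
    have h := hσ (θ' t) j
    have h2 : θ' (bc ρ (Corner ε) g (θ'.symm (θ' t))) j = θ' t (σ j) := h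
    rwa [θ'.symm_apply_apply] at h2
  choose σ hσ' using hσ
  exact etale_Inv_of_perm ρ σ θ' hσ'

theorem exact_inv {R A : Type u} [CommRing R] [CommRing A] [Algebra R A] {G : Type u}
    (ρ : G → (A →ₐ[R] A)) :
    Function.Exact (Inv ρ).val.toLinearMap
      (LinearMap.pi fun g => (ρ g).toLinearMap - LinearMap.id : A →ₗ[R] (G → A)) := by
  intro a
  constructor
  · intro h
    refine ⟨⟨a, (mem_Inv ρ).mpr fun g => ?_⟩, rfl⟩
    have := congrFun h g
    exact sub_eq_zero.mp this
  · rintro ⟨b, rfl⟩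
    funext g
    exact sub_eq_zero.mpr ((mem_Inv ρ).mp b.2 g)

/-! ### The algebra of invariants over a finite ringed poset -/

section AlgX

open SchFin CategoryTheory CategoryTheory.Limits

variable {X : RSpace.{u}} {A : Alg X} {G : Type u} (ρ : G → (A ⟶ A))

/-- the family of endomorphisms at a point -/
abbrev famAt (p : X.pt) : G → (A.carrier p →ₐ[X.ring p] A.carrier p) := fun g => (ρ g).app p

lemma res_mem {p q : X.pt} (h : p ≤ q) (x : Inv (famAt ρ p)) :
    A.res h x.1 ∈ Inv (famAt ρ q) := by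
  rw [mem_Inv]
  intro g
  show (ρ g).app q (A.res h x.1) = A.res h x.1
  have hx : (ρ g).app p x.1 = x.1 := (mem_Inv _).mp x.2 g
  rw [← (ρ g).compat h, hx]

/-- the algebra of invariants -/
def invAlg : Alg X where
  carrier p := Inv (famAt ρ p)
  res {p q} h := ((A.res h).comp (Inv (famAt ρ p)).val.toRingHom).codRestrict (Inv (famAt ρ q))
    (fun x => res_mem ρ h x)
  res_algebraMap {p q} h a := Subtype.ext (A.res_algebraMap h a)
  res_self p b := Subtype.ext (A.res_self p b.1)
  res_comp {p q r} h h' b := Subtype.ext (A.res_comp h h' b.1)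

/-- the inclusion of the invariants -/
def invι : invAlg ρ ⟶ A := ⟨fun p => (Inv (famAt ρ p)).val, fun _ _ => rfl⟩

lemma invι_comp (g : G) : invι ρ ≫ ρ g = invι ρ := by
  apply Alg.hom_ext
  intro p
  apply AlgHom.ext
  intro x
  exact (mem_Inv _).mp x.2 g

/-- lifting an invariant morphism to the invariants -/
def invLift {W : Alg X} (π : W ⟶ A) (hπ : ∀ g, π ≫ ρ g = π) : W ⟶ invAlg ρ :=
  ⟨fun p => (π.app p).codRestrict (Inv (famAt ρ p)) (fun w => (mem_Inv _).mpr fun g =>
      congrArg (fun m : W ⟶ A => m.app p w) (hπ g)),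
    fun h b => Subtype.ext (π.compat h b)⟩

lemma invLift_ι {W : Alg X} (π : W ⟶ A) (hπ : ∀ g, π ≫ ρ g = π) :
    invLift ρ π hπ ≫ invι ρ = π := by
  apply Alg.hom_ext
  intro p
  apply AlgHom.ext
  intro w
  rfl

lemma inv_hom_ext {W : Alg X} (m m' : W ⟶ invAlg ρ) (h : m ≫ invι ρ = m' ≫ invι ρ) : m = m' := by
  apply Alg.hom_ext
  intro p
  apply AlgHom.ext
  intro w
  apply Subtype.ext
  exact congrArg (fun k : W ⟶ A => k.app p w) h

theorem invAlg_isQcoh [Finite G] (hX : X.IsFinSp) (hA : A.IsQcoh) : (invAlg ρ).IsQcoh := by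
  classical
  intro p q h
  letI : Algebra (X.ring p) (X.ring q) := (X.res h).toAlgebra
  haveI : Module.Flat (X.ring p) (X.ring q) := hX.2 p q h
  letI : Module (X.ring p) (A.carrier q) := Module.compHom _ (X.res h)
  haveI : IsScalarTower (X.ring p) (X.ring q) (A.carrier q) :=
    IsScalarTower.of_algebraMap_smul fun _ _ => rfl
  letI : Module (X.ring p) (Inv (famAt ρ q)) := Module.compHom _ (X.res h)
  haveI : IsScalarTower (X.ring p) (X.ring q) (Inv (famAt ρ q)) :=
    IsScalarTower.of_algebraMap_smul fun _ _ => rfl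
  let h₂ : A.carrier p →ₗ[X.ring p] A.carrier q :=
    { toFun := A.toMod.res h
      map_add' := (A.toMod.res h).map_add
      map_smul' := (A.toMod.res h).map_smulₛₗ }
  let h₁ : Inv (famAt ρ p) →ₗ[X.ring p] Inv (famAt ρ q) :=
    { toFun := (invAlg ρ).toMod.res h
      map_add' := ((invAlg ρ).toMod.res h).map_add
      map_smul' := ((invAlg ρ).toMod.res h).map_smulₛₗ }
  have isb₂ : IsBaseChange (X.ring q) h₂ := hA p q h
  show IsBaseChange (X.ring q) h₁
  let h₃ : (G → A.carrier p) →ₗ[X.ring p] (G → A.carrier q) :=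
    LinearMap.pi fun g => h₂ ∘ₗ LinearMap.proj g
  have isb₃ : IsBaseChange (X.ring q) h₃ := IsBaseChange.pi (fun _ => h₂) (fun _ => isb₂)
  let δp : A.carrier p →ₗ[X.ring p] (G → A.carrier p) :=
    LinearMap.pi fun g => ((ρ g).app p).toLinearMap - LinearMap.id
  let δq : A.carrier q →ₗ[X.ring q] (G → A.carrier q) :=
    LinearMap.pi fun g => ((ρ g).app q).toLinearMap - LinearMap.id
  refine IsBaseChange.of_left_exact (X.ring q) h₁ h₂ h₃
    (f := (Inv (famAt ρ p)).val.toLinearMap) (g := δp)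
    (f' := (Inv (famAt ρ q)).val.toLinearMap) (g' := δq) ?_ ?_ isb₂ isb₃ ?_
    Subtype.val_injective ?_ Subtype.val_injective
  · apply LinearMap.ext
    intro x
    rfl
  · apply LinearMap.ext
    intro a
    funext g
    show A.res h ((ρ g).app p a - a) = (ρ g).app q (A.res h a) - A.res h a
    rw [map_sub, (ρ g).compat h]
  · exact exact_inv (famAt ρ p)
  · exact exact_inv (famAt ρ q)

theorem invAlg_isEtCover [Finite G] (hX : X.IsFinSp) (hpw : X.IsPwConnected) (hA : A.IsEtCover)
    (hlt : ∃ (B : Alg X) (n : ℕ), B.IsCovering ∧ ∀ p : X.pt,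
      Nonempty (TensorProduct (X.ring p) (B.carrier p) (A.carrier p)
        ≃ₐ[B.carrier p] (Fin n → B.carrier p))) :
    (invAlg ρ).IsEtCover := by
  refine ⟨invAlg_isQcoh ρ hX hA.1, fun p => ?_⟩
  obtain ⟨B, n, hB, hiso⟩ := hlt
  obtain ⟨θ⟩ := hiso p
  haveI := hX.1 p
  haveI := hpw p
  haveI := (hA.2 p).1
  haveI := (hA.2 p).2
  haveI := (hB.2 p).1
  haveI := (hB.2 p).2
  constructor
  · show Module.Finite (X.ring p) (Inv (famAt ρ p))
    haveI : IsNoetherian (X.ring p) (A.carrier p) :=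
      isNoetherian_of_isNoetherianRing_of_finite _ _
    exact Module.Finite.of_injective (Inv (famAt ρ p)).val.toLinearMap Subtype.val_injective
  · show Algebra.Etale (X.ring p) (Inv (famAt ρ p))
    exact etale_Inv (famAt ρ p) (B.carrier p) n θ

end AlgX

/-! ### Categorical form -/

section Cat

open SchFin CategoryTheory CategoryTheory.Limits

variable {X : RSpace.{u}} {A : FEt X} {G : Type u} (ρ : G → (A ⟶ A))
  (h : (invAlg fun g => (ρ g).hom).IsEtCover)

/-- the étale cover of invariants -/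
def invFEt : FEt X := ⟨invAlg fun g => (ρ g).hom, h⟩

/-- the inclusion -/
def invιF : invFEt ρ h ⟶ A := ObjectProperty.homMk (invι fun g => (ρ g).hom)

lemma invιF_comp (g : G) : invιF ρ h ≫ ρ g = invιF ρ h := by
  apply ObjectProperty.hom_ext
  exact invι_comp (fun g => (ρ g).hom) g

/-- the lift -/
def invLiftF {W : FEt X} (π : W ⟶ A) (hπ : ∀ g, π ≫ ρ g = π) : W ⟶ invFEt ρ h :=
  ObjectProperty.homMk (invLift (fun g => (ρ g).hom) π.hom
    (fun g => congrArg (fun m : W ⟶ A => m.hom) (hπ g)))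

lemma invLiftF_ι {W : FEt X} (π : W ⟶ A) (hπ : ∀ g, π ≫ ρ g = π) :
    invLiftF ρ h π hπ ≫ invιF ρ h = π := by
  apply ObjectProperty.hom_ext
  exact invLift_ι (fun g => (ρ g).hom) π.hom
    (fun g => congrArg (fun m : W ⟶ A => m.hom) (hπ g))

lemma invF_hom_ext {W : FEt X} (m m' : W ⟶ invFEt ρ h)
    (hm : m ≫ invιF ρ h = m' ≫ invιF ρ h) : m = m' := by
  apply ObjectProperty.hom_ext
  exact inv_hom_ext (fun g => (ρ g).hom) m.hom m'.hom
    (congrArg (fun k : W ⟶ A => k.hom) hm)

variable {Gp : Type u} [Group Gp] (F : SingleObj Gp ⥤ FEt X)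

/-- the family of endomorphisms given by a functor from a one-object category -/
def ρF : Gp → (F.obj (SingleObj.star Gp) ⟶ F.obj (SingleObj.star Gp)) :=
  fun g => F.map (X := SingleObj.star Gp) (Y := SingleObj.star Gp) g

variable (hF : (invAlg fun g : Gp => (ρF F g).hom).IsEtCover)

/-- the cone of invariants -/
def coneOf : Cone F where
  pt := invFEt (ρF F) hF
  π :=
    { app := fun j => (invιF (ρF F) hF : invFEt (ρF F) hF ⟶ F.obj j)
      naturality := fun j j' g => by
        have h1 := invιF_comp (ρF F) hF g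
        exact (Category.id_comp _).trans h1.symm }

/-- the cone of invariants is a limit cone -/
def isLimitOf : IsLimit (coneOf F hF) where
  lift s := invLiftF (ρF F) hF (s.π.app (SingleObj.star Gp))
    (fun g => s.w (j := SingleObj.star Gp) (j' := SingleObj.star Gp) g)
  fac s _ := invLiftF_ι (ρF F) hF _ _
  uniq s m hm := invF_hom_ext (ρF F) hF _ _
    ((hm (SingleObj.star Gp)).trans (invLiftF_ι (ρF F) hF _ _).symm)

end Cat

theorem hasLimitsOfShape_singleObj (X : SchFin.RSpace.{u}) (hX : X.IsFinSp)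
    (hpw : X.IsPwConnected)
    (hlt : ∀ A : SchFin.FEt X, ∃ (B : SchFin.Alg X) (n : ℕ), B.IsCovering ∧ ∀ p : X.pt,
      Nonempty (TensorProduct (X.ring p) (B.carrier p) (A.obj.carrier p)
        ≃ₐ[B.carrier p] (Fin n → B.carrier p)))
    (G : Type u) [Group G] [Finite G] :
    CategoryTheory.Limits.HasLimitsOfShape (CategoryTheory.SingleObj G) (SchFin.FEt X) := by
  refine ⟨fun F => ?_⟩
  have hF := invAlg_isEtCover (fun g : G => (ρF F g).hom)
    hX hpw (F.obj (CategoryTheory.SingleObj.star G)).property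
    (hlt (F.obj (CategoryTheory.SingleObj.star G)))
  exact ⟨⟨⟨coneOf F hF, isLimitOf F hF⟩⟩⟩

end Groth.Agent.Lib.Helper25.FEtInv
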