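import Mathlib
import Groth.Prelude.Def_SchFin
import Groth.Prelude.Def_SchFin2
import Groth.Agent.Lib.Helper25.FEtInv2

/-!
# Invariants of étale covers: base change to a geometric point, quotients and the fibre functor
-/

set_option autoImplicit false
universe u v

namespace Groth.Agent.Lib.Helper25.FEtInv

open TensorProduct

section Ring

variable {R : Type u} [CommRing R] {A : Type u} [CommRing A] [Algebra R A] {G : Type u}
  (ρ : G → (A →ₐ[R] A))

/-- refined form of `equiv_of_perm`, recording the compatibility with the trivialisation -/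
theorem equiv_of_perm' {S : Type u} [CommRing S] [Algebra R S] {ι : Type v} (σ : G → ι → ι)
    [Module.Flat R S] [Finite G] (θ : S ⊗[R] A ≃ₐ[S] (ι → S))
    (hσ : ∀ g t j, θ (bc ρ S g t) j = θ t (σ g j)) :
    ∃ e : S ⊗[R] Inv ρ ≃ₐ[S] (Orb σ → S), ∀ b, orbMap S σ (e b) = θ (inclBC ρ S b) := by
  let u : S ⊗[R] Inv ρ →ₐ[S] (ι → S) := (θ : S ⊗[R] A →ₐ[S] (ι → S)).comp (inclBC ρ S)
  have hu : Function.Injective u := θ.injective.comp (inclBC_injective ρ S)
  have hrange : u.range = (orbMap S σ).range := by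
    apply le_antisymm
    · rintro w ⟨s, rfl⟩
      have hinv := (mem_Inv _).mp (inclBC_mem ρ S s)
      have hw : ∀ g j, u s (σ g j) = u s j := by
        intro g j
        show θ (inclBC ρ S s) (σ g j) = θ (inclBC ρ S s) j
        rw [← hσ g (inclBC ρ S s) j, hinv g]
      refine ⟨Quot.lift (u s) (by rintro j j' ⟨g, rfl⟩; exact (hw g j).symm), ?_⟩
      rfl
    · rintro w ⟨f, rfl⟩
      have ht : θ.symm (orbMap S σ f) ∈ Inv (bc ρ S) := by
        rw [mem_Inv]
        intro g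
        apply θ.injective
        funext j
        rw [hσ, θ.apply_symm_apply]
        exact congrArg f (Quot.sound ⟨g, rfl⟩).symm
      obtain ⟨s, hs⟩ := mem_range_inclBC ρ S ht
      refine ⟨s, ?_⟩
      show θ (inclBC ρ S s) = _
      rw [hs, θ.apply_symm_apply]
      rfl
  refine ⟨(AlgEquiv.ofInjective u hu).trans ((Subalgebra.equivOfEq _ _ hrange).trans
    (AlgEquiv.ofInjective (orbMap S σ) (orbMap_injective σ)).symm), fun b => ?_⟩
  have := (AlgEquiv.ofInjective (orbMap S σ) (orbMap_injective σ)).apply_symm_apply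
    (Subalgebra.equivOfEq _ _ hrange (AlgEquiv.ofInjective u hu b))
  exact congrArg Subtype.val this

/-- a connected finite faithfully flat trivialising algebra, over which the family acts by
substitutions of coordinates -/
theorem exists_conn_perm [IsNoetherianRing R] [ConnectedSpace (PrimeSpectrum R)] [Finite G]
    (C : Type u) [CommRing C] [Algebra R C] [Module.Finite R C] [Module.FaithfullyFlat R C]
    (n : ℕ) (θ : C ⊗[R] A ≃ₐ[C] (Fin n → C)) :
    ∃ (C' : Type u) (_ : CommRing C') (_ : Algebra R C') (_ : Module.Finite R C')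
      (_ : Module.FaithfullyFlat R C') (θ' : C' ⊗[R] A ≃ₐ[C'] (Fin n → C'))
      (σ : G → Fin n → Fin n), ∀ g t j, θ' (bc ρ C' g t) j = θ' t (σ g j) := by
  haveI : Nontrivial R := (Classical.arbitrary (PrimeSpectrum R)).nontrivial
  haveI : Nontrivial (C ⊗[R] R) := inferInstance
  haveI : Nontrivial C := (TensorProduct.rid R C).symm.toEquiv.nontrivial
  haveI : IsNoetherianRing C :=
    isNoetherian_of_tower R (isNoetherian_of_isNoetherianRing_of_finite R C)
  obtain ⟨ε, hε, hε0, hmin⟩ := exists_minimal_idem (C := C)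
  haveI := corner_nontrivial ε hε hε0
  have htriv := corner_trivIdem ε hε hmin
  haveI : Module.Flat R (Corner ε) := corner_flat ε hε
  haveI : Module.Finite R (Corner ε) := corner_finite ε
  haveI : Module.FaithfullyFlat R (Corner ε) := faithfullyFlat_of_connected
  let θ' : Corner ε ⊗[R] A ≃ₐ[Corner ε] (Fin n → Corner ε) :=
    ((Algebra.TensorProduct.cancelBaseChange R C (Corner ε) (Corner ε) A).symm.trans
      (Algebra.TensorProduct.congr (AlgEquiv.refl : Corner ε ≃ₐ[Corner ε] Corner ε) θ)).trans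
      ((Algebra.TensorProduct.piRight C (Corner ε) (Corner ε) (fun _ : Fin n => C)).trans
        (AlgEquiv.piCongrRight fun _ => Algebra.TensorProduct.rid C (Corner ε) (Corner ε)))
  have hσ : ∀ g, ∃ σ : Fin n → Fin n, ∀ t j, θ' (bc ρ (Corner ε) g t) j = θ' t (σ j) := by
    intro g
    obtain ⟨σ, hσ⟩ := algHom_pi_pi htriv
      ((θ'.toAlgHom.comp (bc ρ (Corner ε) g)).comp θ'.symm.toAlgHom)
    refine ⟨σ, fun t j => ?_⟩
    have h := hσ (θ' t) j
    have h2 : θ' (bc ρ (Corner ε) g (θ'.symm (θ' t))) j = θ' t (σ j) := h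
    rwa [θ'.symm_apply_apply] at h2
  choose σ hσ' using hσ
  exact ⟨Corner ε, inferInstance, inferInstance, inferInstance, inferInstance, θ', σ, hσ'⟩

/-- a finite faithfully flat algebra maps to every algebraically closed field over the base -/
theorem exists_algHom_field (C' : Type u) [CommRing C'] [Algebra R C'] [Module.Finite R C']
    [Module.FaithfullyFlat R C'] (Ω : Type u) [Field Ω] [IsAlgClosed Ω] [Algebra R Ω] :
    Nonempty (C' →ₐ[R] Ω) := by
  haveI : Nontrivial (Ω ⊗[R] C') := inferInstance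
  obtain ⟨𝔪, h𝔪⟩ := Ideal.exists_maximal (Ω ⊗[R] C')
  haveI := h𝔪
  haveI : Module.Finite Ω (Ω ⊗[R] C') := inferInstance
  haveI : Module.Finite Ω ((Ω ⊗[R] C') ⧸ 𝔪) :=
    Module.Finite.of_surjective (Ideal.Quotient.mkₐ Ω 𝔪).toLinearMap
      (Ideal.Quotient.mkₐ_surjective Ω 𝔪)
  haveI : Algebra.IsIntegral Ω ((Ω ⊗[R] C') ⧸ 𝔪) := Algebra.IsIntegral.of_finite Ω _
  have hbij : Function.Bijective (Algebra.ofId Ω ((Ω ⊗[R] C') ⧸ 𝔪)) :=
    IsAlgClosed.algebraMap_bijective_of_isIntegral (k := Ω) (K := (Ω ⊗[R] C') ⧸ 𝔪)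
  let e : Ω ≃ₐ[Ω] ((Ω ⊗[R] C') ⧸ 𝔪) := AlgEquiv.ofBijective (Algebra.ofId Ω _) hbij
  exact ⟨((e.symm.toAlgHom.restrictScalars R).comp
    ((Ideal.Quotient.mkₐ Ω 𝔪).restrictScalars R)).comp
    (Algebra.TensorProduct.includeRight : C' →ₐ[R] Ω ⊗[R] C')⟩

section TrivBC

variable {C' : Type u} [CommRing C'] [Algebra R C'] {Ω : Type u} [CommRing Ω] [Algebra R Ω]
  [Algebra C' Ω] [IsScalarTower R C' Ω]
  (B : Type u) [CommRing B] [Algebra R B] {ι : Type v} [Fintype ι] [DecidableEq ι]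

/-- base change of a trivialisation along an algebra map of the trivialising algebras -/
noncomputable def trivBC (θ' : C' ⊗[R] B ≃ₐ[C'] (ι → C')) : Ω ⊗[R] B ≃ₐ[Ω] (ι → Ω) :=
  ((Algebra.TensorProduct.cancelBaseChange R C' Ω Ω B).symm.trans
    (Algebra.TensorProduct.congr (AlgEquiv.refl : Ω ≃ₐ[Ω] Ω) θ')).trans
    ((Algebra.TensorProduct.piRight C' Ω Ω (fun _ : ι => C')).trans
      (AlgEquiv.piCongrRight fun _ => Algebra.TensorProduct.rid C' Ω Ω))

lemma trivBC_tmul (θ' : C' ⊗[R] B ≃ₐ[C'] (ι → C')) (w : Ω) (b : B) (j : ι) :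
    trivBC B θ' (w ⊗ₜ b) j = θ' (1 ⊗ₜ b) j • w := by
  simp only [trivBC, AlgEquiv.trans_apply, Algebra.TensorProduct.cancelBaseChange_symm_tmul]
  rfl

end TrivBC

/-- base change of the invariants to an algebraically closed field -/
theorem inclBC_field [IsNoetherianRing R] [ConnectedSpace (PrimeSpectrum R)] [Finite G]
    (C : Type u) [CommRing C] [Algebra R C] [Module.Finite R C] [Module.FaithfullyFlat R C]
    (n : ℕ) (θ : C ⊗[R] A ≃ₐ[C] (Fin n → C)) (Ω : Type u) [Field Ω] [IsAlgClosed Ω]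
    [Algebra R Ω] :
    Function.Injective (inclBC ρ Ω) ∧ ∀ t ∈ Inv (bc ρ Ω), ∃ s, inclBC ρ Ω s = t := by
  classical
  obtain ⟨C', _, _, _, _, θ', σ, hσ⟩ := exists_conn_perm ρ C n θ
  obtain ⟨e, he⟩ := equiv_of_perm' ρ σ θ' hσ
  obtain ⟨χ⟩ := exists_algHom_field (R := R) C' Ω
  letI : Algebra C' Ω := χ.toRingHom.toAlgebra
  haveI : IsScalarTower R C' Ω := IsScalarTower.of_algebraMap_eq (fun r => (χ.commutes r).symm)
  haveI : Fintype (Orb σ) := Fintype.ofFinite _
  let θΩ : Ω ⊗[R] A ≃ₐ[Ω] (Fin n → Ω) := trivBC A θ'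
  let E1 : Ω ⊗[R] Inv ρ ≃ₐ[Ω] (Orb σ → Ω) := trivBC (Inv ρ) e
  have hsq : ∀ s, θΩ (inclBC ρ Ω s) = orbMap Ω σ (E1 s) := by
    intro s
    induction s using TensorProduct.induction_on with
    | zero => simp
    | tmul w x =>
      funext j
      rw [inclBC_tmul]
      show trivBC A θ' (w ⊗ₜ (x : A)) j = trivBC (Inv ρ) e (w ⊗ₜ x) (Quot.mk _ j)
      rw [trivBC_tmul, trivBC_tmul]
      have h1 : e (1 ⊗ₜ x) (Quot.mk _ j) = θ' (1 ⊗ₜ (x : A)) j := congrFun (he (1 ⊗ₜ x)) j
      rw [h1]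
    | add a b ha hb => simp only [map_add, ha, hb]
  have hσΩ : ∀ g t j, θΩ (bc ρ Ω g t) j = θΩ t (σ g j) := by
    intro g t j
    induction t using TensorProduct.induction_on with
    | zero => simp
    | tmul w a =>
      rw [bc_tmul]
      show trivBC A θ' (w ⊗ₜ ρ g a) j = trivBC A θ' (w ⊗ₜ a) (σ g j)
      rw [trivBC_tmul, trivBC_tmul]
      have h1 := hσ g (1 ⊗ₜ a) j
      rw [bc_tmul] at h1
      rw [h1]
    | add a b ha hb => simp only [map_add, Pi.add_apply, ha, hb]
  constructor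
  · intro s s' hss
    have := (hsq s).symm.trans ((congrArg θΩ hss).trans (hsq s'))
    exact E1.injective (orbMap_injective σ this)
  · intro t ht
    have hw : ∀ g j, θΩ t (σ g j) = θΩ t j := by
      intro g j
      rw [← hσΩ g t j, (mem_Inv _).mp ht g]
    let f : Orb σ → Ω := Quot.lift (θΩ t) (by rintro j j' ⟨g, rfl⟩; exact (hw g j).symm)
    refine ⟨E1.symm f, ?_⟩
    apply θΩ.injective
    rw [hsq, E1.apply_symm_apply]
    rfl

end Ring

end Groth.Agent.Lib.Helper25.FEtInv
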