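import Mathlib
import Groth.Prelude.Def_SchFin
import Groth.Prelude.Def_SchFin2
import Groth.Agent.Lib.Helper25.FEtInv3

/-!
# Quotients by finite groups in the opposite of the category of étale covers, and the fibre functor
-/

set_option autoImplicit false
universe u

namespace Groth.Agent.Lib.Helper25.FEtInv

open SchFin TensorProduct CategoryTheory CategoryTheory.Limits CommAlgCat Opposite
open Groth.Agent.Lib.Helper25.FEtFib

variable {X : RSpace.{u}}

section OpCone

variable {Gp : Type u} [Group Gp] (F : (SingleObj Gp)ᵒᵖ ⥤ FEt X)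

/-- the family of endomorphisms given by a functor from the opposite of a one-object category -/
def ρF' : Gp → (F.obj (op (SingleObj.star Gp)) ⟶ F.obj (op (SingleObj.star Gp))) :=
  fun g => F.map (X := op (SingleObj.star Gp)) (Y := op (SingleObj.star Gp))
    (Quiver.Hom.op (X := SingleObj.star Gp) (Y := SingleObj.star Gp) g)

variable (hF : (invAlg fun g : Gp => (ρF' F g).hom).IsEtCover)

/-- the cone of invariants -/
def coneOp : Cone F where
  pt := invFEt (ρF' F) hF
  π :=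
    { app := fun j => (invιF (ρF' F) hF : invFEt (ρF' F) hF ⟶ F.obj j)
      naturality := fun j j' f => by
        have h1 := invιF_comp (ρF' F) hF f.unop
        exact (Category.id_comp _).trans h1.symm }

/-- the cone of invariants is a limit cone -/
def isLimitOp : IsLimit (coneOp F hF) where
  lift s := invLiftF (ρF' F) hF (s.π.app (op (SingleObj.star Gp)))
    (fun g => s.w (j := op (SingleObj.star Gp)) (j' := op (SingleObj.star Gp))
      (Quiver.Hom.op (X := SingleObj.star Gp) (Y := SingleObj.star Gp) g))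
  fac s _ := invLiftF_ι (ρF' F) hF _ _
  uniq s m hm := invF_hom_ext (ρF' F) hF _ _
    ((hm (op (SingleObj.star Gp))).trans (invLiftF_ι (ρF' F) hF _ _).symm)

end OpCone

theorem hasLimitsOfShape_singleObj_op (X : RSpace.{u}) (hX : X.IsFinSp)
    (hpw : X.IsPwConnected)
    (hlt : ∀ A : FEt X, ∃ (B : Alg X) (n : ℕ), B.IsCovering ∧ ∀ p : X.pt,
      Nonempty (TensorProduct (X.ring p) (B.carrier p) (A.obj.carrier p)
        ≃ₐ[B.carrier p] (Fin n → B.carrier p)))
    (G : Type u) [Group G] [Finite G] :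
    HasLimitsOfShape (SingleObj G)ᵒᵖ (FEt X) := by
  refine ⟨fun F => ?_⟩
  have hF := invAlg_isEtCover (fun g : G => (ρF' F g).hom)
    hX hpw (F.obj (op (SingleObj.star G))).property
    (hlt (F.obj (op (SingleObj.star G))))
  exact ⟨⟨⟨coneOp F hF, isLimitOp F hF⟩⟩⟩

section PhiLimit

variable {Ω : Type u} [Field Ω] [IsAlgClosed Ω] (ξ : GeomPt X Ω)
  {Gp : Type u} [Group Gp] (F : (SingleObj Gp)ᵒᵖ ⥤ FEt X)
  (hF : (invAlg fun g : Gp => (ρF' F g).hom).IsEtCover)

theorem isLimit_mapCone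
    (hinj : letI := algΩ ξ
      Function.Injective (inclBC (famAt (fun g : Gp => (ρF' F g).hom) ξ.base) Ω))
    (hsurj : letI := algΩ ξ
      ∀ t ∈ Inv (bc (famAt (fun g : Gp => (ρF' F g).hom) ξ.base) Ω),
        ∃ s, inclBC (famAt (fun g : Gp => (ρF' F g).hom) ξ.base) Ω s = t) :
    Nonempty (IsLimit ((Φ ξ).mapCone (coneOp F hF))) := by
  letI := algΩ ξ
  let ρx := famAt (fun g : Gp => (ρF' F g).hom) ξ.base
  let eq := AlgEquiv.ofInjective (inclBC ρx Ω) hinj
  let star' : (SingleObj Gp)ᵒᵖ := op (SingleObj.star Gp)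
  let π₀ : ∀ s : Cone (F ⋙ Φ ξ),
      s.pt.obj →ₐ[Ω] (Ω ⊗[X.ring ξ.base] (F.obj star').obj.carrier ξ.base) :=
    fun s => (s.π.app star').hom.hom
  have hmem : ∀ (s : Cone (F ⋙ Φ ξ)) (w : s.pt.obj), π₀ s w ∈ (inclBC ρx Ω).range := by
    intro s w
    obtain ⟨t, ht⟩ := hsurj (π₀ s w) ((mem_Inv _).mpr fun g => by
      have h1 := s.w (j := star') (j' := star')
        (Quiver.Hom.op (X := SingleObj.star Gp) (Y := SingleObj.star Gp) g)
      exact congrArg (fun m => m.hom.hom w) h1)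
    exact ⟨t, ht⟩
  let liftHom : ∀ s : Cone (F ⋙ Φ ξ), s.pt.obj →ₐ[Ω] (Ω ⊗[X.ring ξ.base] Inv ρx) :=
    fun s => eq.symm.toAlgHom.comp ((π₀ s).codRestrict (inclBC ρx Ω).range (hmem s))
  have hlift : ∀ (s : Cone (F ⋙ Φ ξ)) (w : s.pt.obj),
      inclBC ρx Ω (liftHom s w) = π₀ s w :=
    fun s w => congrArg Subtype.val (eq.apply_symm_apply ⟨π₀ s w, hmem s w⟩)
  refine ⟨{ lift := fun s => ObjectProperty.homMk (CommAlgCat.ofHom (liftHom s))
            fac := fun s j => ?_
            uniq := fun s m hm => ?_ }⟩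
  · apply ObjectProperty.hom_ext
    apply CommAlgCat.hom_ext
    apply AlgHom.ext
    intro w
    exact hlift s w
  · apply ObjectProperty.hom_ext
    apply CommAlgCat.hom_ext
    apply AlgHom.ext
    intro w
    apply hinj
    have h1 := congrArg (fun k => k.hom.hom w) (hm star')
    exact h1.trans (hlift s w).symm

theorem preservesColimitsOfShape_fib (hX : X.IsFinSp) (hpw : X.IsPwConnected)
    (hlt : ∀ A : FEt X, ∃ (B : Alg X) (n : ℕ), B.IsCovering ∧ ∀ p : X.pt,
      Nonempty (TensorProduct (X.ring p) (B.carrier p) (A.obj.carrier p)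
        ≃ₐ[B.carrier p] (Fin n → B.carrier p)))
    (G : Type u) [Group G] [Finite G] :
    PreservesColimitsOfShape (SingleObj G) ξ.fibFunctor := by
  constructor
  intro K
  let F : (SingleObj G)ᵒᵖ ⥤ FEt X := K.leftOp
  let star' : (SingleObj G)ᵒᵖ := op (SingleObj.star G)
  have hF := invAlg_isEtCover (fun g : G => (ρF' F g).hom) hX hpw (F.obj star').property
    (hlt (F.obj star'))
  obtain ⟨B, n, hB, hiso⟩ := hlt (F.obj star')
  obtain ⟨θ⟩ := hiso ξ.base
  letI := algΩ ξ
  haveI := hX.1 ξ.base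
  haveI := hpw ξ.base
  haveI := (hB.2 ξ.base).1
  haveI := (hB.2 ξ.base).2
  obtain ⟨hinj, hsurj⟩ := inclBC_field (famAt (fun g : G => (ρF' F g).hom) ξ.base)
    (B.carrier ξ.base) n θ Ω
  obtain ⟨hΦ⟩ := isLimit_mapCone ξ F hF hinj hsurj
  haveI : PreservesLimit K.leftOp (Φ ξ) :=
    preservesLimit_of_preserves_limit_cone (isLimitOp F hF) hΦ
  haveI : PreservesColimit K (Φ ξ).op := preservesColimit_op K (Φ ξ)
  haveI : PreservesColimit K ((Φ ξ).op ⋙ FiniteEtale.finiteSpec.{u} Ω) := inferInstance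
  exact preservesColimit_of_natIso K (fibIso ξ).symm

end PhiLimit

theorem mono_summand (hX : X.IsFinSp)
    (hepi : ∀ (A B : FEt X) (f : A ⟶ B), Epi f → ∀ p : X.pt, Function.Surjective (f.hom.app p))
    {Y Z : (FEt X)ᵒᵖ} (i : Y ⟶ Z) [Mono i] :
    ∃ (W : (FEt X)ᵒᵖ) (u : W ⟶ Z), Nonempty (IsColimit (BinaryCofan.mk i u)) := by
  have hsurj := hepi _ _ i.unop inferInstance
  obtain ⟨D, π, ⟨hlim⟩⟩ := FEtIdem.exists_prod_of_surjective hX i.unop hsurj
  refine ⟨op D, π.op, ⟨BinaryCofan.isColimitMk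
    (fun s => (hlim.lift (BinaryFan.mk s.inl.unop s.inr.unop)).op)
    (fun s => ?_) (fun s => ?_) (fun s m h1 h2 => ?_)⟩⟩
  · apply Quiver.Hom.unop_inj
    exact hlim.fac (BinaryFan.mk s.inl.unop s.inr.unop) ⟨WalkingPair.left⟩
  · apply Quiver.Hom.unop_inj
    exact hlim.fac (BinaryFan.mk s.inl.unop s.inr.unop) ⟨WalkingPair.right⟩
  · apply Quiver.Hom.unop_inj
    apply BinaryFan.IsLimit.hom_ext hlim
    · have e1 := congrArg Quiver.Hom.unop h1
      exact e1.trans (hlim.fac (BinaryFan.mk s.inl.unop s.inr.unop) ⟨WalkingPair.left⟩).symm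
    · have e2 := congrArg Quiver.Hom.unop h2
      exact e2.trans (hlim.fac (BinaryFan.mk s.inl.unop s.inr.unop) ⟨WalkingPair.right⟩).symm

/-- the Galois category of étale covers of a well-connected schematic finite space -/
theorem galois (hX : X.IsFinSp) (hpw : X.IsPwConnected)
    (hlt : ∀ A : FEt X, ∃ (B : Alg X) (n : ℕ), B.IsCovering ∧ ∀ p : X.pt,
      Nonempty (TensorProduct (X.ring p) (B.carrier p) (A.obj.carrier p)
        ≃ₐ[B.carrier p] (Fin n → B.carrier p)))
    (hepi : ∀ (A B : FEt X) (f : A ⟶ B), Epi f → ∀ p : X.pt, Function.Surjective (f.hom.app p))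
    {Ω : Type u} [Field Ω] [IsAlgClosed Ω] (ξ : GeomPt X Ω) :
    ∃ h : PreGaloisCategory (FEt X)ᵒᵖ,
      @PreGaloisCategory.FiberFunctor (FEt X)ᵒᵖ _ h ξ.fibFunctor := by
  haveI : HasInitial (FEt X) := FEtPO.hasInitial X
  haveI : HasPushouts (FEt X) := FEtPO.hasPushouts X
  haveI : HasFiniteProducts (FEt X) := ⟨fun n => FEtProd.hasLimitsOfShape_discrete X (Fin n)⟩
  have hPG : PreGaloisCategory (FEt X)ᵒᵖ :=
    { hasTerminal := inferInstance
      hasPullbacks := inferInstance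
      hasFiniteCoproducts := inferInstance
      hasQuotientsByFiniteGroups := fun G _ _ => by
        haveI := hasLimitsOfShape_singleObj_op X hX hpw hlt G
        infer_instance
      monoInducesIsoOnDirectSummand := fun i _ => mono_summand hX hepi i }
  refine ⟨hPG, ?_⟩
  obtain ⟨p1, p2, p3, p4⟩ := fib_preserves ξ hX
  exact @PreGaloisCategory.FiberFunctor.mk _ _ hPG _ p1 p2 p3 p4
    (fun G _ _ => preservesColimitsOfShape_fib ξ hX hpw hlt G) (fib_reflects ξ hX hlt)

end Groth.Agent.Lib.Helper25.FEtInv
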