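import Mathlib

/-!
# Non-vanishing of the closed fibre of a module under local base change

`K`: a square of local rings `A → B`, `A → A'`, `B → B'`, `A' → B'` (local homomorphisms) such that
`B'` is flat over a pushout `T` of `B` and `A'`.  If `M` is a `B`-module with `𝔪_A M ≠ M`, then
`𝔪_{A'} (B' ⊗_B M) ≠ B' ⊗_B M`.
-/

set_option autoImplicit false
set_option linter.style.haveILetI false
set_option linter.unusedSectionVars false
set_option maxHeartbeats 800000

open TensorProduct IsLocalRing

universe u

namespace Groth.Agent.Lib.Helper25.FFRelK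

attribute [local instance] Algebra.TensorProduct.rightAlgebra

section Defs

variable (A A' B : Type u) [CommRing A] [CommRing A'] [CommRing B]
  [IsLocalRing A] [IsLocalRing A'] [Algebra A A'] [Algebra A B] [IsLocalHom (algebraMap A A')]

/-- The fibre ring `κ(A) ⊗_A B`. -/
abbrev Bb : Type u := ResidueField A ⊗[A] B

/-- The ring `(κ(A) ⊗_A B) ⊗_{κ(A)} κ(A')`. -/
abbrev EE : Type u := Bb A B ⊗[ResidueField A] ResidueField A'

/-- `B → EE`. -/
noncomputable def uu : B →+* EE A A' B :=
  (algebraMap (Bb A B) (EE A A' B)).comp (algebraMap B (Bb A B))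

/-- `A' → EE`. -/
noncomputable def vv : A' →+* EE A A' B :=
  (algebraMap (ResidueField A') (EE A A' B)).comp (algebraMap A' (ResidueField A'))

theorem uu_apply (b : B) : uu A A' B b =
    ((1 : ResidueField A) ⊗ₜ[A] b) ⊗ₜ[ResidueField A] (1 : ResidueField A') := rfl

theorem vv_apply (a' : A') : vv A A' B a' =
    (1 : Bb A B) ⊗ₜ[ResidueField A] (residue A' a') := rfl

theorem uu_comp :
    (uu A A' B).comp (algebraMap A B) = (vv A A' B).comp (algebraMap A A') := by
  ext a
  rw [RingHom.comp_apply, RingHom.comp_apply, uu_apply, vv_apply]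
  have h1 : (1 : ResidueField A) ⊗ₜ[A] (algebraMap A B a) = (residue A a) • (1 : Bb A B) := by
    rw [Algebra.algebraMap_eq_smul_one, TensorProduct.tmul_smul, Algebra.TensorProduct.one_def,
      ← algebraMap_smul (ResidueField A) a ((1 : ResidueField A) ⊗ₜ[A] (1 : B))]
    rfl
  rw [h1, TensorProduct.smul_tmul]
  congr 1
  rw [Algebra.smul_def, mul_one]
  rfl

end Defs

section Main

theorem exists_phi (R₀ : Type u) {A A' B T : Type u} [CommRing R₀] [CommRing A] [CommRing A']
    [CommRing B] [CommRing T] [IsLocalRing A] [IsLocalRing A']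
    [Algebra A A'] [Algebra A B] [IsLocalHom (algebraMap A A')]
    [Algebra R₀ A] [Algebra R₀ A'] [Algebra R₀ B] [IsScalarTower R₀ A A'] [IsScalarTower R₀ A B]
    [Algebra A' T] [Algebra B T] [Algebra R₀ T] [IsScalarTower R₀ B T] [IsScalarTower R₀ A' T]
    [Algebra.IsPushout R₀ A' B T] :
    ∃ φ : T →+* EE A A' B,
      φ.comp (algebraMap B T) = uu A A' B ∧ φ.comp (algebraMap A' T) = vv A A' B := by
  letI : Algebra R₀ (EE A A' B) := ((uu A A' B).comp (algebraMap R₀ B)).toAlgebra
  let f : A' →ₐ[R₀] EE A A' B := { vv A A' B with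
    commutes' := fun r => by
      change vv A A' B (algebraMap R₀ A' r) = uu A A' B (algebraMap R₀ B r)
      rw [IsScalarTower.algebraMap_apply R₀ A A', IsScalarTower.algebraMap_apply R₀ A B]
      exact (congr($(uu_comp A A' B) (algebraMap R₀ A r))).symm }
  let g : B →ₐ[R₀] EE A A' B := { uu A A' B with commutes' := fun r => rfl }
  have hc : ∀ (x : A') (y : B), f x * g y = g y * f x := fun _ _ => mul_comm _ _
  refine ⟨(Algebra.pushoutDesc T f g hc).toRingHom, ?_, ?_⟩
  · ext b
    exact Algebra.pushoutDesc_right T f g hc b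
  · ext a'
    exact Algebra.pushoutDesc_left T f g hc a'

/-- **Key lemma.** -/
theorem main (R₀ : Type u) {A A' B B' T : Type u} [CommRing R₀] [CommRing A] [CommRing A']
    [CommRing B] [CommRing B'] [CommRing T]
    [IsLocalRing A] [IsLocalRing A'] [IsLocalRing B] [IsLocalRing B']
    [Algebra A A'] [Algebra A B] [Algebra A' B'] [Algebra B B'] [Algebra A B']
    [IsScalarTower A A' B'] [IsScalarTower A B B']
    [IsLocalHom (algebraMap A A')] [IsLocalHom (algebraMap B B')] [IsLocalHom (algebraMap A' B')]
    [Algebra R₀ A] [Algebra R₀ A'] [Algebra R₀ B] [IsScalarTower R₀ A A'] [IsScalarTower R₀ A B]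
    [Algebra A' T] [Algebra B T] [Algebra R₀ T] [IsScalarTower R₀ B T] [IsScalarTower R₀ A' T]
    [Algebra.IsPushout R₀ A' B T]
    [Algebra T B'] [IsScalarTower A' T B'] [IsScalarTower B T B'] [Module.Flat T B']
    {M M' : Type u} [AddCommGroup M] [Module B M] [Module A M] [IsScalarTower A B M]
    [AddCommGroup M'] [Module B' M'] [Module B M'] [IsScalarTower B B' M']
    (γ : M →ₗ[B] M') (hγ : IsBaseChange B' γ)
    (h : maximalIdeal A • (⊤ : Submodule A M) ≠ ⊤) :
    (maximalIdeal A').map (algebraMap A' B') • (⊤ : Submodule B' M') ≠ ⊤ := by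
  classical
  intro htop
  obtain ⟨φ, hφu, hφv⟩ := exists_phi R₀ (A := A) (A' := A') (B := B) (T := T)
  -- instances on `E`
  letI aTE : Algebra T (EE A A' B) := φ.toAlgebra
  have haBE : ∀ b : B, algebraMap B (EE A A' B) b = uu A A' B b := fun b => by
    rw [uu_apply, Algebra.TensorProduct.algebraMap_apply]
    rfl
  have key1 : ∀ b : B, algebraMap T (EE A A' B) (algebraMap B T b) =
      algebraMap B (EE A A' B) b := fun b => by
    rw [haBE]
    exact congr($hφu b)
  haveI tBBbE : IsScalarTower B (Bb A B) (EE A A' B) := inferInstance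
  have sB : ∀ (b : B) (e : EE A A' B), b • e = algebraMap B (EE A A' B) b * e :=
    fun b e => Algebra.smul_def b e
  have sBb : ∀ (b : Bb A B) (e : EE A A' B), b • e = algebraMap (Bb A B) (EE A A' B) b * e :=
    fun b e => Algebra.smul_def b e
  haveI tBTE : IsScalarTower B T (EE A A' B) := ⟨fun b t e => by
    simp only [sB, Algebra.smul_def, map_mul, key1, mul_assoc]⟩
  haveI cTBb : SMulCommClass T (Bb A B) (EE A A' B) := ⟨fun t b e => by
    simp only [sBb, Algebra.smul_def]; ring⟩
  -- flatness
  haveI fED : Module.Flat (EE A A' B) (EE A A' B ⊗[T] B') := inferInstance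
  haveI fBbE : Module.Flat (Bb A B) (EE A A' B) := inferInstance
  haveI fBbD : Module.Flat (Bb A B) (EE A A' B ⊗[T] B') :=
    Module.Flat.trans (Bb A B) (EE A A' B) _
  -- the residue field of `B'` as an algebra over everything
  haveI lAB' : IsLocalHom (algebraMap A B') := by
    rw [IsScalarTower.algebraMap_eq A A' B']
    infer_instance
  letI aBbκ : Algebra (Bb A B) (ResidueField B') :=
    (Algebra.TensorProduct.productMap
      (IsScalarTower.toAlgHom A (ResidueField A) (ResidueField B'))
      (IsScalarTower.toAlgHom A B (ResidueField B'))).toRingHom.toAlgebra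
  have haBbκ : ∀ (x : ResidueField A) (b : B), algebraMap (Bb A B) (ResidueField B') (x ⊗ₜ b) =
      algebraMap (ResidueField A) (ResidueField B') x * algebraMap B (ResidueField B') b :=
    fun x b => Algebra.TensorProduct.productMap_apply_tmul _ _ x b
  haveI tkBbκ : IsScalarTower (ResidueField A) (Bb A B) (ResidueField B') :=
    IsScalarTower.of_algebraMap_eq fun x => by
      rw [Algebra.TensorProduct.algebraMap_apply, haBbκ, map_one, mul_one]
      rfl
  letI aEκ : Algebra (EE A A' B) (ResidueField B') :=
    (Algebra.TensorProduct.productMap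
      (IsScalarTower.toAlgHom (ResidueField A) (Bb A B) (ResidueField B'))
      (IsScalarTower.toAlgHom (ResidueField A) (ResidueField A') (ResidueField B'))).toRingHom.toAlgebra
  have haEκ : ∀ (x : Bb A B) (y : ResidueField A'),
      algebraMap (EE A A' B) (ResidueField B') (x ⊗ₜ y) =
      algebraMap (Bb A B) (ResidueField B') x * algebraMap (ResidueField A') (ResidueField B') y :=
    fun x y => Algebra.TensorProduct.productMap_apply_tmul _ _ x y
  have hφB : ∀ b : B, algebraMap T (EE A A' B) (algebraMap B T b) = uu A A' B b :=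
    fun b => congr($hφu b)
  have hφA' : ∀ a' : A', algebraMap T (EE A A' B) (algebraMap A' T a') = vv A A' B a' :=
    fun a' => congr($hφv a')
  have huκ : ∀ b : B, algebraMap (EE A A' B) (ResidueField B') (uu A A' B b) =
      algebraMap B (ResidueField B') b := fun b => by
    rw [uu_apply, haEκ, haBbκ, map_one, map_one, one_mul, mul_one]
  have hvκ : ∀ a' : A', algebraMap (EE A A' B) (ResidueField B') (vv A A' B a') =
      algebraMap A' (ResidueField B') a' := fun a' => by
    rw [vv_apply, haEκ, map_one, one_mul]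
    rfl
  haveI tTEκ : IsScalarTower T (EE A A' B) (ResidueField B') :=
    IsScalarTower.of_algebraMap_eq fun t => by
      refine (Algebra.IsPushout.out (R := R₀) (S := A') (R' := B) (S' := T)).inductionOn t
        (fun t => algebraMap T (ResidueField B') t =
          algebraMap (EE A A' B) (ResidueField B') (algebraMap T (EE A A' B) t)) ?_ ?_ ?_ ?_
      · simp only [map_zero]
      · intro b
        change algebraMap T (ResidueField B') (algebraMap B T b) =
          algebraMap (EE A A' B) (ResidueField B') (algebraMap T (EE A A' B) (algebraMap B T b))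
        rw [hφB, huκ, ← IsScalarTower.algebraMap_apply B T (ResidueField B')]
      · intro a' t ht
        rw [Algebra.smul_def, map_mul, map_mul, map_mul, ← ht, hφA', hvκ,
          ← IsScalarTower.algebraMap_apply A' T (ResidueField B')]
      · intro t₁ t₂ h₁ h₂
        rw [map_add, map_add, map_add, h₁, h₂]
  let χ : EE A A' B ⊗[T] B' →+* ResidueField B' :=
    (Algebra.TensorProduct.productMap
      (IsScalarTower.toAlgHom T (EE A A' B) (ResidueField B'))
      (IsScalarTower.toAlgHom T B' (ResidueField B'))).toRingHom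
  have hχ : ∀ (e : EE A A' B) (b' : B'), χ (e ⊗ₜ b') =
      algebraMap (EE A A' B) (ResidueField B') e * algebraMap B' (ResidueField B') b' :=
    fun e b' => Algebra.TensorProduct.productMap_apply_tmul _ _ e b'
  have sE : ∀ (e : EE A A' B) (d : EE A A' B ⊗[T] B'),
      e • d = algebraMap (EE A A' B) (EE A A' B ⊗[T] B') e * d := fun e d => Algebra.smul_def e d
  -- surjectivity of `B → Bb`
  have hsurjB : Function.Surjective (algebraMap B (Bb A B)) :=
    Algebra.TensorProduct.includeRight_surjective (R := A) (S := ResidueField A) (T := B)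
      (IsLocalRing.residue_surjective (R := A))
  -- faithful flatness of `D` over `Bb`
  haveI ffD : Module.FaithfullyFlat (Bb A B) (EE A A' B ⊗[T] B') := ⟨fun 𝔪 h𝔪 htop' => by
    have h1 : (1 : EE A A' B ⊗[T] B') ∈ 𝔪 • (⊤ : Submodule (Bb A B) (EE A A' B ⊗[T] B')) := by
      rw [htop']; trivial
    have h2 : ∀ x ∈ 𝔪 • (⊤ : Submodule (Bb A B) (EE A A' B ⊗[T] B')), χ x = 0 := by
      intro x hx
      refine Submodule.smul_induction_on hx ?_ ?_
      · intro b hb d _
        obtain ⟨b₀, rfl⟩ := hsurjB b
        have hb₀ : b₀ ∈ maximalIdeal B := by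
          by_contra hu
          have hunit : IsUnit b₀ := by
            by_contra hnu
            exact hu ((IsLocalRing.mem_maximalIdeal _).mpr hnu)
          exact h𝔪.ne_top (Ideal.eq_top_of_isUnit_mem _ hb (hunit.map _))
        rw [← algebraMap_smul (EE A A' B) (algebraMap B (Bb A B) b₀) d, sE, map_mul,
          Algebra.TensorProduct.algebraMap_apply, hχ, map_one, mul_one]
        have : algebraMap (EE A A' B) (ResidueField B')
            (algebraMap (EE A A' B) (EE A A' B)
              (algebraMap (Bb A B) (EE A A' B) (algebraMap B (Bb A B) b₀))) =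
            algebraMap B (ResidueField B') b₀ := huκ b₀
        rw [this, IsScalarTower.algebraMap_apply B B' (ResidueField B')]
        have hz : residue B' (algebraMap B B' b₀) = 0 :=
          (IsLocalRing.residue_eq_zero_iff _).mpr (map_nonunit _ _ hb₀)
        rw [show algebraMap B' (ResidueField B') (algebraMap B B' b₀) =
          residue B' (algebraMap B B' b₀) from rfl, hz, zero_mul]
      · intro x y hx hy
        rw [map_add, hx, hy, add_zero]
    have := h2 1 h1
    rw [map_one] at this
    exact one_ne_zero this⟩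
  -- the fibre module `N` is nontrivial
  haveI hN : Nontrivial (Bb A B ⊗[B] M) := by
    haveI h1 : Nontrivial (M ⧸ maximalIdeal A • (⊤ : Submodule A M)) :=
      Submodule.Quotient.nontrivial_iff.mpr h
    haveI h2 : Nontrivial (ResidueField A ⊗[A] M) :=
      (quotTensorEquivQuotSMul M (maximalIdeal A)).toEquiv.nontrivial
    exact (Algebra.IsPushout.cancelBaseChange A (ResidueField A) B (Bb A B) M).toEquiv.nontrivial
  haveI hQ : Nontrivial ((EE A A' B ⊗[T] B') ⊗[Bb A B] (Bb A B ⊗[B] M)) :=
    Module.FaithfullyFlat.lTensor_nontrivial (Bb A B) (EE A A' B ⊗[T] B') (Bb A B ⊗[B] M)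
  -- identifications
  let e3 := AlgebraTensorModule.cancelBaseChange B (Bb A B) (Bb A B) (EE A A' B ⊗[T] B') M
  let e4 := AlgebraTensorModule.assoc B T T (EE A A' B) B' M
  -- surjectivity of `T → E`
  have hsurjφ : Function.Surjective (algebraMap T (EE A A' B)) := by
    have hmem : ∀ e : EE A A' B, e ∈ (algebraMap T (EE A A' B)).range := by
      intro e
      induction e using TensorProduct.induction_on with
      | zero => exact Subring.zero_mem _
      | tmul x y =>
        obtain ⟨a', rfl⟩ := IsLocalRing.residue_surjective y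
        have hx : x ⊗ₜ[ResidueField A] (1 : ResidueField A') ∈
            (algebraMap T (EE A A' B)).range := by
          induction x using TensorProduct.induction_on with
          | zero => rw [TensorProduct.zero_tmul]; exact Subring.zero_mem _
          | tmul κ b =>
            obtain ⟨a, rfl⟩ := IsLocalRing.residue_surjective κ
            refine ⟨algebraMap B T (a • b), ?_⟩
            rw [hφB, uu_apply, TensorProduct.tmul_smul, TensorProduct.smul_tmul']
            congr 2
            rw [Algebra.smul_def, mul_one]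
            rfl
          | add x y hx hy => rw [TensorProduct.add_tmul]; exact Subring.add_mem _ hx hy
        have hy : (1 : Bb A B) ⊗ₜ[ResidueField A] residue A' a' ∈
            (algebraMap T (EE A A' B)).range := ⟨algebraMap A' T a', by rw [hφA', vv_apply]⟩
        have hmul : x ⊗ₜ[ResidueField A] residue A' a' =
            (x ⊗ₜ[ResidueField A] (1 : ResidueField A')) *
              ((1 : Bb A B) ⊗ₜ[ResidueField A] residue A' a') := by
          rw [Algebra.TensorProduct.tmul_mul_tmul, mul_one, one_mul]
        rw [hmul]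
        exact Subring.mul_mem _ hx hy
      | add x y hx hy => exact Subring.add_mem _ hx hy
    intro e
    obtain ⟨t, ht⟩ := hmem e
    exact ⟨t, ht⟩
  -- the ideal `𝔪_{A'} B'` kills `E ⊗_T M''`
  have hkill : ∀ i ∈ (maximalIdeal A').map (algebraMap A' B'), ∀ w : B' ⊗[B] M,
      (1 : EE A A' B) ⊗ₜ[T] (i • w) = 0 := by
    intro i hi
    refine Submodule.span_induction (p := fun i _ => ∀ w : B' ⊗[B] M,
      (1 : EE A A' B) ⊗ₜ[T] (i • w) = 0) ?_ ?_ ?_ ?_ hi
    · rintro _ ⟨a', ha', rfl⟩ w
      rw [IsScalarTower.algebraMap_apply A' T B', algebraMap_smul B' (algebraMap A' T a') w,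
        ← TensorProduct.smul_tmul, Algebra.smul_def, mul_one, hφA', vv_apply,
        (IsLocalRing.residue_eq_zero_iff a').mpr ha', TensorProduct.tmul_zero,
        TensorProduct.zero_tmul]
    · intro w
      rw [zero_smul, TensorProduct.tmul_zero]
    · intro i j _ _ hi hj w
      rw [add_smul, TensorProduct.tmul_add, hi, hj, add_zero]
    · intro b' i _ hi w
      rw [smul_eq_mul, mul_comm, mul_smul]
      exact hi (b' • w)
  -- transport `htop` to `B' ⊗[B] M`
  have htop'' : (maximalIdeal A').map (algebraMap A' B') • (⊤ : Submodule B' (B' ⊗[B] M)) = ⊤ := by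
    have := congr(Submodule.map hγ.equiv.symm.toLinearMap $htop)
    rwa [Submodule.map_smul'', Submodule.map_top, LinearEquiv.range] at this
  have hall : ∀ w : B' ⊗[B] M, (1 : EE A A' B) ⊗ₜ[T] w = 0 := by
    intro w
    have hw : w ∈ (maximalIdeal A').map (algebraMap A' B') • (⊤ : Submodule B' (B' ⊗[B] M)) := by
      rw [htop'']; trivial
    refine Submodule.smul_induction_on hw ?_ ?_
    · intro i hi w' _
      exact hkill i hi w'
    · intro x y hx hy
      rw [TensorProduct.tmul_add, hx, hy, add_zero]
  have hzero : ∀ z : EE A A' B ⊗[T] (B' ⊗[B] M), z = 0 := by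
    intro z
    obtain ⟨w, rfl⟩ := TensorProduct.mk_surjective T (B' ⊗[B] M) (EE A A' B) hsurjφ z
    exact hall w
  obtain ⟨q, hq⟩ := exists_ne (0 : (EE A A' B ⊗[T] B') ⊗[Bb A B] (Bb A B ⊗[B] M))
  apply hq
  apply e3.injective
  apply e4.injective
  rw [map_zero, map_zero]
  exact hzero _

/-- Variant of `main` for the `A'`-submodule `𝔪_{A'} M'`. -/
theorem main' (R₀ : Type u) {A A' B B' : Type u} (T : Type u) [CommRing R₀] [CommRing A]
    [CommRing A'] [CommRing B] [CommRing B'] [CommRing T]
    [IsLocalRing A] [IsLocalRing A'] [IsLocalRing B] [IsLocalRing B']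
    [Algebra A A'] [Algebra A B] [Algebra A' B'] [Algebra B B'] [Algebra A B']
    [IsScalarTower A A' B'] [IsScalarTower A B B']
    [IsLocalHom (algebraMap A A')] [IsLocalHom (algebraMap B B')] [IsLocalHom (algebraMap A' B')]
    [Algebra R₀ A] [Algebra R₀ A'] [Algebra R₀ B] [IsScalarTower R₀ A A'] [IsScalarTower R₀ A B]
    [Algebra A' T] [Algebra B T] [Algebra R₀ T] [IsScalarTower R₀ B T] [IsScalarTower R₀ A' T]
    [Algebra.IsPushout R₀ A' B T]
    [Algebra T B'] [IsScalarTower A' T B'] [IsScalarTower B T B'] [Module.Flat T B']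
    {M M' : Type u} [AddCommGroup M] [Module B M] [Module A M] [IsScalarTower A B M]
    [AddCommGroup M'] [Module B' M'] [Module B M'] [IsScalarTower B B' M']
    [Module A' M'] [IsScalarTower A' B' M']
    (γ : M →ₗ[B] M') (hγ : IsBaseChange B' γ)
    (h : maximalIdeal A • (⊤ : Submodule A M) ≠ ⊤) :
    maximalIdeal A' • (⊤ : Submodule A' M') ≠ ⊤ := by
  intro h'
  refine main R₀ (A := A) (A' := A') (B := B) (B' := B') (T := T) γ hγ h ?_
  rw [eq_top_iff]
  intro x _
  have hx : x ∈ maximalIdeal A' • (⊤ : Submodule A' M') := by rw [h']; trivial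
  refine Submodule.smul_induction_on hx ?_ ?_
  · intro a' ha' y _
    rw [← algebraMap_smul B' a' y]
    exact Submodule.smul_mem_smul (Ideal.mem_map_of_mem _ ha') trivial
  · intro x y hx hy
    exact add_mem hx hy

end Main

end Groth.Agent.Lib.Helper25.FFRelK
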