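import Mathlib
import Groth.Agent.Lib.Helper25.FFRelK

/-!
# Non-vanishing of closed fibres under base change: from affine charts to stalks
-/

set_option autoImplicit false
set_option linter.style.haveILetI false
set_option linter.unusedSectionVars false
set_option maxHeartbeats 800000

open TensorProduct IsLocalRing

universe u

namespace Groth.Agent.Lib.Helper25.FFRelP

attribute [local instance] Algebra.TensorProduct.rightAlgebra

/-- `C = A ⊗_R S`, `Ap`, `Sq` localizations of `A`, `S`, and `Cp` a flat `C`-algebra which is an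
`Ap`- and `Sq`-algebra: then `Cp` is flat over `Ap ⊗_R Sq`. -/
theorem flat_tensor_stalks (R S A C : Type u) [CommRing R] [CommRing S] [CommRing A] [CommRing C]
    [Algebra R S] [Algebra R A] [Algebra S C] [Algebra A C] [Algebra R C]
    [IsScalarTower R S C] [IsScalarTower R A C] [Algebra.IsPushout R A S C]
    (Sq Ap Cp : Type u) [CommRing Sq] [CommRing Ap] [CommRing Cp]
    [Algebra S Sq] [Algebra A Ap] [Algebra C Cp]
    [Algebra R Sq] [IsScalarTower R S Sq] [Algebra R Ap] [IsScalarTower R A Ap]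
    [Algebra Sq Cp] [Algebra Ap Cp] [Algebra R Cp] [IsScalarTower R Ap Cp] [IsScalarTower R Sq Cp]
    [Algebra A Cp] [IsScalarTower A Ap Cp] [IsScalarTower A C Cp]
    [Algebra S Cp] [IsScalarTower S Sq Cp] [IsScalarTower S C Cp]
    (TA : Submonoid A) [IsLocalization TA Ap] (TS : Submonoid S) [IsLocalization TS Sq]
    [Module.Flat C Cp] :
    letI : Algebra (Ap ⊗[R] Sq) Cp := (Algebra.TensorProduct.productMap
      (IsScalarTower.toAlgHom R Ap Cp) (IsScalarTower.toAlgHom R Sq Cp)).toRingHom.toAlgebra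
    Module.Flat (Ap ⊗[R] Sq) Cp := by
  letI aTCp : Algebra (Ap ⊗[R] Sq) Cp := (Algebra.TensorProduct.productMap
      (IsScalarTower.toAlgHom R Ap Cp) (IsScalarTower.toAlgHom R Sq Cp)).toRingHom.toAlgebra
  haveI tRACp : IsScalarTower R A Cp := IsScalarTower.of_algebraMap_eq fun r => by
    rw [IsScalarTower.algebraMap_apply R Ap Cp, IsScalarTower.algebraMap_apply R A Ap,
      ← IsScalarTower.algebraMap_apply A Ap Cp]
  haveI tRSCp : IsScalarTower R S Cp := IsScalarTower.of_algebraMap_eq fun r => by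
    rw [IsScalarTower.algebraMap_apply R Sq Cp, IsScalarTower.algebraMap_apply R S Sq,
      ← IsScalarTower.algebraMap_apply S Sq Cp]
  -- step 1 : `P = A ⊗[R] S ≃ C`
  let fP : A ⊗[R] S →ₐ[R] Cp := Algebra.TensorProduct.productMap
    (IsScalarTower.toAlgHom R A Cp) (IsScalarTower.toAlgHom R S Cp)
  have hfP : ∀ (a : A) (s : S), fP (a ⊗ₜ s) = algebraMap A Cp a * algebraMap S Cp s :=
    fun a s => Algebra.TensorProduct.productMap_apply_tmul _ _ a s
  letI aPCp : Algebra (A ⊗[R] S) Cp := fP.toRingHom.toAlgebra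
  let e : A ⊗[R] S ≃ₐ[A] C := Algebra.IsPushout.equiv R A S C
  letI aPC : Algebra (A ⊗[R] S) C := (e : A ⊗[R] S →+* C).toAlgebra
  haveI tPCCp : IsScalarTower (A ⊗[R] S) C Cp := IsScalarTower.of_algebraMap_eq fun x => by
    change fP x = algebraMap C Cp (e x)
    induction x using TensorProduct.induction_on with
    | zero => simp only [map_zero]
    | tmul a s =>
      rw [hfP, Algebra.IsPushout.equiv_tmul, map_mul, ← IsScalarTower.algebraMap_apply A C Cp,
        ← IsScalarTower.algebraMap_apply S C Cp]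
    | add x y hx hy => rw [map_add, map_add, map_add, hx, hy]
  haveI fPC : Module.Flat (A ⊗[R] S) C :=
    Module.Flat.of_linearEquiv
      (LinearEquiv.ofBijective (Algebra.linearMap (A ⊗[R] S) C) e.bijective).symm
  haveI fPCp : Module.Flat (A ⊗[R] S) Cp := Module.Flat.trans (A ⊗[R] S) C Cp
  -- step 2 : `P₁ = Ap ⊗[R] S`
  let g₁ : A ⊗[R] S →ₐ[R] Ap ⊗[R] S :=
    Algebra.TensorProduct.map (IsScalarTower.toAlgHom R A Ap) (AlgHom.id R S)
  have hg₁ : ∀ (a : A) (s : S), g₁ (a ⊗ₜ s) = algebraMap A Ap a ⊗ₜ s :=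
    fun a s => Algebra.TensorProduct.map_tmul _ _ a s
  letI aPP₁ : Algebra (A ⊗[R] S) (Ap ⊗[R] S) := g₁.toRingHom.toAlgebra
  haveI tAPP₁ : IsScalarTower A (A ⊗[R] S) (Ap ⊗[R] S) :=
    IsScalarTower.of_algebraMap_eq fun a => by
      change algebraMap A (Ap ⊗[R] S) a = g₁ (algebraMap A (A ⊗[R] S) a)
      rw [Algebra.TensorProduct.algebraMap_apply, Algebra.TensorProduct.algebraMap_apply, hg₁]
      rfl
  haveI locP₁ : IsLocalization (Algebra.algebraMapSubmonoid (A ⊗[R] S) TA) (Ap ⊗[R] S) :=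
    IsLocalization.tensorProduct_tensorProduct R S TA Ap (by
      ext s
      change g₁ ((1 : A) ⊗ₜ s) = (1 : Ap) ⊗ₜ s
      rw [hg₁, map_one])
  let fP₁ : Ap ⊗[R] S →ₐ[R] Cp := Algebra.TensorProduct.productMap
    (IsScalarTower.toAlgHom R Ap Cp) (IsScalarTower.toAlgHom R S Cp)
  have hfP₁ : ∀ (a : Ap) (s : S), fP₁ (a ⊗ₜ s) = algebraMap Ap Cp a * algebraMap S Cp s :=
    fun a s => Algebra.TensorProduct.productMap_apply_tmul _ _ a s
  letI aP₁Cp : Algebra (Ap ⊗[R] S) Cp := fP₁.toRingHom.toAlgebra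
  haveI tPP₁Cp : IsScalarTower (A ⊗[R] S) (Ap ⊗[R] S) Cp :=
    IsScalarTower.of_algebraMap_eq fun x => by
      change fP x = fP₁ (g₁ x)
      induction x using TensorProduct.induction_on with
      | zero => simp only [map_zero]
      | tmul a s => rw [hfP, hg₁, hfP₁, ← IsScalarTower.algebraMap_apply A Ap Cp]
      | add x y hx hy => rw [map_add, map_add, map_add, hx, hy]
  haveI fP₁Cp : Module.Flat (Ap ⊗[R] S) Cp :=
    (Module.flat_iff_of_isLocalization (R := A ⊗[R] S) (M := Cp) (Ap ⊗[R] S)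
      (Algebra.algebraMapSubmonoid (A ⊗[R] S) TA)).mpr fPCp
  -- step 3 : `T = Ap ⊗[R] Sq`
  let g₂ : Ap ⊗[R] S →ₐ[R] Ap ⊗[R] Sq :=
    Algebra.TensorProduct.map (AlgHom.id R Ap) (IsScalarTower.toAlgHom R S Sq)
  have hg₂ : ∀ (a : Ap) (s : S), g₂ (a ⊗ₜ s) = a ⊗ₜ algebraMap S Sq s :=
    fun a s => Algebra.TensorProduct.map_tmul _ _ a s
  letI aP₁T : Algebra (Ap ⊗[R] S) (Ap ⊗[R] Sq) := g₂.toRingHom.toAlgebra
  haveI tApP₁T : IsScalarTower Ap (Ap ⊗[R] S) (Ap ⊗[R] Sq) :=
    IsScalarTower.of_algebraMap_eq fun a => by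
      change algebraMap Ap (Ap ⊗[R] Sq) a = g₂ (algebraMap Ap (Ap ⊗[R] S) a)
      rw [Algebra.TensorProduct.algebraMap_apply, Algebra.TensorProduct.algebraMap_apply, hg₂,
        map_one]
  haveI locT : IsLocalization
      (TS.map (Algebra.TensorProduct.includeRight (R := R) (A := Ap))) (Ap ⊗[R] Sq) :=
    IsLocalization.tensorProduct_tensorProduct_right R Ap TS Sq (by
      ext s
      change g₂ ((1 : Ap) ⊗ₜ s) = (1 : Ap) ⊗ₜ algebraMap S Sq s
      rw [hg₂])
  have haT : ∀ (a : Ap) (s : Sq), algebraMap (Ap ⊗[R] Sq) Cp (a ⊗ₜ s) =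
      algebraMap Ap Cp a * algebraMap Sq Cp s :=
    fun a s => Algebra.TensorProduct.productMap_apply_tmul _ _ a s
  haveI tP₁TCp : IsScalarTower (Ap ⊗[R] S) (Ap ⊗[R] Sq) Cp :=
    IsScalarTower.of_algebraMap_eq fun x => by
      change fP₁ x = algebraMap (Ap ⊗[R] Sq) Cp (g₂ x)
      induction x using TensorProduct.induction_on with
      | zero => simp only [map_zero]
      | tmul a s => rw [hfP₁, hg₂, haT, ← IsScalarTower.algebraMap_apply S Sq Cp]
      | add x y hx hy => rw [map_add, map_add, map_add, hx, hy]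
  exact (Module.flat_iff_of_isLocalization (R := Ap ⊗[R] S) (M := Cp) (Ap ⊗[R] Sq)
    (TS.map (Algebra.TensorProduct.includeRight (R := R) (A := Ap)))).mpr fP₁Cp

/-- **Chart version.** -/
theorem pushout_main (R S A C : Type u) [CommRing R] [CommRing S] [CommRing A] [CommRing C]
    [Algebra R S] [Algebra R A] [Algebra S C] [Algebra A C] [Algebra R C]
    [IsScalarTower R S C] [IsScalarTower R A C] [Algebra.IsPushout R A S C]
    (Rq Sq Ap Cp : Type u) [CommRing Rq] [CommRing Sq] [CommRing Ap] [CommRing Cp]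
    [IsLocalRing Rq] [IsLocalRing Sq] [IsLocalRing Ap] [IsLocalRing Cp]
    [Algebra R Rq] [Algebra S Sq] [Algebra A Ap] [Algebra C Cp]
    [Algebra Rq Sq] [Algebra Rq Ap] [Algebra Sq Cp] [Algebra Ap Cp] [Algebra Rq Cp]
    [IsScalarTower Rq Sq Cp] [IsScalarTower Rq Ap Cp]
    [IsLocalHom (algebraMap Rq Sq)] [IsLocalHom (algebraMap Ap Cp)] [IsLocalHom (algebraMap Sq Cp)]
    [Algebra R Sq] [IsScalarTower R S Sq] [IsScalarTower R Rq Sq]
    [Algebra R Ap] [IsScalarTower R A Ap] [IsScalarTower R Rq Ap]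
    [Algebra R Cp] [IsScalarTower R Ap Cp] [IsScalarTower R Sq Cp]
    [Algebra A Cp] [IsScalarTower A Ap Cp] [IsScalarTower A C Cp]
    [Algebra S Cp] [IsScalarTower S Sq Cp] [IsScalarTower S C Cp]
    (TA : Submonoid A) [IsLocalization TA Ap] (TS : Submonoid S) [IsLocalization TS Sq]
    [Module.Flat C Cp]
    {M M' : Type u} [AddCommGroup M] [Module Ap M] [Module Rq M] [IsScalarTower Rq Ap M]
    [AddCommGroup M'] [Module Cp M'] [Module Ap M'] [IsScalarTower Ap Cp M']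
    [Module Sq M'] [IsScalarTower Sq Cp M']
    (γ : M →ₗ[Ap] M') (hγ : IsBaseChange Cp γ)
    (h : maximalIdeal Rq • (⊤ : Submodule Rq M) ≠ ⊤) :
    maximalIdeal Sq • (⊤ : Submodule Sq M') ≠ ⊤ := by
  letI aTCp : Algebra (Ap ⊗[R] Sq) Cp := (Algebra.TensorProduct.productMap
      (IsScalarTower.toAlgHom R Ap Cp) (IsScalarTower.toAlgHom R Sq Cp)).toRingHom.toAlgebra
  haveI fl : Module.Flat (Ap ⊗[R] Sq) Cp := flat_tensor_stalks R S A C Sq Ap Cp TA TS
  have haT : ∀ (a : Ap) (s : Sq), algebraMap (Ap ⊗[R] Sq) Cp (a ⊗ₜ s) =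
      algebraMap Ap Cp a * algebraMap Sq Cp s :=
    fun a s => Algebra.TensorProduct.productMap_apply_tmul _ _ a s
  haveI t1 : IsScalarTower Ap (Ap ⊗[R] Sq) Cp := IsScalarTower.of_algebraMap_eq fun a => by
    rw [Algebra.TensorProduct.algebraMap_apply, haT, map_one, mul_one]
    rfl
  haveI t2 : IsScalarTower Sq (Ap ⊗[R] Sq) Cp := IsScalarTower.of_algebraMap_eq fun s => by
    change algebraMap Sq Cp s = algebraMap (Ap ⊗[R] Sq) Cp ((1 : Ap) ⊗ₜ s)
    rw [haT, map_one, one_mul]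
  exact FFRelK.main' R (A := Rq) (A' := Sq) (B := Ap) (B' := Cp) (Ap ⊗[R] Sq) γ hγ h

end Groth.Agent.Lib.Helper25.FFRelP
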