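import Mathlib
import Groth.Prelude.Def_FlatMod2
import Groth.Agent.Lib.Helper17.FibreFlat
import Groth.Agent.Lib.Helper25.FFRelP

/-!
# Non-vanishing of the fibre of a quasi-coherent module is stable under base change (pointwise)
-/

set_option autoImplicit false
set_option linter.style.haveILetI false
set_option maxHeartbeats 1600000
universe u
open CategoryTheory CategoryTheory.Limits AlgebraicGeometry Opposite TopologicalSpace

namespace Groth.Agent.Lib.Helper25.FFRelSch

open Groth.Agent.Lib.Helper3 Groth.Agent.Lib.Helper17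

variable {X S X' S' : Scheme.{u}} {f : X ⟶ S} {f' : X' ⟶ S'} {g' : X' ⟶ X} {g : S' ⟶ S}

/-- If `F_x ⊗ κ(f x) ≠ 0` for `x = g' x'`, then `(g'^* F)_{x'} ⊗ κ(f' x') ≠ 0`. -/
theorem smul_top_ne_top_baseChange (hc : IsPullback g' f' f g) (F : X.Modules)
    [F.IsQuasicoherent] (x' : X')
    (h : letI := FlatMod.moduleStalkOver f F (g' x')
      IsLocalRing.maximalIdeal (S.presheaf.stalk (f (g' x'))) •
        (⊤ : Submodule (S.presheaf.stalk (f (g' x'))) (F.presheaf.stalk (g' x'))) ≠ ⊤) :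
    letI := FlatMod.moduleStalkOver f' ((Scheme.Modules.pullback g').obj F) x'
    IsLocalRing.maximalIdeal (S'.presheaf.stalk (f' x')) •
      (⊤ : Submodule (S'.presheaf.stalk (f' x'))
        (((Scheme.Modules.pullback g').obj F).presheaf.stalk x')) ≠ ⊤ := by
  obtain ⟨V, U, V', W, hV, hU, hV', hW, hUV, hV'V, hWU, hWV', hx'W, hpo⟩ :=
    FibreFlat.exists_affine_pushout hc x'
  have hxU : g' x' ∈ U := hWU hx'W
  have hs'V' : f' x' ∈ V' := hWV' hx'W
  have hsV : f (g' x') ∈ V := hUV hxU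
  have hpt : f (g' x') = g (f' x') := by
    rw [← Scheme.Hom.comp_apply, ← Scheme.Hom.comp_apply, hc.w]
  have hsV2 : g (f' x') ∈ V := hV'V hs'V'
  haveI : ((Scheme.Modules.pullback g').obj F).IsQuasicoherent :=
    PbStalk.isQuasicoherent_pullback g' F
  -- section rings
  letI aRA : Algebra Γ(S, V) Γ(X, U) := (f.appLE V U hUV).hom.toAlgebra
  letI aRR' : Algebra Γ(S, V) Γ(S', V') := (g.appLE V V' hV'V).hom.toAlgebra
  letI aAC : Algebra Γ(X, U) Γ(X', W) := (g'.appLE U W hWU).hom.toAlgebra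
  letI aR'C : Algebra Γ(S', V') Γ(X', W) := (f'.appLE V' W hWV').hom.toAlgebra
  letI aRC : Algebra Γ(S, V) Γ(X', W) :=
    ((algebraMap Γ(X, U) Γ(X', W)).comp (algebraMap Γ(S, V) Γ(X, U))).toAlgebra
  haveI tRAC : IsScalarTower Γ(S, V) Γ(X, U) Γ(X', W) :=
    IsScalarTower.of_algebraMap_eq fun _ => rfl
  haveI tRR'C : IsScalarTower Γ(S, V) Γ(S', V') Γ(X', W) :=
    IsScalarTower.of_algebraMap_eq fun r => congr($(hpo.w).hom r)
  haveI po : Algebra.IsPushout Γ(S, V) Γ(X, U) Γ(S', V') Γ(X', W) :=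
    CommRingCat.isPushout_iff_isPushout.mp hpo
  -- stalk rings as algebras over section rings
  letI aAAp : Algebra Γ(X, U) (X.presheaf.stalk (g' x')) :=
    TopCat.Presheaf.algebra_section_stalk X.presheaf (U := U) ⟨g' x', hxU⟩
  letI aCCp : Algebra Γ(X', W) (X'.presheaf.stalk x') :=
    TopCat.Presheaf.algebra_section_stalk X'.presheaf (U := W) ⟨x', hx'W⟩
  letI aRRq : Algebra Γ(S, V) (S.presheaf.stalk (f (g' x'))) :=
    TopCat.Presheaf.algebra_section_stalk S.presheaf (U := V) ⟨f (g' x'), hsV⟩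
  letI aR'R'q : Algebra Γ(S', V') (S'.presheaf.stalk (f' x')) :=
    TopCat.Presheaf.algebra_section_stalk S'.presheaf (U := V') ⟨f' x', hs'V'⟩
  -- stalk maps
  let e₁ : S.presheaf.stalk (f (g' x')) ⟶ S.presheaf.stalk (g (f' x')) :=
    (S.presheaf.stalkCongr (Inseparable.of_eq hpt)).hom
  have he₁ : ∀ r : Γ(S, V), e₁.hom (S.presheaf.germ V (f (g' x')) hsV r) =
      S.presheaf.germ V (g (f' x')) hsV2 r := fun r => by
    have := S.presheaf.germ_stalkSpecializes (U := V) hsV (Inseparable.of_eq hpt).ge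
    exact congr($(this).hom r)
  haveI le₁ : IsLocalHom e₁.hom := isLocalHom_of_iso (S.presheaf.stalkCongr (Inseparable.of_eq hpt))
  letI aRqSq : Algebra (S.presheaf.stalk (f (g' x'))) (S'.presheaf.stalk (f' x')) :=
    ((g.stalkMap (f' x')).hom.comp e₁.hom).toAlgebra
  letI aRqAp : Algebra (S.presheaf.stalk (f (g' x'))) (X.presheaf.stalk (g' x')) :=
    (f.stalkMap (g' x')).hom.toAlgebra
  letI aSqCp : Algebra (S'.presheaf.stalk (f' x')) (X'.presheaf.stalk x') :=
    (f'.stalkMap x').hom.toAlgebra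
  letI aApCp : Algebra (X.presheaf.stalk (g' x')) (X'.presheaf.stalk x') :=
    (g'.stalkMap x').hom.toAlgebra
  letI aRqCp : Algebra (S.presheaf.stalk (f (g' x'))) (X'.presheaf.stalk x') :=
    ((algebraMap (X.presheaf.stalk (g' x')) (X'.presheaf.stalk x')).comp
      (algebraMap (S.presheaf.stalk (f (g' x'))) (X.presheaf.stalk (g' x')))).toAlgebra
  haveI tRqApCp : IsScalarTower (S.presheaf.stalk (f (g' x'))) (X.presheaf.stalk (g' x'))
      (X'.presheaf.stalk x') := IsScalarTower.of_algebraMap_eq fun _ => rfl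
  haveI l1 : IsLocalHom (algebraMap (S.presheaf.stalk (f (g' x'))) (S'.presheaf.stalk (f' x'))) := by
    change IsLocalHom ((g.stalkMap (f' x')).hom.comp e₁.hom)
    infer_instance
  haveI l2 : IsLocalHom (algebraMap (X.presheaf.stalk (g' x')) (X'.presheaf.stalk x')) := by
    change IsLocalHom (g'.stalkMap x').hom
    infer_instance
  haveI l3 : IsLocalHom (algebraMap (S'.presheaf.stalk (f' x')) (X'.presheaf.stalk x')) := by
    change IsLocalHom (f'.stalkMap x').hom
    infer_instance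
  -- composites from section rings
  letI aRSq : Algebra Γ(S, V) (S'.presheaf.stalk (f' x')) :=
    ((algebraMap Γ(S', V') (S'.presheaf.stalk (f' x'))).comp
      (algebraMap Γ(S, V) Γ(S', V'))).toAlgebra
  haveI tRR'Sq : IsScalarTower Γ(S, V) Γ(S', V') (S'.presheaf.stalk (f' x')) :=
    IsScalarTower.of_algebraMap_eq fun _ => rfl
  haveI tRRqSq : IsScalarTower Γ(S, V) (S.presheaf.stalk (f (g' x')))
      (S'.presheaf.stalk (f' x')) :=
    IsScalarTower.of_algebraMap_eq fun r => by
      change S'.presheaf.germ V' (f' x') hs'V' ((g.appLE V V' hV'V).hom r) =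
        (g.stalkMap (f' x')).hom (e₁.hom (S.presheaf.germ V (f (g' x')) hsV r))
      rw [he₁]
      exact PbStalk.germ_appLE g hV'V (f' x') hs'V' hsV2 r
  letI aRAp : Algebra Γ(S, V) (X.presheaf.stalk (g' x')) :=
    ((algebraMap Γ(X, U) (X.presheaf.stalk (g' x'))).comp
      (algebraMap Γ(S, V) Γ(X, U))).toAlgebra
  haveI tRAAp : IsScalarTower Γ(S, V) Γ(X, U) (X.presheaf.stalk (g' x')) :=
    IsScalarTower.of_algebraMap_eq fun _ => rfl
  haveI tRRqAp : IsScalarTower Γ(S, V) (S.presheaf.stalk (f (g' x')))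
      (X.presheaf.stalk (g' x')) :=
    IsScalarTower.of_algebraMap_eq fun r => PbStalk.germ_appLE f hUV (g' x') hxU hsV r
  letI aACp : Algebra Γ(X, U) (X'.presheaf.stalk x') :=
    ((algebraMap Γ(X', W) (X'.presheaf.stalk x')).comp (algebraMap Γ(X, U) Γ(X', W))).toAlgebra
  letI aR'Cp : Algebra Γ(S', V') (X'.presheaf.stalk x') :=
    ((algebraMap Γ(X', W) (X'.presheaf.stalk x')).comp (algebraMap Γ(S', V') Γ(X', W))).toAlgebra
  haveI tACCp : IsScalarTower Γ(X, U) Γ(X', W) (X'.presheaf.stalk x') :=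
    IsScalarTower.of_algebraMap_eq fun _ => rfl
  haveI tR'CCp : IsScalarTower Γ(S', V') Γ(X', W) (X'.presheaf.stalk x') :=
    IsScalarTower.of_algebraMap_eq fun _ => rfl
  haveI tAApCp : IsScalarTower Γ(X, U) (X.presheaf.stalk (g' x')) (X'.presheaf.stalk x') :=
    IsScalarTower.of_algebraMap_eq fun a => PbStalk.germ_appLE g' hWU x' hx'W hxU a
  haveI tR'SqCp : IsScalarTower Γ(S', V') (S'.presheaf.stalk (f' x')) (X'.presheaf.stalk x') :=
    IsScalarTower.of_algebraMap_eq fun a => PbStalk.germ_appLE f' hWV' x' hx'W hs'V' a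
  letI aRCp : Algebra Γ(S, V) (X'.presheaf.stalk x') :=
    ((algebraMap (X.presheaf.stalk (g' x')) (X'.presheaf.stalk x')).comp
      (algebraMap Γ(S, V) (X.presheaf.stalk (g' x')))).toAlgebra
  haveI tRApCp : IsScalarTower Γ(S, V) (X.presheaf.stalk (g' x')) (X'.presheaf.stalk x') :=
    IsScalarTower.of_algebraMap_eq fun _ => rfl
  haveI tRSqCp : IsScalarTower Γ(S, V) (S'.presheaf.stalk (f' x')) (X'.presheaf.stalk x') :=
    IsScalarTower.of_algebraMap_eq fun r => by
      rw [IsScalarTower.algebraMap_apply Γ(S, V) (X.presheaf.stalk (g' x')) (X'.presheaf.stalk x'),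
        IsScalarTower.algebraMap_apply Γ(S, V) Γ(X, U) (X.presheaf.stalk (g' x')),
        ← IsScalarTower.algebraMap_apply Γ(X, U) (X.presheaf.stalk (g' x'))
          (X'.presheaf.stalk x'),
        IsScalarTower.algebraMap_apply Γ(X, U) Γ(X', W) (X'.presheaf.stalk x'),
        ← IsScalarTower.algebraMap_apply Γ(S, V) Γ(X, U) Γ(X', W),
        IsScalarTower.algebraMap_apply Γ(S, V) Γ(S', V') Γ(X', W),
        ← IsScalarTower.algebraMap_apply Γ(S', V') Γ(X', W) (X'.presheaf.stalk x'),
        IsScalarTower.algebraMap_apply Γ(S', V') (S'.presheaf.stalk (f' x'))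
          (X'.presheaf.stalk x'),
        ← IsScalarTower.algebraMap_apply Γ(S, V) Γ(S', V') (S'.presheaf.stalk (f' x'))]
  -- localizations
  haveI locA : IsLocalization.AtPrime (X.presheaf.stalk (g' x'))
      (hU.primeIdealOf ⟨g' x', hxU⟩).asIdeal := hU.isLocalization_stalk ⟨g' x', hxU⟩
  haveI locC : IsLocalization.AtPrime (X'.presheaf.stalk x')
      (hW.primeIdealOf ⟨x', hx'W⟩).asIdeal := hW.isLocalization_stalk ⟨x', hx'W⟩
  haveI locR : IsLocalization.AtPrime (S.presheaf.stalk (f (g' x')))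
      (hV.primeIdealOf ⟨f (g' x'), hsV⟩).asIdeal := hV.isLocalization_stalk ⟨f (g' x'), hsV⟩
  haveI locR' : IsLocalization.AtPrime (S'.presheaf.stalk (f' x'))
      (hV'.primeIdealOf ⟨f' x', hs'V'⟩).asIdeal := hV'.isLocalization_stalk ⟨f' x', hs'V'⟩
  haveI fCCp : Module.Flat Γ(X', W) (X'.presheaf.stalk x') :=
    IsLocalization.flat _ (hW.primeIdealOf ⟨x', hx'W⟩).asIdeal.primeCompl
  -- the remaining tower
  haveI tRqSqCp : IsScalarTower (S.presheaf.stalk (f (g' x'))) (S'.presheaf.stalk (f' x'))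
      (X'.presheaf.stalk x') :=
    IsScalarTower.of_algebraMap_eq fun r => by
      have hext := IsLocalization.ringHom_ext
        (hV.primeIdealOf ⟨f (g' x'), hsV⟩).asIdeal.primeCompl
        (j := algebraMap (S.presheaf.stalk (f (g' x'))) (X'.presheaf.stalk x'))
        (k := (algebraMap (S'.presheaf.stalk (f' x')) (X'.presheaf.stalk x')).comp
          (algebraMap (S.presheaf.stalk (f (g' x'))) (S'.presheaf.stalk (f' x')))) (by
        ext r
        change algebraMap (S.presheaf.stalk (f (g' x'))) (X'.presheaf.stalk x')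
            (algebraMap Γ(S, V) (S.presheaf.stalk (f (g' x'))) r) =
          algebraMap (S'.presheaf.stalk (f' x')) (X'.presheaf.stalk x')
            (algebraMap (S.presheaf.stalk (f (g' x'))) (S'.presheaf.stalk (f' x'))
              (algebraMap Γ(S, V) (S.presheaf.stalk (f (g' x'))) r))
        rw [← IsScalarTower.algebraMap_apply Γ(S, V) (S.presheaf.stalk (f (g' x')))
            (S'.presheaf.stalk (f' x')),
          ← IsScalarTower.algebraMap_apply Γ(S, V) (S'.presheaf.stalk (f' x'))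
            (X'.presheaf.stalk x'),
          IsScalarTower.algebraMap_apply (S.presheaf.stalk (f (g' x')))
            (X.presheaf.stalk (g' x')) (X'.presheaf.stalk x'),
          ← IsScalarTower.algebraMap_apply Γ(S, V) (S.presheaf.stalk (f (g' x')))
            (X.presheaf.stalk (g' x')),
          ← IsScalarTower.algebraMap_apply Γ(S, V) (X.presheaf.stalk (g' x'))
            (X'.presheaf.stalk x')])
      exact congr($hext r)
  -- modules
  letI mRqM : Module (S.presheaf.stalk (f (g' x'))) (F.presheaf.stalk (g' x')) :=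
    FlatMod.moduleStalkOver f F (g' x')
  haveI tRqApM : IsScalarTower (S.presheaf.stalk (f (g' x'))) (X.presheaf.stalk (g' x'))
      (F.presheaf.stalk (g' x')) := IsScalarTower.of_algebraMap_smul fun _ _ => rfl
  letI mApM' : Module (X.presheaf.stalk (g' x'))
      (((Scheme.Modules.pullback g').obj F).presheaf.stalk x') :=
    Module.compHom _ (g'.stalkMap x').hom
  obtain ⟨hst, γ, hγ⟩ := PbStalk.exists_isBaseChange_stalk g' F x'
  letI mSqM' : Module (S'.presheaf.stalk (f' x'))
      (((Scheme.Modules.pullback g').obj F).presheaf.stalk x') :=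
    FlatMod.moduleStalkOver f' _ x'
  haveI tSqCpM' : IsScalarTower (S'.presheaf.stalk (f' x')) (X'.presheaf.stalk x')
      (((Scheme.Modules.pullback g').obj F).presheaf.stalk x') :=
    IsScalarTower.of_algebraMap_smul fun _ _ => rfl
  exact FFRelP.pushout_main Γ(S, V) Γ(S', V') Γ(X, U) Γ(X', W)
    (S.presheaf.stalk (f (g' x'))) (S'.presheaf.stalk (f' x'))
    (X.presheaf.stalk (g' x')) (X'.presheaf.stalk x')
    (hU.primeIdealOf ⟨g' x', hxU⟩).asIdeal.primeCompl
    (hV'.primeIdealOf ⟨f' x', hs'V'⟩).asIdeal.primeCompl γ hγ h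

end Groth.Agent.Lib.Helper25.FFRelSch
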