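import Mathlib

/-!
# Faithfully flat modules and tensor products: descent of flatness and of non-vanishing fibres
-/

set_option autoImplicit false
set_option linter.style.haveILetI false
open TensorProduct IsLocalRing

namespace Groth.Agent.Lib.Helper25.FFTensor

section

variable {C A : Type*} [CommRing C] [CommRing A] [Algebra C A]
  (M N : Type*) [AddCommGroup M] [AddCommGroup N] [Module A M] [Module A N]
  [Module C M] [IsScalarTower C A M] [Module C N] [IsScalarTower C A N]

/-- If `M` is a faithfully flat `A`-module and `M ⊗[A] N` is flat over `C`, then `N` is flat over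
`C`. -/
theorem flat_of_flat_tensor [Module.FaithfullyFlat A M] [Module.Flat C (M ⊗[A] N)] :
    Module.Flat C N := by
  rw [Module.Flat.iff_lTensor_preserves_injective_linearMap]
  intro Q' Q _ _ _ _ L hL
  have h0 : Function.Injective (L.lTensor (M ⊗[A] N)) :=
    Module.Flat.lTensor_preserves_injective_linearMap L hL
  have key : ∀ t : (M ⊗[A] N) ⊗[C] Q',
      AlgebraTensorModule.assoc C A A M N Q (L.lTensor (M ⊗[A] N) t) =
        (AlgebraTensorModule.lTensor A N L).lTensor M (AlgebraTensorModule.assoc C A A M N Q' t) := by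
    intro t
    induction t using TensorProduct.induction_on with
    | zero => simp
    | tmul x q =>
      induction x using TensorProduct.induction_on with
      | zero => simp
      | tmul m n => simp
      | add x y hx hy =>
        rw [add_tmul, map_add, map_add, hx, hy, map_add, map_add]
    | add t s ht hs => rw [map_add, map_add, ht, hs, map_add, map_add]
  have h2 : Function.Injective ((AlgebraTensorModule.lTensor A N L).lTensor M) := by
    intro a b hab
    obtain ⟨a', rfl⟩ := (AlgebraTensorModule.assoc C A A M N Q').surjective a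
    obtain ⟨b', rfl⟩ := (AlgebraTensorModule.assoc C A A M N Q').surjective b
    rw [← key, ← key] at hab
    rw [h0 ((AlgebraTensorModule.assoc C A A M N Q).injective hab)]
  have h1 : Function.Injective (AlgebraTensorModule.lTensor A N L) :=
    (Module.FaithfullyFlat.lTensor_injective_iff_injective A M _).mp h2
  rwa [AlgebraTensorModule.coe_lTensor] at h1

/-- If `M` is faithfully flat over `A` and `𝔪_C N ≠ N`, then `𝔪_C (M ⊗[A] N) ≠ M ⊗[A] N`. -/
theorem smul_top_ne_top_tensor [Module.FaithfullyFlat A M] (I : Ideal C)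
    (h : I • (⊤ : Submodule C N) ≠ ⊤) :
    I • (⊤ : Submodule C (M ⊗[A] N)) ≠ ⊤ := by
  haveI h1 : Nontrivial (N ⧸ I • (⊤ : Submodule C N)) := Submodule.Quotient.nontrivial_iff.mpr h
  haveI h2 : Nontrivial (N ⊗[C] (C ⧸ I)) := (tensorQuotEquivQuotSMul N I).toEquiv.nontrivial
  haveI h3 : Nontrivial (M ⊗[A] (N ⊗[C] (C ⧸ I))) :=
    Module.FaithfullyFlat.lTensor_nontrivial A M _
  haveI h4 : Nontrivial ((M ⊗[A] N) ⊗[C] (C ⧸ I)) :=
    (AlgebraTensorModule.assoc C A A M N (C ⧸ I)).toEquiv.nontrivial
  have h5 : Nontrivial ((M ⊗[A] N) ⧸ I • (⊤ : Submodule C (M ⊗[A] N))) :=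
    (tensorQuotEquivQuotSMul (M ⊗[A] N) I).symm.toEquiv.nontrivial
  exact Submodule.Quotient.nontrivial_iff.mp h5

/-- If `I (M ⊗[A] N) ≠ M ⊗[A] N` then `I N ≠ N`. -/
theorem smul_top_ne_top_of_tensor (I : Ideal C)
    (h : I • (⊤ : Submodule C (M ⊗[A] N)) ≠ ⊤) : I • (⊤ : Submodule C N) ≠ ⊤ := by
  intro hN
  apply h
  rw [eq_top_iff]
  rintro t -
  induction t using TensorProduct.induction_on with
  | zero => exact zero_mem _
  | tmul m n =>
    have hn : n ∈ I • (⊤ : Submodule C N) := by rw [hN]; trivial
    refine Submodule.smul_induction_on hn ?_ ?_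
    · intro c hc n' _
      have hcm : m ⊗ₜ[A] (c • n') = c • (m ⊗ₜ[A] n') :=
        calc m ⊗ₜ[A] (c • n') = m ⊗ₜ[A] ((algebraMap C A c) • n') := by rw [algebraMap_smul]
          _ = ((algebraMap C A c) • m) ⊗ₜ[A] n' := (TensorProduct.smul_tmul _ _ _).symm
          _ = (c • m) ⊗ₜ[A] n' := by rw [algebraMap_smul]
          _ = c • (m ⊗ₜ[A] n') := (TensorProduct.smul_tmul' _ _ _).symm
      rw [hcm]
      exact Submodule.smul_mem_smul hc trivial
    · intro x y hx hy
      rw [TensorProduct.tmul_add]
      exact add_mem hx hy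
  | add x y hx hy => exact add_mem hx hy

end

/-- transport of `I X = X` along a linear equivalence. -/
theorem smul_top_eq_top_iff_of_linearEquiv {C X Y : Type*} [CommRing C] [AddCommGroup X]
    [AddCommGroup Y] [Module C X] [Module C Y] (e : X ≃ₗ[C] Y) (I : Ideal C) :
    I • (⊤ : Submodule C X) = ⊤ ↔ I • (⊤ : Submodule C Y) = ⊤ := by
  constructor
  · intro h
    have := congr(Submodule.map e.toLinearMap $h)
    rwa [Submodule.map_smul'', Submodule.map_top, LinearEquiv.range] at this
  · intro h
    have := congr(Submodule.map e.symm.toLinearMap $h)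
    rwa [Submodule.map_smul'', Submodule.map_top, LinearEquiv.range] at this

end Groth.Agent.Lib.Helper25.FFTensor
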