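import Mathlib
import Groth.Prelude
import Groth.Agent.Lib.Helper25.FFTensor
import Groth.Agent.Lib.Helper2.Stk.Pull
import Groth.Agent.Lib.Helper2.Stk.Tensor
import Groth.Agent.Lib.Helper22.FFlatMod

/-!
# `F ⊗ q^*G'` versus `G'` over the base of `G'`, when `F` is faithfully flat along `q` at a point
-/

set_option autoImplicit false
set_option linter.style.haveILetI false
set_option maxHeartbeats 1600000
universe u

open CategoryTheory CategoryTheory.Limits AlgebraicGeometry Opposite TensorProduct MonoidalCategory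
open Groth.Agent.Lib.Helper2.Stk

namespace Groth.Agent.Lib.Helper25.FFTensorSch

theorem props {X' Y' Z : Scheme.{u}} (q : X' ⟶ Y') (h : Y' ⟶ Z)
    (F₁ : X'.Modules) (G' : Y'.Modules) (x' : X') :
    (FlatMod.IsFlatOverAt q F₁ x' →
      (letI := FlatMod.moduleStalkOver q F₁ x'
       IsLocalRing.maximalIdeal (Y'.presheaf.stalk (q x')) •
          (⊤ : Submodule (Y'.presheaf.stalk (q x')) (F₁.presheaf.stalk x')) ≠ ⊤) →
      (FlatMod.IsFlatOverAt (q ≫ h)
          (CohB1.tensorMod F₁ ((Scheme.Modules.pullback q).obj G')) x' →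
        FlatMod.IsFlatOverAt h G' (q x')) ∧
      ((letI := FlatMod.moduleStalkOver h G' (q x')
        IsLocalRing.maximalIdeal (Z.presheaf.stalk (h (q x'))) •
          (⊤ : Submodule (Z.presheaf.stalk (h (q x'))) (G'.presheaf.stalk (q x'))) ≠ ⊤) →
        (letI := FlatMod.moduleStalkOver (q ≫ h)
            (CohB1.tensorMod F₁ ((Scheme.Modules.pullback q).obj G')) x'
         IsLocalRing.maximalIdeal (Z.presheaf.stalk ((q ≫ h) x')) •
            (⊤ : Submodule (Z.presheaf.stalk ((q ≫ h) x'))
              ((CohB1.tensorMod F₁ ((Scheme.Modules.pullback q).obj G')).presheaf.stalk x')) ≠ ⊤))) ∧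
    ((letI := FlatMod.moduleStalkOver (q ≫ h)
          (CohB1.tensorMod F₁ ((Scheme.Modules.pullback q).obj G')) x'
      IsLocalRing.maximalIdeal (Z.presheaf.stalk ((q ≫ h) x')) •
          (⊤ : Submodule (Z.presheaf.stalk ((q ≫ h) x'))
            ((CohB1.tensorMod F₁ ((Scheme.Modules.pullback q).obj G')).presheaf.stalk x')) ≠ ⊤) →
      (letI := FlatMod.moduleStalkOver h G' (q x')
       IsLocalRing.maximalIdeal (Z.presheaf.stalk (h (q x'))) •
          (⊤ : Submodule (Z.presheaf.stalk (h (q x'))) (G'.presheaf.stalk (q x'))) ≠ ⊤)) := by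
  unfold FlatMod.IsFlatOverAt
  -- the iso in `ModuleCat B'`
  let E : (Φ x').obj ((DCoh.tensorBi.obj F₁).obj ((Scheme.Modules.pullback q).obj G')) ≅
      (Φ x').obj F₁ ⊗ (ModuleCat.extendScalars (φst q x')).obj ((Φ (q.base x')).obj G') :=
    (tensorIso F₁ ((Scheme.Modules.pullback q).obj G') x').symm ≪≫
      whiskerLeftIso ((Φ x').obj F₁) ((pullStalkIso q x').app G')
  -- instances
  letI aA'B' : Algebra (Y'.presheaf.stalk (q.base x')) (X'.presheaf.stalk x') :=
    (φst q x').toAlgebra
  letI aCA' : Algebra (Z.presheaf.stalk (h.base (q.base x'))) (Y'.presheaf.stalk (q.base x')) :=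
    (h.stalkMap (q.base x')).hom.toAlgebra
  letI mA'M : Module (Y'.presheaf.stalk (q.base x')) (F₁.presheaf.stalk x') :=
    FlatMod.moduleStalkOver q F₁ x'
  haveI t1 : IsScalarTower (Y'.presheaf.stalk (q.base x')) (X'.presheaf.stalk x')
      (F₁.presheaf.stalk x') := IsScalarTower.of_algebraMap_smul fun r m => rfl
  letI mCN : Module (Z.presheaf.stalk (h.base (q.base x'))) (G'.presheaf.stalk (q.base x')) :=
    FlatMod.moduleStalkOver h G' (q.base x')
  haveI t2 : IsScalarTower (Z.presheaf.stalk (h.base (q.base x')))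
      (Y'.presheaf.stalk (q.base x')) (G'.presheaf.stalk (q.base x')) :=
    IsScalarTower.of_algebraMap_smul fun r m => rfl
  letI mCM : Module (Z.presheaf.stalk (h.base (q.base x'))) (F₁.presheaf.stalk x') :=
    Module.compHom (F₁.presheaf.stalk x')
      (algebraMap (Z.presheaf.stalk (h.base (q.base x'))) (Y'.presheaf.stalk (q.base x')))
  haveI t3 : IsScalarTower (Z.presheaf.stalk (h.base (q.base x')))
      (Y'.presheaf.stalk (q.base x')) (F₁.presheaf.stalk x') :=
    IsScalarTower.of_algebraMap_smul fun r m => rfl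
  -- the linear equivalence
  let e₀ : (CohB1.tensorMod F₁ ((Scheme.Modules.pullback q).obj G')).presheaf.stalk x'
      ≃ₗ[X'.presheaf.stalk x']
      (F₁.presheaf.stalk x' ⊗[X'.presheaf.stalk x']
        (X'.presheaf.stalk x' ⊗[Y'.presheaf.stalk (q.base x')] G'.presheaf.stalk (q.base x'))) :=
    E.toLinearEquiv
  let e₁ : (F₁.presheaf.stalk x' ⊗[X'.presheaf.stalk x']
        (X'.presheaf.stalk x' ⊗[Y'.presheaf.stalk (q.base x')] G'.presheaf.stalk (q.base x')))
      ≃ₗ[X'.presheaf.stalk x']
      (F₁.presheaf.stalk x' ⊗[Y'.presheaf.stalk (q.base x')] G'.presheaf.stalk (q.base x')) :=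
    AlgebraTensorModule.cancelBaseChange (Y'.presheaf.stalk (q.base x'))
      (X'.presheaf.stalk x') (X'.presheaf.stalk x') (F₁.presheaf.stalk x')
      (G'.presheaf.stalk (q.base x'))
  -- the `C`-structures
  letI aCB' : Algebra (Z.presheaf.stalk (h.base (q.base x'))) (X'.presheaf.stalk x') :=
    ((q ≫ h).stalkMap x').hom.toAlgebra
  letI mCT : Module (Z.presheaf.stalk (h.base (q.base x')))
      ((CohB1.tensorMod F₁ ((Scheme.Modules.pullback q).obj G')).presheaf.stalk x') :=
    FlatMod.moduleStalkOver (q ≫ h) _ x'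
  haveI t4 : IsScalarTower (Z.presheaf.stalk (h.base (q.base x'))) (X'.presheaf.stalk x')
      ((CohB1.tensorMod F₁ ((Scheme.Modules.pullback q).obj G')).presheaf.stalk x') :=
    IsScalarTower.of_algebraMap_smul fun r m => rfl
  haveI t5 : IsScalarTower (Z.presheaf.stalk (h.base (q.base x'))) (X'.presheaf.stalk x')
      (F₁.presheaf.stalk x') := by
    refine IsScalarTower.of_algebraMap_smul fun c m => ?_
    show ((q ≫ h).stalkMap x').hom c • m =
      (q.stalkMap x').hom ((h.stalkMap (q.base x')).hom c) • m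
    rw [Scheme.Hom.stalkMap_comp]
    rfl
  let eC : (CohB1.tensorMod F₁ ((Scheme.Modules.pullback q).obj G')).presheaf.stalk x'
      ≃ₗ[Z.presheaf.stalk (h.base (q.base x'))]
      (F₁.presheaf.stalk x' ⊗[Y'.presheaf.stalk (q.base x')] G'.presheaf.stalk (q.base x')) :=
    (e₀ ≪≫ₗ e₁).restrictScalars (Z.presheaf.stalk (h.base (q.base x')))
  refine ⟨fun h1 hff => ?_, fun hT => ?_⟩
  · haveI f1 : Module.Flat (Y'.presheaf.stalk (q.base x')) (F₁.presheaf.stalk x') := h1
    haveI ff1 : Module.FaithfullyFlat (Y'.presheaf.stalk (q.base x')) (F₁.presheaf.stalk x') :=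
      Groth.Agent.Lib.Helper22.FFlatMod.faithfullyFlat_of_isLocalRing _ _ hff
    refine ⟨fun hT => ?_, fun hG => ?_⟩
    · have hT' : @Module.Flat (Z.presheaf.stalk (h.base (q.base x')))
          ((CohB1.tensorMod F₁ ((Scheme.Modules.pullback q).obj G')).presheaf.stalk x') _ _ mCT :=
        hT
      haveI : Module.Flat (Z.presheaf.stalk (h.base (q.base x')))
          (F₁.presheaf.stalk x' ⊗[Y'.presheaf.stalk (q.base x')]
            G'.presheaf.stalk (q.base x')) :=
        Module.Flat.of_linearEquiv eC.symm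
      exact FFTensor.flat_of_flat_tensor (C := Z.presheaf.stalk (h.base (q.base x'))) (A := Y'.presheaf.stalk (q.base x'))
        (F₁.presheaf.stalk x') (G'.presheaf.stalk (q.base x'))
    · have key : IsLocalRing.maximalIdeal (Z.presheaf.stalk (h.base (q.base x'))) •
          (⊤ : Submodule (Z.presheaf.stalk (h.base (q.base x')))
            ((CohB1.tensorMod F₁ ((Scheme.Modules.pullback q).obj G')).presheaf.stalk x')) ≠ ⊤ :=
        fun htop => FFTensor.smul_top_ne_top_tensor (C := Z.presheaf.stalk (h.base (q.base x'))) (A := Y'.presheaf.stalk (q.base x'))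
        (F₁.presheaf.stalk x')
          (G'.presheaf.stalk (q.base x')) _ hG
          ((FFTensor.smul_top_eq_top_iff_of_linearEquiv eC _).mp htop)
      exact key
  · have hT' : IsLocalRing.maximalIdeal (Z.presheaf.stalk (h.base (q.base x'))) •
        (⊤ : Submodule (Z.presheaf.stalk (h.base (q.base x')))
          ((CohB1.tensorMod F₁ ((Scheme.Modules.pullback q).obj G')).presheaf.stalk x')) ≠ ⊤ := hT
    exact FFTensor.smul_top_ne_top_of_tensor (C := Z.presheaf.stalk (h.base (q.base x'))) (A := Y'.presheaf.stalk (q.base x'))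
        (F₁.presheaf.stalk x')
      (G'.presheaf.stalk (q.base x')) _
      (fun htop => hT' ((FFTensor.smul_top_eq_top_iff_of_linearEquiv eC _).mpr htop))

end Groth.Agent.Lib.Helper25.FFTensorSch
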