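import Mathlib
import Groth.Agent.S6361

/-!
# Flat + Mittag-Leffler + countably generated ⇒ projective

`projective_of_flat_ml_countable`: a flat, Mittag-Leffler (in the sense of `CAlg.IsMittagLeffler`),
countably generated module is projective (Stacks 059Z), proved via S6361 (endomorphisms factoring
through finitely presented modules) and Lazard's criterion.
-/

namespace Groth.Agent.Lib.Helper25.FlatMLProj

universe u

variable (R : Type u) [CommRing R]

/-- a factorization through a finite free module -/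
structure Stp (M : Type u) [AddCommGroup M] [Module R M] where
  k : ℕ
  b : M →ₗ[R] (Fin k →₀ R)
  c : (Fin k →₀ R) →ₗ[R] M

variable {M : Type u} [AddCommGroup M] [Module R M]

theorem exists_stp [Module.Flat R M] (hML : CAlg.IsMittagLeffler R M)
    (hc : CAlg.IsCountablyGenerated R M) (A : Submodule R M) (hA : A.FG) :
    ∃ s : Stp R M, ∀ m ∈ A, s.c (s.b m) = m := by
  haveI : Module.Finite R A := Module.Finite.iff_fg.2 hA
  obtain ⟨Q, _, _, _, b', c', h⟩ := Groth.Agent.S6361.result R M hML hc A.subtype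
  obtain ⟨k, h₂, h₃, h23⟩ := Module.Flat.exists_factorization_of_finitePresentation c'
  refine ⟨⟨k, h₂ ∘ₗ b', h₃⟩, ?_⟩
  intro m hm
  have h1 := LinearMap.congr_fun h ⟨m, hm⟩
  simp only [LinearMap.comp_apply, Submodule.subtype_apply] at h1
  show h₃ (h₂ (b' m)) = m
  rw [h23] at h1
  exact h1

noncomputable def pick [Module.Flat R M] (hML : CAlg.IsMittagLeffler R M)
    (hc : CAlg.IsCountablyGenerated R M) (A : {A : Submodule R M // A.FG}) : Stp R M :=
  Classical.choose (exists_stp R hML hc A.1 A.2)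

theorem pick_spec [Module.Flat R M] (hML : CAlg.IsMittagLeffler R M)
    (hc : CAlg.IsCountablyGenerated R M) (A : {A : Submodule R M // A.FG}) :
    ∀ m ∈ A.1, (pick R hML hc A).c ((pick R hML hc A).b m) = m :=
  Classical.choose_spec (exists_stp R hML hc A.1 A.2)

noncomputable def nextA [Module.Flat R M] (hML : CAlg.IsMittagLeffler R M)
    (hc : CAlg.IsCountablyGenerated R M) (A : {A : Submodule R M // A.FG}) (y : M) :
    {A : Submodule R M // A.FG} :=
  ⟨A.1 ⊔ LinearMap.range (pick R hML hc A).c ⊔ Submodule.span R {y}, by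
    refine Submodule.FG.sup (Submodule.FG.sup A.2 ?_) (Submodule.fg_span_singleton y)
    rw [LinearMap.range_eq_map]; exact Submodule.FG.map _ Module.Finite.fg_top⟩

noncomputable def Aseq [Module.Flat R M] (hML : CAlg.IsMittagLeffler R M)
    (hc : CAlg.IsCountablyGenerated R M) (x : ℕ → M) : ℕ → {A : Submodule R M // A.FG}
  | 0 => ⟨Submodule.span R {x 0}, Submodule.fg_span_singleton _⟩
  | (n+1) => nextA R hML hc (Aseq hML hc x n) (x (n+1))

/-- **Stacks 059Z**: a flat, Mittag-Leffler, countably generated module is projective. -/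
theorem projective_of_flat_ml_countable [Module.Flat R M] (hML : CAlg.IsMittagLeffler R M)
    (hc : CAlg.IsCountablyGenerated R M) : Module.Projective R M := by
  classical
  have hc' := hc
  obtain ⟨s, hsc, hs⟩ := hc'
  obtain ⟨x, hx⟩ : ∃ x : ℕ → M, s ⊆ Set.range x := by
    rcases s.eq_empty_or_nonempty with rfl | hne
    · exact ⟨fun _ => 0, Set.empty_subset _⟩
    · obtain ⟨x, hx⟩ := hsc.exists_eq_range hne
      exact ⟨x, hx.le⟩
  let A : ℕ → Submodule R M := fun n => (Aseq R hML hc x n).1
  let st : ℕ → Stp R M := fun n => pick R hML hc (Aseq R hML hc x n)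
  have hA_succ : ∀ n, A (n+1) = A n ⊔ LinearMap.range (st n).c ⊔ Submodule.span R {x (n+1)} :=
    fun n => rfl
  have hAmono : ∀ n, A n ≤ A (n+1) := fun n => by
    rw [hA_succ]; exact le_sup_of_le_left le_sup_left
  have hAmono' : ∀ i j, i ≤ j → A i ≤ A j := fun i j h => monotone_nat_of_le_succ hAmono h
  have hcA : ∀ n, LinearMap.range (st n).c ≤ A (n+1) := fun n => by
    rw [hA_succ]; exact le_sup_of_le_left le_sup_right
  have hxA : ∀ n, x n ∈ A n := by
    intro n
    cases n with
    | zero => exact Submodule.subset_span rfl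
    | succ n =>
      rw [hA_succ]
      exact Submodule.mem_sup_right (Submodule.subset_span rfl)
  have hfix : ∀ n, ∀ m ∈ A n, (st n).c ((st n).b m) = m := fun n => pick_spec R hML hc _
  let βs : ℕ → (M →ₗ[R] M) := fun n => Nat.rec (motive := fun _ => M →ₗ[R] M) LinearMap.id
    (fun n β => (LinearMap.id - (st n).c ∘ₗ (st n).b) ∘ₗ β) n
  have hβ0 : ∀ m, βs 0 m = m := fun m => rfl
  have hβS : ∀ n m, βs (n+1) m = βs n m - (st n).c ((st n).b (βs n m)) := fun n m => rfl
  have claim1 : ∀ i, ∀ m ∈ A i, ∀ j, j ≤ i → βs j m ∈ A i := by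
    intro i m hm j
    induction j with
    | zero => intro _; rw [hβ0]; exact hm
    | succ j ih =>
      intro hj
      rw [hβS]
      refine Submodule.sub_mem _ (ih (by omega)) ?_
      exact hAmono' (j+1) i hj (hcA j (LinearMap.mem_range_self _ _))
  have claim2 : ∀ i, ∀ m ∈ A i, βs (i+1) m = 0 := by
    intro i m hm
    rw [hβS, hfix i _ (claim1 i m hm i le_rfl), sub_self]
  have claim3 : ∀ i, ∀ m ∈ A i, ∀ n, i + 1 ≤ n → βs n m = 0 := by
    intro i m hm n hn
    induction n, hn using Nat.le_induction with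
    | base => exact claim2 i m hm
    | succ n hn ih => rw [hβS, ih, map_zero, map_zero, sub_zero]
  have hcover : ∀ m : M, ∃ i, m ∈ A i := by
    intro m
    have hm : m ∈ Submodule.span R s := by rw [hs]; trivial
    refine Submodule.span_induction (p := fun m _ => ∃ i, m ∈ A i) ?_ ?_ ?_ ?_ hm
    · intro y hy
      obtain ⟨k, rfl⟩ := hx hy
      exact ⟨k, hxA k⟩
    · exact ⟨0, Submodule.zero_mem _⟩
    · rintro y₁ y₂ _ _ ⟨i₁, h1⟩ ⟨i₂, h2⟩
      exact ⟨max i₁ i₂, Submodule.add_mem _ (hAmono' _ _ (le_max_left _ _) h1)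
        (hAmono' _ _ (le_max_right _ _) h2)⟩
    · rintro r y _ ⟨i, h1⟩
      exact ⟨i, Submodule.smul_mem _ r h1⟩
  apply Module.Projective.of_lifting_property''
  intro p hp
  have hlift : ∀ n, ∃ h : (Fin (st n).k →₀ R) →ₗ[R] (M →₀ R), p ∘ₗ h = (st n).c :=
    fun n => Module.projective_lifting_property p (st n).c hp
  choose ĉ hĉ using hlift
  let T : ℕ → (M →ₗ[R] (M →₀ R)) := fun n => ĉ n ∘ₗ (st n).b ∘ₗ βs n
  have hTz : ∀ i, ∀ m ∈ A i, ∀ n, i + 1 ≤ n → T n m = 0 := by
    intro i m hm n hn
    show ĉ n ((st n).b (βs n m)) = 0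
    rw [claim3 i m hm n hn, map_zero, map_zero]
  have hsupp : ∀ i, ∀ m ∈ A i, Function.support (fun n => T n m) ⊆ ↑(Finset.range (i+1)) := by
    intro i m hm n hn
    rw [Finset.coe_range, Set.mem_Iio]
    by_contra hlt
    exact hn (hTz i m hm n (by omega))
  have hfin : ∀ m, Function.HasFiniteSupport (fun n => T n m) := by
    intro m
    obtain ⟨i, hi⟩ := hcover m
    exact (Finset.range (i+1)).finite_toSet.subset (hsupp i m hi)
  let σ : M →ₗ[R] (M →₀ R) :=
    { toFun := fun m => ∑ᶠ n, T n m
      map_add' := by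
        intro a b
        simp only [map_add]
        exact finsum_add_distrib (hfin a) (hfin b)
      map_smul' := by
        intro r a
        simp only [map_smul, RingHom.id_apply]
        exact (smul_finsum' r (hfin a)).symm }
  refine ⟨σ, ?_⟩
  apply LinearMap.ext
  intro m
  show p (∑ᶠ n, T n m) = m
  obtain ⟨i, hi⟩ := hcover m
  rw [finsum_eq_sum_of_support_subset _ (hsupp i m hi), map_sum]
  have hpT : ∀ n, p (T n m) = βs n m - βs (n+1) m := by
    intro n
    show p (ĉ n ((st n).b (βs n m))) = _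
    rw [← LinearMap.comp_apply p, hĉ, hβS, sub_sub_cancel]
  simp_rw [hpT]
  rw [Finset.sum_range_sub', hβ0, claim2 i m hi, sub_zero]

end Groth.Agent.Lib.Helper25.FlatMLProj
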