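import Mathlib
import Groth.Prelude.Def_Found

/-!
# Kaplansky's devissage: a direct summand of a direct sum of countably generated modules is a
direct sum of countably generated modules.
-/

namespace Groth.Agent.Lib.Helper25.Kaplansky

open Submodule

universe u

section CG

variable {R : Type u} [CommRing R] {M : Type u} [AddCommGroup M] [Module R M]
variable {M' : Type u} [AddCommGroup M'] [Module R M']

/-- countably generated submodule -/
def CG (K : Submodule R M) : Prop := ∃ s : Set M, s.Countable ∧ Submodule.span R s = K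

theorem CG.map {K : Submodule R M} (h : CG K) (f : M →ₗ[R] M') : CG (K.map f) := by
  obtain ⟨s, hs, rfl⟩ := h
  exact ⟨f '' s, hs.image f, (Submodule.map_span f s).symm⟩

theorem CG.biSup {ι : Type*} {J : Set ι} (hJ : J.Countable) {K : ι → Submodule R M}
    (h : ∀ i ∈ J, CG (K i)) : CG (⨆ i ∈ J, K i) := by
  unfold CG at h
  choose! s hs using h
  refine ⟨⋃ i ∈ J, s i, hJ.biUnion fun i hi => (hs i hi).1, ?_⟩
  rw [Submodule.span_iUnion₂]
  exact iSup_congr fun i => iSup_congr fun hi => (hs i hi).2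

theorem CG.of_isCountablyGenerated {K : Submodule R M} (h : CAlg.IsCountablyGenerated R K) :
    CG K := by
  obtain ⟨s, hs, hspan⟩ := h
  refine ⟨K.subtype '' s, hs.image _, ?_⟩
  rw [← Submodule.map_span, hspan, Submodule.map_subtype_top]

theorem isCountablyGenerated_of_surjective {A B : Type u} [AddCommGroup A] [Module R A]
    [AddCommGroup B] [Module R B] (f : A →ₗ[R] B) (hf : Function.Surjective f)
    (h : CAlg.IsCountablyGenerated R A) : CAlg.IsCountablyGenerated R B := by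
  obtain ⟨s, hs, hspan⟩ := h
  refine ⟨f '' s, hs.image _, ?_⟩
  rw [← Submodule.map_span, hspan, Submodule.map_top, LinearMap.range_eq_top.2 hf]

theorem CG.isCountablyGenerated {K : Submodule R M} (h : CG K) :
    CAlg.IsCountablyGenerated R K := by
  obtain ⟨s, hs, rfl⟩ := h
  refine ⟨(Submodule.span R s).subtype ⁻¹' s,
    hs.preimage_of_injOn (Submodule.injective_subtype _).injOn, ?_⟩
  apply Submodule.map_injective_of_injective (Submodule.injective_subtype (span R s))
  rw [Submodule.map_span, Submodule.map_subtype_top, Set.image_preimage_eq_of_subset]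
  intro x hx
  exact ⟨⟨x, Submodule.subset_span hx⟩, rfl⟩

theorem CG.isCountablyGenerated_comap {L P : Submodule R M} (h : CG L) (hLP : L ≤ P) :
    CAlg.IsCountablyGenerated R ↥(Submodule.comap P.subtype L) :=
  isCountablyGenerated_of_surjective (Submodule.comapSubtypeEquivOfLe hLP).symm.toLinearMap
    (Submodule.comapSubtypeEquivOfLe hLP).symm.surjective h.isCountablyGenerated

end CG

section MJ

variable {R : Type u} [CommRing R] {M : Type u} [AddCommGroup M] [Module R M] {ι : Type*}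

/-- partial sums -/
def MJ (N : ι → Submodule R M) (J : Set ι) : Submodule R M := ⨆ i ∈ J, N i

variable (N : ι → Submodule R M)

theorem MJ_mono {J J' : Set ι} (h : J ⊆ J') : MJ N J ≤ MJ N J' := biSup_mono h

theorem MJ_union (J J' : Set ι) : MJ N (J ∪ J') = MJ N J ⊔ MJ N J' := iSup_union

theorem MJ_empty : MJ N ∅ = ⊥ := by simp [MJ]

theorem MJ_univ : MJ N Set.univ = ⨆ i, N i := by simp [MJ]

theorem MJ_iUnion {κ : Sort*} (S : κ → Set ι) : MJ N (⋃ k, S k) = ⨆ k, MJ N (S k) :=
  iSup_iUnion S N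

variable {N}

/-- `J` is compatible with the idempotent `π` -/
def Compat (π : M →ₗ[R] M) (N : ι → Submodule R M) (J : Set ι) : Prop :=
  (MJ N J).map π ≤ MJ N J

variable {π : M →ₗ[R] M}

theorem Compat.union {J J' : Set ι} (h : Compat π N J) (h' : Compat π N J') :
    Compat π N (J ∪ J') := by
  unfold Compat at *
  rw [MJ_union, Submodule.map_sup]
  exact sup_le_sup h h'

theorem Compat.iUnion {κ : Sort*} {S : κ → Set ι} (h : ∀ k, Compat π N (S k)) :
    Compat π N (⋃ k, S k) := by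
  unfold Compat at *
  rw [MJ_iUnion, Submodule.map_iSup]
  exact iSup_mono h

theorem Compat.empty : Compat π N ∅ := by
  unfold Compat
  rw [MJ_empty, Submodule.map_bot]

theorem exists_countable_compat (π : M →ₗ[R] M) (N : ι → Submodule R M) (hsup : ⨆ i, N i = ⊤)
    (hc : ∀ i, CG (N i)) (i₀ : ι) : ∃ U : Set ι, i₀ ∈ U ∧ U.Countable ∧ Compat π N U := by
  classical
  unfold CG at hc
  choose gen hgenc hgens using hc
  have hF : ∀ m : M, ∃ F : Finset ι, π m ∈ ⨆ i ∈ F, N i := fun m =>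
    (Submodule.mem_iSup_iff_exists_finset).1 (by rw [hsup]; exact Submodule.mem_top)
  choose F hF using hF
  let T : Set ι → Set ι := fun S => S ∪ ⋃ i ∈ S, ⋃ g ∈ gen i, (↑(F g) : Set ι)
  have hTc : ∀ S : Set ι, S.Countable → (T S).Countable := fun S hS =>
    hS.union (hS.biUnion fun i _ => (hgenc i).biUnion fun g _ => Finset.countable_toSet _)
  have hUn : ∀ n, (T^[n] {i₀}).Countable := by
    intro n
    induction n with
    | zero => simpa using Set.countable_singleton i₀
    | succ n ih => rw [Function.iterate_succ_apply']; exact hTc _ ih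
  refine ⟨⋃ n : ℕ, T^[n] {i₀}, Set.mem_iUnion.2 ⟨0, by simp⟩, Set.countable_iUnion hUn, ?_⟩
  unfold Compat
  rw [Submodule.map_le_iff_le_comap]
  refine iSup₂_le fun i hi => ?_
  rw [← hgens i, Submodule.span_le]
  intro g hg
  show π g ∈ MJ N (⋃ n : ℕ, T^[n] {i₀})
  obtain ⟨n, hn⟩ := Set.mem_iUnion.1 hi
  have hsub : (↑(F g) : Set ι) ⊆ T^[n+1] {i₀} := by
    rw [Function.iterate_succ_apply']
    intro j hj
    exact Or.inr (Set.mem_biUnion hn (Set.mem_biUnion hg hj))
  have h1 : (⨆ j ∈ F g, N j) ≤ MJ N (T^[n+1] {i₀}) :=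
    biSup_mono (fun j hj => hsub (Finset.mem_coe.2 hj))
  exact MJ_mono N (Set.subset_iUnion (fun n => T^[n] {i₀}) (n+1)) (h1 (hF g))

end MJ

section Step

variable {R : Type u} [CommRing R] {M : Type u} [AddCommGroup M] [Module R M]

theorem extend_step {A B P : Submodule R M} (π α : M →ₗ[R] M)
    (hπP : ∀ x, π x ∈ P) (hπid : ∀ x ∈ P, π x = x)
    (hαA : ∀ x, α x ∈ A) (hαid : ∀ x ∈ A, α x = x)
    (hA : A.map π ≤ A) (hB : B.map π ≤ B) :
    ∃ f : M →ₗ[R] M, Disjoint (A ⊓ P) (B.map f) ∧ (A ⊓ P) ⊔ B.map f = (A ⊔ B) ⊓ P := by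
  set σ : M →ₗ[R] M := π ∘ₗ α with hσ
  have hσmem : ∀ x, σ x ∈ A ⊓ P := fun x =>
    Submodule.mem_inf.2 ⟨hA (Submodule.mem_map_of_mem (hαA x)), hπP _⟩
  have hσid : ∀ x ∈ A ⊓ P, σ x = x := fun x hx => by
    show π (α x) = x
    rw [hαid x (Submodule.mem_inf.1 hx).1, hπid x (Submodule.mem_inf.1 hx).2]
  refine ⟨π - σ ∘ₗ π, ?_, le_antisymm ?_ ?_⟩
  · rw [Submodule.disjoint_def]
    rintro y hy ⟨b, hb, rfl⟩
    have h1 := hσid _ hy
    have h2 : σ ((π - σ ∘ₗ π) b) = 0 := by
      simp only [LinearMap.sub_apply, LinearMap.comp_apply, map_sub]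
      rw [hσid _ (hσmem (π b)), sub_self]
    exact h1.symm.trans h2
  · refine sup_le (inf_le_inf_right _ le_sup_left) ?_
    rintro y ⟨b, hb, rfl⟩
    have hπb : π b ∈ B := hB (Submodule.mem_map_of_mem hb)
    refine Submodule.mem_inf.2 ⟨?_, ?_⟩
    · simp only [LinearMap.sub_apply, LinearMap.comp_apply]
      exact Submodule.sub_mem _ (Submodule.mem_sup_right hπb)
        (Submodule.mem_sup_left (Submodule.mem_inf.1 (hσmem _)).1)
    · simp only [LinearMap.sub_apply, LinearMap.comp_apply]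
      exact Submodule.sub_mem _ (hπP _) (Submodule.mem_inf.1 (hσmem _)).2
  · intro x hx
    obtain ⟨hxAB, hxP⟩ := Submodule.mem_inf.1 hx
    obtain ⟨a, ha, b, hb, rfl⟩ := Submodule.mem_sup.1 hxAB
    have hx' : a + b = (π a + σ (π b)) + (π - σ ∘ₗ π) b := by
      have := hπid _ hxP
      rw [map_add] at this
      simp only [LinearMap.sub_apply, LinearMap.comp_apply]
      rw [← this]; abel
    rw [hx']
    exact Submodule.add_mem_sup (Submodule.add_mem _
      (Submodule.mem_inf.2 ⟨hA (Submodule.mem_map_of_mem ha), hπP _⟩) (hσmem _))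
      (Submodule.mem_map_of_mem hb)

end Step

section Main

variable {R : Type u} [CommRing R] {M : Type u} [AddCommGroup M] [Module R M] {ι : Type*}

theorem main (π : M →ₗ[R] M) (P : Submodule R M) (N : ι → Submodule R M)
    (hπP : ∀ x, π x ∈ P) (hπid : ∀ x ∈ P, π x = x)
    (hind : iSupIndep N) (hsup : ⨆ i, N i = ⊤) (hc : ∀ i, CG (N i)) :
    ∃ 𝓛 : Set (Submodule R M), (∀ L ∈ 𝓛, CG L) ∧ sSupIndep 𝓛 ∧ sSup 𝓛 = P := by
  classical
  let ZS : Set (Set ι × Set (Submodule R M)) :=
    {z | Compat π N z.1 ∧ (∀ L ∈ z.2, CG L) ∧ sSupIndep z.2 ∧ sSup z.2 = MJ N z.1 ⊓ P}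
  have h0 : ((∅, ∅) : Set ι × Set (Submodule R M)) ∈ ZS := by
    refine ⟨Compat.empty, by simp, sSupIndep_empty, ?_⟩
    simp [MJ_empty]
  have hchain : ∀ c ⊆ ZS, IsChain (· ≤ ·) c → ∀ y ∈ c, ∃ ub ∈ ZS, ∀ z ∈ c, z ≤ ub := by
    intro c hc' hch y hy
    haveI : Nonempty c := ⟨⟨y, hy⟩⟩
    have hdir : ∀ z z' : c, ∃ w : c, z.1 ≤ w.1 ∧ z'.1 ≤ w.1 := by
      intro z z'
      obtain ⟨w, hw, h1, h2⟩ := hch.directedOn z.1 z.2 z'.1 z'.2
      exact ⟨⟨w, hw⟩, h1, h2⟩
    refine ⟨(⋃ z : c, z.1.1, ⋃ z : c, z.1.2), ⟨?_, ?_, ?_, ?_⟩, ?_⟩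
    · exact Compat.iUnion fun z => (hc' z.2).1
    · intro L hL
      obtain ⟨z, hz⟩ := Set.mem_iUnion.1 hL
      exact (hc' z.2).2.1 L hz
    · show sSupIndep (⋃ z : c, z.1.2)
      rw [← Set.sUnion_range]
      apply iSupIndep_sUnion_of_directed
      · rintro _ ⟨z, rfl⟩ _ ⟨z', rfl⟩
        obtain ⟨w, hw1, hw2⟩ := hdir z z'
        exact ⟨_, ⟨w, rfl⟩, hw1.2, hw2.2⟩
      · rintro _ ⟨z, rfl⟩
        exact (hc' z.2).2.2.1
    · show sSup (⋃ z : c, z.1.2) = MJ N (⋃ z : c, z.1.1) ⊓ P
      apply le_antisymm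
      · apply sSup_le
        intro L hL
        obtain ⟨z, hz⟩ := Set.mem_iUnion.1 hL
        calc L ≤ sSup z.1.2 := le_sSup hz
          _ = MJ N z.1.1 ⊓ P := (hc' z.2).2.2.2
          _ ≤ _ := inf_le_inf_right _ (MJ_mono N (Set.subset_iUnion (fun z : c => z.1.1) z))
      · intro x hx
        obtain ⟨hxJ, hxP⟩ := Submodule.mem_inf.1 hx
        rw [MJ_iUnion] at hxJ
        have hdirM : Directed (· ≤ ·) fun z : c => MJ N z.1.1 := fun z z' => by
          obtain ⟨w, hw1, hw2⟩ := hdir z z'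
          exact ⟨w, MJ_mono N hw1.1, MJ_mono N hw2.1⟩
        obtain ⟨z, hz⟩ := (Submodule.mem_iSup_of_directed _ hdirM).1 hxJ
        have : x ∈ sSup z.1.2 := by
          rw [(hc' z.2).2.2.2]; exact Submodule.mem_inf.2 ⟨hz, hxP⟩
        exact sSup_le_sSup (Set.subset_iUnion (fun z : c => z.1.2) z) this
    · intro z hz
      exact ⟨Set.subset_iUnion (fun z : c => z.1.1) ⟨z, hz⟩,
        Set.subset_iUnion (fun z : c => z.1.2) ⟨z, hz⟩⟩
  obtain ⟨⟨J, 𝓛⟩, -, hmax⟩ := zorn_le_nonempty₀ ZS hchain _ h0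
  obtain ⟨hJc, hLcg, hLind, hLsup⟩ := hmax.prop
  have hJ : J = Set.univ := by
    by_contra hne
    obtain ⟨i₀, hi₀⟩ := (Set.ne_univ_iff_exists_notMem J).1 hne
    obtain ⟨U, hiU, hUc, hUcompat⟩ := exists_countable_compat π N hsup hc i₀
    have hcompl : IsCompl (MJ N J) (MJ N Jᶜ) := ⟨hind.disjoint_biSup_biSup disjoint_compl_right, by
      rw [codisjoint_iff, ← MJ_union, Set.union_compl_self, MJ_univ, hsup]⟩
    obtain ⟨f, hfd, hfs⟩ := extend_step (A := MJ N J) (B := MJ N U) (P := P) π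
      ((MJ N J).projection (MJ N Jᶜ) hcompl) hπP hπid
      (fun x => Submodule.projection_apply_mem hcompl x)
      (fun x hx => Submodule.projection_apply_of_mem_left hcompl hx) hJc hUcompat
    have hCG : CG ((MJ N U).map f) := (CG.biSup hUc fun i _ => hc i).map f
    have hnew : ((J ∪ U, insert ((MJ N U).map f) 𝓛) : Set ι × Set (Submodule R M)) ∈ ZS := by
      refine ⟨hJc.union hUcompat, ?_, ?_, ?_⟩
      · intro L hL
        rcases Set.mem_insert_iff.1 hL with rfl | hL
        · exact hCG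
        · exact hLcg L hL
      · intro a ha
        rcases Set.mem_insert_iff.1 ha with rfl | ha
        · refine Disjoint.mono_right ?_ hfd.symm
          rw [← hLsup]
          apply sSup_le_sSup
          rintro b ⟨hb, hba⟩
          rcases Set.mem_insert_iff.1 hb with rfl | hb
          · exact absurd (Set.mem_singleton _) hba
          · exact hb
        · have h1 : Disjoint a (sSup (𝓛 \ {a})) := hLind ha
          have h2 : Disjoint (a ⊔ sSup (𝓛 \ {a})) ((MJ N U).map f) := by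
            refine Disjoint.mono_left ?_ hfd
            rw [← hLsup]
            exact sup_le (le_sSup ha) (sSup_le_sSup Set.sdiff_subset)
          have h3 := h1.disjoint_sup_right_of_disjoint_sup_left h2
          refine h3.mono_right ?_
          apply sSup_le
          rintro b ⟨hb, hba⟩
          rcases Set.mem_insert_iff.1 hb with rfl | hb
          · exact le_sup_right
          · exact le_sup_of_le_left (le_sSup ⟨hb, hba⟩)
      · show sSup (insert ((MJ N U).map f) 𝓛) = MJ N (J ∪ U) ⊓ P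
        rw [sSup_insert, hLsup, sup_comm, hfs, MJ_union]
    have hle := hmax.le_of_ge hnew ⟨Set.subset_union_left, Set.subset_insert _ _⟩
    exact hi₀ (hle.1 (Or.inr hiU))
  subst hJ
  refine ⟨𝓛, hLcg, hLind, ?_⟩
  rw [hLsup, MJ_univ, hsup, top_inf_eq]

theorem internal_of_sSupIndep {P : Submodule R M} {𝓛 : Set (Submodule R M)}
    (hind : sSupIndep 𝓛) (hsup : sSup 𝓛 = P) :
    iSupIndep (fun k : 𝓛 => Submodule.comap P.subtype k.1) ∧
      (⨆ k : 𝓛, Submodule.comap P.subtype k.1) = ⊤ := by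
  have hle : ∀ k : 𝓛, k.1 ≤ P := fun k => hsup ▸ le_sSup k.2
  have hind' := (sSupIndep_iff 𝓛).1 hind
  constructor
  · intro k
    rw [Submodule.disjoint_def]
    intro x hx hx'
    have h1 : (x : M) ∈ k.1 := hx
    have h2 : (x : M) ∈ ⨆ (j : 𝓛) (_ : j ≠ k), j.1 := by
      have h : (x : M) ∈ Submodule.map P.subtype
          (⨆ (j : 𝓛) (_ : j ≠ k), Submodule.comap P.subtype j.1) :=
        Submodule.mem_map_of_mem hx'
      simp only [Submodule.map_iSup] at h
      have hmono : (⨆ (j : 𝓛) (_ : j ≠ k), Submodule.map P.subtype (Submodule.comap P.subtype j.1))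
          ≤ ⨆ (j : 𝓛) (_ : j ≠ k), j.1 :=
        iSup₂_mono fun j hj => Submodule.map_comap_le _ _
      exact hmono h
    have h3 := (Submodule.disjoint_def.1 (hind' k)) _ h1 h2
    exact Subtype.ext h3
  · apply Submodule.map_injective_of_injective (Submodule.injective_subtype P)
    calc Submodule.map P.subtype (⨆ k : 𝓛, Submodule.comap P.subtype k.1)
        = ⨆ k : 𝓛, Submodule.map P.subtype (Submodule.comap P.subtype k.1) :=
          Submodule.map_iSup _ _
      _ = ⨆ k : 𝓛, k.1 := iSup_congr fun k => by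
          rw [Submodule.map_comap_subtype, inf_eq_right.2 (hle k)]
      _ = P := by rw [← sSup_eq_iSup', hsup]
      _ = Submodule.map P.subtype ⊤ := (Submodule.map_subtype_top P).symm

end Main

end Groth.Agent.Lib.Helper25.Kaplansky
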