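import Mathlib
import Groth.Agent.S0585

/-!
# Projectivity is local for finite covers by basic opens (via Raynaud–Gruson descent S0585)
-/

open scoped TensorProduct

set_option autoImplicit false

namespace Groth.Agent.Lib.Helper25.LocProj

universe u

/-- transitivity of projectivity along an algebra which is projective as a module -/
theorem projective_trans (B C P : Type*) [CommRing B] [CommRing C] [Algebra B C]
    [AddCommGroup P] [Module B P] [Module C P] [IsScalarTower B C P]
    [Module.Projective B C] [Module.Projective C P] : Module.Projective B P := by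
  classical
  obtain ⟨s, hs⟩ := (Module.projective_def' (R := C) (P := P)).1 inferInstance
  haveI : Module.Projective B (P →₀ C) :=
    Module.Projective.of_equiv' (finsuppLequivDFinsupp (ι := P) (M := C) B).symm
  exact Module.Projective.of_split (R := B) (M := P →₀ C) (s.restrictScalars B)
    ((Finsupp.linearCombination C (id : P → P)).restrictScalars B)
    (by
      ext x
      exact congrArg (fun f => f x) hs)

theorem projective_of_pi {B : Type*} [CommRing B] {ι : Type*} [Finite ι]
    (C : ι → Type*) [∀ i, CommRing (C i)] [∀ i, Algebra B (C i)]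
    (hC : ∀ i, Module.Projective B (C i))
    (N : Type*) [AddCommGroup N] [Module B N]
    (Q : ι → Type*) [∀ i, AddCommGroup (Q i)] [∀ i, Module B (Q i)] [∀ i, Module (C i) (Q i)]
    [∀ i, IsScalarTower B (C i) (Q i)] (hQ : ∀ i, Module.Projective (C i) (Q i))
    (p : ∀ i, N →ₗ[B] Q i) (hp : Function.Bijective (fun (x : N) (i : ι) => p i x)) :
    Module.Projective B N := by
  classical
  cases nonempty_fintype ι
  haveI h1 : ∀ i, Module.Projective B (Q i) := fun i => by
    haveI := hC i
    haveI := hQ i
    exact projective_trans B (C i) (Q i)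
  haveI h2 : Module.Projective B (Π₀ i, Q i) := inferInstance
  haveI h3 : Module.Projective B (∀ i, Q i) :=
    Module.Projective.of_equiv' (DFinsupp.linearEquivFunOnFintype (R := B) (M := Q))
  let E : N ≃ₗ[B] (∀ i, Q i) := LinearEquiv.ofBijective (LinearMap.pi p) hp
  exact Module.Projective.of_equiv' E.symm

/-- If `s` generates the unit ideal of `A` and the localization `M_f` is projective over `A_f`
for every `f ∈ s`, then `M` is projective over `A` (no finiteness hypothesis on `M`). -/
theorem projective_of_localization_finset_span {A : Type u} [CommRing A] (M : Type u)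
    [AddCommGroup M] [Module A M] (s : Finset A) (hs : Ideal.span (s : Set A) = ⊤)
    (Af : s → Type u) [∀ f, CommRing (Af f)] [∀ f, Algebra A (Af f)]
    (hloc : ∀ f : s, IsLocalization.Away (f : A) (Af f))
    (Mf : s → Type u) [∀ f, AddCommGroup (Mf f)] [∀ f, Module A (Mf f)]
    [∀ f, Module (Af f) (Mf f)] [∀ f, IsScalarTower A (Af f) (Mf f)]
    (g : ∀ f : s, M →ₗ[A] Mf f) (hg : ∀ f : s, IsLocalizedModule.Away (f : A) (g f))
    (hproj : ∀ f, Module.Projective (Af f) (Mf f)) : Module.Projective A M := by
  classical
  have h1 : ∀ f : s, Module.Projective (Af f) (Af f ⊗[A] M) := fun f => by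
    haveI := hloc f
    haveI := hg f
    haveI := hproj f
    have hbc : IsBaseChange (Af f) (g f) :=
      IsLocalizedModule.isBaseChange (Submonoid.powers (f : A)) (Af f) (g f)
    exact Module.Projective.of_equiv' hbc.equiv.symm
  haveI hflat : Module.Flat A (∀ f : s, Af f) := by
    haveI : ∀ f : s, Module.Flat A (Af f) := fun f => by
      haveI := hloc f
      exact IsLocalization.flat (Af f) (Submonoid.powers (f : A))
    exact Module.Flat.of_linearEquiv
      (DFinsupp.linearEquivFunOnFintype (R := A) (M := fun f : s => Af f)).symm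
  haveI hff : Module.FaithfullyFlat A (∀ f : s, Af f) := by
    refine ⟨fun m hm => ?_⟩
    intro htop
    have hex : ∃ f : s, (f : A) ∉ m := by
      by_contra hcon
      push Not at hcon
      have hle : Ideal.span (s : Set A) ≤ m := Ideal.span_le.2 (fun x hx => hcon ⟨x, hx⟩)
      rw [hs] at hle
      exact hm.ne_top (top_le_iff.1 hle)
    obtain ⟨f, hf⟩ := hex
    haveI := hloc f
    have hmap : ∀ x ∈ m • (⊤ : Submodule A (∀ f : s, Af f)),
        x f ∈ Ideal.map (algebraMap A (Af f)) m := by
      intro x hx
      refine Submodule.smul_induction_on hx ?_ ?_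
      · intro a ha b _
        have : (a • b) f = algebraMap A (Af f) a * b f := by
          rw [Pi.smul_apply, Algebra.smul_def]
        rw [this]
        exact Ideal.mul_mem_right _ _ (Ideal.mem_map_of_mem _ ha)
      · intro x y hx hy
        rw [Pi.add_apply]
        exact Ideal.add_mem _ hx hy
    have h1f : (1 : Af f) ∈ Ideal.map (algebraMap A (Af f)) m := by
      have := hmap 1 (by rw [htop]; exact Submodule.mem_top)
      simpa using this
    have htop' : Ideal.map (algebraMap A (Af f)) m = ⊤ := (Ideal.eq_top_iff_one _).2 h1f
    have hdisj : Disjoint ((Submonoid.powers (f : A) : Submonoid A) : Set A) (m : Set A) := by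
      rw [Set.disjoint_left]
      rintro x ⟨n, rfl⟩ hx
      exact hf (hm.isPrime.mem_of_pow_mem n hx)
    exact ((IsLocalization.map_algebraMap_ne_top_iff_disjoint (Submonoid.powers (f : A))
      (Af f) m).2 hdisj) htop'
  haveI hBM : Module.Projective (∀ f : s, Af f) ((∀ f : s, Af f) ⊗[A] M) := by
    letI algB : ∀ f : s, Algebra (∀ f : s, Af f) (Af f) :=
      fun f => (Pi.evalRingHom (fun f : s => Af f) f).toAlgebra
    haveI tower : ∀ f : s, IsScalarTower A (∀ f : s, Af f) (Af f) :=
      fun f => IsScalarTower.of_algebraMap_eq (fun a => rfl)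
    have hsm : ∀ (f : s) (b : ∀ f : s, Af f) (x : Af f), b • x = b f * x := fun _ _ _ => rfl
    have hC : ∀ f : s, Module.Projective (∀ f : s, Af f) (Af f) := fun f => by
      let i : Af f →ₗ[∀ f : s, Af f] (∀ f : s, Af f) :=
        { toFun := fun x => Pi.single f x
          map_add' := fun x y => Pi.single_add f x y
          map_smul' := fun b x => by
            funext j
            by_cases hj : j = f
            · subst hj
              simp [hsm]
            · simp [Pi.single_eq_of_ne hj] }
      let q : (∀ f : s, Af f) →ₗ[∀ f : s, Af f] Af f :=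
        { toFun := fun b => b f
          map_add' := fun _ _ => rfl
          map_smul' := fun b c => by
            simp [hsm] }
      exact Module.Projective.of_split i q (by ext x; simp [i, q])
    let p : ∀ f : s, ((∀ f : s, Af f) ⊗[A] M) →ₗ[∀ f : s, Af f] (Af f ⊗[A] M) := fun f =>
      TensorProduct.AlgebraTensorModule.map (Algebra.linearMap (∀ f : s, Af f) (Af f))
        (LinearMap.id : M →ₗ[A] M)
    have hp_t : ∀ (f : s) (b : ∀ f : s, Af f) (m : M), p f (b ⊗ₜ m) = b f ⊗ₜ m :=
      fun f b m => rfl
    let e : ((∀ f : s, Af f) ⊗[A] M) ≃ₗ[A] (∀ f : s, Af f ⊗[A] M) :=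
      TensorProduct.piLeft A M (fun f : s => Af f)
    have he_t : ∀ (b : ∀ f : s, Af f) (m : M), e (b ⊗ₜ m) = fun f => b f ⊗ₜ m :=
      fun b m => rfl
    have hpe : ∀ x, (fun f : s => p f x) = e x := by
      intro x
      induction x using TensorProduct.induction_on with
      | zero => funext f; simp
      | tmul b m => rw [he_t]; funext f; exact hp_t f b m
      | add x y hx hy =>
        rw [map_add, ← hx, ← hy]
        funext f
        simp
    have hp : Function.Bijective (fun (x : (∀ f : s, Af f) ⊗[A] M) (f : s) => p f x) := by
      have : (fun (x : (∀ f : s, Af f) ⊗[A] M) (f : s) => p f x) = ⇑e := funext hpe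
      rw [this]
      exact e.bijective
    exact projective_of_pi (B := ∀ f : s, Af f) (fun f : s => Af f) hC
      ((∀ f : s, Af f) ⊗[A] M) (fun f : s => Af f ⊗[A] M) h1 p hp
  exact Groth.Agent.S0585.result A (∀ f : s, Af f) M

end Groth.Agent.Lib.Helper25.LocProj
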