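import Mathlib
import Groth.Agent.Lib.Helper1.LiftRing
import Groth.Agent.Lib.Helper25.LocProj

/-!
# Gluing retractions of square-zero extensions when the relative differentials are projective

Ring-level input for "formally smooth is local on source and target" (S1486):
* `exists_retraction_of_projective`: variant of `Helper1.LiftRing.exists_retraction` with
  projectivity of `A₀ ⊗_E Ω_{E/A}` instead of finite presentation.
* `LiftHyp g₀`: lifting of ring maps `E → L ⊕ M''` along surjections `M → M''` of modules over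
  `L = (A₀)_{g₀}`.
* `projective_of_liftHyp`: if `LiftHyp g₀` holds for `g₀` in a set spanning the unit ideal, then
  `A₀ ⊗_E Ω_{E/A}` is projective over `A₀` (uses Raynaud–Gruson descent of projectivity, via
  `LocProj`).
-/

set_option autoImplicit false
set_option linter.style.haveILetI false
universe u
open TensorProduct KaehlerDifferential

namespace Groth.Agent.Lib.Helper25.FSmoothRing

open Groth.Agent.Lib.Helper1

section Retraction

variable {A E A₀ : Type u} [CommRing A] [CommRing E] [CommRing A₀] [Algebra A E] [Algebra E A₀]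
  [Algebra A A₀] [IsScalarTower A E A₀]

theorem exists_retraction_of_projective
    (hρ : Function.Surjective (algebraMap A A₀)) (hπ : Function.Surjective (algebraMap E A₀))
    (hK : ∀ x y : E, algebraMap E A₀ x = 0 → algebraMap E A₀ y = 0 → x * y = 0)
    [Module.Projective A₀ (A₀ ⊗[E] Ω[E⁄A])]
    (S : Set A) (hS : Ideal.span S = ⊤) (hloc : LiftRing.LocData (E := E) (A₀ := A₀) S) :
    ∃ σ : E →ₐ[A] A, ∀ e, algebraMap A A₀ (σ e) = algebraMap E A₀ e := by
  have hM : ∀ x, algebraMap E A₀ x = 0 → ∀ m : RingHom.ker (algebraMap E A₀), x • m = 0 :=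
    fun x hx m => Subtype.ext (hK x m.1 hx ((RingHom.mem_ker).mp m.2))
  letI mK : Module A₀ (RingHom.ker (algebraMap E A₀)) :=
    LiftRing.moduleOfSurj (algebraMap E A₀) hπ _ hM
  haveI tK : IsScalarTower E A₀ (RingHom.ker (algebraMap E A₀)) :=
    IsScalarTower.of_algebraMap_smul
      (fun e m => LiftRing.smulOfSurj_eq (algebraMap E A₀) hπ _ hM e m)
  haveI : Module.Projective A₀ (LiftRing.NN E hρ) :=
    Module.Projective.of_split (LiftRing.kap hρ hπ) (LiftRing.rr hρ)
      (LinearMap.ext fun n => LiftRing.rr_kap hρ hπ n)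
  obtain ⟨s, hs⟩ := Module.projective_lifting_property (LiftRing.LK (E := E) A hρ).mkQ
    LinearMap.id (Submodule.mkQ_surjective _)
  exact LiftRing.exists_algHom hρ s hs (LiftRing.eq_zero_of_locData S hS hloc)

end Retraction

section Proj

variable {A E A₀ : Type u} [CommRing A] [CommRing E] [CommRing A₀] [Algebra A E] [Algebra E A₀]

/-- the lifting hypothesis at `g₀`: ring maps `E → L ⊕ M''` (over `E → A₀ → L`, trivial on `A`)
lift along surjections `M → M''` of modules over `L = (A₀)_{g₀}`. -/
def LiftHyp (A : Type u) {E A₀ : Type u} [CommRing A] [CommRing E] [CommRing A₀] [Algebra A E]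
    [Algebra E A₀] (g₀ : A₀) : Prop :=
  ∀ (M M'' : Type u) [AddCommGroup M] [AddCommGroup M''] [Module (Localization.Away g₀) M]
    [Module (Localization.Away g₀)ᵐᵒᵖ M] [IsCentralScalar (Localization.Away g₀) M]
    [Module (Localization.Away g₀) M''] [Module (Localization.Away g₀)ᵐᵒᵖ M'']
    [IsCentralScalar (Localization.Away g₀) M'']
    (q : M →ₗ[Localization.Away g₀] M'') (_ : Function.Surjective q)
    (φ'' : E →+* TrivSqZeroExt (Localization.Away g₀) M''),
    (∀ e, (φ'' e).fst = algebraMap A₀ (Localization.Away g₀) (algebraMap E A₀ e)) →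
    (∀ x : A, φ'' (algebraMap A E x) =
      TrivSqZeroExt.inl (algebraMap A₀ (Localization.Away g₀)
        (algebraMap E A₀ (algebraMap A E x)))) →
    ∃ φ : E →+* TrivSqZeroExt (Localization.Away g₀) M,
      (∀ e, (φ e).fst = algebraMap A₀ (Localization.Away g₀) (algebraMap E A₀ e)) ∧
      (∀ x : A, φ (algebraMap A E x) =
        TrivSqZeroExt.inl (algebraMap A₀ (Localization.Away g₀)
          (algebraMap E A₀ (algebraMap A E x)))) ∧
      ∀ e, q (φ e).snd = (φ'' e).snd

theorem tmul_smul_eq (e : E) (ω : Ω[E⁄A]) :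
    (1 : A₀) ⊗ₜ[E] (e • ω) = (algebraMap E A₀ e) • ((1 : A₀) ⊗ₜ[E] ω) := by
  rw [TensorProduct.tmul_smul, TensorProduct.smul_tmul', TensorProduct.smul_tmul',
    Algebra.smul_def, smul_eq_mul]

theorem tmul_eq_smul (x : A₀) (ω : Ω[E⁄A]) :
    x ⊗ₜ[E] ω = x • ((1 : A₀) ⊗ₜ[E] ω) := by
  rw [TensorProduct.smul_tmul', smul_eq_mul, mul_one]

theorem projective_localizedModule_of_liftHyp (g₀ : A₀) (H : LiftHyp A (E := E) g₀) :
    Module.Projective (Localization.Away g₀)
      (LocalizedModule (Submonoid.powers g₀) (A₀ ⊗[E] Ω[E⁄A])) := by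
  refine @Module.Projective.of_lifting_property (Localization.Away g₀) _
    (LocalizedModule (Submonoid.powers g₀) (A₀ ⊗[E] Ω[E⁄A])) _ _ _ ?_
  intro M N _ _ _ _ f g hf
  letI opM : Module (Localization.Away g₀)ᵐᵒᵖ M :=
    Module.compHom M ((RingHom.id (Localization.Away g₀)).fromOpposite (fun a b => mul_comm a b))
  haveI cM : IsCentralScalar (Localization.Away g₀) M := ⟨fun _ _ => rfl⟩
  letI opN : Module (Localization.Away g₀)ᵐᵒᵖ N :=
    Module.compHom N ((RingHom.id (Localization.Away g₀)).fromOpposite (fun a b => mul_comm a b))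
  haveI cN : IsCentralScalar (Localization.Away g₀) N := ⟨fun _ _ => rfl⟩
  let ℓ : (A₀ ⊗[E] Ω[E⁄A]) →ₗ[A₀] LocalizedModule (Submonoid.powers g₀) (A₀ ⊗[E] Ω[E⁄A]) :=
    LocalizedModule.mkLinearMap _ _
  let bar : E →+* Localization.Away g₀ :=
    (algebraMap A₀ (Localization.Away g₀)).comp (algebraMap E A₀)
  -- the derivation-like map into `N`
  let δ'' : E → N := fun e => g (ℓ ((1 : A₀) ⊗ₜ[E] D A E e))
  have hgℓ : ∀ (x : A₀) (t : A₀ ⊗[E] Ω[E⁄A]),
      g (ℓ (x • t)) = algebraMap A₀ (Localization.Away g₀) x • g (ℓ t) := by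
    intro x t
    rw [map_smul, ← algebraMap_smul (Localization.Away g₀) x (ℓ t), map_smul]
  have hδadd : ∀ e e', δ'' (e + e') = δ'' e + δ'' e' := by
    intro e e'
    simp only [δ'', map_add, TensorProduct.tmul_add]
  have hδmul : ∀ e e', δ'' (e * e') = bar e • δ'' e' + bar e' • δ'' e := by
    intro e e'
    simp only [δ'']
    rw [Derivation.leibniz, TensorProduct.tmul_add, map_add, map_add, tmul_smul_eq, tmul_smul_eq,
      hgℓ, hgℓ]
    rfl
  have hδalg : ∀ x : A, δ'' (algebraMap A E x) = 0 := by
    intro x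
    simp only [δ'']
    rw [Derivation.map_algebraMap, TensorProduct.tmul_zero, map_zero, map_zero]
  have hδone : δ'' 1 = 0 := by
    have := hδalg 1
    rwa [map_one] at this
  let φ'' : E →+* TrivSqZeroExt (Localization.Away g₀) N :=
    { toFun := fun e => TrivSqZeroExt.inl (bar e) + TrivSqZeroExt.inr (δ'' e)
      map_one' := by
        rw [map_one, hδone, TrivSqZeroExt.inr_zero, add_zero, TrivSqZeroExt.inl_one]
      map_mul' := by
        intro e e'
        apply TrivSqZeroExt.ext
        · simp
        · simp only [TrivSqZeroExt.snd_add, TrivSqZeroExt.snd_inl, TrivSqZeroExt.snd_inr, zero_add,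
            TrivSqZeroExt.snd_mul, TrivSqZeroExt.fst_add, TrivSqZeroExt.fst_inl,
            TrivSqZeroExt.fst_inr, add_zero, op_smul_eq_smul]
          rw [hδmul]
      map_zero' := by
        have h0 : δ'' 0 = 0 := by
          have := hδalg 0
          rwa [map_zero] at this
        rw [map_zero, h0, TrivSqZeroExt.inr_zero, add_zero, TrivSqZeroExt.inl_zero]
      map_add' := by
        intro e e'
        rw [map_add, hδadd, TrivSqZeroExt.inl_add, TrivSqZeroExt.inr_add]
        abel }
  have hφ''1 : ∀ e, (φ'' e).fst = algebraMap A₀ (Localization.Away g₀) (algebraMap E A₀ e) := by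
    intro e
    change (TrivSqZeroExt.inl (bar e) + TrivSqZeroExt.inr (δ'' e)).fst = _
    simp [bar]
  have hφ''2 : ∀ x : A, φ'' (algebraMap A E x) =
      TrivSqZeroExt.inl (algebraMap A₀ (Localization.Away g₀)
        (algebraMap E A₀ (algebraMap A E x))) := by
    intro x
    change TrivSqZeroExt.inl (bar _) + TrivSqZeroExt.inr (δ'' _) = _
    rw [hδalg, TrivSqZeroExt.inr_zero, add_zero]
    rfl
  have hφ''snd : ∀ e, (φ'' e).snd = δ'' e := by
    intro e
    change (TrivSqZeroExt.inl (bar e) + TrivSqZeroExt.inr (δ'' e)).snd = _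
    simp
  obtain ⟨φ, hφ1, hφ2, hφ3⟩ := H M N f hf φ'' hφ''1 hφ''2
  let δ : E → M := fun e => (φ e).snd
  have hδadd' : ∀ e e', δ (e + e') = δ e + δ e' := by
    intro e e'
    simp only [δ, map_add, TrivSqZeroExt.snd_add]
  have hδmul' : ∀ e e', δ (e * e') = bar e • δ e' + bar e' • δ e := by
    intro e e'
    simp only [δ, map_mul, TrivSqZeroExt.snd_mul, hφ1, op_smul_eq_smul]
    rfl
  have hδalg' : ∀ x : A, δ (algebraMap A E x) = 0 := by
    intro x
    simp only [δ]
    rw [hφ2, TrivSqZeroExt.snd_inl]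
  letI mA₀ : Module A₀ M := Module.compHom M (algebraMap A₀ (Localization.Away g₀))
  letI mE : Module E M := Module.compHom M bar
  letI mA : Module A M := Module.compHom M (bar.comp (algebraMap A E))
  haveI t1 : IsScalarTower A₀ (Localization.Away g₀) M := ⟨fun x l m => by
    change (x • l) • m = algebraMap A₀ (Localization.Away g₀) x • (l • m)
    rw [Algebra.smul_def, mul_smul]⟩
  haveI t2 : IsScalarTower E A₀ M := ⟨fun e x m => by
    change algebraMap A₀ (Localization.Away g₀) (e • x) • m =
      bar e • (algebraMap A₀ (Localization.Away g₀) x • m)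
    rw [Algebra.smul_def, map_mul, mul_smul]
    rfl⟩
  haveI t3 : IsScalarTower A E M := ⟨fun x e m => by
    change bar (x • e) • m = bar (algebraMap A E x) • (bar e • m)
    rw [Algebra.smul_def, map_mul, mul_smul]⟩
  letI mA₀N : Module A₀ N := Module.compHom N (algebraMap A₀ (Localization.Away g₀))
  haveI t1N : IsScalarTower A₀ (Localization.Away g₀) N := ⟨fun x l m => by
    change (x • l) • m = algebraMap A₀ (Localization.Away g₀) x • (l • m)
    rw [Algebra.smul_def, mul_smul]⟩
  let d : Derivation A E M :=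
    { toFun := δ
      map_add' := hδadd'
      map_smul' := fun x e => by
        change δ (x • e) = bar (algebraMap A E x) • δ e
        rw [Algebra.smul_def, hδmul', hδalg', smul_zero, add_zero]
      map_one_eq_zero' := by
        change δ 1 = 0
        have := hδalg' 1
        rwa [map_one] at this
      leibniz' := fun e e' => by
        change δ (e * e') = bar e • δ e' + bar e' • δ e
        exact hδmul' e e' }
  let γ₀ : (A₀ ⊗[E] Ω[E⁄A]) →ₗ[A₀] M := d.liftKaehlerDifferential.liftBaseChange A₀
  have hγ₀ : ∀ e, γ₀ ((1 : A₀) ⊗ₜ[E] D A E e) = δ e := by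
    intro e
    rw [LinearMap.liftBaseChange_tmul, one_smul, Derivation.liftKaehlerDifferential_comp_D]
    rfl
  haveI : IsLocalizedModule (Submonoid.powers g₀) (LinearMap.id : M →ₗ[A₀] M) :=
    isLocalizedModule_id (Submonoid.powers g₀) M (Localization.Away g₀)
  haveI : IsLocalizedModule (Submonoid.powers g₀) (LinearMap.id : N →ₗ[A₀] N) :=
    isLocalizedModule_id (Submonoid.powers g₀) N (Localization.Away g₀)
  have hunitsM : ∀ x : Submonoid.powers g₀, IsUnit (algebraMap A₀ (Module.End A₀ M) x) :=
    IsLocalizedModule.map_units (LinearMap.id : M →ₗ[A₀] M)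
  have hunitsN : ∀ x : Submonoid.powers g₀, IsUnit (algebraMap A₀ (Module.End A₀ N) x) :=
    IsLocalizedModule.map_units (LinearMap.id : N →ₗ[A₀] N)
  let γ₁ : LocalizedModule (Submonoid.powers g₀) (A₀ ⊗[E] Ω[E⁄A]) →ₗ[A₀] M :=
    IsLocalizedModule.lift (Submonoid.powers g₀) ℓ γ₀ hunitsM
  have hγ₁ : ∀ t, γ₁ (ℓ t) = γ₀ t := fun t =>
    IsLocalizedModule.lift_apply (Submonoid.powers g₀) ℓ γ₀ hunitsM t
  refine ⟨γ₁.extendScalarsOfIsLocalization (Submonoid.powers g₀) (Localization.Away g₀), ?_⟩
  have key : ∀ t : A₀ ⊗[E] Ω[E⁄A], f (γ₁ (ℓ t)) = g (ℓ t) := by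
    intro t
    induction t using TensorProduct.induction_on with
    | zero => simp
    | add t t' ht ht' => rw [map_add, map_add, map_add, map_add, ht, ht']
    | tmul x ω =>
      have hω : ω ∈ Submodule.span E (Set.range (D A E)) := by
        rw [KaehlerDifferential.span_range_derivation]
        trivial
      induction hω using Submodule.span_induction generalizing x with
      | mem ω h =>
        obtain ⟨e, rfl⟩ := h
        rw [tmul_eq_smul, hgℓ, map_smul, map_smul, hγ₁, hγ₀]
        change f (algebraMap A₀ (Localization.Away g₀) x • δ e) = _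
        rw [map_smul]
        congr 1
        change f (φ e).snd = g (ℓ _)
        rw [hφ3, hφ''snd]
      | zero => simp
      | add ω ω' _ _ h h' =>
        rw [TensorProduct.tmul_add, map_add, map_add, map_add, map_add, h, h']
      | smul r ω _ h =>
        rw [← TensorProduct.smul_tmul]
        exact h (r • x)
  have h2 : (f.restrictScalars A₀) ∘ₗ γ₁ = g.restrictScalars A₀ := by
    apply IsLocalizedModule.ext (Submonoid.powers g₀) ℓ hunitsN
    exact LinearMap.ext fun t => key t
  exact LinearMap.ext fun y => congr($h2 y)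

/-- If `LiftHyp g₀` holds for all `g₀` in a set spanning the unit ideal of `A₀`, then
`A₀ ⊗_E Ω_{E/A}` is a projective `A₀`-module. -/
theorem projective_of_liftHyp (S₀ : Set A₀) (hS : Ideal.span S₀ = ⊤)
    (H : ∀ g₀ ∈ S₀, LiftHyp A (E := E) g₀) : Module.Projective A₀ (A₀ ⊗[E] Ω[E⁄A]) := by
  classical
  obtain ⟨s, hsS, hs⟩ := (Ideal.span_eq_top_iff_finite S₀).mp hS
  exact Groth.Agent.Lib.Helper25.LocProj.projective_of_localization_finset_span
    (A₀ ⊗[E] Ω[E⁄A]) s hs
    (fun f => Localization.Away (f : A₀)) (fun f => inferInstance)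
    (fun f => LocalizedModule (Submonoid.powers (f : A₀)) (A₀ ⊗[E] Ω[E⁄A]))
    (fun f => LocalizedModule.mkLinearMap _ _) (fun f => inferInstance)
    (fun f => projective_localizedModule_of_liftHyp (f : A₀) (H _ (hsS f.2)))

end Proj

end Groth.Agent.Lib.Helper25.FSmoothRing
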