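import Mathlib
import Groth.Agent.Lib.Helper1.LiftGeom
import Groth.Agent.Lib.Helper1.LiftSmooth
import Groth.Agent.Lib.Helper25.FSmoothRing

/-!
# Formal smoothness is local on source and target (scheme-level gluing)

If all ring maps `O_S(V) → O_X(U)` (affine opens `U ⊆ f⁻¹ V`) of `f : X ⟶ S` are formally smooth,
then `f` has the lifting property against first order thickenings of affine schemes.
The gluing of local lifts follows helper1's `LiftGeom.exists_lift` (universal first order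
thickening of the graph section), with finite presentation replaced by projectivity of the
relative differentials, which is proved by a lifting argument + descent of projectivity.
-/

set_option autoImplicit false
set_option linter.style.haveILetI false
universe u
open CategoryTheory CategoryTheory.Limits AlgebraicGeometry TopologicalSpace Opposite TensorProduct
open KaehlerDifferential

namespace Groth.Agent.Lib.Helper25.FSmoothGlue

open Groth.Agent.Lib.Helper1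

section Gamma

variable {C C' : Type u} [CommRing C] [CommRing C'] {Z Z₂ : Scheme.{u}}

/-- the ring map on global sections of a morphism `Spec C ⟶ Z` -/
noncomputable def Γh (G : Spec (CommRingCat.of C) ⟶ Z) : Γ(Z, ⊤) →+* C :=
  ((Scheme.ΓSpecIso (CommRingCat.of C)).hom.hom).comp G.appTop.hom

theorem Γh_comp (G : Spec (CommRingCat.of C) ⟶ Z) (r : Z ⟶ Z₂) :
    Γh (G ≫ r) = (Γh G).comp r.appTop.hom := by
  ext x
  simp only [Γh, Scheme.Hom.comp_appTop, CommRingCat.hom_comp, RingHom.comp_apply]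

theorem Γh_specMap (θ : C →+* C') (G : Spec (CommRingCat.of C) ⟶ Z) :
    Γh (Spec.map (CommRingCat.ofHom θ) ≫ G) = θ.comp (Γh G) := by
  ext x
  have hn := Scheme.ΓSpecIso_naturality (CommRingCat.ofHom θ)
  have := congrArg (fun f => f.hom (G.appTop.hom x)) hn
  simp only [CommRingCat.hom_comp, RingHom.comp_apply] at this
  simp only [Γh, Scheme.Hom.comp_appTop, CommRingCat.hom_comp, RingHom.comp_apply]
  exact this

theorem Γh_ext [IsAffine Z] {G G' : Spec (CommRingCat.of C) ⟶ Z} (h : Γh G = Γh G') : G = G' := by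
  apply ext_of_isAffine
  ext x
  have h1 := congrArg (fun f => f x) h
  simp only [Γh, RingHom.comp_apply] at h1
  exact (ConcreteCategory.bijective_of_isIso (Scheme.ΓSpecIso (CommRingCat.of C)).hom).1 h1

theorem exists_Γh_eq [IsAffine Z] (ψ : Γ(Z, ⊤) →+* C) :
    ∃ G : Spec (CommRingCat.of C) ⟶ Z, Γh G = ψ := by
  obtain ⟨G, hG⟩ := LiftGeom.exists_hom_appTop (X' := Spec (CommRingCat.of C)) (Y := Z)
    (CommRingCat.ofHom ψ ≫ (Scheme.ΓSpecIso (CommRingCat.of C)).inv)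
  refine ⟨G, ?_⟩
  ext x
  simp only [Γh, RingHom.comp_apply, hG, CommRingCat.hom_comp, CommRingCat.hom_ofHom]
  exact congrArg (fun f => f.hom (ψ x)) (Scheme.ΓSpecIso (CommRingCat.of C)).inv_hom_id

end Gamma

section Chart

theorem ker_sq_eq_bot {R R' : Type*} [CommRing R] [CommRing R'] (κ : R →+* R')
    (h : ∀ x y, κ x = 0 → κ y = 0 → x * y = 0) : RingHom.ker κ ^ 2 = ⊥ := by
  rw [pow_two, eq_bot_iff, Ideal.mul_le]
  intro x hx y hy
  rw [Ideal.mem_bot]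
  exact h x y hx hy

variable {S X : Scheme.{u}} (f : X ⟶ S)

/-- lifting inside a chart: if the lifting problem lands in affine opens `U ⊆ f⁻¹ V` with
`O_S(V) → O_X(U)` formally smooth and the test scheme is affine, a lift exists. -/
theorem exists_lift_chart {W₀ W : Scheme.{u}} [IsAffine W] [IsAffine W₀] (k : W₀ ⟶ W)
    (hk : MoreMor.IsFirstOrderThickening k)
    (b : W ⟶ S) (b₀ : W₀ ⟶ X) (hsq : b₀ ≫ f = k ≫ b)
    {U : X.Opens} {V : S.Opens} (hU : IsAffineOpen U) (hV : IsAffineOpen V) (hUV : U ≤ f ⁻¹ᵁ V)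
    (hfs : (f.appLE V U hUV).hom.FormallySmooth)
    (hbV : (⊤ : W.Opens) ≤ b ⁻¹ᵁ V) (hb₀U : (⊤ : W₀.Opens) ≤ b₀ ⁻¹ᵁ U) :
    ∃ l : W ⟶ X, l ≫ f = b ∧ k ≫ l = b₀ := by
  haveI : IsClosedImmersion k := hk.1.1
  have hρs : Function.Surjective k.appTop.hom := k.app_surjective ⊤ (isAffineOpen_top W)
  have hρk : RingHom.ker k.appTop.hom ^ 2 = ⊥ := by
    change RingHom.ker (k.app ⊤).hom ^ 2 = ⊥
    rw [← Scheme.Hom.ker_apply k ⟨⊤, isAffineOpen_top W⟩, pow_two]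
    have h3 : (k.ker * k.ker).ideal ⟨⊤, isAffineOpen_top W⟩ =
      k.ker.ideal ⟨⊤, isAffineOpen_top W⟩ * k.ker.ideal ⟨⊤, isAffineOpen_top W⟩ := rfl
    rw [← h3, hk.2]
    rfl
  have e1 : (⊤ : W₀.Opens) ≤ (b₀ ≫ f) ⁻¹ᵁ V := fun z hz => hUV (hb₀U hz)
  have e2 : (⊤ : W₀.Opens) ≤ (k ≫ b) ⁻¹ᵁ V := fun z _ =>
    hbV (show k.base z ∈ (⊤ : W.Opens) from trivial)
  have hc : (b₀.appLE U ⊤ hb₀U).hom.comp (f.appLE V U hUV).hom =
      k.appTop.hom.comp (b.appLE V ⊤ hbV).hom := by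
    rw [← CommRingCat.hom_comp, ← CommRingCat.hom_comp, Scheme.Hom.appLE_comp_appLE]
    have h1 : b.appLE V ⊤ hbV ≫ k.appTop = (k ≫ b).appLE V ⊤ e2 := by
      rw [← LiftGeom.appLE_top_top k, Scheme.Hom.appLE_comp_appLE]
    rw [h1]
    exact congrArg _ (ConormSES.appLE_congr' hsq V ⊤ e1 e2)
  obtain ⟨τ, hτ₁, hτ₂⟩ := LiftSmooth.ring_lift_of_formallySmooth _ hfs (b.appLE V ⊤ hbV).hom
    (b₀.appLE U ⊤ hb₀U).hom _ hρs hρk hc
  have hτ₁' : f.appLE V U hUV ≫ CommRingCat.ofHom τ = b.appLE V ⊤ hbV := by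
    ext x
    exact congrArg (fun h => h x) hτ₁
  have hτ₂' : CommRingCat.ofHom τ ≫ k.appTop = b₀.appLE U ⊤ hb₀U := by
    ext x
    exact congrArg (fun h => h x) hτ₂
  refine ⟨W.isoSpec.hom ≫ Spec.map (CommRingCat.ofHom τ) ≫ hU.fromSpec, ?_, ?_⟩
  · rw [Category.assoc, Category.assoc, ← IsAffineOpen.SpecMap_appLE_fromSpec f hV hU hUV,
      ← Spec.map_comp_assoc, hτ₁',
      IsAffineOpen.SpecMap_appLE_fromSpec b hV (isAffineOpen_top W) hbV,
      IsAffineOpen.fromSpec_top, Iso.hom_inv_id_assoc]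
  · rw [← Category.assoc, ← Scheme.isoSpec_hom_naturality, Category.assoc,
      ← Spec.map_comp_assoc, hτ₂',
      IsAffineOpen.SpecMap_appLE_fromSpec b₀ hU (isAffineOpen_top W₀) hb₀U,
      IsAffineOpen.fromSpec_top, Iso.hom_inv_id_assoc]

end Chart

section Local

variable {S X : Scheme.{u}} (f : X ⟶ S)

/-- local solvability of lifting problems for affine-locally formally smooth morphisms -/
theorem exists_local_lift
    (hfs : ∀ (U : X.Opens) (V : S.Opens) (_ : IsAffineOpen U) (_ : IsAffineOpen V)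
      (hUV : U ≤ f ⁻¹ᵁ V), (f.appLE V U hUV).hom.FormallySmooth)
    {T₀ T : Scheme.{u}} (i : T₀ ⟶ T) (hi : MoreMor.IsFirstOrderThickening i)
    (a : T ⟶ S) (a₀ : T₀ ⟶ X) (hsqr : a₀ ≫ f = i ≫ a) (t : T) :
    ∃ (D : T.Opens) (b : (D : Scheme.{u}) ⟶ X), t ∈ D ∧ b ≫ f = D.ι ≫ a ∧
      (i ∣_ D) ≫ b = (i ⁻¹ᵁ D).ι ≫ a₀ := by
  haveI : IsClosedImmersion i := hi.1.1
  have hhomeo : IsHomeomorph i.base := UT.isHomeomorph_of_isThickening hi.1
  obtain ⟨t₀, rfl⟩ := hhomeo.surjective t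
  obtain ⟨V, W, hV, hW, hxV, -, hVW⟩ := DerUnram.exists_small_affine f (a₀.base t₀) ⊤ trivial
  let O : T.Opens := ⟨i.base '' (a₀ ⁻¹ᵁ V : Set _), hhomeo.isOpenMap _ (a₀ ⁻¹ᵁ V).2⟩ ⊓ a ⁻¹ᵁ W
  have htO : i.base t₀ ∈ O := by
    refine ⟨⟨t₀, hxV, rfl⟩, ?_⟩
    change a.base (i.base t₀) ∈ W
    have h1 := congrArg (fun g => g.base t₀) hsqr
    simp only [Scheme.Hom.comp_base, TopCat.hom_comp, ContinuousMap.comp_apply] at h1
    rw [← h1]
    exact hVW hxV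
  obtain ⟨_, ⟨D : T.Opens, hD0, rfl⟩, htD, hDO⟩ :=
    T.isBasis_affineOpens.exists_subset_of_mem_open htO O.isOpen
  have hD : IsAffineOpen D := hD0
  have hD₀ : IsAffineOpen (i ⁻¹ᵁ D) := hD.preimage i
  have eDW : D ≤ a ⁻¹ᵁ W := fun y hy => (hDO hy).2
  have eD₀V : i ⁻¹ᵁ D ≤ a₀ ⁻¹ᵁ V := by
    intro z hz
    obtain ⟨z', hz', hzz'⟩ := (hDO hz).1
    rw [← hhomeo.injective hzz']
    exact hz'
  haveI : IsAffine (D : Scheme.{u}) := hD
  haveI : IsAffine ((i ⁻¹ᵁ D : T₀.Opens) : Scheme.{u}) := hD₀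
  obtain ⟨l, hl₁, hl₂⟩ := exists_lift_chart f (i ∣_ D)
    (UT.isFirstOrderThickening_morphismRestrict hi D) (D.ι ≫ a) ((i ⁻¹ᵁ D).ι ≫ a₀)
    (by rw [Category.assoc, hsqr, ← Category.assoc, ← morphismRestrict_ι, Category.assoc])
    hV hW hVW (hfs V W hV hW hVW) (fun z _ => eDW z.2) (fun z _ => eD₀V z.2)
  exact ⟨D, l, htD, hl₁, hl₂⟩

end Local

section LiftHypChart

theorem tsze_mul_eq_zero {R M : Type*} [CommRing R] [AddCommGroup M] [Module R M] [Module Rᵐᵒᵖ M]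
    [IsCentralScalar R M] (x y : TrivSqZeroExt R M) (hx : x.fst = 0) (hy : y.fst = 0) :
    x * y = 0 := by
  apply TrivSqZeroExt.ext
  · rw [TrivSqZeroExt.fst_mul, hx, zero_mul, TrivSqZeroExt.fst_zero]
  · rw [TrivSqZeroExt.snd_mul, hx, hy, zero_smul, MulOpposite.op_zero, zero_smul, add_zero,
      TrivSqZeroExt.snd_zero]

variable {S X T T₀ Y Z' : Scheme.{u}} (f : X ⟶ S) (a : T ⟶ S) (q : Y ⟶ X) (p : Y ⟶ T)
  (hpb : IsPullback q p f a)
  (s₀ : T₀ ⟶ Y) (j : T₀ ⟶ Z') (h' : Z' ⟶ Y) (hu : OmegaSh.IsUnivThickening s₀ j h')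
  [IsAffine T] [IsAffine Z'] [IsAffine T₀]

include hpb hu in
theorem liftHyp_chart {U : X.Opens} {V : S.Opens} (hU : IsAffineOpen U) (hV : IsAffineOpen V)
    (hUV : U ≤ f ⁻¹ᵁ V) (hfs : (f.appLE V U hUV).hom.FormallySmooth)
    (g : Γ(T, ⊤)) (hgV : T.basicOpen g ≤ a ⁻¹ᵁ V)
    (hgU : (s₀ ≫ p) ⁻¹ᵁ (T.basicOpen g) ≤ (s₀ ≫ q) ⁻¹ᵁ U) :
    letI := ((h' ≫ p).appLE ⊤ ⊤ le_top).hom.toAlgebra
    letI := (j.appLE ⊤ ⊤ le_top).hom.toAlgebra
    FSmoothRing.LiftHyp Γ(T, ⊤) (E := Γ(Z', ⊤)) (A₀ := Γ(T₀, ⊤))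
      (algebraMap Γ(Z', ⊤) Γ(T₀, ⊤) (algebraMap Γ(T, ⊤) Γ(Z', ⊤) g)) := by
  letI algAE : Algebra Γ(T, ⊤) Γ(Z', ⊤) := ((h' ≫ p).appLE ⊤ ⊤ le_top).hom.toAlgebra
  letI algEA₀ : Algebra Γ(Z', ⊤) Γ(T₀, ⊤) := (j.appLE ⊤ ⊤ le_top).hom.toAlgebra
  have hAE : ∀ x, algebraMap Γ(T, ⊤) Γ(Z', ⊤) x = (h' ≫ p).appTop.hom x := fun x => by
    change ((h' ≫ p).appLE ⊤ ⊤ le_top).hom x = _
    rw [LiftGeom.appLE_top_top]
  have hEA₀ : ∀ x, algebraMap Γ(Z', ⊤) Γ(T₀, ⊤) x = j.appTop.hom x := fun x => by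
    change (j.appLE ⊤ ⊤ le_top).hom x = _
    rw [LiftGeom.appLE_top_top]
  have hjh' : j ≫ h' = s₀ := hu.2.1
  generalize hg₀ : algebraMap Γ(Z', ⊤) Γ(T₀, ⊤) (algebraMap Γ(T, ⊤) Γ(Z', ⊤) g) = g₀
  intro M M'' _ _ _ _ _ _ _ _ qq hqq φ'' h1 h2
  let lam : Γ(T₀, ⊤) →+* Localization.Away g₀ := algebraMap _ _
  let κ : TrivSqZeroExt (Localization.Away g₀) M →+* TrivSqZeroExt (Localization.Away g₀) M'' :=
    (TrivSqZeroExt.map qq).toRingHom
  let ε'' : TrivSqZeroExt (Localization.Away g₀) M'' →+* Localization.Away g₀ :=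
    (TrivSqZeroExt.fstHom (Localization.Away g₀) (Localization.Away g₀) M'').toRingHom
  let ε : TrivSqZeroExt (Localization.Away g₀) M →+* Localization.Away g₀ :=
    (TrivSqZeroExt.fstHom (Localization.Away g₀) (Localization.Away g₀) M).toRingHom
  let ιA : Γ(T, ⊤) →+* TrivSqZeroExt (Localization.Away g₀) M :=
    (TrivSqZeroExt.inlHom (Localization.Away g₀) M).comp
      (lam.comp ((algebraMap Γ(Z', ⊤) Γ(T₀, ⊤)).comp (algebraMap Γ(T, ⊤) Γ(Z', ⊤))))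
  have hεκ : ε''.comp κ = ε := by
    ext x
    exact TrivSqZeroExt.fst_map qq x
  have hκs : Function.Surjective κ := by
    intro y
    obtain ⟨m, hm⟩ := hqq y.snd
    refine ⟨TrivSqZeroExt.inl y.fst + TrivSqZeroExt.inr m, ?_⟩
    change TrivSqZeroExt.map qq (TrivSqZeroExt.inl y.fst + TrivSqZeroExt.inr m) = y
    rw [map_add, TrivSqZeroExt.map_inl, TrivSqZeroExt.map_inr, hm,
      TrivSqZeroExt.inl_fst_add_inr_snd_eq]
  have hκk : RingHom.ker κ ^ 2 = ⊥ := by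
    refine ker_sq_eq_bot κ (fun x y hx hy => tsze_mul_eq_zero x y ?_ ?_)
    · have := congrArg TrivSqZeroExt.fst hx
      rwa [show (κ x).fst = x.fst from TrivSqZeroExt.fst_map qq x] at this
    · have := congrArg TrivSqZeroExt.fst hy
      rwa [show (κ y).fst = y.fst from TrivSqZeroExt.fst_map qq y] at this
  have hε''s : Function.Surjective ε'' := fun l => ⟨TrivSqZeroExt.inl l, TrivSqZeroExt.fst_inl M'' l⟩
  have hεs : Function.Surjective ε := fun l => ⟨TrivSqZeroExt.inl l, TrivSqZeroExt.fst_inl M l⟩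
  have hε''k : RingHom.ker ε'' ^ 2 = ⊥ :=
    ker_sq_eq_bot ε'' (fun x y hx hy => tsze_mul_eq_zero x y hx hy)
  have hεk : RingHom.ker ε ^ 2 = ⊥ :=
    ker_sq_eq_bot ε (fun x y hx hy => tsze_mul_eq_zero x y hx hy)
  have hk := UnivThick.isFirstOrderThickening_SpecMap (CommRingCat.ofHom κ) hκs hκk
  have he'' := UnivThick.isFirstOrderThickening_SpecMap (CommRingCat.ofHom ε'') hε''s hε''k
  have he := UnivThick.isFirstOrderThickening_SpecMap (CommRingCat.ofHom ε) hεs hεk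
  have hek : Spec.map (CommRingCat.ofHom ε'') ≫ Spec.map (CommRingCat.ofHom κ) =
      Spec.map (CommRingCat.ofHom ε) := by
    rw [← Spec.map_comp, ← CommRingCat.ofHom_comp, hεκ]
  obtain ⟨m'', hm''⟩ := exists_Γh_eq (Z := Z') φ''
  obtain ⟨w₀, hw₀⟩ := exists_Γh_eq (Z := T₀) lam
  obtain ⟨bT, hbT⟩ := exists_Γh_eq (Z := T) ιA
  -- (F1)
  have F1 : Spec.map (CommRingCat.ofHom ε'') ≫ m'' = w₀ ≫ j := by
    apply Γh_ext
    rw [Γh_specMap, Γh_comp, hm'', hw₀]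
    ext x
    change (φ'' x).fst = lam (j.appTop.hom x)
    rw [h1, hEA₀]
  -- (F2)
  have F2 : m'' ≫ h' ≫ p = Spec.map (CommRingCat.ofHom κ) ≫ bT := by
    apply Γh_ext
    rw [Γh_specMap, Γh_comp, hm'', hbT]
    refine RingHom.ext fun x => ?_
    change φ'' ((h' ≫ p).appTop.hom x) = TrivSqZeroExt.map qq (ιA x)
    rw [← hAE, h2]
    change _ = TrivSqZeroExt.map qq (TrivSqZeroExt.inl _)
    rw [TrivSqZeroExt.map_inl]
    rfl
  -- the unit `g₀`
  have hunit : IsUnit (lam g₀) := IsLocalization.Away.algebraMap_isUnit g₀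
  -- `bT` lands in `D(g)`
  have hιAg : ιA g = TrivSqZeroExt.inlHom (Localization.Away g₀) M (lam g₀) := by
    show TrivSqZeroExt.inlHom (Localization.Away g₀) M
      (lam (algebraMap Γ(Z', ⊤) Γ(T₀, ⊤) (algebraMap Γ(T, ⊤) Γ(Z', ⊤) g))) = _
    rw [hg₀]
  have hu2 : IsUnit (bT.appTop.hom g) := by
    have h3 : bT.appTop.hom g =
        (Scheme.ΓSpecIso (CommRingCat.of (TrivSqZeroExt (Localization.Away g₀) M))).inv.hom
          (ιA g) := by
      rw [← hbT]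
      change _ = (Scheme.ΓSpecIso _).inv.hom ((Scheme.ΓSpecIso _).hom.hom (bT.appTop.hom g))
      exact (congrArg (fun f => f.hom (bT.appTop.hom g)) (Scheme.ΓSpecIso _).hom_inv_id).symm
    rw [h3, hιAg]
    exact (hunit.map _).map _
  have hpre : bT ⁻¹ᵁ (T.basicOpen g) = ⊤ := by
    rw [Scheme.preimage_basicOpen_top]
    exact Scheme.basicOpen_of_isUnit _ hu2
  have hbV : (⊤ : (Spec (CommRingCat.of (TrivSqZeroExt (Localization.Away g₀) M))).Opens) ≤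
      (bT ≫ a) ⁻¹ᵁ V := by
    intro w _
    have hw : w ∈ bT ⁻¹ᵁ (T.basicOpen g) := by
      rw [hpre]
      trivial
    exact hgV hw
  -- `w₀` lands in the preimage of `D(g)`
  have hsp : (s₀ ≫ p).appTop.hom g = g₀ := by
    rw [← hg₀, hAE, hEA₀, ← hjh', Category.assoc, Scheme.Hom.comp_appTop]
    rfl
  have hu3 : IsUnit ((w₀ ≫ s₀ ≫ p).appTop.hom g) := by
    have h3 : (w₀ ≫ s₀ ≫ p).appTop.hom g =
        (Scheme.ΓSpecIso (CommRingCat.of (Localization.Away g₀))).inv.hom (lam g₀) := by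
      have h4 : Γh (w₀ ≫ s₀ ≫ p) g = lam g₀ := by
        rw [Γh_comp, hw₀, RingHom.comp_apply, hsp]
      rw [← h4]
      change _ = (Scheme.ΓSpecIso _).inv.hom
        ((Scheme.ΓSpecIso _).hom.hom ((w₀ ≫ s₀ ≫ p).appTop.hom g))
      exact (congrArg (fun f => f.hom ((w₀ ≫ s₀ ≫ p).appTop.hom g))
        (Scheme.ΓSpecIso _).hom_inv_id).symm
    rw [h3]
    exact hunit.map _
  have hpre₀ : (w₀ ≫ s₀ ≫ p) ⁻¹ᵁ (T.basicOpen g) = ⊤ := by
    rw [Scheme.preimage_basicOpen_top]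
    exact Scheme.basicOpen_of_isUnit _ hu3
  have hb₀U : (⊤ : (Spec (CommRingCat.of (TrivSqZeroExt (Localization.Away g₀) M''))).Opens) ≤
      (m'' ≫ h' ≫ q) ⁻¹ᵁ U := by
    intro w'' _
    haveI : Surjective (Spec.map (CommRingCat.ofHom ε'')) := he''.1.2
    obtain ⟨w, rfl⟩ := (Spec.map (CommRingCat.ofHom ε'')).surjective w''
    have hw : w ∈ (w₀ ≫ s₀ ≫ p) ⁻¹ᵁ (T.basicOpen g) := by
      rw [hpre₀]
      trivial
    have hw' : w₀.base w ∈ (s₀ ≫ p) ⁻¹ᵁ (T.basicOpen g) := hw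
    have h5 := hgU hw'
    have h6 : Spec.map (CommRingCat.ofHom ε'') ≫ m'' ≫ h' ≫ q = w₀ ≫ s₀ ≫ q := by
      rw [← Category.assoc, F1, Category.assoc, ← Category.assoc j, hjh']
    have h7 := congrArg (fun k => k.base w) h6
    simp only [Scheme.Hom.comp_base, TopCat.hom_comp, ContinuousMap.comp_apply] at h7
    change (q.base (h'.base (m''.base ((Spec.map (CommRingCat.ofHom ε'')).base w)))) ∈ U
    rw [h7]
    exact h5
  have hsq : (m'' ≫ h' ≫ q) ≫ f = Spec.map (CommRingCat.ofHom κ) ≫ bT ≫ a := by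
    rw [Category.assoc, Category.assoc, hpb.w, ← Category.assoc h', ← Category.assoc m'', F2,
      Category.assoc]
  obtain ⟨l, hl₁, hl₂⟩ := exists_lift_chart f (Spec.map (CommRingCat.ofHom κ)) hk (bT ≫ a)
    (m'' ≫ h' ≫ q) hsq hU hV hUV hfs hbV hb₀U
  let n := hpb.lift l bT hl₁
  have hnq : n ≫ q = l := hpb.lift_fst _ _ _
  have hnp : n ≫ p = bT := hpb.lift_snd _ _ _
  have F3 : Spec.map (CommRingCat.ofHom κ) ≫ n = m'' ≫ h' := by
    apply hpb.hom_ext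
    · rw [Category.assoc, hnq, hl₂, Category.assoc]
    · rw [Category.assoc, hnp, ← F2, Category.assoc]
  have hcond : Spec.map (CommRingCat.ofHom ε) ≫ n = w₀ ≫ s₀ := by
    rw [← hek, Category.assoc, F3, ← Category.assoc, F1, Category.assoc, hjh']
  obtain ⟨a', ⟨ha'1, ha'2⟩, -⟩ := hu.2.2 _ _ (Spec.map (CommRingCat.ofHom ε)) n w₀ he hcond
  have hcond'' : Spec.map (CommRingCat.ofHom ε'') ≫ (m'' ≫ h') = w₀ ≫ s₀ := by
    rw [← Category.assoc, F1, Category.assoc, hjh']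
  have hka' : Spec.map (CommRingCat.ofHom κ) ≫ a' = m'' := by
    refine (hu.2.2 _ _ (Spec.map (CommRingCat.ofHom ε'')) (m'' ≫ h') w₀ he'' hcond'').unique
      ⟨?_, ?_⟩ ⟨F1, rfl⟩
    · rw [← Category.assoc, hek, ha'1]
    · rw [Category.assoc, ha'2, F3]
  refine ⟨Γh a', ?_, ?_, ?_⟩
  · intro x
    have h8 : ε.comp (Γh a') = lam.comp j.appTop.hom := by
      rw [← Γh_specMap, ha'1, Γh_comp, hw₀]
    have h9 := congrArg (fun r => r x) h8
    simp only [RingHom.comp_apply] at h9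
    rw [hEA₀]
    exact h9
  · intro x
    have h8 : Γh (a' ≫ h' ≫ p) = ιA := by
      rw [← Category.assoc, ha'2, hnp, hbT]
    rw [Γh_comp] at h8
    have h9 := congrArg (fun r => r x) h8
    simp only [RingHom.comp_apply] at h9
    rw [← hAE] at h9
    exact h9
  · intro x
    have h8 : κ.comp (Γh a') = φ'' := by
      rw [← Γh_specMap, hka', hm'']
    have h9 := congrArg (fun r => (r x).snd) h8
    simp only [RingHom.comp_apply] at h9
    rw [← h9]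
    exact (TrivSqZeroExt.snd_map qq (Γh a' x)).symm

end LiftHypChart

section Main

open Groth.Agent.Lib.Helper1.LiftGeom

variable {S X T T₀ : Scheme.{u}} (f : X ⟶ S)
    (hfs : ∀ (U : X.Opens) (V : S.Opens) (_ : IsAffineOpen U) (_ : IsAffineOpen V)
      (hUV : U ≤ f ⁻¹ᵁ V), (f.appLE V U hUV).hom.FormallySmooth)
    (i : T₀ ⟶ T) (hi : MoreMor.IsFirstOrderThickening i) [IsAffine T₀]
    (a : T ⟶ S) (a₀ : T₀ ⟶ X) (hsqr : a₀ ≫ f = i ≫ a)

include hfs hi hsqr in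
/-- **Affine-locally formally smooth morphisms lift along first order thickenings of affine
schemes** (no finiteness hypothesis). The proof follows `Helper1.LiftGeom.exists_lift`. -/
theorem exists_lift_of_locallyFormallySmooth : ∃ b' : T ⟶ X, b' ≫ f = a ∧ i ≫ b' = a₀ := by
  have hloc : ∀ t : T, ∃ (U : T.Opens) (b : (U : Scheme.{u}) ⟶ X), t ∈ U ∧ b ≫ f = U.ι ≫ a ∧
      (i ∣_ U) ≫ b = (i ⁻¹ᵁ U).ι ≫ a₀ := fun t => exists_local_lift f hfs i hi a a₀ hsqr t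
  haveI : IsClosedImmersion i := hi.1.1
  haveI hT : IsAffine T := Groth.Agent.Lib.Helper28.Thick.isAffine_of_thickening i hi.1.2.surj
  let p : pullback f a ⟶ T := pullback.snd f a
  let q : pullback f a ⟶ X := pullback.fst f a
  let s₀ : T₀ ⟶ pullback f a := pullback.lift a₀ i hsqr
  have hs₀p : s₀ ≫ p = i := pullback.lift_snd _ _ _
  have hs₀q : s₀ ≫ q = a₀ := pullback.lift_fst _ _ _
  have hpq : q ≫ f = p ≫ a := pullback.condition
  haveI : FormallyUnramified s₀ := by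
    haveI : FormallyUnramified (s₀ ≫ p) := by rw [hs₀p]; infer_instance
    exact FormallyUnramified.of_comp s₀ p
  let j := UT.iZ s₀
  let h' := UT.hZ s₀
  have hu : OmegaSh.IsUnivThickening s₀ j h' := UT.isUnivThickening_glued s₀
  haveI : IsClosedImmersion j := hu.1.1.1
  haveI : IsAffine (UT.Zt s₀) := Groth.Agent.Lib.Helper28.Thick.isAffine_of_thickening j hu.1.1.2.surj
  have hjh' : j ≫ h' = s₀ := hu.2.1
  have hjhp : j ≫ h' ≫ p = i := by rw [← Category.assoc, hjh', hs₀p]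
  -- algebra structures
  letI algAE : Algebra Γ(T, ⊤) Γ(UT.Zt s₀, ⊤) := ((h' ≫ p).appLE ⊤ ⊤ le_top).hom.toAlgebra
  letI algEA₀ : Algebra Γ(UT.Zt s₀, ⊤) Γ(T₀, ⊤) := (j.appLE ⊤ ⊤ le_top).hom.toAlgebra
  letI algAA₀ : Algebra Γ(T, ⊤) Γ(T₀, ⊤) :=
    ((j.appLE ⊤ ⊤ le_top).hom.comp ((h' ≫ p).appLE ⊤ ⊤ le_top).hom).toAlgebra
  haveI tow : IsScalarTower Γ(T, ⊤) Γ(UT.Zt s₀, ⊤) Γ(T₀, ⊤) :=
    IsScalarTower.of_algebraMap_eq (fun _ => rfl)
  have hAE : ∀ x, algebraMap Γ(T, ⊤) Γ(UT.Zt s₀, ⊤) x = (h' ≫ p).appTop.hom x := fun x => by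
    change ((h' ≫ p).appLE ⊤ ⊤ le_top).hom x = _
    rw [appLE_top_top]
  have hEA₀ : ∀ x, algebraMap Γ(UT.Zt s₀, ⊤) Γ(T₀, ⊤) x = j.appTop.hom x := fun x => by
    change (j.appLE ⊤ ⊤ le_top).hom x = _
    rw [appLE_top_top]
  have hAA₀ : ∀ x, algebraMap Γ(T, ⊤) Γ(T₀, ⊤) x = i.appTop.hom x := fun x => by
    rw [IsScalarTower.algebraMap_apply _ Γ(UT.Zt s₀, ⊤), hAE, hEA₀, ← hjhp,
      Scheme.Hom.comp_appTop]
    rfl
  have hρ : Function.Surjective (algebraMap Γ(T, ⊤) Γ(T₀, ⊤)) := by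
    intro y
    obtain ⟨x, hx⟩ := i.app_surjective ⊤ (isAffineOpen_top T) y
    exact ⟨x, (hAA₀ x).trans hx⟩
  have hπ : Function.Surjective (algebraMap Γ(UT.Zt s₀, ⊤) Γ(T₀, ⊤)) := by
    intro y
    obtain ⟨x, hx⟩ := j.app_surjective ⊤ (isAffineOpen_top _) y
    exact ⟨x, (hEA₀ x).trans hx⟩
  have hK : ∀ x y : Γ(UT.Zt s₀, ⊤), algebraMap Γ(UT.Zt s₀, ⊤) Γ(T₀, ⊤) x = 0 →
      algebraMap Γ(UT.Zt s₀, ⊤) Γ(T₀, ⊤) y = 0 → x * y = 0 := by
    intro x y hx hy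
    rw [hEA₀] at hx hy
    have h3 : (j.ker * j.ker).ideal ⟨⊤, isAffineOpen_top _⟩ =
      j.ker.ideal ⟨⊤, isAffineOpen_top _⟩ * j.ker.ideal ⟨⊤, isAffineOpen_top _⟩ := rfl
    have h4 : x * y ∈ (j.ker * j.ker).ideal ⟨⊤, isAffineOpen_top _⟩ := by
      rw [h3, Scheme.Hom.ker_apply]
      exact Ideal.mul_mem_mul hx hy
    rw [hu.1.2] at h4
    exact h4
  haveI proj : Module.Projective Γ(T₀, ⊤)
      (Γ(T₀, ⊤) ⊗[Γ(UT.Zt s₀, ⊤)] Ω[Γ(UT.Zt s₀, ⊤)⁄Γ(T, ⊤)]) := by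
    have hhomeo : IsHomeomorph i.base := UT.isHomeomorph_of_isThickening hi.1
    let Sc : Set Γ(T, ⊤) := {g | ∃ (U : X.Opens) (V : S.Opens) (_ : IsAffineOpen U)
      (_ : IsAffineOpen V) (_ : U ≤ f ⁻¹ᵁ V), T.basicOpen g ≤ a ⁻¹ᵁ V ∧
        (s₀ ≫ p) ⁻¹ᵁ (T.basicOpen g) ≤ (s₀ ≫ q) ⁻¹ᵁ U}
    have hSc : Ideal.span Sc = ⊤ := by
      rw [← (isAffineOpen_top T).self_le_iSup_basicOpen_iff]
      intro t _
      obtain ⟨t₀, rfl⟩ := hhomeo.surjective t
      obtain ⟨U, V, hU, hV, hxU, -, hUV⟩ :=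
        DerUnram.exists_small_affine f (a₀.base t₀) ⊤ trivial
      let O : T.Opens :=
        ⟨i.base '' (a₀ ⁻¹ᵁ U : Set _), hhomeo.isOpenMap _ (a₀ ⁻¹ᵁ U).2⟩ ⊓ a ⁻¹ᵁ V
      have htO : i.base t₀ ∈ O := by
        refine ⟨⟨t₀, hxU, rfl⟩, ?_⟩
        change a.base (i.base t₀) ∈ V
        have h1 := congrArg (fun g => g.base t₀) hsqr
        simp only [Scheme.Hom.comp_base, TopCat.hom_comp, ContinuousMap.comp_apply] at h1
        rw [← h1]
        exact hUV hxU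
      obtain ⟨_, ⟨_, ⟨g, rfl⟩, rfl⟩, htg, hgO⟩ :=
        (isBasis_basicOpen T).exists_subset_of_mem_open htO O.isOpen
      refine Opens.mem_iSup.mpr ⟨⟨g, U, V, hU, hV, hUV, fun y hy => (hgO hy).2, ?_⟩, htg⟩
      rw [hs₀p, hs₀q]
      intro z hz
      obtain ⟨z', hz', hzz'⟩ := (hgO hz).1
      rw [← hhomeo.injective hzz']
      exact hz'
    refine FSmoothRing.projective_of_liftHyp
      (⇑((algebraMap Γ(UT.Zt s₀, ⊤) Γ(T₀, ⊤)).comp (algebraMap Γ(T, ⊤) Γ(UT.Zt s₀, ⊤))) '' Sc)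
      ?_ ?_
    · rw [← Ideal.map_span, hSc, Ideal.map_top]
    · rintro _ ⟨g, ⟨U, V, hU, hV, hUV, hgV, hgU⟩, rfl⟩
      exact liftHyp_chart f a q p (IsPullback.of_hasPullback f a) s₀ j h' hu hU hV hUV
        (hfs U V hU hV hUV) g hgV hgU
  let Sg : Set Γ(T, ⊤) := {g | ∃ (U : T.Opens) (b : (U : Scheme.{u}) ⟶ X), T.basicOpen g ≤ U ∧
    b ≫ f = U.ι ≫ a ∧ (i ∣_ U) ≫ b = (i ⁻¹ᵁ U).ι ≫ a₀}
  have hS : Ideal.span Sg = ⊤ := by
    rw [← (isAffineOpen_top T).self_le_iSup_basicOpen_iff]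
    intro t _
    obtain ⟨U, b, htU, hb₁, hb₂⟩ := hloc t
    obtain ⟨_, ⟨_, ⟨g, rfl⟩, rfl⟩, htg, hgU⟩ :=
      (isBasis_basicOpen T).exists_subset_of_mem_open htU U.isOpen
    exact Opens.mem_iSup.mpr ⟨⟨g, U, b, hgU, hb₁, hb₂⟩, htg⟩
  have hlocD : LiftRing.LocData (E := Γ(UT.Zt s₀, ⊤)) (A₀ := Γ(T₀, ⊤)) Sg := by
    rintro g ⟨U, b, hgU, hb₁, hb₂⟩
    let bW : (T.basicOpen g : Scheme.{u}) ⟶ X := T.homOfLE hgU ≫ b
    have hbW₁ : bW ≫ f = (T.basicOpen g).ι ≫ a := by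
      rw [Category.assoc, hb₁, Scheme.homOfLE_ι_assoc]
    have hbW₂ : (i ∣_ T.basicOpen g) ≫ bW = (i ⁻¹ᵁ T.basicOpen g).ι ≫ a₀ := by
      rw [← Category.assoc, UT.morphismRestrict_homOfLE, Category.assoc, hb₂,
        Scheme.homOfLE_ι_assoc]
    let sW : (T.basicOpen g : Scheme.{u}) ⟶ pullback f a := pullback.lift bW (T.basicOpen g).ι hbW₁
    have hsWp : sW ≫ p = (T.basicOpen g).ι := pullback.lift_snd _ _ _
    have hjW := UT.isFirstOrderThickening_morphismRestrict hi (T.basicOpen g)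
    have hcompat : (i ∣_ T.basicOpen g) ≫ sW = (i ⁻¹ᵁ T.basicOpen g).ι ≫ s₀ := by
      apply pullback.hom_ext
      · rw [Category.assoc, pullback.lift_fst, Category.assoc, pullback.lift_fst, hbW₂]
      · rw [Category.assoc, pullback.lift_snd, Category.assoc, pullback.lift_snd,
          morphismRestrict_ι]
    obtain ⟨m, ⟨hm₁, hm₂⟩, -⟩ := hu.2.2 _ _ (i ∣_ T.basicOpen g) sW (i ⁻¹ᵁ T.basicOpen g).ι hjW
      hcompat
    refine ⟨Γ(T, T.basicOpen g), inferInstance, inferInstance, inferInstance,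
      (m.appTop ≫ (T.basicOpen g).topIso.hom).hom, ?_, ?_⟩
    · intro a'
      rw [hAE]
      have h1 : m ≫ h' ≫ p = (T.basicOpen g).ι := by rw [← Category.assoc, hm₂, hsWp]
      have h2 : (h' ≫ p).appTop ≫ m.appTop = (T.basicOpen g).ι.appTop := by
        rw [← Scheme.Hom.comp_appTop, h1]
      change ((h' ≫ p).appTop ≫ m.appTop ≫ (T.basicOpen g).topIso.hom).hom a' = _
      rw [← Category.assoc, h2, Scheme.Opens.ι_appTop, Scheme.Opens.topIso_hom]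
      exact presheaf_map_map_any _ _ _ a'
    · intro k hk
      rw [hEA₀] at hk
      have hker : RingHom.ker (algebraMap Γ(T, ⊤) Γ(T₀, ⊤)) =
          i.ker.ideal ⟨⊤, isAffineOpen_top T⟩ := by
        rw [Scheme.Hom.ker_apply]
        congr 1
        exact RingHom.ext hAA₀
      rw [hker]
      have h3 := Scheme.IdealSheafData.map_ideal_basicOpen i.ker ⟨⊤, isAffineOpen_top T⟩ g
      change _ ∈ Ideal.map (T.presheaf.map (homOfLE _).op).hom _
      rw [h3, Scheme.Hom.ker_apply]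
      change (i.app (T.basicOpen g)).hom ((T.basicOpen g).topIso.hom.hom (m.appTop.hom k)) = 0
      have h4 : (i ∣_ T.basicOpen g).appTop.hom (m.appTop.hom k) = 0 := by
        have h5 : m.appTop ≫ (i ∣_ T.basicOpen g).appTop =
            j.appTop ≫ (i ⁻¹ᵁ T.basicOpen g).ι.appTop := by
          rw [← Scheme.Hom.comp_appTop, ← Scheme.Hom.comp_appTop, hm₁]
        have h6 := congr(($h5).hom k)
        change (i ∣_ T.basicOpen g).appTop.hom (m.appTop.hom k) =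
          (i ⁻¹ᵁ T.basicOpen g).ι.appTop.hom (j.appTop.hom k) at h6
        rw [h6, hk, map_zero]
      rw [morphismRestrict_appTop] at h4
      change (T₀.presheaf.map _).hom ((i.app ((T.basicOpen g).ι ''ᵁ ⊤)).hom (m.appTop.hom k)) = 0
        at h4
      rw [Scheme.Opens.topIso_hom]
      refine (app_map_any i (U := T.basicOpen g) (U' := (T.basicOpen g).ι ''ᵁ ⊤)
        (eqToHom (T.basicOpen g).ι_image_top.symm).op
        (eqToHom (by rw [Scheme.Opens.ι_image_top])).op (m.appTop.hom k)).trans ?_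
      have h7 := presheaf_map_map_any (Z := T₀)
        (eqToHom (image_morphismRestrict_preimage i (T.basicOpen g) ⊤)).op
        (eqToHom (by rw [Scheme.Opens.ι_image_top] :
          i ⁻¹ᵁ T.basicOpen g = (i ⁻¹ᵁ T.basicOpen g).ι ''ᵁ ⊤)).op
        (eqToHom (by rw [Scheme.Opens.ι_image_top])).op
        ((i.app ((T.basicOpen g).ι ''ᵁ ⊤)).hom (m.appTop.hom k))
      rw [← h7, h4, map_zero]
  obtain ⟨σ, hσ⟩ := FSmoothRing.exists_retraction_of_projective hρ hπ hK Sg hS hlocD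
  obtain ⟨m, hm⟩ := exists_hom_appTop (X' := T) (Y := UT.Zt s₀) (CommRingCat.ofHom σ.toRingHom)
  have hm₁ : i ≫ m = j := by
    apply ext_of_isAffine
    rw [Scheme.Hom.comp_appTop, hm]
    ext e
    change i.appTop.hom (σ e) = j.appTop.hom e
    rw [← hAA₀, ← hEA₀]
    exact hσ e
  have hm₂ : m ≫ h' ≫ p = 𝟙 T := by
    apply ext_of_isAffine
    rw [Scheme.Hom.comp_appTop, hm]
    ext x
    change σ ((h' ≫ p).appTop.hom x) = x
    rw [← hAE, σ.commutes]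
    rfl
  refine ⟨m ≫ h' ≫ q, ?_, ?_⟩
  · rw [Category.assoc, Category.assoc, hpq, ← Category.assoc h', ← Category.assoc m, hm₂,
      Category.id_comp]
  · rw [← Category.assoc, hm₁, ← Category.assoc, hjh', hs₀q]

end Main

end Groth.Agent.Lib.Helper25.FSmoothGlue
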