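import Mathlib
import Groth.Agent.Lib.Helper25.PdTorFlatFP
import Groth.Agent.Lib.Helper8.FibreFree

/-!
# Projective dimension of a finitely presented flat module is the supremum over the fibres
(helper25)

For a flat finitely presented `A`-algebra `B` and a finitely presented `B`-module `M` flat over `A`:
* `hasProjectiveDimensionLT_fibre`: `pd` does not increase on the fibres `B ⊗_A κ(p)`;
* `hasProjectiveDimensionLT_of_fibres`: if all fibres have `pd ≤ d` then `pd_B M ≤ d`
  (via helper8's fibrewise criterion `FibreFree.flat_of_fibrewise_projective`);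
* `subsingleton_of_fibres`: if all fibres vanish then `M = 0`.
-/

set_option autoImplicit false
set_option linter.style.haveILetI false
universe u
open CategoryTheory CategoryTheory.Limits DerivedCategory TensorProduct

attribute [local instance] HasDerivedCategory.standard
attribute [local instance] Algebra.TensorProduct.rightAlgebra

namespace Groth.Agent.Lib.Helper25.PCFlatFP

open Groth.Agent.Lib.Helper18.DR

theorem le_of_forall_nat_lt {x y : WithBot ℕ∞} (h : ∀ d : ℕ, y < d → x < d) : x ≤ y := by
  induction y with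
  | bot =>
    have h0 : x < ((0 : ℕ) : WithBot ℕ∞) := h 0 (WithBot.bot_lt_coe _)
    have hx : x = ⊥ := by
      rw [← WithBot.lt_coe_bot (α := ℕ∞), bot_eq_zero', WithBot.coe_zero]
      simpa using h0
    exact hx.le
  | coe c =>
    induction c with
    | top => exact le_top
    | coe m =>
      have h1 : x < ((m + 1 : ℕ) : WithBot ℕ∞) :=
        h (m + 1) (by exact_mod_cast Nat.lt_succ_self m)
      have h2 : x < (m : WithBot ℕ∞) + 1 := by exact_mod_cast h1
      exact ENat.WithBot.lt_add_one_iff.mp h2

section shiftdown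

variable {R : Type u} [CommRing R]

/-- reverse dimension shifting for projective dimension along an exact spot of a complex -/
lemma pd_cok_shift_down (G : DRing.Cx R) (i j k : ℤ)
    (hex : Function.Exact (G.d i j).hom (G.d j k).hom) [Module.Projective R (G.X k)] (m : ℕ)
    (h : HasProjectiveDimensionLT (ModuleCat.of R (cok G j k)) (m + 2)) :
    HasProjectiveDimensionLT (ModuleCat.of R (cok G i j)) (m + 1) := by
  let S : ShortComplex (ModuleCat.{u} R) :=
    ModuleCat.shortComplexOfCompEqZero (cokToNext G i j k) (LinearMap.range (G.d j k).hom).mkQ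
      (by
        apply LinearMap.ext
        intro x
        exact ((cokToNext_exact (G := G) (i := i) (j := j) (k := k)) _).mpr ⟨x, rfl⟩)
  have hS : S.ShortExact := ModuleCat.shortComplex_shortExact S
    (cokToNext_exact (G := G) (i := i) (j := j) (k := k)) (cokToNext_injective hex)
    (Submodule.mkQ_surjective _)
  haveI : Projective S.X₂ := by
    change Projective (ModuleCat.of R (G.X k))
    rw [← IsProjective.iff_projective]
    infer_instance
  exact hS.hasProjectiveDimensionLT_X₁ (m + 1)
    (hasProjectiveDimensionLT_of_ge _ 1 (m + 1) (by omega)) h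

lemma pd_cok_iter_down (E : DRing.Cx R) (hproj : ∀ i, Module.Projective R (E.X i))
    (hex : ∀ i j k : ℤ, i + 1 = j → j + 1 = k → j < 0 →
      Function.Exact (E.d i j).hom (E.d j k).hom) :
    ∀ (t : ℕ) (k : ℤ), k ≤ 0 →
      HasProjectiveDimensionLT (ModuleCat.of R (cok E (k - 1) k)) (t + 1) →
      ∀ j : ℤ, j = k - t →
        HasProjectiveDimensionLT (ModuleCat.of R (cok E (j - 1) j)) 1 := by
  intro t
  induction t with
  | zero =>
    intro k _ h j hj
    obtain rfl : j = k := by simpa using hj
    exact h
  | succ t ih =>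
    intro k hk h j hj
    haveI := hproj k
    have h1 : HasProjectiveDimensionLT (ModuleCat.of R (cok E (k - 1 - 1) (k - 1))) (t + 1) :=
      pd_cok_shift_down E (k - 1 - 1) (k - 1) k
        (hex (k - 1 - 1) (k - 1) k (by omega) (by omega) (by omega)) t h
    exact ih (k - 1) (by omega) h1 j (by push_cast at hj; omega)

end shiftdown

/-- flatness of a cokernel over the base, from the restriction of scalars -/
lemma flat_cok_restrict {R S : Type u} [CommRing R] [CommRing S] [Algebra R S]
    {M N : ModuleCat.{u} S} (f : M ⟶ N)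
    (h : Module.Flat R (((ModuleCat.restrictScalars.{u} (algebraMap R S)).obj N) ⧸
      LinearMap.range ((ModuleCat.restrictScalars.{u} (algebraMap R S)).map f).hom)) :
    letI : Module R (N ⧸ LinearMap.range f.hom) :=
      Module.compHom (N ⧸ LinearMap.range f.hom) (algebraMap R S)
    Module.Flat R (N ⧸ LinearMap.range f.hom) := by
  letI mR : Module R (N ⧸ LinearMap.range f.hom) :=
    Module.compHom (N ⧸ LinearMap.range f.hom) (algebraMap R S)
  let f₁ : ((ModuleCat.restrictScalars.{u} (algebraMap R S)).obj N) →ₗ[R]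
      (N ⧸ LinearMap.range f.hom) :=
    { toFun := fun x => Submodule.Quotient.mk (show N from x)
      map_add' := fun _ _ => rfl
      map_smul' := fun _ _ => rfl }
  have hsurj : Function.Surjective f₁ := by
    intro y
    obtain ⟨x, rfl⟩ := Submodule.Quotient.mk_surjective _ y
    exact ⟨x, rfl⟩
  have hker : LinearMap.range ((ModuleCat.restrictScalars.{u} (algebraMap R S)).map f).hom =
      LinearMap.ker f₁ := by
    ext x
    rw [LinearMap.mem_range, LinearMap.mem_ker]
    change _ ↔ Submodule.Quotient.mk (show N from x) = 0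
    rw [Submodule.Quotient.mk_eq_zero, LinearMap.mem_range]
    constructor
    · rintro ⟨y, hy⟩
      exact ⟨y, hy⟩
    · rintro ⟨y, hy⟩
      exact ⟨y, hy⟩
  exact Module.Flat.of_linearEquiv
    (((Submodule.quotEquivOfEq _ _ hker).trans (f₁.quotKerEquivOfSurjective hsurj)).symm)

/-- the base change of a complex -/
noncomputable abbrev bcCx {B : Type u} [CommRing B] (C : Type u) [CommRing C] [Algebra B C]
    (E : DRing.Cx B) : DRing.Cx C :=
  ((extM (A := B) (B := C)).mapHomologicalComplex (ComplexShape.up ℤ)).obj E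

section BC

/-- tor amplitude `[0, 0]` over the base of a resolution of a module flat over the base -/
theorem hasTorAmplitudeIn_restrict_resolution {A B : Type u} [CommRing A] [CommRing B]
    [Algebra A B]
    (N : Type u) [AddCommGroup N] [Module B N] [Module A N] [IsScalarTower A B N]
    [Module.Flat A N] (E : DRing.Cx B) (e : DRing.toD E ≅ Dual.inD B N) :
    DRing.HasTorAmplitudeIn A 0 0 ((DRing.restrictD (algebraMap A B)).obj (DRing.toD E)) := by
  let eN : N ≃ₗ[A] resM (algebraMap A B) (ModuleCat.of B N) :=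
    { toFun := fun x => x
      invFun := fun x => x
      map_add' := fun _ _ => rfl
      map_smul' := fun a x => (algebraMap_smul B a x).symm.trans rfl
      left_inv := fun _ => rfl
      right_inv := fun _ => rfl }
  have hTA0 : DRing.HasTorAmplitudeIn A 0 0 (Dual.inD A N) := by
    have h := (hasTorDimLE_iff_hasTorAmplitudeIn_single A N 0).1.mp
      ((hasTorDimLE_iff_hasTorAmplitudeIn_single A N 0).2.mpr inferInstance)
    simpa using h
  exact hasTorAmplitudeIn_of_iso
    ((singleFunctor (ModuleCat.{u} A) 0).mapIso eN.toModuleIso ≪≫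
      (restrictDSgIso (algebraMap A B) 0 (ModuleCat.of B N)).symm ≪≫
      (DRing.restrictD (algebraMap A B)).mapIso e.symm) hTA0

/-- base change of a resolution of a module flat over the base along a pushout square remains a
resolution, of the base changed module -/
theorem baseChange_resolution
    {A B κ C : Type u} [CommRing A] [CommRing B] [CommRing κ] [CommRing C]
    [Algebra A B] [Algebra A κ] [Algebra A C] [Algebra κ C] [Algebra B C]
    [IsScalarTower A κ C] [IsScalarTower A B C] [Algebra.IsPushout A κ B C] [Module.Flat A B]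
    (N : Type u) [AddCommGroup N] [Module B N] [Module A N] [IsScalarTower A B N]
    [Module.Flat A N] (E : DRing.Cx B) (hE0 : DRing.VanishesAbove E 0)
    (hEflat : DRing.TermwiseFlat E) (e : DRing.toD E ≅ Dual.inD B N) :
    (∀ i j k : ℤ, i + 1 = j → j + 1 = k → j < 0 →
      Function.Exact ((bcCx C E).d i j).hom ((bcCx C E).d j k).hom) ∧
    Nonempty (cok (bcCx C E) (-1) 0 ≃ₗ[C] C ⊗[B] N) := by
  have hTA := hasTorAmplitudeIn_restrict_resolution (A := A) N E e
  refine ⟨?_, ?_⟩
  · intro i j k hij hjk hj
    change Function.Exact ((extM (A := B) (B := C)).map (E.d i j)).hom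
      ((extM (A := B) (B := C)).map (E.d j k)).hom
    rw [(tensorLike_extM (A := B) (B := C)).exact_iff]
    exact lTensor_exact_of_pushout (A := A) (κ := κ) (C := C) (E.d i j) (E.d j k)
      (exact_lTensor_restrict_of_hasTorAmplitudeIn E 0 hE0 hEflat 0 0 hTA κ i j k hij hjk
        (Or.inl hj))
  · let i4 : ModuleCat.of B (cok E (-1) 0) ≅ ModuleCat.of B N :=
      (h0IsoCok E hE0).symm ≪≫ (H B 0).mapIso e ≪≫ HSg 0 (ModuleCat.of B N)
    exact ⟨(cokExtMEquiv (B := C) E (-1) 0).trans
      (TensorProduct.AlgebraTensorModule.congr (LinearEquiv.refl C C) i4.toLinearEquiv)⟩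

end BC

section fibres

variable (A B : Type u) [CommRing A] [CommRing B] [Algebra A B] [Module.Flat A B]
  [Algebra.FinitePresentation A B]
  (M : Type u) [AddCommGroup M] [Module B M] [Module A M] [IsScalarTower A B M]
  [Module.FinitePresentation B M] [Module.Flat A M]

theorem hasProjectiveDimensionLT_baseChange_of_pushout
    (κ C : Type u) [CommRing κ] [CommRing C] [Algebra A κ] [Algebra A C] [Algebra κ C]
    [Algebra B C] [IsScalarTower A κ C] [IsScalarTower A B C] [Algebra.IsPushout A κ B C]
    (d : ℕ) (h : HasProjectiveDimensionLT (ModuleCat.of B M) (d + 1)) :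
    HasProjectiveDimensionLT (ModuleCat.of C (C ⊗[B] M)) (d + 1) := by
  have hpc : DRing.IsPseudoCoherentModule' B M :=
    isPseudoCoherentModule'_of_flat_fp_algebra A B M
  haveI : (Dual.inD B M).IsLE 0 := inferInstance
  obtain ⟨E, hE0, hEff, ⟨e⟩⟩ := exists_finite_free_resolution_le (Dual.inD B M) 0 hpc
  have hEflat : DRing.TermwiseFlat E := fun i => by
    haveI := (hEff i).2
    infer_instance
  have hEproj : ∀ i, Module.Projective B (E.X i) := fun i => by
    haveI := (hEff i).2
    infer_instance
  haveI := h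
  have hTA : DRing.HasTorAmplitudeIn B (-(d : ℤ)) 0 (DRing.toD E) :=
    hasTorAmplitudeIn_of_iso e.symm (hasTorAmplitudeIn_inD_of_hasProjectiveDimensionLT d M)
  haveI hfl : Module.Flat B (cok E (-(d : ℤ) - 1) (-(d : ℤ))) :=
    flat_cok_of_flat_of_hasTorAmplitudeIn E 0 hE0 hEflat (-(d : ℤ)) 0 hTA
  haveI : Module.FinitePresentation B (cok E (-(d : ℤ) - 1) (-(d : ℤ))) := by
    haveI := (hEff (-(d : ℤ))).1
    haveI := (hEff (-(d : ℤ))).2
    haveI := (hEff (-(d : ℤ) - 1)).1
    refine Module.finitePresentation_of_free_of_surjective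
      (LinearMap.range (E.d (-(d : ℤ) - 1) (-(d : ℤ))).hom).mkQ (Submodule.mkQ_surjective _) ?_
    rw [Submodule.ker_mkQ, ← Module.Finite.iff_fg]
    exact Module.Finite.range _
  haveI : Module.Projective B (cok E (-(d : ℤ) - 1) (-(d : ℤ))) :=
    Module.Flat.projective_of_finitePresentation
  obtain ⟨hexG, ⟨eG⟩⟩ := baseChange_resolution (A := A) (κ := κ) (C := C) M E hE0 hEflat e
  have hGproj : ∀ i, Module.Projective C ((bcCx C E).X i) := fun i => by
    haveI := hEproj i
    exact projective_extM (B := C) (E.X i)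
  haveI : Module.Projective C (cok (bcCx C E) (-(d : ℤ) - 1) (-(d : ℤ))) :=
    Module.Projective.of_equiv (cokExtMEquiv (B := C) E (-(d : ℤ) - 1) (-(d : ℤ))).symm
  have hbase : HasProjectiveDimensionLT
      (ModuleCat.of C (cok (bcCx C E) (-(d : ℤ) - 1) (-(d : ℤ)))) 1 := by
    haveI : Projective (ModuleCat.of C (cok (bcCx C E) (-(d : ℤ) - 1) (-(d : ℤ)))) := by
      rw [← IsProjective.iff_projective]
      infer_instance
    infer_instance
  have h1 := pd_cok_iter (bcCx C E) hGproj hexG d (-(d : ℤ)) (by omega) hbase 0 (by omega)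
  have h2 : HasProjectiveDimensionLT (ModuleCat.of C (cok (bcCx C E) (-1) 0)) (d + 1) := by
    simpa using h1
  exact hasProjectiveDimensionLT_of_iso eG.toModuleIso (d + 1)

theorem hasProjectiveDimensionLT_fibre (p : Ideal A) [p.IsPrime] (d : ℕ)
    (h : HasProjectiveDimensionLT (ModuleCat.of B M) (d + 1)) :
    HasProjectiveDimensionLT (ModuleCat.of (B ⊗[A] p.ResidueField)
      ((B ⊗[A] p.ResidueField) ⊗[B] M)) (d + 1) :=
  hasProjectiveDimensionLT_baseChange_of_pushout A B M p.ResidueField (B ⊗[A] p.ResidueField) d h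

theorem hasProjectiveDimensionLT_of_fibres (d : ℕ)
    (h : ∀ (p : Ideal A) [p.IsPrime], HasProjectiveDimensionLT
      (ModuleCat.of (B ⊗[A] p.ResidueField) ((B ⊗[A] p.ResidueField) ⊗[B] M)) (d + 1)) :
    HasProjectiveDimensionLT (ModuleCat.of B M) (d + 1) := by
  have hpc : DRing.IsPseudoCoherentModule' B M :=
    isPseudoCoherentModule'_of_flat_fp_algebra A B M
  haveI : (Dual.inD B M).IsLE 0 := inferInstance
  obtain ⟨E, hE0, hEff, ⟨e⟩⟩ := exists_finite_free_resolution_le (Dual.inD B M) 0 hpc
  have hEflat : DRing.TermwiseFlat E := fun i => by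
    haveI := (hEff i).2
    infer_instance
  have hEproj : ∀ i, Module.Projective B (E.X i) := fun i => by
    haveI := (hEff i).2
    infer_instance
  have hex : ∀ i j k : ℤ, i + 1 = j → j + 1 = k → j < 0 →
      Function.Exact (E.d i j).hom (E.d j k).hom := by
    intro i j k hij hjk hj
    rw [← isZero_H_toD_iff E i j k hij hjk]
    exact (isZero_of_isGE (Sg 0 (ModuleCat.of B M)) 0 j hj).of_iso ((H B j).mapIso e)
  let eM : ModuleCat.of B (cok E (-1) 0) ≅ ModuleCat.of B M :=
    (h0IsoCok E hE0).symm ≪≫ (H B 0).mapIso e ≪≫ HSg 0 (ModuleCat.of B M)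
  haveI : Module.FinitePresentation B (cok E (-(d : ℤ) - 1) (-(d : ℤ))) := by
    haveI := (hEff (-(d : ℤ))).1
    haveI := (hEff (-(d : ℤ))).2
    haveI := (hEff (-(d : ℤ) - 1)).1
    refine Module.finitePresentation_of_free_of_surjective
      (LinearMap.range (E.d (-(d : ℤ) - 1) (-(d : ℤ))).hom).mkQ (Submodule.mkQ_surjective _) ?_
    rw [Submodule.ker_mkQ, ← Module.Finite.iff_fg]
    exact Module.Finite.range _
  -- the `A`-module structure on the syzygy
  letI mA : Module A (cok E (-(d : ℤ) - 1) (-(d : ℤ))) :=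
    Module.compHom (cok E (-(d : ℤ) - 1) (-(d : ℤ))) (algebraMap A B)
  haveI tow : IsScalarTower A B (cok E (-(d : ℤ) - 1) (-(d : ℤ))) :=
    ⟨fun r s x => by
      change (r • s) • x = (algebraMap A B r) • (s • x)
      rw [Algebra.smul_def, mul_smul]⟩
  -- flatness over `A`
  have hTA := hasTorAmplitudeIn_restrict_resolution (A := A) M E e
  have hK0 : DRing.VanishesAbove
      (((ModuleCat.restrictScalars.{u} (algebraMap A B)).mapHomologicalComplex
        (ComplexShape.up ℤ)).obj E) 0 :=
    vanishesAbove_mapHC (ModuleCat.restrictScalars.{u} (algebraMap A B)) E 0 hE0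
  have hKflat : DRing.TermwiseFlat
      (((ModuleCat.restrictScalars.{u} (algebraMap A B)).mapHomologicalComplex
        (ComplexShape.up ℤ)).obj E) := fun i => by
    haveI := hEflat i
    exact flat_restrictScalars (E.X i)
  have hTA' : DRing.HasTorAmplitudeIn A 0 0 (DRing.toD
      (((ModuleCat.restrictScalars.{u} (algebraMap A B)).mapHomologicalComplex
        (ComplexShape.up ℤ)).obj E)) :=
    hasTorAmplitudeIn_of_iso
      ((ModuleCat.restrictScalars.{u} (algebraMap A B)).mapDerivedCategoryFactors.app E) hTA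
  have hcokA := flat_cok_of_flat_of_hasTorAmplitudeIn _ 0 hK0 hKflat (-(d : ℤ)) 0
    (hasTorAmplitudeIn_mono hTA' (by omega) le_rfl)
  haveI : Module.Flat A (cok E (-(d : ℤ) - 1) (-(d : ℤ))) :=
    flat_cok_restrict (E.d (-(d : ℤ) - 1) (-(d : ℤ))) hcokA
  -- the fibres are projective
  have hfib : ∀ (p : Ideal A) [p.IsPrime], Module.Projective (B ⊗[A] p.ResidueField)
      ((B ⊗[A] p.ResidueField) ⊗[B] cok E (-(d : ℤ) - 1) (-(d : ℤ))) := by
    intro p _
    obtain ⟨hexG, ⟨eG⟩⟩ := baseChange_resolution (A := A) (κ := p.ResidueField)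
      (C := B ⊗[A] p.ResidueField) M E hE0 hEflat e
    have hGproj : ∀ i, Module.Projective (B ⊗[A] p.ResidueField)
        ((bcCx (B ⊗[A] p.ResidueField) E).X i) := fun i => by
      haveI := hEproj i
      exact projective_extM (B := B ⊗[A] p.ResidueField) (E.X i)
    haveI := h p
    have h3 : HasProjectiveDimensionLT (ModuleCat.of (B ⊗[A] p.ResidueField)
        (cok (bcCx (B ⊗[A] p.ResidueField) E) (-1) 0)) (d + 1) :=
      hasProjectiveDimensionLT_of_iso eG.symm.toModuleIso (d + 1)
    have h4 := pd_cok_iter_down (bcCx (B ⊗[A] p.ResidueField) E) hGproj hexG d 0 le_rfl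
      (by simpa using h3) (-(d : ℤ)) (by omega)
    haveI : Projective (ModuleCat.of (B ⊗[A] p.ResidueField)
        (cok (bcCx (B ⊗[A] p.ResidueField) E) (-(d : ℤ) - 1) (-(d : ℤ)))) := by
      haveI := h4
      infer_instance
    haveI : Module.Projective (B ⊗[A] p.ResidueField)
        (cok (bcCx (B ⊗[A] p.ResidueField) E) (-(d : ℤ) - 1) (-(d : ℤ))) :=
      (IsProjective.iff_projective _).mpr inferInstance
    exact Module.Projective.of_equiv
      (cokExtMEquiv (B := B ⊗[A] p.ResidueField) E (-(d : ℤ) - 1) (-(d : ℤ)))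
  haveI : Module.Flat B (cok E (-(d : ℤ) - 1) (-(d : ℤ))) :=
    Groth.Agent.Lib.Helper8.FibreFree.flat_of_fibrewise_projective A B _ hfib
  haveI : Module.Projective B (cok E (-(d : ℤ) - 1) (-(d : ℤ))) :=
    Module.Flat.projective_of_finitePresentation
  have hbase : HasProjectiveDimensionLT (ModuleCat.of B (cok E (-(d : ℤ) - 1) (-(d : ℤ)))) 1 := by
    haveI : Projective (ModuleCat.of B (cok E (-(d : ℤ) - 1) (-(d : ℤ)))) := by
      rw [← IsProjective.iff_projective]
      infer_instance
    infer_instance
  have h1 := pd_cok_iter E hEproj hex d (-(d : ℤ)) (by omega) hbase 0 (by omega)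
  have h2 : HasProjectiveDimensionLT (ModuleCat.of B (cok E (-1) 0)) (d + 1) := by
    simpa using h1
  exact hasProjectiveDimensionLT_of_iso eM (d + 1)

omit [Module.Flat A B] [Algebra.FinitePresentation A B] [Module A M] [IsScalarTower A B M]
  [Module.FinitePresentation B M] [Module.Flat A M] in
/-- if all the fibres of a finite module vanish, the module vanishes -/
theorem subsingleton_of_fibres [Module.Finite B M]
    (h : ∀ (p : Ideal A) [p.IsPrime], Subsingleton ((B ⊗[A] p.ResidueField) ⊗[B] M)) :
    Subsingleton M := by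
  rw [← Module.support_eq_empty_iff (R := B), Set.eq_empty_iff_forall_notMem]
  intro q hq
  rw [Module.mem_support_iff_nontrivial_residueField_tensorProduct] at hq
  let p : Ideal A := q.asIdeal.comap (algebraMap A B)
  haveI : p.IsPrime := Ideal.comap_isPrime _ _
  haveI := h p
  have h1 : p ≤ RingHom.ker (algebraMap A q.asIdeal.ResidueField) := by
    intro a ha
    rw [RingHom.mem_ker, IsScalarTower.algebraMap_apply A B q.asIdeal.ResidueField,
      Ideal.algebraMap_residueField_eq_zero]
    exact ha
  have h2 : ∀ a ∉ p, IsUnit (algebraMap A q.asIdeal.ResidueField a) := by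
    intro a ha
    rw [isUnit_iff_ne_zero]
    intro h0
    rw [IsScalarTower.algebraMap_apply A B q.asIdeal.ResidueField,
      Ideal.algebraMap_residueField_eq_zero] at h0
    exact ha h0
  let g : p.ResidueField →ₐ[A] q.asIdeal.ResidueField :=
    Ideal.ResidueField.liftₐ p (Algebra.ofId A q.asIdeal.ResidueField) h1 (fun a ha => h2 a ha)
  let Φ : B ⊗[A] p.ResidueField →ₐ[A] q.asIdeal.ResidueField :=
    Algebra.TensorProduct.productMap (IsScalarTower.toAlgHom A B q.asIdeal.ResidueField) g
  letI : Algebra (B ⊗[A] p.ResidueField) q.asIdeal.ResidueField := Φ.toRingHom.toAlgebra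
  haveI : IsScalarTower B (B ⊗[A] p.ResidueField) q.asIdeal.ResidueField :=
    IsScalarTower.of_algebraMap_eq (fun b => by
      change algebraMap B q.asIdeal.ResidueField b = Φ (algebraMap B _ b)
      rw [Algebra.TensorProduct.algebraMap_apply]
      simp [Φ])
  let e := TensorProduct.AlgebraTensorModule.cancelBaseChange B (B ⊗[A] p.ResidueField)
    q.asIdeal.ResidueField q.asIdeal.ResidueField M
  haveI : Subsingleton (q.asIdeal.ResidueField ⊗[B ⊗[A] p.ResidueField]
      ((B ⊗[A] p.ResidueField) ⊗[B] M)) :=
    ⟨fun x y => by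
      have h0 : ∀ z : q.asIdeal.ResidueField ⊗[B ⊗[A] p.ResidueField]
          ((B ⊗[A] p.ResidueField) ⊗[B] M), z = 0 := by
        intro z
        induction z with
        | zero => rfl
        | tmul a b => rw [Subsingleton.elim b 0, TensorProduct.tmul_zero]
        | add a b ha hb => rw [ha, hb, add_zero]
      rw [h0 x, h0 y]⟩
  exact not_subsingleton _ e.symm.toEquiv.subsingleton

end fibres

end Groth.Agent.Lib.Helper25.PCFlatFP
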