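import Mathlib
import Groth.Agent.Lib.Helper25.PdFibreFlatFP
import Groth.Agent.Lib.Helper14.FibreFree
import Groth.Agent.Lib.Helper18.DRFib2

/-!
# Projective dimension of fibre stalk modules via free loci of syzygies (helper25)

* `flat_baseChange_of_flat`: `B' ⊗_B X` is `A`-flat for `X` an `A`-flat `B`-module and `B'` flat over `B`.
* `free_of_flat_of_projective_fibre`: (generalisation of helper14 `FibreFree.free_of_flat_of_flat_fibre`
  to an arbitrary base `A` and ideal `I` with `I B ⊆ 𝔪_B`): `N` f.p. over the local ring `B`, `A`-flat,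
  `N/IN` projective over `B/IB` ⟹ `N` free.
* `fibre_pd_lt_iff_free`: for a finite free resolution `E` of an `A`-flat `B`-module `M` (`B` flat
  over `A`) and a flat local `B`-algebra `B'` with `p B' ⊆ 𝔪_{B'}`:
  `pd_{B'/pB'} (B'/pB' ⊗_B M) ≤ d ↔ B' ⊗_B (d-th syzygy of E)` is free.
* `subsingleton_fibre_iff`: the fibre stalk module vanishes iff the point is outside the support.
-/

set_option autoImplicit false
set_option linter.style.haveILetI false
universe u
open CategoryTheory CategoryTheory.Limits DerivedCategory TensorProduct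

attribute [local instance] HasDerivedCategory.standard

namespace Groth.Agent.Lib.Helper25.FibrePdUSC

open Groth.Agent.Lib.Helper18.DR Groth.Agent.Lib.Helper25.PCFlatFP

section flatBC

variable {A B : Type u} [CommRing A] [CommRing B] [Algebra A B]
  (B' : Type u) [CommRing B'] [Algebra B B'] [Algebra A B'] [IsScalarTower A B B']
  [Module.Flat B B']
  (X : Type u) [AddCommGroup X] [Module B X] [Module A X] [IsScalarTower A B X] [Module.Flat A X]

/-- flat base change (over `B`) of an `A`-flat `B`-module is `A`-flat -/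
theorem flat_baseChange_of_flat : Module.Flat A (B' ⊗[B] X) := by
  rw [Module.Flat.iff_lTensor_injectiveₛ]
  intro P _ _ N
  have h1 : Function.Injective (AlgebraTensorModule.lTensor B X N.subtype) := by
    rw [AlgebraTensorModule.coe_lTensor]
    exact Module.Flat.lTensor_preserves_injective_linearMap _ N.subtype_injective
  have h2 : Function.Injective ((AlgebraTensorModule.lTensor B X N.subtype).lTensor B') :=
    Module.Flat.lTensor_preserves_injective_linearMap _ h1
  have hsq : ∀ z : (B' ⊗[B] X) ⊗[A] N,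
      (AlgebraTensorModule.assoc A B B' B' X P) ((N.subtype.lTensor (B' ⊗[B] X)) z) =
        ((AlgebraTensorModule.lTensor B X N.subtype).lTensor B')
          ((AlgebraTensorModule.assoc A B B' B' X N) z) := by
    intro z
    induction z using TensorProduct.induction_on with
    | zero => simp only [map_zero]
    | tmul q n =>
      induction q using TensorProduct.induction_on with
      | zero => simp only [zero_tmul, map_zero]
      | tmul b x => rfl
      | add q₁ q₂ h₁ h₂ => simp only [add_tmul, map_add, h₁, h₂]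
    | add z₁ z₂ h₁ h₂ => simp only [map_add, h₁, h₂]
  intro z₁ z₂ hz
  apply (AlgebraTensorModule.assoc A B B' B' X N).injective
  apply h2
  rw [← hsq, ← hsq, hz]

end flatBC

section Local

variable {A B N : Type u} [CommRing A] [CommRing B] [IsLocalRing B] [Algebra A B]
  [AddCommGroup N] [Module A N] [Module B N] [IsScalarTower A B N]

open Groth.Agent.Lib.Helper14.FibreFree in
/-- **freeness from flatness over the base and projectivity of the fibre** (helper14's
`free_of_flat_of_flat_fibre` for an arbitrary ideal `I` of the base with `I B ⊆ 𝔪_B`). -/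
theorem free_of_flat_of_projective_fibre (I : Ideal A)
    (hI : I.map (algebraMap A B) ≤ IsLocalRing.maximalIdeal B)
    [Module.FinitePresentation B N] [Module.Flat A N]
    (h2 : Module.Projective (B ⧸ I.map (algebraMap A B)) ((B ⧸ I.map (algebraMap A B)) ⊗[B] N)) :
    Module.Free B N := by
  classical
  set 𝔞 : Ideal B := I.map (algebraMap A B) with h𝔞def
  have h𝔞 : 𝔞 ≤ IsLocalRing.maximalIdeal B := hI
  have hjac : 𝔞 ≤ Ideal.jacobson ⊥ := by
    rw [IsLocalRing.jacobson_eq_maximalIdeal ⊥ bot_ne_top]; exact h𝔞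
  have hne : 𝔞 ≠ ⊤ := fun h => (IsLocalRing.maximalIdeal.isMaximal B).ne_top (top_le_iff.1 (h ▸ h𝔞))
  haveI : Nontrivial (B ⧸ 𝔞) := Ideal.Quotient.nontrivial_iff.2 hne
  haveI : IsLocalRing (B ⧸ 𝔞) :=
    IsLocalRing.of_surjective' (Ideal.Quotient.mk 𝔞) Ideal.Quotient.mk_surjective
  have e : (B ⧸ 𝔞) ⊗[B] N ≃ₗ[B ⧸ 𝔞] N ⧸ 𝔞 • (⊤ : Submodule B N) :=
    (TensorProduct.quotTensorEquivQuotSMul N 𝔞).extendScalarsOfSurjective
      (Ideal.Quotient.mk_surjective (I := 𝔞))
  haveI : Module.FinitePresentation (B ⧸ 𝔞) (N ⧸ 𝔞 • (⊤ : Submodule B N)) :=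
    Module.FinitePresentation.of_equiv e
  haveI : Module.Projective (B ⧸ 𝔞) (N ⧸ 𝔞 • (⊤ : Submodule B N)) := Module.Projective.of_equiv e
  haveI : Module.Free (B ⧸ 𝔞) (N ⧸ 𝔞 • (⊤ : Submodule B N)) := Module.free_of_flat_of_isLocalRing
  let bb := Module.finBasis (B ⧸ 𝔞) (N ⧸ 𝔞 • (⊤ : Submodule B N))
  set r := Module.finrank (B ⧸ 𝔞) (N ⧸ 𝔞 • (⊤ : Submodule B N)) with hr
  choose n hn using fun i : Fin r => Submodule.mkQ_surjective (𝔞 • (⊤ : Submodule B N)) (bb i)
  let ψ : (Fin r → B) →ₗ[B] N := Fintype.linearCombination B n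
  have hψ : ∀ k : Fin r → B, ψ k = ∑ i, k i • n i := fun k => Fintype.linearCombination_apply B n k
  have hmk : ∀ k : Fin r → B, Submodule.mkQ (𝔞 • (⊤ : Submodule B N)) (ψ k) =
      ∑ i, Ideal.Quotient.mk 𝔞 (k i) • bb i := by
    intro k
    rw [hψ, map_sum]
    refine Finset.sum_congr rfl (fun i _ => ?_)
    rw [map_smul, hn i]
    rfl
  -- surjectivity (Nakayama)
  have hsurj : Function.Surjective ψ := by
    rw [← LinearMap.range_eq_top, eq_top_iff]
    refine Submodule.le_of_le_smul_of_le_jacobson_bot (Module.Finite.fg_top) hjac ?_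
    intro y _
    obtain ⟨c, hc⟩ : ∃ c : Fin r → B, ∀ i, Ideal.Quotient.mk 𝔞 (c i) =
        bb.repr (Submodule.mkQ (𝔞 • (⊤ : Submodule B N)) y) i := by
      choose c hc using fun i => Ideal.Quotient.mk_surjective (I := 𝔞)
        (bb.repr (Submodule.mkQ (𝔞 • (⊤ : Submodule B N)) y) i)
      exact ⟨c, hc⟩
    have h1 : Submodule.mkQ (𝔞 • (⊤ : Submodule B N)) (y - ψ c) = 0 := by
      rw [map_sub, hmk, sub_eq_zero]
      conv_lhs => rw [← bb.sum_repr (Submodule.mkQ (𝔞 • (⊤ : Submodule B N)) y)]
      refine Finset.sum_congr rfl (fun i _ => ?_)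
      rw [hc i]
    have h2' : y - ψ c ∈ 𝔞 • (⊤ : Submodule B N) := by
      rwa [Submodule.mkQ_apply, Submodule.Quotient.mk_eq_zero] at h1
    have : y = ψ c + (y - ψ c) := by abel
    rw [this]
    exact Submodule.add_mem_sup (LinearMap.mem_range_self ψ c) h2'
  -- the kernel
  have hKfg : (LinearMap.ker ψ).FG := Module.FinitePresentation.fg_ker ψ hsurj
  have hK : LinearMap.ker ψ ≤ 𝔞 • LinearMap.ker ψ := by
    intro k hk
    have hk0 : ∑ i, Ideal.Quotient.mk 𝔞 (k i) • bb i = 0 := by
      rw [← hmk, (LinearMap.mem_ker.1 hk), map_zero]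
    have hki : ∀ i, k i ∈ 𝔞 := by
      intro i
      have := Fintype.linearIndependent_iff.1 bb.linearIndependent _ hk0 i
      exact Ideal.Quotient.eq_zero_iff_mem.1 this
    have hk𝔞 : k ∈ 𝔞 • (⊤ : Submodule B (Fin r → B)) := by
      have hsum : k = ∑ i, k i • (Pi.single i 1 : Fin r → B) := by
        ext j
        simp [Finset.sum_apply, Pi.single_apply]
      rw [hsum]
      exact Submodule.sum_mem _ (fun i _ => Submodule.smul_mem_smul (hki i) Submodule.mem_top)
    exact mem_smul_ker_of_flat ψ hsurj I hk hk𝔞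
  have hKbot : LinearMap.ker ψ = ⊥ :=
    Submodule.eq_bot_of_le_smul_of_le_jacobson_bot 𝔞 _ hKfg hK hjac
  exact Module.Free.of_equiv (LinearEquiv.ofBijective ψ ⟨LinearMap.ker_eq_bot.1 hKbot, hsurj⟩)

end Local

section KL

variable {A B : Type u} [CommRing A] [CommRing B] [Algebra A B] [Module.Flat A B]
  (M : Type u) [AddCommGroup M] [Module B M] [Module A M] [IsScalarTower A B M] [Module.Flat A M]
  (E : DRing.Cx B) (hE0 : DRing.VanishesAbove E 0) (hEff : DRing.TermwiseFiniteFree E)
  (e : DRing.toD E ≅ Dual.inD B M)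
  (B' : Type u) [CommRing B'] [IsLocalRing B'] [Algebra B B'] [Algebra A B'] [IsScalarTower A B B']
  [Module.Flat B B'] (p : Ideal A)
  (hp : p.map (algebraMap A B') ≤ IsLocalRing.maximalIdeal B') (d : ℕ)

local notation "C'" => (B' ⧸ Ideal.map (algebraMap A B') p)

include hE0 hEff hp e in
/-- **Key lemma**: the fibre stalk module has projective dimension `≤ d` iff the localised `d`-th
syzygy of a global finite free resolution is free. -/
theorem fibre_pd_lt_iff_free :
    HasProjectiveDimensionLT (ModuleCat.of C' (C' ⊗[B] M)) (d + 1) ↔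
    Module.Free B' (B' ⊗[B] cok E (-(d : ℤ) - 1) (-(d : ℤ))) := by
  haveI : Module.Flat A B' := Module.Flat.trans A B B'
  haveI hpush : Algebra.IsPushout A (A ⧸ p) B' C' := isPushout_quotient (B := B') p
  have hEflat : DRing.TermwiseFlat E := fun i => by
    haveI := (hEff i).2
    infer_instance
  have hEproj : ∀ i, Module.Projective B (E.X i) := fun i => by
    haveI := (hEff i).2
    infer_instance
  have hEP0 : DRing.VanishesAbove (bcCx B' E) 0 := vanishesAbove_mapCx extM E 0 hE0
  have hEPflat : DRing.TermwiseFlat (bcCx B' E) := fun i => by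
    haveI := hEflat i
    exact flat_extM (B := B') (E.X i)
  have hEPproj : ∀ i, Module.Projective B' ((bcCx B' E).X i) := fun i => by
    haveI := hEproj i
    exact projective_extM (B := B') (E.X i)
  haveI : Module.Flat A (B' ⊗[B] M) := flat_baseChange_of_flat B' M
  let eP : DRing.toD (bcCx B' E) ≅ Dual.inD B' (B' ⊗[B] M) :=
    (mapDToDIso (extM (A := B) (B := B')) E).symm ≪≫ (extD B B').mapIso e ≪≫
      extDInDIso (B := B') M
  obtain ⟨hexG, ⟨eG⟩⟩ := baseChange_resolution (A := A) (κ := A ⧸ p) (C := C')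
    (B' ⊗[B] M) (bcCx B' E) hEP0 hEPflat eP
  have hGproj : ∀ i, Module.Projective C' ((bcCx C' (bcCx B' E)).X i) := fun i => by
    haveI := hEPproj i
    exact projective_extM (B := C') ((bcCx B' E).X i)
  -- the syzygy
  haveI : Module.FinitePresentation B (cok E (-(d : ℤ) - 1) (-(d : ℤ))) := by
    haveI := (hEff (-(d : ℤ))).1
    haveI := (hEff (-(d : ℤ))).2
    haveI := (hEff (-(d : ℤ) - 1)).1
    refine Module.finitePresentation_of_free_of_surjective
      (LinearMap.range (E.d (-(d : ℤ) - 1) (-(d : ℤ))).hom).mkQ (Submodule.mkQ_surjective _) ?_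
    rw [Submodule.ker_mkQ, ← Module.Finite.iff_fg]
    exact Module.Finite.range _
  letI mA : Module A (cok E (-(d : ℤ) - 1) (-(d : ℤ))) :=
    Module.compHom (cok E (-(d : ℤ) - 1) (-(d : ℤ))) (algebraMap A B)
  haveI tow : IsScalarTower A B (cok E (-(d : ℤ) - 1) (-(d : ℤ))) :=
    ⟨fun r s x => by
      change (r • s) • x = (algebraMap A B r) • (s • x)
      rw [Algebra.smul_def, mul_smul]⟩
  have hTA := hasTorAmplitudeIn_restrict_resolution (A := A) M E e
  have hK0 : DRing.VanishesAbove
      (((ModuleCat.restrictScalars.{u} (algebraMap A B)).mapHomologicalComplex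
        (ComplexShape.up ℤ)).obj E) 0 :=
    vanishesAbove_mapHC (ModuleCat.restrictScalars.{u} (algebraMap A B)) E 0 hE0
  have hKflat : DRing.TermwiseFlat
      (((ModuleCat.restrictScalars.{u} (algebraMap A B)).mapHomologicalComplex
        (ComplexShape.up ℤ)).obj E) := fun i => by
    haveI := hEflat i
    exact flat_restrictScalars (E.X i)
  have hTA' : DRing.HasTorAmplitudeIn A 0 0 (DRing.toD
      (((ModuleCat.restrictScalars.{u} (algebraMap A B)).mapHomologicalComplex
        (ComplexShape.up ℤ)).obj E)) :=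
    hasTorAmplitudeIn_of_iso
      ((ModuleCat.restrictScalars.{u} (algebraMap A B)).mapDerivedCategoryFactors.app E) hTA
  have hcokA := flat_cok_of_flat_of_hasTorAmplitudeIn _ 0 hK0 hKflat (-(d : ℤ)) 0
    (hasTorAmplitudeIn_mono hTA' (by omega) le_rfl)
  haveI : Module.Flat A (cok E (-(d : ℤ) - 1) (-(d : ℤ))) :=
    flat_cok_restrict (E.d (-(d : ℤ) - 1) (-(d : ℤ))) hcokA
  haveI : Module.Flat A (B' ⊗[B] cok E (-(d : ℤ) - 1) (-(d : ℤ))) :=
    flat_baseChange_of_flat B' _
  let eZ : cok (bcCx C' (bcCx B' E)) (-(d : ℤ) - 1) (-(d : ℤ)) ≃ₗ[C']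
      C' ⊗[B'] (B' ⊗[B] cok E (-(d : ℤ) - 1) (-(d : ℤ))) :=
    (cokExtMEquiv (B := C') (bcCx B' E) (-(d : ℤ) - 1) (-(d : ℤ))).trans
      (TensorProduct.AlgebraTensorModule.congr (LinearEquiv.refl C' C')
        (cokExtMEquiv (B := B') E (-(d : ℤ) - 1) (-(d : ℤ))))
  let eM : cok (bcCx C' (bcCx B' E)) (-1) 0 ≃ₗ[C'] C' ⊗[B] M :=
    eG.trans (TensorProduct.AlgebraTensorModule.cancelBaseChange B B' C' C' M)
  constructor
  · intro h
    haveI := h
    have h1 : HasProjectiveDimensionLT
        (ModuleCat.of C' (cok (bcCx C' (bcCx B' E)) (-1) 0)) (d + 1) :=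
      hasProjectiveDimensionLT_of_iso eM.symm.toModuleIso (d + 1)
    have h2 := pd_cok_iter_down (bcCx C' (bcCx B' E)) hGproj hexG d 0 le_rfl
      (by simpa using h1) (-(d : ℤ)) (by omega)
    haveI : Projective (ModuleCat.of C'
        (cok (bcCx C' (bcCx B' E)) (-(d : ℤ) - 1) (-(d : ℤ)))) := by
      haveI := h2
      infer_instance
    haveI : Module.Projective C' (cok (bcCx C' (bcCx B' E)) (-(d : ℤ) - 1) (-(d : ℤ))) :=
      (IsProjective.iff_projective _).mpr inferInstance
    have hproj' : Module.Projective C'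
        (C' ⊗[B'] (B' ⊗[B] cok E (-(d : ℤ) - 1) (-(d : ℤ)))) :=
      Module.Projective.of_equiv eZ
    exact free_of_flat_of_projective_fibre p hp hproj'
  · intro hfree
    haveI := hfree
    haveI : Module.Projective C' (cok (bcCx C' (bcCx B' E)) (-(d : ℤ) - 1) (-(d : ℤ))) :=
      Module.Projective.of_equiv eZ.symm
    have hbase : HasProjectiveDimensionLT (ModuleCat.of C'
        (cok (bcCx C' (bcCx B' E)) (-(d : ℤ) - 1) (-(d : ℤ)))) 1 := by
      haveI : Projective (ModuleCat.of C'
          (cok (bcCx C' (bcCx B' E)) (-(d : ℤ) - 1) (-(d : ℤ)))) := by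
        rw [← IsProjective.iff_projective]
        infer_instance
      infer_instance
    have h1 := pd_cok_iter (bcCx C' (bcCx B' E)) hGproj hexG d (-(d : ℤ)) (by omega) hbase 0
      (by omega)
    have h2 : HasProjectiveDimensionLT
        (ModuleCat.of C' (cok (bcCx C' (bcCx B' E)) (-1) 0)) (d + 1) := by
      simpa using h1
    haveI := h2
    exact hasProjectiveDimensionLT_of_iso eM.toModuleIso (d + 1)

end KL

section supp

variable {A B : Type u} [CommRing A] [CommRing B] [Algebra A B]

/-- the ideal generated by the prime of `A` below `P` lies in the maximal ideal of `B_P` -/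
theorem map_under_le (P : PrimeSpectrum B) :
    (P.asIdeal.under A).map (algebraMap A (Localization.AtPrime P.asIdeal)) ≤
      IsLocalRing.maximalIdeal (Localization.AtPrime P.asIdeal) := by
  rw [Ideal.map_le_iff_le_comap]
  intro a ha
  rw [Ideal.mem_comap, IsScalarTower.algebraMap_apply A B (Localization.AtPrime P.asIdeal)]
  exact (IsLocalization.AtPrime.to_map_mem_maximal_iff (Localization.AtPrime P.asIdeal)
    P.asIdeal _).mpr ha

/-- the fibre stalk module at `P` vanishes iff `P` is not in the support -/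
theorem subsingleton_fibre_iff (M : Type u) [AddCommGroup M] [Module B M] [Module.Finite B M]
    (P : PrimeSpectrum B) :
    Subsingleton ((Localization.AtPrime P.asIdeal ⧸
      (P.asIdeal.under A).map (algebraMap A (Localization.AtPrime P.asIdeal))) ⊗[B] M) ↔
      P ∉ Module.support B M := by
  have hle := map_under_le (A := A) P
  constructor
  · intro h
    rw [Module.mem_support_iff_nontrivial_residueField_tensorProduct,
      not_nontrivial_iff_subsingleton]
    let π : (Localization.AtPrime P.asIdeal ⧸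
        (P.asIdeal.under A).map (algebraMap A (Localization.AtPrime P.asIdeal))) →ₗ[B]
        (Localization.AtPrime P.asIdeal ⧸
          IsLocalRing.maximalIdeal (Localization.AtPrime P.asIdeal)) :=
      (Ideal.Quotient.factorₐ B hle).toLinearMap
    have hπ : Function.Surjective π := Ideal.Quotient.factor_surjective hle
    have hs : Subsingleton ((Localization.AtPrime P.asIdeal ⧸
          IsLocalRing.maximalIdeal (Localization.AtPrime P.asIdeal)) ⊗[B] M) :=
      (LinearMap.rTensor_surjective M hπ).subsingleton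
    exact hs
  · intro h
    rw [Module.notMem_support_iff] at h
    haveI : Subsingleton (Localization.AtPrime P.asIdeal ⊗[B] M) :=
      (LocalizedModule.equivTensorProduct P.asIdeal.primeCompl M).symm.toEquiv.subsingleton
    have h0 : ∀ z : (Localization.AtPrime P.asIdeal ⧸
        (P.asIdeal.under A).map (algebraMap A (Localization.AtPrime P.asIdeal)))
          ⊗[Localization.AtPrime P.asIdeal] (Localization.AtPrime P.asIdeal ⊗[B] M), z = 0 := by
      intro z
      induction z using TensorProduct.induction_on with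
      | zero => rfl
      | tmul c y => rw [Subsingleton.elim y 0, TensorProduct.tmul_zero]
      | add x y hx hy => rw [hx, hy, add_zero]
    haveI : Subsingleton ((Localization.AtPrime P.asIdeal ⧸
        (P.asIdeal.under A).map (algebraMap A (Localization.AtPrime P.asIdeal)))
          ⊗[Localization.AtPrime P.asIdeal] (Localization.AtPrime P.asIdeal ⊗[B] M)) :=
      ⟨fun a b => by rw [h0 a, h0 b]⟩
    exact (TensorProduct.AlgebraTensorModule.cancelBaseChange B (Localization.AtPrime P.asIdeal)
      (Localization.AtPrime P.asIdeal ⧸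
        (P.asIdeal.under A).map (algebraMap A (Localization.AtPrime P.asIdeal)))
      (Localization.AtPrime P.asIdeal ⧸
        (P.asIdeal.under A).map (algebraMap A (Localization.AtPrime P.asIdeal)))
      M).symm.toEquiv.subsingleton

end supp

end Groth.Agent.Lib.Helper25.FibrePdUSC
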