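import Mathlib
import Groth.Agent.Lib.Helper13.LocalPoints

/-!
# Points of schemes with values in finite algebras over complete local rings (helper25)

* `local_points`: for a local ring `R`, complete for an ideal `J` whose only prime overideal is the
  maximal ideal, `Hom(Spec R, X) = lim Hom(Spec R/J^n, X)` (generalisation of S8384).
* `pi_hom_ext`, `pi_exists`: `Spec` of a finite product is the coproduct.
* `quot_bijective`: quotient of a finite product decomposition.
* `abs_points`: `Hom(Spec B, X) = lim Hom(Spec B/𝔪^n B, X)` when `B` is a finite product of such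
  local rings.
-/

set_option autoImplicit false
set_option linter.style.haveILetI false
universe u
open CategoryTheory AlgebraicGeometry Limits

namespace Groth.Agent.Lib.Helper25.FinComplPts

theorem local_points (R : Type u) [CommRing R] [IsLocalRing R] (J : Ideal R)
    [IsAdicComplete J R]
    (hJ : ∀ q : Ideal R, q.IsPrime → J ≤ q → q = IsLocalRing.maximalIdeal R)
    (X : Scheme.{u}) :
    (∀ f g : Spec (CommRingCat.of R) ⟶ X,
      (∀ n : ℕ, Spec.map (CommRingCat.ofHom (Ideal.Quotient.mk (J ^ n))) ≫ f =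
        Spec.map (CommRingCat.ofHom (Ideal.Quotient.mk (J ^ n))) ≫ g) → f = g) ∧
    (∀ u : (n : ℕ) → (Spec (CommRingCat.of (R ⧸ J ^ n)) ⟶ X),
      (∀ n : ℕ, Spec.map (CommRingCat.ofHom (Ideal.Quotient.factor
          (Ideal.pow_le_pow_right (I := J) (Nat.le_succ n)))) ≫ u (n + 1) = u n) →
      ∃ f : Spec (CommRingCat.of R) ⟶ X, ∀ n : ℕ,
        Spec.map (CommRingCat.ofHom (Ideal.Quotient.mk (J ^ n))) ≫ f = u n) := by
  have hJm : J ≤ IsLocalRing.maximalIdeal R :=
    (IsAdicComplete.le_jacobson_bot J).trans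
      (IsLocalRing.jacobson_eq_maximalIdeal ⊥ bot_ne_top).le
  have hJtop : J ≠ ⊤ := fun h =>
    (IsLocalRing.maximalIdeal.isMaximal R).ne_top (top_le_iff.mp (h ▸ hJm))
  have hcp : ∀ (n : ℕ) (y : PrimeSpectrum (R ⧸ J ^ n)),
      PrimeSpectrum.comap (Ideal.Quotient.mk (J ^ n)) y = IsLocalRing.closedPoint R := by
    intro n y
    apply PrimeSpectrum.ext
    have h1 : J ^ n ≤ (PrimeSpectrum.comap (Ideal.Quotient.mk (J ^ n)) y).asIdeal := by
      intro a ha
      change Ideal.Quotient.mk _ a ∈ y.asIdeal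
      rw [Ideal.Quotient.eq_zero_iff_mem.mpr ha]
      exact zero_mem _
    exact hJ _ (PrimeSpectrum.comap _ y).2 ((PrimeSpectrum.comap _ y).2.le_of_pow_le h1)
  have hne : Nontrivial (R ⧸ J ^ 1) := by
    rw [pow_one]
    exact Ideal.Quotient.nontrivial_iff.mpr hJtop
  obtain ⟨y₁⟩ : Nonempty (PrimeSpectrum (R ⧸ J ^ 1)) := inferInstance
  have hq1 : (Spec.map (CommRingCat.ofHom (Ideal.Quotient.mk (J ^ 1)))) y₁ =
      IsLocalRing.closedPoint R := hcp 1 y₁
  have hrange : ∀ (f : Spec (CommRingCat.of R) ⟶ X) (U : X.Opens),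
      f (IsLocalRing.closedPoint R) ∈ U → Set.range f ⊆ (U : Set X) := by
    intro f U hx
    have htop : f ⁻¹ᵁ U = ⊤ := (IsLocalRing.closedPoint_mem_iff (f ⁻¹ᵁ U)).mp hx
    rintro _ ⟨y, rfl⟩
    have : y ∈ f ⁻¹ᵁ U := by rw [htop]; trivial
    exact this
  constructor
  · intro f g h
    have hfg : f (IsLocalRing.closedPoint R) = g (IsLocalRing.closedPoint R) := by
      rw [← hq1, ← Scheme.Hom.comp_apply, ← Scheme.Hom.comp_apply, h 1]
    obtain ⟨_, ⟨U, hU, rfl⟩, hxU, -⟩ := X.isBasis_affineOpens.exists_subset_of_mem_open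
      (Set.mem_univ (f (IsLocalRing.closedPoint R))) isOpen_univ
    change X.Opens at U
    change IsAffineOpen U at hU
    obtain ⟨φ, hφ⟩ := Lib.Helper13.exists_specMap_comp_fromSpec f U hU (hrange f U hxU)
    obtain ⟨ψ, hψ⟩ := Lib.Helper13.exists_specMap_comp_fromSpec g U hU
      (hrange g U (by rw [← hfg]; exact hxU))
    have hφψ : φ = ψ := by
      apply CommRingCat.hom_ext
      apply DFunLike.coe_injective
      apply IsHausdorff.funext' J
      intro n b
      have h1 := h n
      rw [hφ, hψ, ← Category.assoc, ← Category.assoc, ← Spec.map_comp, ← Spec.map_comp] at h1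
      have h2 := Lib.Helper13.specMap_comp_fromSpec_injective U hU _ _ h1
      exact congrArg (fun t => t.hom b) h2
    rw [hφ, hψ, hφψ]
  · intro u hu
    have hu' : ∀ (k n : ℕ) (hkn : k ≤ n), Spec.map (CommRingCat.ofHom (Ideal.Quotient.factor
        (Ideal.pow_le_pow_right (I := J) hkn))) ≫ u n = u k := by
      intro k n hkn
      induction n, hkn using Nat.le_induction with
      | base =>
        have : Ideal.Quotient.factor (Ideal.pow_le_pow_right (I := J)
            (le_refl k)) = RingHom.id _ := by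
          ext x; simp
        rw [this, CommRingCat.ofHom_id]
        erw [Spec.map_id]
        exact Category.id_comp _
      | succ n hkn ih =>
        rw [← ih, ← hu n, ← Category.assoc, ← Spec.map_comp, ← CommRingCat.ofHom_comp,
          Ideal.Quotient.factor_comp]
    let x : X := u 1 y₁
    obtain ⟨_, ⟨U, hU, rfl⟩, hxU, -⟩ := X.isBasis_affineOpens.exists_subset_of_mem_open
      (Set.mem_univ x) isOpen_univ
    change X.Opens at U
    change IsAffineOpen U at hU
    have hur : ∀ n : ℕ, Set.range (u n) ⊆ (U : Set X) := by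
      intro n
      rintro _ ⟨y, rfl⟩
      have hn : 1 ≤ n := by
        rcases Nat.eq_zero_or_pos n with rfl | hn
        · exfalso
          have : Subsingleton (R ⧸ J ^ 0) := by
            rw [pow_zero, Ideal.one_eq_top]
            exact Ideal.Quotient.subsingleton_iff.mpr rfl
          exact (PrimeSpectrum.isEmpty_iff_subsingleton.mpr this).false y
        · exact hn
      have hy : y = Spec.map (CommRingCat.ofHom (Ideal.Quotient.factor
          (Ideal.pow_le_pow_right (I := J) hn))) y₁ := by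
        apply PrimeSpectrum.comap_injective_of_surjective
          (Ideal.Quotient.mk (J ^ n)) Ideal.Quotient.mk_surjective
        rw [hcp n y]
        change _ = PrimeSpectrum.comap (Ideal.Quotient.mk (J ^ n))
          (PrimeSpectrum.comap (Ideal.Quotient.factor
            (Ideal.pow_le_pow_right (I := J) hn)) y₁)
        rw [← PrimeSpectrum.comap_comp_apply, Ideal.Quotient.factor_comp_mk]
        exact (hcp 1 y₁).symm
      rw [hy, ← Scheme.Hom.comp_apply, hu' 1 n hn]
      exact hxU
    choose φ hφ using fun n => Lib.Helper13.exists_specMap_comp_fromSpec (u n) U hU (hur n)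
    have hcomp : ∀ {k : ℕ}, (Ideal.Quotient.factorPow J
        (strictMono_id.monotone k.le_succ)).comp (φ (k + 1)).hom = (φ k).hom := by
      intro k
      have h1 := hu k
      rw [hφ (k + 1), hφ k, ← Category.assoc, ← Spec.map_comp] at h1
      have h2 := Lib.Helper13.specMap_comp_fromSpec_injective U hU _ _ h1
      exact congrArg (fun t => t.hom) h2
    let Φ : Γ(X, U) →+* R := IsAdicComplete.StrictMono.liftRingHom J
      strictMono_id (fun n => (φ n).hom) hcomp
    have hΦ : ∀ n, (Ideal.Quotient.mk (J ^ n)).comp Φ = (φ n).hom :=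
      fun n => IsAdicComplete.StrictMono.mk_comp_liftRingHom J
        strictMono_id (fun n => (φ n).hom) hcomp
    refine ⟨Spec.map (CommRingCat.ofHom Φ) ≫ hU.fromSpec, fun n => ?_⟩
    rw [← Category.assoc, ← Spec.map_comp, ← CommRingCat.ofHom_comp, hΦ n, hφ n]
    rfl

section Pi
variable {ι : Type u} [Finite ι] {R : ι → Type u} [∀ i, CommRing (R i)] {B : Type u} [CommRing B]
  (p : ∀ i, B →+* R i) (hp : Function.Bijective (RingHom.pi p)) {Y : Scheme.{u}}

include hp

theorem pi_hom_ext (f g : Spec (CommRingCat.of B) ⟶ Y)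
    (h : ∀ i, Spec.map (CommRingCat.ofHom (p i)) ≫ f = Spec.map (CommRingCat.ofHom (p i)) ≫ g) :
    f = g := by
  let e : B ≃+* (∀ i, R i) := RingEquiv.ofBijective (RingHom.pi p) hp
  have he : Spec.map (CommRingCat.ofHom (e.symm : (∀ i, R i) →+* B)) ≫
      Spec.map (CommRingCat.ofHom (e : B →+* (∀ i, R i))) = 𝟙 _ := by
    rw [← Spec.map_comp, ← CommRingCat.ofHom_comp]
    have : (e.symm : (∀ i, R i) →+* B).comp (e : B →+* (∀ i, R i)) = RingHom.id B := by
      ext x; simp
    rw [this, CommRingCat.ofHom_id, Spec.map_id]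
  have hpe : ∀ i, Spec.map (CommRingCat.ofHom (Pi.evalRingHom R i)) ≫
      Spec.map (CommRingCat.ofHom (e : B →+* (∀ i, R i))) =
      Spec.map (CommRingCat.ofHom (p i)) := by
    intro i
    rw [← Spec.map_comp, ← CommRingCat.ofHom_comp]
    have : (Pi.evalRingHom R i).comp (e : B →+* (∀ i, R i)) = p i := by ext x; rfl
    rw [this]
  have key : Spec.map (CommRingCat.ofHom (e : B →+* (∀ i, R i))) ≫ f =
      Spec.map (CommRingCat.ofHom (e : B →+* (∀ i, R i))) ≫ g := by
    refine (cancel_epi (sigmaSpec (fun i => CommRingCat.of (R i)))).mp ?_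
    apply Sigma.hom_ext
    intro i
    rw [ι_sigmaSpec_assoc, ι_sigmaSpec_assoc]
    have := h i
    rw [← hpe i, Category.assoc, Category.assoc] at this
    exact this
  calc f = (Spec.map (CommRingCat.ofHom (e.symm : (∀ i, R i) →+* B)) ≫
      Spec.map (CommRingCat.ofHom (e : B →+* (∀ i, R i)))) ≫ f := by
        rw [he, Category.id_comp]
    _ = g := by rw [Category.assoc, key, ← Category.assoc, he, Category.id_comp]

theorem pi_exists (fi : ∀ i, Spec (CommRingCat.of (R i)) ⟶ Y) :
    ∃ f : Spec (CommRingCat.of B) ⟶ Y,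
      ∀ i, Spec.map (CommRingCat.ofHom (p i)) ≫ f = fi i := by
  let e : B ≃+* (∀ i, R i) := RingEquiv.ofBijective (RingHom.pi p) hp
  have he : Spec.map (CommRingCat.ofHom (e : B →+* (∀ i, R i))) ≫
      Spec.map (CommRingCat.ofHom (e.symm : (∀ i, R i) →+* B)) = 𝟙 _ := by
    rw [← Spec.map_comp, ← CommRingCat.ofHom_comp]
    have : (e : B →+* (∀ i, R i)).comp (e.symm : (∀ i, R i) →+* B) = RingHom.id _ := by
      ext x; simp
    rw [this, CommRingCat.ofHom_id, Spec.map_id]
  have hpe : ∀ i, Spec.map (CommRingCat.ofHom (Pi.evalRingHom R i)) ≫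
      Spec.map (CommRingCat.ofHom (e : B →+* (∀ i, R i))) =
      Spec.map (CommRingCat.ofHom (p i)) := by
    intro i
    rw [← Spec.map_comp, ← CommRingCat.ofHom_comp]
    have : (Pi.evalRingHom R i).comp (e : B →+* (∀ i, R i)) = p i := by ext x; rfl
    rw [this]
  let σ : (∐ fun i => Spec (CommRingCat.of (R i))) ⟶ Spec (CommRingCat.of (∀ i, R i)) :=
    sigmaSpec (fun i => CommRingCat.of (R i))
  haveI : IsIso σ := inferInstanceAs (IsIso (sigmaSpec (fun i => CommRingCat.of (R i))))
  have hσ : ∀ i, Sigma.ι (fun i => Spec (CommRingCat.of (R i))) i ≫ σ =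
      Spec.map (CommRingCat.ofHom (Pi.evalRingHom R i)) :=
    fun i => ι_sigmaSpec (fun i => CommRingCat.of (R i)) i
  refine ⟨Spec.map (CommRingCat.ofHom (e.symm : (∀ i, R i) →+* B)) ≫ inv σ ≫ Sigma.desc fi,
    fun i => ?_⟩
  rw [← hpe i, Category.assoc, ← Category.assoc (Spec.map (CommRingCat.ofHom
    (e : B →+* (∀ i, R i)))), he, Category.id_comp, ← hσ i, Category.assoc,
    IsIso.hom_inv_id_assoc]
  exact Sigma.ι_desc _ _

theorem quot_bijective (I : Ideal B) (K : ∀ i, Ideal (R i)) (hK : ∀ i, K i = I.map (p i))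
    (ρ : ∀ i, B ⧸ I →+* R i ⧸ K i)
    (hρ : ∀ i, (ρ i).comp (Ideal.Quotient.mk I) = (Ideal.Quotient.mk (K i)).comp (p i)) :
    Function.Bijective (RingHom.pi ρ) := by
  classical
  haveI := Fintype.ofFinite ι
  have hρ' : ∀ i b, ρ i (Ideal.Quotient.mk I b) = Ideal.Quotient.mk (K i) (p i b) :=
    fun i b => RingHom.congr_fun (hρ i) b
  have hsurj : ∀ i, Function.Surjective (p i) := by
    intro i r
    obtain ⟨b, hb⟩ := hp.2 (Pi.single i r)
    exact ⟨b, by have := congrFun hb i; simpa using this⟩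
  constructor
  · rw [injective_iff_map_eq_zero]
    intro x hx
    obtain ⟨b, rfl⟩ := Ideal.Quotient.mk_surjective x
    have hb : ∀ i, p i b ∈ I.map (p i) := by
      intro i
      have := congrFun hx i
      rw [RingHom.pi_apply, hρ', Pi.zero_apply, Ideal.Quotient.eq_zero_iff_mem, hK i] at this
      exact this
    choose c hc hcb using fun i => (Ideal.mem_map_iff_of_surjective (p i) (hsurj i)).mp (hb i)
    choose ε hε using fun i => hp.2 (Pi.single i (1 : R i))
    have hsum : b = ∑ i, ε i * c i := by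
      apply hp.1
      funext j
      rw [map_sum, Finset.sum_apply, Finset.sum_eq_single j]
      · rw [map_mul, Pi.mul_apply, hε j, Pi.single_eq_same, one_mul, RingHom.pi_apply,
          RingHom.pi_apply, hcb j]
      · intro i _ hij
        rw [map_mul, Pi.mul_apply, hε i, Pi.single_eq_of_ne hij.symm, zero_mul]
      · intro h; exact absurd (Finset.mem_univ _) h
    rw [Ideal.Quotient.eq_zero_iff_mem, hsum]
    exact I.sum_mem fun i _ => I.mul_mem_left _ (hc i)
  · intro y
    choose r hr using fun i => Ideal.Quotient.mk_surjective (y i)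
    obtain ⟨b, hb⟩ := hp.2 r
    refine ⟨Ideal.Quotient.mk I b, ?_⟩
    funext i
    rw [RingHom.pi_apply, hρ', ← hr i]
    congr 1
    exact congrFun hb i

end Pi

theorem abs_points {A B : Type u} [CommRing A] [CommRing B] [Algebra A B] (𝔪 : Ideal A)
    {ι : Type u} [Finite ι] (R : ι → Type u) [∀ i, CommRing (R i)] [∀ i, IsLocalRing (R i)]
    (p : ∀ i, B →+* R i) (hp : Function.Bijective (RingHom.pi p))
    (J : ∀ i, Ideal (R i)) (hJdef : ∀ i, J i = 𝔪.map ((p i).comp (algebraMap A B)))
    (hc : ∀ i, IsAdicComplete (J i) (R i))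
    (hJ : ∀ i (q : Ideal (R i)), q.IsPrime → J i ≤ q → q = IsLocalRing.maximalIdeal (R i))
    (X : Scheme.{u}) :
    (∀ f g : Spec (CommRingCat.of B) ⟶ X,
      (∀ n : ℕ, Spec.map (CommRingCat.ofHom
          (Ideal.Quotient.mk (Ideal.map (algebraMap A B) (𝔪 ^ n)))) ≫ f =
        Spec.map (CommRingCat.ofHom
          (Ideal.Quotient.mk (Ideal.map (algebraMap A B) (𝔪 ^ n)))) ≫ g) → f = g) ∧
    (∀ u : (n : ℕ) → (Spec (CommRingCat.of (B ⧸ (Ideal.map (algebraMap A B) (𝔪 ^ n)))) ⟶ X),
      (∀ n : ℕ, Spec.map (CommRingCat.ofHom (Ideal.Quotient.factor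
          (Ideal.map_mono (Ideal.pow_le_pow_right (I := 𝔪) (Nat.le_succ n))))) ≫ u (n + 1) =
        u n) →
      ∃ f : Spec (CommRingCat.of B) ⟶ X, ∀ n : ℕ,
        Spec.map (CommRingCat.ofHom
          (Ideal.Quotient.mk (Ideal.map (algebraMap A B) (𝔪 ^ n)))) ≫ f = u n) := by
  have hK : ∀ i n, (J i) ^ n = (Ideal.map (algebraMap A B) (𝔪 ^ n)).map (p i) := by
    intro i n
    rw [hJdef i, Ideal.map_map, ← Ideal.map_pow]
  have hle : ∀ i n, Ideal.map (algebraMap A B) (𝔪 ^ n) ≤ ((J i) ^ n).comap (p i) := by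
    intro i n
    rw [hK i n]
    exact Ideal.le_comap_map
  obtain ⟨ρ, hρmk⟩ : ∃ ρ : ∀ i n, B ⧸ Ideal.map (algebraMap A B) (𝔪 ^ n) →+* R i ⧸ (J i) ^ n,
      ∀ i n, (ρ i n).comp (Ideal.Quotient.mk (Ideal.map (algebraMap A B) (𝔪 ^ n))) =
        (Ideal.Quotient.mk ((J i) ^ n)).comp (p i) :=
    ⟨fun i n => Ideal.quotientMap ((J i) ^ n) (p i) (hle i n),
      fun i n => Ideal.quotientMap_comp_mk _⟩
  have hρ' : ∀ i n b, ρ i n (Ideal.Quotient.mk _ b) = Ideal.Quotient.mk ((J i) ^ n) (p i b) :=
    fun i n b => RingHom.congr_fun (hρmk i n) b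
  have hρbij : ∀ n, Function.Bijective (RingHom.pi fun i => ρ i n) :=
    fun n => quot_bijective p hp _ (fun i => (J i) ^ n) (fun i => hK i n) (fun i => ρ i n)
      (fun i => hρmk i n)
  have hres : ∀ i n, Spec.map (CommRingCat.ofHom (Ideal.Quotient.mk ((J i) ^ n))) ≫
      Spec.map (CommRingCat.ofHom (p i)) =
      Spec.map (CommRingCat.ofHom (ρ i n)) ≫ Spec.map (CommRingCat.ofHom
        (Ideal.Quotient.mk (Ideal.map (algebraMap A B) (𝔪 ^ n)))) := by
    intro i n
    rw [← Spec.map_comp, ← Spec.map_comp, ← CommRingCat.ofHom_comp, ← CommRingCat.ofHom_comp,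
      hρmk i n]
  constructor
  · intro f g h
    apply pi_hom_ext p hp
    intro i
    haveI := hc i
    apply (local_points (R i) (J i) (hJ i) X).1
    intro n
    rw [← Category.assoc, ← Category.assoc, hres i n, Category.assoc, Category.assoc, h n]
  · intro u hu
    have hv : ∀ i n, Spec.map (CommRingCat.ofHom (Ideal.Quotient.factor
          (Ideal.pow_le_pow_right (I := J i) (Nat.le_succ n)))) ≫
        (Spec.map (CommRingCat.ofHom (ρ i (n + 1))) ≫ u (n + 1)) =
        Spec.map (CommRingCat.ofHom (ρ i n)) ≫ u n := by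
      intro i n
      have hcomp : (Ideal.Quotient.factor
          (Ideal.pow_le_pow_right (I := J i) (Nat.le_succ n))).comp (ρ i (n + 1)) =
          (ρ i n).comp (Ideal.Quotient.factor
            (Ideal.map_mono (Ideal.pow_le_pow_right (I := 𝔪) (Nat.le_succ n)))) := by
        apply Ideal.Quotient.ringHom_ext
        ext b
        simp only [RingHom.comp_apply, hρ', Ideal.Quotient.factor_mk]
      rw [← hu n, ← Category.assoc, ← Category.assoc, ← Spec.map_comp, ← Spec.map_comp,
        ← CommRingCat.ofHom_comp, ← CommRingCat.ofHom_comp, hcomp]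
    have hex : ∀ i, ∃ f : Spec (CommRingCat.of (R i)) ⟶ X, ∀ n : ℕ,
        Spec.map (CommRingCat.ofHom (Ideal.Quotient.mk ((J i) ^ n))) ≫ f =
          Spec.map (CommRingCat.ofHom (ρ i n)) ≫ u n := by
      intro i
      haveI := hc i
      exact (local_points (R i) (J i) (hJ i) X).2
        (fun n => Spec.map (CommRingCat.ofHom (ρ i n)) ≫ u n) (hv i)
    choose fi hfi using hex
    obtain ⟨f, hf⟩ := pi_exists p hp fi
    refine ⟨f, fun n => ?_⟩
    apply pi_hom_ext (fun i => ρ i n) (hρbij n)
    intro i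
    rw [← Category.assoc, ← hres i n, Category.assoc, hf i, hfi i n]

end Groth.Agent.Lib.Helper25.FinComplPts
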