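import Mathlib

/-!
# Flat diagonal: a module flat over the base is flat over the algebra

If the multiplication `B ⊗[A] B → B` is flat and `M` is a `B`-module which is flat over `A`,
then `M` is flat over `B`.
-/

set_option autoImplicit false
open TensorProduct

namespace Groth.Agent.Lib.Helper25.FlatDiag

section Act

variable (A : Type*) [CommRing A] (B₁ B₂ : Type*) [CommRing B₁] [CommRing B₂]
  [Algebra A B₁] [Algebra A B₂]
  (M N : Type*) [AddCommGroup M] [AddCommGroup N] [Module A M] [Module A N]
  [Module B₁ M] [Module B₂ N] [IsScalarTower A B₁ M] [IsScalarTower A B₂ N]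

/-- The action of `B₁ ⊗[A] B₂` on `M ⊗[A] N`. -/
noncomputable def act : B₁ ⊗[A] B₂ →ₐ[A] Module.End A (M ⊗[A] N) :=
  Algebra.TensorProduct.lift
    ((Module.End.rTensorAlgHom A M N).comp (Algebra.lsmul A A M))
    ((Module.End.lTensorAlgHom A N M).comp (Algebra.lsmul A A N))
    (fun b₁ b₂ => by
      show (_ : Module.End A (M ⊗[A] N)) * _ = _ * _
      refine TensorProduct.ext' fun m n => ?_
      simp [Module.End.mul_apply, TensorProduct.liftAux_tmul])

/-- `M ⊗[A] N` as a module over `B₁ ⊗[A] B₂`. -/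
noncomputable def tmod : Module (B₁ ⊗[A] B₂) (M ⊗[A] N) :=
  Module.compHom (M ⊗[A] N) (act A B₁ B₂ M N).toRingHom

theorem tmod_smul_tmul (b₁ : B₁) (b₂ : B₂) (m : M) (n : N) :
    letI := tmod A B₁ B₂ M N
    (b₁ ⊗ₜ[A] b₂ : B₁ ⊗[A] B₂) • (m ⊗ₜ[A] n) = (b₁ • m) ⊗ₜ[A] (b₂ • n) := by
  show (act A B₁ B₂ M N (b₁ ⊗ₜ b₂)) (m ⊗ₜ n) = _
  simp [act, Module.End.mul_apply, TensorProduct.liftAux_tmul]

end Act

section Main

variable {A B : Type*} [CommRing A] [CommRing B] [Algebra A B]

/-- `B` as an algebra over `B ⊗[A] B` via multiplication. -/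
noncomputable def mulAlg : Algebra (B ⊗[A] B) B :=
  (Algebra.TensorProduct.lmul' A (S := B)).toRingHom.toAlgebra

attribute [local instance] mulAlg tmod

variable {M : Type*} [AddCommGroup M] [Module A M] [Module B M] [IsScalarTower A B M]
variable {N : Type*} [AddCommGroup N] [Module A N] [Module B N] [IsScalarTower A B N]
variable {N' : Type*} [AddCommGroup N'] [Module A N'] [Module B N'] [IsScalarTower A B N']

theorem smul_one_eq (r : B ⊗[A] B) : r • (1 : B) = Algebra.TensorProduct.lmul' A r := by
  rw [Algebra.smul_def, mul_one]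
  rfl

theorem one_tmul_smul (r : B ⊗[A] B) (p : M ⊗[A] N) :
    (1 : B) ⊗ₜ[B ⊗[A] B] (r • p) = (Algebra.TensorProduct.lmul' A r) ⊗ₜ[B ⊗[A] B] p := by
  rw [← TensorProduct.smul_tmul, smul_one_eq]

/-- The comparison map `M ⊗[B] N → B ⊗[B ⊗[A] B] (M ⊗[A] N)`. -/
noncomputable def alpha : M ⊗[B] N →ₗ[B] B ⊗[B ⊗[A] B] (M ⊗[A] N) :=
  TensorProduct.lift (LinearMap.mk₂ B (fun m n => (1 : B) ⊗ₜ[B ⊗[A] B] (m ⊗ₜ[A] n))
    (fun m₁ m₂ n => by rw [add_tmul, tmul_add])
    (fun b m n => by
      have h1 : (b • m) ⊗ₜ[A] n = (b ⊗ₜ[A] (1 : B) : B ⊗[A] B) • (m ⊗ₜ[A] n) := by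
        rw [tmod_smul_tmul, one_smul]
      rw [h1, one_tmul_smul, Algebra.TensorProduct.lmul'_apply_tmul, mul_one,
        TensorProduct.smul_tmul', smul_eq_mul, mul_one])
    (fun m n₁ n₂ => by rw [tmul_add, tmul_add])
    (fun b m n => by
      have h1 : m ⊗ₜ[A] (b • n) = ((1 : B) ⊗ₜ[A] b : B ⊗[A] B) • (m ⊗ₜ[A] n) := by
        rw [tmod_smul_tmul, one_smul]
      rw [h1, one_tmul_smul, Algebra.TensorProduct.lmul'_apply_tmul, one_mul,
        TensorProduct.smul_tmul', smul_eq_mul, mul_one]))

theorem alpha_tmul (m : M) (n : N) :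
    alpha (A := A) (m ⊗ₜ[B] n) = (1 : B) ⊗ₜ[B ⊗[A] B] (m ⊗ₜ[A] n) := by
  simp [alpha]

/-- The canonical map `M ⊗[A] N → M ⊗[B] N`. -/
noncomputable def pi' : M ⊗[A] N →ₗ[A] M ⊗[B] N := TensorProduct.mapOfCompatibleSMul B A A M N

theorem pi'_tmul (m : M) (n : N) : pi' (B := B) (m ⊗ₜ[A] n) = m ⊗ₜ[B] n := rfl

theorem pi'_smul (r : B ⊗[A] B) (p : M ⊗[A] N) :
    pi' (B := B) (r • p) = (Algebra.TensorProduct.lmul' A r) • pi' (B := B) p := by
  induction r using TensorProduct.induction_on with
  | zero => simp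
  | tmul b₁ b₂ =>
    induction p using TensorProduct.induction_on with
    | zero => simp
    | tmul m n =>
      rw [tmod_smul_tmul, pi'_tmul, pi'_tmul, Algebra.TensorProduct.lmul'_apply_tmul,
        TensorProduct.smul_tmul', TensorProduct.tmul_smul, mul_smul]
      rw [TensorProduct.smul_tmul', smul_comm]
    | add p q hp hq => rw [smul_add, map_add, hp, hq, map_add, smul_add]
  | add r s hr hs => rw [add_smul, map_add, hr, hs, map_add, add_smul]

/-- The retraction `B ⊗[B ⊗[A] B] (M ⊗[A] N) → M ⊗[B] N`. -/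
noncomputable def beta : B ⊗[B ⊗[A] B] (M ⊗[A] N) →+ M ⊗[B] N :=
  TensorProduct.liftAddHom
    (AddMonoidHom.mk' (fun b => AddMonoidHom.mk' (fun p => b • pi' (B := B) p)
        (fun p q => by rw [map_add, smul_add]))
      (fun b c => by
        ext p
        simp [add_smul]))
    (fun r b p => by
      show (r • b) • pi' (B := B) p = b • pi' (B := B) (r • p)
      rw [pi'_smul, Algebra.smul_def, smul_smul, mul_comm]
      rfl)

theorem beta_tmul (b : B) (p : M ⊗[A] N) :
    beta (b ⊗ₜ[B ⊗[A] B] p) = b • pi' (B := B) p := by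
  simp [beta]

theorem beta_alpha (x : M ⊗[B] N) : beta (alpha (A := A) x) = x := by
  induction x using TensorProduct.induction_on with
  | zero => simp
  | tmul m n => rw [alpha_tmul, beta_tmul, one_smul, pi'_tmul]
  | add x y hx hy => rw [map_add, map_add, hx, hy]

/-- `M ⊗[A] L` as a `B ⊗[A] B`-linear map. -/
noncomputable def psi (L : N →ₗ[B] N') : M ⊗[A] N →ₗ[B ⊗[A] B] M ⊗[A] N' :=
  { toFun := (L.restrictScalars A).lTensor M
    map_add' := map_add _
    map_smul' := fun r p => by
      simp only [RingHom.id_apply]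
      induction r using TensorProduct.induction_on with
      | zero => simp
      | tmul b₁ b₂ =>
        induction p using TensorProduct.induction_on with
        | zero => simp
        | tmul m n =>
          rw [tmod_smul_tmul, LinearMap.lTensor_tmul, LinearMap.lTensor_tmul, tmod_smul_tmul]
          simp
        | add p q hp hq => simp only [smul_add, map_add, hp, hq]
      | add r s hr hs => simp only [add_smul, map_add, hr, hs] }

theorem psi_apply (L : N →ₗ[B] N') (p : M ⊗[A] N) :
    psi (M := M) L p = (L.restrictScalars A).lTensor M p := rfl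

theorem square (L : N →ₗ[B] N') (x : M ⊗[B] N) :
    (psi (A := A) (M := M) L).lTensor B (alpha (A := A) x) = alpha (A := A) (L.lTensor M x) := by
  induction x using TensorProduct.induction_on with
  | zero => simp
  | tmul m n =>
    rw [alpha_tmul, LinearMap.lTensor_tmul, LinearMap.lTensor_tmul, alpha_tmul, psi_apply,
      LinearMap.lTensor_tmul]
    rfl
  | add x y hx hy => rw [map_add, map_add, hx, hy, map_add, map_add]

theorem lTensor_injective (hflat : (Algebra.TensorProduct.lmul' A (S := B)).toRingHom.Flat)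
    [Module.Flat A M] (L : N →ₗ[B] N') (hL : Function.Injective L) :
    Function.Injective (L.lTensor M) := by
  have : Module.Flat (B ⊗[A] B) B := hflat
  have hpsi : Function.Injective (psi (A := A) (M := M) L) :=
    Module.Flat.lTensor_preserves_injective_linearMap (M := M) (L.restrictScalars A) hL
  have hΨ : Function.Injective ((psi (A := A) (M := M) L).lTensor B) :=
    Module.Flat.lTensor_preserves_injective_linearMap (M := B) _ hpsi
  intro x y hxy
  have h1 : (psi (A := A) (M := M) L).lTensor B (alpha (A := A) x) =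
      (psi (A := A) (M := M) L).lTensor B (alpha (A := A) y) := by
    rw [square, square, hxy]
  have h2 := hΨ h1
  have h3 := congrArg (beta (A := A) (B := B) (M := M) (N := N)) h2
  rwa [beta_alpha, beta_alpha] at h3

end Main

/-- If `B ⊗[A] B → B` is flat and the `B`-module `M` is flat over `A`, then `M` is flat over
`B`. -/
theorem flat_of_flat_lmul' {A B : Type*} [CommRing A] [CommRing B] [Algebra A B]
    (hflat : (Algebra.TensorProduct.lmul' A (S := B)).toRingHom.Flat)
    (M : Type*) [AddCommGroup M] [Module A M] [Module B M] [IsScalarTower A B M]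
    [Module.Flat A M] : Module.Flat B M := by
  rw [Module.Flat.iff_lTensor_preserves_injective_linearMap]
  intro N N' _ _ _ _ L hL
  letI : Module A N := Module.compHom N (algebraMap A B)
  letI : Module A N' := Module.compHom N' (algebraMap A B)
  haveI : IsScalarTower A B N := IsScalarTower.of_algebraMap_smul fun r n => rfl
  haveI : IsScalarTower A B N' := IsScalarTower.of_algebraMap_smul fun r n => rfl
  exact lTensor_injective hflat L hL

end Groth.Agent.Lib.Helper25.FlatDiag
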