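import Mathlib
import Groth.Prelude
import Groth.Agent.Lib.Helper25.FlatDiag
import Groth.Agent.Lib.Helper1.FlatAffine

/-!
# Flat diagonal and flatness over the base imply flatness
-/

set_option autoImplicit false
set_option linter.style.haveILetI false
universe u

open CategoryTheory CategoryTheory.Limits AlgebraicGeometry Opposite TensorProduct

namespace Groth.Agent.Lib.Helper25.FlatDiagSch

/-- From a pushout square of commutative rings with a flat common retraction: the
multiplication map `B ⊗[A] B → B` is flat. -/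
theorem flat_lmul'_of_isPushout {A B C : CommRingCat.{u}} (φ : A ⟶ B) (ι₁ ι₂ : B ⟶ C) (δ : C ⟶ B)
    (hpo : IsPushout φ φ ι₁ ι₂) (h₁ : ι₁ ≫ δ = 𝟙 B) (h₂ : ι₂ ≫ δ = 𝟙 B) (hδ : δ.hom.Flat) :
    letI := φ.hom.toAlgebra
    (Algebra.TensorProduct.lmul' A (S := B)).toRingHom.Flat := by
  letI := φ.hom.toAlgebra
  have hT := CommRingCat.isPushout_tensorProduct A B B
  have hT' : IsPushout φ φ
      (CommRingCat.ofHom (S := B ⊗[A] B) <| Algebra.TensorProduct.includeLeftRingHom)
      (CommRingCat.ofHom (S := B ⊗[A] B) <| Algebra.TensorProduct.includeRight.toRingHom) := hT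
  let e := hpo.isoIsPushout _ _ hT'
  have key : e.inv ≫ δ =
      CommRingCat.ofHom (Algebra.TensorProduct.lmul' A (S := B)).toRingHom := by
    apply hT'.hom_ext
    · rw [IsPushout.inl_isoIsPushout_inv_assoc, h₁]
      ext b
      simp
    · rw [IsPushout.inr_isoIsPushout_inv_assoc, h₂]
      ext b
      simp
  have h3 : (Algebra.TensorProduct.lmul' A (S := B)).toRingHom = δ.hom.comp e.inv.hom := by
    have := congrArg CommRingCat.Hom.hom key
    rw [CommRingCat.hom_comp] at this
    exact this.symm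
  rw [h3]
  refine RingHom.Flat.comp (RingHom.Flat.of_bijective ?_) hδ
  exact ConcreteCategory.bijective_of_isIso e.inv

theorem appLE_of_eq_id {X : Scheme.{u}} (g : X ⟶ X) (hg : g = 𝟙 X) (U : X.Opens)
    (e : U ≤ g ⁻¹ᵁ U) : g.appLE U U e = 𝟙 _ := by
  subst hg
  simp only [Scheme.Hom.appLE, Scheme.Hom.id_app]
  exact (Category.id_comp _).trans (X.presheaf.map_id _)

open Groth.Agent.Lib.Helper1 in
theorem isFlat_of_isFlatOver {X Y : Scheme.{u}} (f : X ⟶ Y) [Flat (pullback.diagonal f)]
    (F : X.Modules) (hF : FlatMod.IsFlatOver f F) : FlatMod.IsFlat F := by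
  intro x
  obtain ⟨_, ⟨V, hV, rfl⟩, hxV, -⟩ := Y.isBasis_affineOpens.exists_subset_of_mem_open
    (show f x ∈ ((⊤ : Y.Opens) : Set Y) from trivial) (⊤ : Y.Opens).2
  obtain ⟨_, ⟨U, hU, rfl⟩, hxU, hUV⟩ := X.isBasis_affineOpens.exists_subset_of_mem_open
    (show x ∈ ((f ⁻¹ᵁ V : X.Opens) : Set X) from hxV) (f ⁻¹ᵁ V).2
  have e : U ≤ f ⁻¹ᵁ V := hUV
  have hc : IsPullback (pullback.fst f f) (pullback.snd f f) f f := IsPullback.of_hasPullback f f
  let W : (pullback f f).Opens := pullback.fst f f ⁻¹ᵁ U ⊓ pullback.snd f f ⁻¹ᵁ U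
  have hW : IsAffineOpen W := by
    have : IsAffine _ := hV
    have : IsAffine _ := hU
    exact .of_isIso (Scheme.Hom.isPullback_resLE hc e e rfl).isoPullback.hom
  have hpo : IsPushout (f.appLE V U e) (f.appLE V U e)
      ((pullback.fst f f).appLE U W inf_le_left) ((pullback.snd f f).appLE U W inf_le_right) :=
    (isIso_pushoutSection_iff hc e e rfl).mp
      (isIso_pushoutSection_of_isAffineOpen hc e e rfl hV hU hU)
  have hUW : U ≤ pullback.diagonal f ⁻¹ᵁ W := by
    intro y hy
    refine ⟨?_, ?_⟩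
    · show (pullback.fst f f) ((pullback.diagonal f) y) ∈ U
      rw [← Scheme.Hom.comp_apply, pullback.diagonal_fst]
      exact hy
    · show (pullback.snd f f) ((pullback.diagonal f) y) ∈ U
      rw [← Scheme.Hom.comp_apply, pullback.diagonal_snd]
      exact hy
  have hδ : ((pullback.diagonal f).appLE W U hUW).hom.Flat :=
    (pullback.diagonal f).flat_appLE hW hU hUW
  have h₁ : (pullback.fst f f).appLE U W inf_le_left ≫ (pullback.diagonal f).appLE W U hUW =
      𝟙 _ := by
    rw [Scheme.Hom.appLE_comp_appLE]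
    exact appLE_of_eq_id _ (pullback.diagonal_fst f) U _
  have h₂ : (pullback.snd f f).appLE U W inf_le_right ≫ (pullback.diagonal f).appLE W U hUW =
      𝟙 _ := by
    rw [Scheme.Hom.appLE_comp_appLE]
    exact appLE_of_eq_id _ (pullback.diagonal_snd f) U _
  have hlmul := flat_lmul'_of_isPushout _ _ _ _ hpo h₁ h₂ hδ
  -- module structures
  letI a0 : Algebra Γ(Y, V) Γ(X, U) := (f.appLE V U e).hom.toAlgebra
  letI i1 : Algebra Γ(X, U) (X.presheaf.stalk x) :=
    TopCat.Presheaf.algebra_section_stalk X.presheaf (U := U) ⟨x, hxU⟩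
  letI i2 : Module Γ(X, U) (F.presheaf.stalk x) :=
    Module.compHom _ (algebraMap Γ(X, U) (X.presheaf.stalk x))
  letI i3 : Module Γ(Y, V) (F.presheaf.stalk x) := Module.compHom _ (f.appLE V U e).hom
  haveI i4 : IsScalarTower Γ(Y, V) Γ(X, U) (F.presheaf.stalk x) :=
    IsScalarTower.of_algebraMap_smul fun r n => rfl
  haveI i5 : IsScalarTower Γ(X, U) (X.presheaf.stalk x) (F.presheaf.stalk x) :=
    IsScalarTower.of_algebraMap_smul fun r n => rfl
  have hflatA : Module.Flat Γ(Y, V) (F.presheaf.stalk x) := by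
    have h := hF x
    unfold FlatMod.IsFlatOverAt at h
    letI j1 : Algebra Γ(Y, V) (Y.presheaf.stalk (f x)) :=
      TopCat.Presheaf.algebra_section_stalk Y.presheaf (U := V) ⟨f x, e hxU⟩
    haveI j2 : IsLocalization.AtPrime (Y.presheaf.stalk (f x))
        (hV.primeIdealOf ⟨f x, e hxU⟩).asIdeal := hV.isLocalization_stalk ⟨f x, e hxU⟩
    letI j3 := FlatMod.moduleStalkOver f F x
    haveI j4 : IsScalarTower Γ(Y, V) (Y.presheaf.stalk (f x)) (F.presheaf.stalk x) := by
      refine IsScalarTower.of_algebraMap_smul fun r n => ?_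
      change (f.stalkMap x).hom (Y.presheaf.germ V (f x) (e hxU) r) • n =
        X.presheaf.germ U x hxU ((f.appLE V U e).hom r) • n
      rw [FlatAffine.germ_appLE]
    exact (Module.flat_iff_of_isLocalization (Y.presheaf.stalk (f x))
      (hV.primeIdealOf ⟨f x, e hxU⟩).asIdeal.primeCompl _).1 h
  have hflatB : Module.Flat Γ(X, U) (F.presheaf.stalk x) :=
    FlatDiag.flat_of_flat_lmul' hlmul (F.presheaf.stalk x)
  haveI k2 : IsLocalization.AtPrime (X.presheaf.stalk x)
      (hU.primeIdealOf ⟨x, hxU⟩).asIdeal := hU.isLocalization_stalk ⟨x, hxU⟩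
  exact (Module.flat_iff_of_isLocalization (X.presheaf.stalk x)
    (hU.primeIdealOf ⟨x, hxU⟩).asIdeal.primeCompl _).2 hflatB

end Groth.Agent.Lib.Helper25.FlatDiagSch
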