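import Mathlib
import Groth.Prelude.Def_DeRham

/-!
# The formal Poincaré lemma for `k[[σ]]`, `k` a field of characteristic zero
-/

set_option autoImplicit false
set_option linter.unusedSectionVars false
universe u

open exteriorPower

namespace Groth.Agent.Lib.Helper25.FormalPoincare

section PS
variable {k : Type u} [Field k] [CharZero k] {σ : Type u}

/-- Divide the coefficient of `t^m` by `|m| + c + 1`. -/
noncomputable def Sdiv (c : ℕ) : MvPowerSeries σ k →ₗ[k] MvPowerSeries σ k where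
  toFun f := fun m => ((m.degree : k) + c + 1)⁻¹ * MvPowerSeries.coeff m f
  map_add' f g := by
    funext m
    simp only [map_add, mul_add]
    rfl
  map_smul' r f := by
    funext m
    simp only [map_smul, smul_eq_mul, RingHom.id_apply]
    show _ = r * (_ * _)
    ring

theorem coeff_Sdiv (c : ℕ) (f : MvPowerSeries σ k) (m : σ →₀ ℕ) :
    MvPowerSeries.coeff m (Sdiv c f) = ((m.degree : k) + c + 1)⁻¹ * MvPowerSeries.coeff m f := rfl

theorem den_ne_zero (m : σ →₀ ℕ) (c : ℕ) : ((m.degree : k) + c + 1) ≠ 0 := by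
  have : ((m.degree : k) + c + 1) = ((m.degree + c + 1 : ℕ) : k) := by push_cast; ring
  rw [this]
  exact Nat.cast_ne_zero.mpr (by omega)

theorem coeff_X_mul_pderiv (i : σ) (f : MvPowerSeries σ k) (m : σ →₀ ℕ) :
    MvPowerSeries.coeff m (MvPowerSeries.X i * MvPowerSeries.pderiv k i f) =
      MvPowerSeries.coeff m f * (m i : k) := by
  classical
  rw [MvPowerSeries.X_def, MvPowerSeries.coeff_monomial_mul]
  split_ifs with h
  · rw [one_mul, MvPowerSeries.coeff_pderiv, tsub_add_cancel_of_le h]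
    have h1 : 1 ≤ m i := Finsupp.single_le_iff.mp h
    have h2 : (m - Finsupp.single i 1 : σ →₀ ℕ) i + 1 = m i := by
      rw [Finsupp.tsub_apply, Finsupp.single_eq_same]; omega
    rw [show (((m - Finsupp.single i 1 : σ →₀ ℕ) i : ℕ) : k) + 1 = (m i : k) by exact_mod_cast h2]
  · have h1 : m i = 0 := by
      by_contra hne
      exact h (Finsupp.single_le_iff.mpr (Nat.one_le_iff_ne_zero.mpr hne))
    rw [h1, Nat.cast_zero, mul_zero]

theorem coeff_euler [Fintype σ] (f : MvPowerSeries σ k) (m : σ →₀ ℕ) :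
    MvPowerSeries.coeff m (∑ i, MvPowerSeries.X i * MvPowerSeries.pderiv k i f) =
      MvPowerSeries.coeff m f * (m.degree : k) := by
  rw [map_sum]
  simp_rw [coeff_X_mul_pderiv]
  rw [← Finset.mul_sum, Finsupp.degree_eq_sum]
  push_cast
  rfl

theorem euler_Sdiv [Fintype σ] (c : ℕ) (f : MvPowerSeries σ k) :
    (∑ i, MvPowerSeries.X i * MvPowerSeries.pderiv k i (Sdiv c f)) + ((c : k) + 1) • Sdiv c f =
      f := by
  ext m
  rw [map_add, coeff_euler, map_smul, coeff_Sdiv, smul_eq_mul]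
  have := den_ne_zero (k := k) m c
  field_simp
  ring

theorem pderiv_Sdiv (c : ℕ) (i : σ) (f : MvPowerSeries σ k) :
    MvPowerSeries.pderiv k i (Sdiv c f) = Sdiv (c + 1) (MvPowerSeries.pderiv k i f) := by
  ext m
  rw [MvPowerSeries.coeff_pderiv, coeff_Sdiv, coeff_Sdiv, MvPowerSeries.coeff_pderiv]
  have h1 : ((m + Finsupp.single i 1).degree : k) + c + 1 =
      (m.degree : k) + ((c + 1 : ℕ) : k) + 1 := by
    rw [map_add, Finsupp.degree_single]; push_cast; ring
  rw [h1]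
  ring

theorem Sdiv_mul_C (c : ℕ) (f : MvPowerSeries σ k) (z : k) :
    Sdiv c (f * MvPowerSeries.C z) = Sdiv c f * MvPowerSeries.C z := by
  rw [mul_comm f, mul_comm (Sdiv c f), ← MvPowerSeries.smul_eq_C_mul,
    ← MvPowerSeries.smul_eq_C_mul, map_smul]

end PS

section Contr
variable {A M : Type*} [CommRing A] [AddCommGroup M] [Module A M]

/-- Contraction with a functional. -/
noncomputable def contr (θ : M →ₗ[A] A) (q : ℕ) : ↥(⋀[A]^(q + 1) M) →ₗ[A] ↥(⋀[A]^q M) :=
  exteriorPower.alternatingMapLinearEquiv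
    (AlternatingMap.alternatizeUncurryFin (θ.smulRight (exteriorPower.ιMulti A q)))

theorem contr_ιMulti (θ : M →ₗ[A] A) (q : ℕ) (v : Fin (q + 1) → M) :
    contr θ q (ιMulti A (q + 1) v) =
      ∑ i : Fin (q + 1), (-1 : ℤ) ^ (i : ℕ) • (θ (v i) • ιMulti A q (Fin.removeNth i v)) := by
  rw [contr, exteriorPower.alternatingMapLinearEquiv_apply_ιMulti,
    AlternatingMap.alternatizeUncurryFin_apply]
  rfl

end Contr


section Multi
variable {A M : Type*} [CommRing A] [AddCommGroup M] [Module A M]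

theorem ιMulti_cons_add_smul (q : ℕ) (a b : A) (x y : M) (V : Fin q → M) :
    ιMulti A (q + 1) (Fin.cons (a • x + b • y) V) =
      a • ιMulti A (q + 1) (Fin.cons x V) + b • ιMulti A (q + 1) (Fin.cons y V) := by
  calc ιMulti A (q + 1) (Fin.cons (a • x + b • y) V)
      = ιMulti A (q + 1) (Fin.cons (a • x) V) + ιMulti A (q + 1) (Fin.cons (b • y) V) :=
        (ιMulti A (q + 1)).toMultilinearMap.cons_add V (a • x) (b • y)
    _ = _ := by
      congr 1
      · exact (ιMulti A (q + 1)).toMultilinearMap.cons_smul V a x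
      · exact (ιMulti A (q + 1)).toMultilinearMap.cons_smul V b y

theorem ιMulti_cons_sum {ι' : Type*} (q : ℕ) (s : Finset ι') (c : ι' → A) (x : ι' → M)
    (V : Fin q → M) :
    ιMulti A (q + 1) (Fin.cons (∑ j ∈ s, c j • x j) V) =
      ∑ j ∈ s, c j • ιMulti A (q + 1) (Fin.cons (x j) V) := by
  classical
  induction s using Finset.induction_on with
  | empty =>
    rw [Finset.sum_empty, Finset.sum_empty]
    exact (ιMulti A (q + 1)).map_coord_zero 0 (by simp)
  | insert j s hj ih =>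
    rw [Finset.sum_insert hj, Finset.sum_insert hj, ← ih]
    have := ιMulti_cons_add_smul q (c j) (1 : A) (x j) (∑ j ∈ s, c j • x j) V
    rwa [one_smul, one_smul] at this

theorem removeNth_succ_cons {α : Type*} {q : ℕ} (a : Fin (q + 1)) (x : α) (V : Fin (q + 1) → α) :
    Fin.removeNth a.succ (Fin.cons x V : Fin (q + 1 + 1) → α) = Fin.cons x (Fin.removeNth a V) := by
  funext j
  refine Fin.cases ?_ ?_ j
  · simp [Fin.removeNth]
  · intro j'
    simp [Fin.removeNth]

end Multi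

/-- Tuples of standard basis vectors. -/
noncomputable def W (k : Type u) [Field k] {σ : Type u} [DecidableEq σ] {q : ℕ} (w : Fin q → σ) :
    Fin q → (σ → MvPowerSeries σ k) := fun a => Pi.single (w a) 1

section Forms
variable {k : Type u} [Field k] [CharZero k] {σ : Type u} [Fintype σ] [DecidableEq σ]
  (δ : Derivation k (MvPowerSeries σ k) (σ → MvPowerSeries σ k))
  (hδ : ∀ (f : MvPowerSeries σ k) (i : σ), δ f i = MvPowerSeries.pderiv k i f)
  (d : ∀ p : ℕ, ↥(⋀[MvPowerSeries σ k]^p (σ → MvPowerSeries σ k)) →ₗ[k]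
      ↥(⋀[MvPowerSeries σ k]^(p + 1) (σ → MvPowerSeries σ k)))
  (hrule : DeRham.IsRule δ d)

local notation "𝔸" => MvPowerSeries σ k
local notation "𝕄" => (σ → MvPowerSeries σ k)

/-- The Euler functional `m ↦ Σ tᵢ mᵢ`. -/
noncomputable def θE : 𝕄 →ₗ[𝔸] 𝔸 := ∑ i, (MvPowerSeries.X i : 𝔸) • LinearMap.proj i

theorem θE_apply (m : 𝕄) : θE m = ∑ i, MvPowerSeries.X i * m i := by
  simp [θE, LinearMap.sum_apply]

include hδ in
theorem δ_X (j : σ) : δ (MvPowerSeries.X j) = Pi.single j 1 := by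
  funext i
  rw [hδ, MvPowerSeries.pderiv_X]
  by_cases h : i = j
  · subst h; simp
  · simp [Pi.single_apply, h, Ne.symm h]

include hδ in
theorem θE_δ (f : 𝔸) :
    θE (δ f) = ∑ i, MvPowerSeries.X i * MvPowerSeries.pderiv k i f := by
  rw [θE_apply]
  simp_rw [hδ]

theorem θE_single (j : σ) : θE (Pi.single j (1 : 𝔸) : 𝕄) = MvPowerSeries.X j := by
  rw [θE_apply, Finset.sum_eq_single j]
  · simp
  · intro i _ hij
    simp [Pi.single_apply, hij]
  · intro h
    exact absurd (Finset.mem_univ j) h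

include hδ in
theorem δ_eq_sum (g : 𝔸) :
    δ g = ∑ j, MvPowerSeries.pderiv k j g • (Pi.single j (1 : 𝔸) : 𝕄) := by
  funext i
  rw [hδ, Finset.sum_apply, Finset.sum_eq_single i]
  · simp
  · intro j _ hji
    simp [Pi.single_apply, Ne.symm hji]
  · intro h
    exact absurd (Finset.mem_univ i) h


include hδ hrule in
theorem d_smul_W (q : ℕ) (g : 𝔸) (w : Fin q → σ) :
    d q (g • ιMulti 𝔸 q (W k w)) =
      ∑ j, MvPowerSeries.pderiv k j g • ιMulti 𝔸 (q + 1) (W k (Fin.cons j w : Fin (q + 1) → σ)) := by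
  have hW : (W k w : Fin q → 𝕄) = fun a => δ (MvPowerSeries.X (w a)) := by
    funext a
    rw [δ_X δ hδ]
    rfl
  have h1 : d q (g • ιMulti 𝔸 q (W k w)) = ιMulti 𝔸 (q + 1) (Fin.cons (δ g) (W k w)) := by
    rw [hW]
    exact hrule q g (fun a => MvPowerSeries.X (w a))
  rw [h1, δ_eq_sum δ hδ g, ιMulti_cons_sum]
  refine Finset.sum_congr rfl (fun j _ => ?_)
  congr 2
  funext a
  refine Fin.cases ?_ ?_ a
  · simp [W]
  · intro a'
    simp [W]

include hδ hrule in
theorem cartan (q : ℕ) (f : 𝔸) (w : Fin (q + 1) → σ) :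
    d q (contr θE q (f • ιMulti 𝔸 (q + 1) (W k w))) +
        contr θE (q + 1) (d (q + 1) (f • ιMulti 𝔸 (q + 1) (W k w))) =
      (∑ i, MvPowerSeries.X i * MvPowerSeries.pderiv k i f) • ιMulti 𝔸 (q + 1) (W k w) +
        (q + 1) • (f • ιMulti 𝔸 (q + 1) (W k w)) := by
  have hW : (W k w : Fin (q + 1) → 𝕄) = fun a => δ (MvPowerSeries.X (w a)) := by
    funext a
    rw [δ_X δ hδ]
    rfl
  have hT2 : d (q + 1) (f • ιMulti 𝔸 (q + 1) (W k w)) =
      ιMulti 𝔸 (q + 1 + 1) (Fin.cons (δ f) (W k w)) := by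
    rw [hW]
    exact hrule (q + 1) f (fun a => MvPowerSeries.X (w a))
  have hC2 : contr θE (q + 1) (ιMulti 𝔸 (q + 1 + 1) (Fin.cons (δ f) (W k w))) =
      (∑ i, MvPowerSeries.X i * MvPowerSeries.pderiv k i f) • ιMulti 𝔸 (q + 1) (W k w) +
      ∑ a : Fin (q + 1), (-1 : ℤ) ^ ((a : ℕ) + 1) •
        ((MvPowerSeries.X (w a) : MvPowerSeries σ k) •
          ιMulti 𝔸 (q + 1) (Fin.cons (δ f) (Fin.removeNth a (W k w)))) := by
    rw [contr_ιMulti, Fin.sum_univ_succ]
    congr 1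
    · simp only [Fin.val_zero, pow_zero, one_smul, Fin.cons_zero, θE_δ δ hδ]
      congr 2
    · refine Finset.sum_congr rfl (fun a _ => ?_)
      rw [Fin.val_succ, Fin.cons_succ, removeNth_succ_cons]
      congr 2
      exact θE_single (w a)
  have hC1 : contr θE q (f • ιMulti 𝔸 (q + 1) (W k w)) =
      ∑ a : Fin (q + 1), (-1 : ℤ) ^ (a : ℕ) •
        ((f * MvPowerSeries.X (w a)) • ιMulti 𝔸 q (Fin.removeNth a (W k w))) := by
    rw [map_smul, contr_ιMulti, Finset.smul_sum]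
    refine Finset.sum_congr rfl (fun a _ => ?_)
    rw [smul_comm, smul_smul]
    congr 3
    exact θE_single (w a)
  have hD : ∀ a : Fin (q + 1),
      d q ((f * MvPowerSeries.X (w a)) • ιMulti 𝔸 q (Fin.removeNth a (W k w))) =
      f • ((-1 : ℤ) ^ (a : ℕ) • ιMulti 𝔸 (q + 1) (W k w)) +
        (MvPowerSeries.X (w a) : MvPowerSeries σ k) • ιMulti 𝔸 (q + 1) (Fin.cons (δ f) (Fin.removeNth a (W k w))) := by
    intro a
    have h1 : Fin.removeNth a (W k w) = fun j => δ (MvPowerSeries.X (w (a.succAbove j))) := by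
      funext j
      rw [δ_X δ hδ]
      rfl
    have h2 : d q ((f * MvPowerSeries.X (w a)) • ιMulti 𝔸 q (Fin.removeNth a (W k w))) =
        ιMulti 𝔸 (q + 1) (Fin.cons (δ (f * MvPowerSeries.X (w a))) (Fin.removeNth a (W k w))) := by
      rw [h1]
      exact hrule q (f * MvPowerSeries.X (w a)) (fun j => MvPowerSeries.X (w (a.succAbove j)))
    have h3 : ιMulti 𝔸 (q + 1) (Fin.cons (W k w a) (Fin.removeNth a (W k w))) =
        (-1 : ℤ) ^ (a : ℕ) • ιMulti 𝔸 (q + 1) (W k w) := by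
      have := AlternatingMap.neg_one_pow_smul_map_insertNth (ιMulti 𝔸 (q + 1)) a (W k w a)
        (Fin.removeNth a (W k w))
      rw [Fin.insertNth_self_removeNth] at this
      exact this.symm
    rw [h2, Derivation.leibniz, ιMulti_cons_add_smul, δ_X δ hδ]
    congr 2
  rw [hC1, map_sum, hT2, hC2]
  simp_rw [map_zsmul, hD]
  rw [add_left_comm, ← Finset.sum_add_distrib]
  congr 1
  have key : ∀ a : Fin (q + 1),
      (-1 : ℤ) ^ (a : ℕ) • (f • ((-1 : ℤ) ^ (a : ℕ) • ιMulti 𝔸 (q + 1) (W k w)) +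
        (MvPowerSeries.X (w a) : MvPowerSeries σ k) • ιMulti 𝔸 (q + 1) (Fin.cons (δ f) (Fin.removeNth a (W k w)))) +
      (-1 : ℤ) ^ ((a : ℕ) + 1) •
        ((MvPowerSeries.X (w a) : MvPowerSeries σ k) •
          ιMulti 𝔸 (q + 1) (Fin.cons (δ f) (Fin.removeNth a (W k w)))) =
      f • ιMulti 𝔸 (q + 1) (W k w) := by
    intro a
    rw [pow_succ, mul_neg_one, smul_add, neg_smul, add_neg_cancel_right, smul_comm, smul_smul,
      ← mul_pow, neg_mul_neg, one_mul, one_pow, one_smul]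
  rw [Finset.sum_congr rfl (fun a _ => key a), Finset.sum_const, Finset.card_univ,
    Fintype.card_fin]

end Forms


section Basis
variable {k : Type u} [Field k] [CharZero k] {σ : Type u} [Fintype σ] [LinearOrder σ]

local notation "𝔸" => MvPowerSeries σ k
local notation "𝕄" => (σ → MvPowerSeries σ k)

/-- The standard basis of the exterior power. -/
noncomputable def bq (k : Type u) [Field k] (σ : Type u) [Fintype σ] [LinearOrder σ] (q : ℕ) :
    Module.Basis (Set.powersetCard σ q) (MvPowerSeries σ k)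
      ↥(⋀[MvPowerSeries σ k]^q (σ → MvPowerSeries σ k)) :=
  (Pi.basisFun (MvPowerSeries σ k) σ).exteriorPower q

theorem bq_apply (q : ℕ) (I : Set.powersetCard σ q) :
    bq k σ q I = ιMulti 𝔸 q (W k (Set.powersetCard.ofFinEmbEquiv.symm I)) := by
  rw [bq, exteriorPower.basis_apply, exteriorPower.ιMulti_family]
  congr 1
  funext a
  simp [W, Pi.basisFun_apply]

theorem repr_W_const (q : ℕ) (w : Fin q → σ) (I : Set.powersetCard σ q) :
    ∃ z : k, (bq k σ q).repr (ιMulti 𝔸 q (W k w)) I = MvPowerSeries.C z := by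
  rw [bq, exteriorPower.basis_repr_apply, exteriorPower.ιMultiDual_apply_ιMulti]
  refine ⟨(Matrix.of fun a b =>
    if (Set.powersetCard.ofFinEmbEquiv.symm I b) = w a then (1 : k) else 0).det, ?_⟩
  rw [RingHom.map_det]
  congr 1
  apply Matrix.ext
  intro a b
  simp only [Matrix.of_apply, RingHom.mapMatrix_apply, Matrix.map_apply,
    Module.Basis.coord_apply, Pi.basisFun_repr, W, Pi.single_apply]
  split_ifs <;> simp

/-- Coefficientwise division on forms. -/
noncomputable def T (c q : ℕ) : ↥(⋀[𝔸]^q 𝕄) →ₗ[k] ↥(⋀[𝔸]^q 𝕄) :=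
  ∑ I : Set.powersetCard σ q,
    ((LinearMap.toSpanSingleton 𝔸 _ (bq k σ q I)).restrictScalars k) ∘ₗ (Sdiv c) ∘ₗ
      (((bq k σ q).coord I).restrictScalars k)

theorem T_apply (c q : ℕ) (x : ↥(⋀[𝔸]^q 𝕄)) :
    T c q x = ∑ I, Sdiv c ((bq k σ q).repr x I) • bq k σ q I := by
  simp [T, LinearMap.sum_apply]

theorem T_smul_const (c q : ℕ) (f : 𝔸) (η : ↥(⋀[𝔸]^q 𝕄))
    (hη : ∀ I, ∃ z : k, (bq k σ q).repr η I = MvPowerSeries.C z) :
    T c q (f • η) = Sdiv c f • η := by
  choose z hz using hη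
  rw [T_apply]
  conv_rhs => rw [← (bq k σ q).sum_repr η, Finset.smul_sum]
  refine Finset.sum_congr rfl (fun I _ => ?_)
  rw [map_smul, Finsupp.smul_apply, smul_eq_mul, hz I, Sdiv_mul_C, smul_smul]

theorem ext_basis {N : Type*} [AddCommGroup N] [Module k N] (q : ℕ)
    (Φ Ψ : ↥(⋀[𝔸]^q 𝕄) →ₗ[k] N)
    (h : ∀ (f : 𝔸) (I : Set.powersetCard σ q), Φ (f • bq k σ q I) = Ψ (f • bq k σ q I)) :
    Φ = Ψ := by
  apply LinearMap.ext
  intro x
  rw [← (bq k σ q).sum_repr x, map_sum, map_sum]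
  exact Finset.sum_congr rfl (fun I _ => h _ I)

variable (δ : Derivation k (MvPowerSeries σ k) (σ → MvPowerSeries σ k))
  (hδ : ∀ (f : MvPowerSeries σ k) (i : σ), δ f i = MvPowerSeries.pderiv k i f)
  (d : ∀ p : ℕ, ↥(⋀[MvPowerSeries σ k]^p (σ → MvPowerSeries σ k)) →ₗ[k]
      ↥(⋀[MvPowerSeries σ k]^(p + 1) (σ → MvPowerSeries σ k)))
  (hrule : DeRham.IsRule δ d)

include hδ hrule in
theorem d_T (c q : ℕ) : (d q) ∘ₗ T c q = T (c + 1) (q + 1) ∘ₗ d q := by
  apply ext_basis
  intro f I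
  simp only [LinearMap.comp_apply]
  have hconst : ∀ I', ∃ z : k, (bq k σ q).repr (bq k σ q I) I' = MvPowerSeries.C z := by
    rw [bq_apply]
    exact repr_W_const q _
  rw [T_smul_const c q f _ hconst, bq_apply, d_smul_W δ hδ d hrule, d_smul_W δ hδ d hrule,
    map_sum]
  refine Finset.sum_congr rfl (fun j _ => ?_)
  rw [T_smul_const (c + 1) (q + 1) _ _ (repr_W_const (q + 1) _), pderiv_Sdiv]

include hδ hrule in
theorem homotopy (q : ℕ) :
    (d q) ∘ₗ ((contr θE q).restrictScalars k) ∘ₗ T q (q + 1) +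
      ((contr θE (q + 1)).restrictScalars k) ∘ₗ (d (q + 1)) ∘ₗ T q (q + 1) =
        (LinearMap.id : ↥(⋀[𝔸]^(q + 1) 𝕄) →ₗ[k] ↥(⋀[𝔸]^(q + 1) 𝕄)) := by
  apply ext_basis
  intro f I
  simp only [LinearMap.add_apply, LinearMap.comp_apply, LinearMap.restrictScalars_apply,
    LinearMap.id_apply]
  have hconst : ∀ I', ∃ z : k,
      (bq k σ (q + 1)).repr (bq k σ (q + 1) I) I' = MvPowerSeries.C z := by
    rw [bq_apply]
    exact repr_W_const (q + 1) _
  rw [T_smul_const q (q + 1) f _ hconst, bq_apply, cartan δ hδ d hrule q (Sdiv q f) _]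
  have hE := euler_Sdiv q f
  have h5 : f • ιMulti 𝔸 (q + 1) (W k (Set.powersetCard.ofFinEmbEquiv.symm I)) =
      (∑ i, MvPowerSeries.X i * MvPowerSeries.pderiv k i (Sdiv q f)) •
        ιMulti 𝔸 (q + 1) (W k (Set.powersetCard.ofFinEmbEquiv.symm I)) +
      (q + 1) • (Sdiv q f • ιMulti 𝔸 (q + 1) (W k (Set.powersetCard.ofFinEmbEquiv.symm I))) := by
    conv_lhs => rw [← hE]
    rw [add_smul (∑ i, MvPowerSeries.X i * MvPowerSeries.pderiv k i (Sdiv q f))]
    congr 1
    rw [smul_assoc, ← Nat.cast_smul_eq_nsmul k (q + 1), Nat.cast_add, Nat.cast_one]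
  exact h5.symm

include hδ hrule in
theorem poincare (q : ℕ) (x : ↥(⋀[𝔸]^(q + 1) 𝕄)) (hx : d (q + 1) x = 0) :
    ∃ y, d q y = x := by
  refine ⟨contr θE q (T q (q + 1) x), ?_⟩
  have h3 := LinearMap.congr_fun (homotopy δ hδ d hrule q) x
  have h2 := LinearMap.congr_fun (d_T δ hδ d hrule q (q + 1)) x
  simp only [LinearMap.add_apply, LinearMap.comp_apply, LinearMap.restrictScalars_apply,
    LinearMap.id_apply] at h3 h2
  rw [h2, hx, map_zero, map_zero, add_zero] at h3
  exact h3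

end Basis

end Groth.Agent.Lib.Helper25.FormalPoincare
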