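import Mathlib

/-!
# Fixed vectors of `q`-semilinear bijections over an algebraically closed field (helper25)

Let `k` be an algebraically closed field, `σ : k →+* k` with `σ c = c ^ q` (`q ≥ 2`), `V` a
finite-dimensional `k`-vector space and `φ : V →ₛₗ[σ] V` injective.  Then the `φ`-fixed vectors
span `V` and `φ - 1` is surjective (Lang / Dieudonné).
-/

set_option autoImplicit false

universe u v

open Polynomial

namespace Groth.Agent.Lib.Helper25.FrobFix

section Poly

variable {k : Type u} [Field k]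

/-- The polynomials `X_i(Z)`: `X_0 = a_0 Z^q`, `X_{i+1} = X_i^q + a_{i+1} Z^q`. -/
noncomputable def Xpoly (q : ℕ) (a : ℕ → k) : ℕ → Polynomial k
  | 0 => C (a 0) * X ^ q
  | (i + 1) => (Xpoly q a i) ^ q + C (a (i + 1)) * X ^ q

theorem Xpoly_zero (q : ℕ) (a : ℕ → k) : Xpoly q a 0 = C (a 0) * X ^ q := rfl

theorem Xpoly_succ (q : ℕ) (a : ℕ → k) (i : ℕ) :
    Xpoly q a (i + 1) = (Xpoly q a i) ^ q + C (a (i + 1)) * X ^ q := rfl

theorem Xpoly_factor {q : ℕ} (hq : 2 ≤ q) (a : ℕ → k) (i : ℕ) :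
    ∃ Y : Polynomial k, Xpoly q a i = X ^ q * Y ∧ (Y = 0 → ∀ j ≤ i, a j = 0) := by
  induction i with
  | zero =>
    refine ⟨C (a 0), by rw [Xpoly_zero, mul_comm], ?_⟩
    intro h j hj
    rw [Nat.le_zero.1 hj]
    simpa using h
  | succ i ih =>
    obtain ⟨Y, hY, hY0⟩ := ih
    obtain ⟨e, hqq, hpos⟩ : ∃ e, q * q = q + e ∧ e ≠ 0 := by
      refine ⟨q * q - q, ?_, ?_⟩
      · have : q ≤ q * q := Nat.le_mul_self q
        omega
      · have : 2 * q ≤ q * q := Nat.mul_le_mul_right q hq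
        omega
    refine ⟨X ^ e * Y ^ q + C (a (i + 1)), ?_, ?_⟩
    · rw [Xpoly_succ, hY, mul_pow, ← pow_mul, hqq, pow_add]
      ring
    · intro h j hj
      have h0 := congrArg (Polynomial.eval 0) h
      simp only [eval_add, eval_mul, eval_pow, eval_X, eval_C, eval_zero, zero_pow hpos,
        zero_mul, zero_add] at h0
      rw [h0, C_0, add_zero] at h
      have hYq : Y ^ q = 0 := by
        rcases mul_eq_zero.1 h with h1 | h1
        · exact absurd h1 (pow_ne_zero _ X_ne_zero)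
        · exact h1
      have hY' : Y = 0 := pow_eq_zero_iff (by omega) |>.1 hYq
      rcases Nat.lt_or_ge j (i + 1) with hlt | hge
      · exact hY0 hY' j (by omega)
      · have : j = i + 1 := by omega
        rw [this, h0]

theorem exists_root_Xpoly [IsAlgClosed k] {q : ℕ} (hq : 2 ≤ q) (a : ℕ → k) (t : ℕ)
    (ha : ∃ j ≤ t, a j ≠ 0) : ∃ z : k, z ≠ 0 ∧ (Xpoly q a t).eval z = z := by
  obtain ⟨Y, hY, hY0⟩ := Xpoly_factor hq a t
  have hYne : Y ≠ 0 := by
    intro h
    obtain ⟨j, hj, hne⟩ := ha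
    exact hne (hY0 h j hj)
  have hq1 : q - 1 ≠ 0 := by omega
  have hdeg : (X ^ (q - 1) * Y - 1 : Polynomial k).degree ≠ 0 := by
    have h1 : (X ^ (q - 1) * Y : Polynomial k).degree = ((q - 1 : ℕ) : WithBot ℕ) + Y.degree := by
      rw [degree_mul, degree_X_pow]
    have h2 : (0 : WithBot ℕ) < (X ^ (q - 1) * Y : Polynomial k).degree := by
      rw [h1, degree_eq_natDegree hYne]
      have : 0 < (q - 1) + Y.natDegree := by omega
      exact_mod_cast this
    have h3 : ((1 : Polynomial k)).degree < (X ^ (q - 1) * Y : Polynomial k).degree := by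
      rw [degree_one]; exact h2
    rw [degree_sub_eq_left_of_degree_lt h3]
    exact h2.ne'
  obtain ⟨z, hz⟩ := IsAlgClosed.exists_root _ hdeg
  rw [IsRoot.def, eval_sub, eval_mul, eval_pow, eval_X, eval_one, sub_eq_zero] at hz
  have hz0 : z ≠ 0 := by
    rintro rfl
    rw [zero_pow hq1, zero_mul] at hz
    exact zero_ne_one hz
  refine ⟨z, hz0, ?_⟩
  rw [hY, eval_mul, eval_pow, eval_X]
  have : z ^ q = z * z ^ (q - 1) := by
    rw [← pow_succ']
    congr 1
    omega
  rw [this, mul_assoc, hz, mul_one]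

end Poly

section Fixed

variable {k : Type u} [Field k] {q : ℕ} {σ : k →+* k}
variable {V : Type v} [AddCommGroup V] [Module k V]

theorem fixed_of_root (φ : V →ₛₗ[σ] V) (hσ : ∀ c, σ c = c ^ q) (a : ℕ → k) (t : ℕ) (v : V)
    (hrel : (⇑φ)^[t + 1] v = ∑ i ∈ Finset.range (t + 1), a i • (⇑φ)^[i] v)
    (z : k) (hz : (Xpoly q a t).eval z = z) :
    φ (∑ i ∈ Finset.range (t + 1), (Xpoly q a i).eval z • (⇑φ)^[i] v) =
      ∑ i ∈ Finset.range (t + 1), (Xpoly q a i).eval z • (⇑φ)^[i] v := by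
  obtain ⟨x, hx⟩ : ∃ x : ℕ → k, ∀ i, x i = (Xpoly q a i).eval z := ⟨_, fun _ => rfl⟩
  obtain ⟨u, hu⟩ : ∃ u : ℕ → V, ∀ i, u i = (⇑φ)^[i] v := ⟨_, fun _ => rfl⟩
  have hu1 : ∀ i, φ (u i) = u (i + 1) := by
    intro i
    rw [hu, hu, Function.iterate_succ_apply']
  have hx0 : x 0 = a 0 * z ^ q := by simp [hx, Xpoly_zero]
  have hxs : ∀ i, x (i + 1) = x i ^ q + a (i + 1) * z ^ q := by
    intro i; simp [hx, Xpoly_succ]
  have hxt : x t = z := by rw [hx]; exact hz
  simp only [← hx, ← hu] at hrel ⊢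
  rw [map_sum]
  simp only [map_smulₛₗ, hσ, hu1]
  rw [Finset.sum_range_succ (fun i => x i ^ q • u (i + 1)) t,
    Finset.sum_range_succ' (fun i => x i • u i) t, hxt, hrel,
    Finset.sum_range_succ' (fun i => a i • u i) t, hx0]
  simp only [hxs, add_smul, Finset.sum_add_distrib, Finset.smul_sum, smul_add, smul_smul]
  rw [add_assoc]
  congr 1
  congr 1
  · apply Finset.sum_congr rfl
    intro i _
    rw [mul_comm]
  · rw [mul_comm]

theorem snoc_iter_eq (u : ℕ → V) (t : ℕ) :
    (Fin.snoc (fun i : Fin t => u i) (u t) : Fin (t + 1) → V) = fun i : Fin (t + 1) => u i := by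
  funext i
  refine Fin.lastCases ?_ (fun j => ?_) i
  · simp
  · simp

theorem exists_fixed_ne_zero [IsAlgClosed k] [FiniteDimensional k V] [Nontrivial V]
    (hq : 2 ≤ q) (φ : V →ₛₗ[σ] V)
    (hσ : ∀ c, σ c = c ^ q) (hφ : Function.Injective φ) :
    ∃ x : V, x ≠ 0 ∧ φ x = x := by
  classical
  obtain ⟨v, hv⟩ := exists_ne (0 : V)
  obtain ⟨u, hu⟩ : ∃ u : ℕ → V, ∀ i, u i = (⇑φ)^[i] v := ⟨_, fun _ => rfl⟩
  have hex : ∃ t, u t ∈ Submodule.span k (Set.range (fun i : Fin t => u i)) := by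
    by_contra hno
    push Not at hno
    have hli : ∀ t, LinearIndependent k (fun i : Fin t => u i) := by
      intro t
      induction t with
      | zero => exact linearIndependent_empty_type
      | succ t ih =>
        have := (linearIndependent_fin_snoc (v := fun i : Fin t => u i) (x := u t)).2 ⟨ih, hno t⟩
        rwa [snoc_iter_eq] at this
    have := (hli (Module.finrank k V + 1)).fintype_card_le_finrank
    simp at this
  have ht₀ := Nat.find_spec hex
  have hmin : ∀ s, s < Nat.find hex →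
      u s ∉ Submodule.span k (Set.range (fun i : Fin s => u i)) := fun s hs => Nat.find_min hex hs
  have hli : ∀ s, s ≤ Nat.find hex → LinearIndependent k (fun i : Fin s => u i) := by
    intro s
    induction s with
    | zero => intro _; exact linearIndependent_empty_type
    | succ s ih =>
      intro hs
      have := (linearIndependent_fin_snoc (v := fun i : Fin s => u i) (x := u s)).2
        ⟨ih (by omega), hmin s (by omega)⟩
      rwa [snoc_iter_eq] at this
  obtain ⟨t, ht⟩ : ∃ t, Nat.find hex = t + 1 := by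
    rcases Nat.eq_zero_or_eq_succ_pred (Nat.find hex) with h0 | h1
    · exfalso
      rw [h0] at ht₀
      have : Set.range (fun i : Fin 0 => u i) = ∅ := Set.range_eq_empty _
      rw [this, Submodule.span_empty, Submodule.mem_bot, hu] at ht₀
      exact hv ht₀
    · exact ⟨_, h1⟩
  rw [ht] at ht₀
  have hliT := hli (t + 1) ht.ge
  obtain ⟨c, hc⟩ := (Submodule.mem_span_range_iff_exists_fun k).1 ht₀
  obtain ⟨a, ha⟩ : ∃ a : ℕ → k, ∀ i : Fin (t + 1), a i = c i :=
    ⟨fun i => if h : i < t + 1 then c ⟨i, h⟩ else 0, fun i => by simp [i.2]⟩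
  have hrel : (⇑φ)^[t + 1] v = ∑ i ∈ Finset.range (t + 1), a i • (⇑φ)^[i] v := by
    rw [Finset.sum_range (fun i => a i • (⇑φ)^[i] v), ← hu, ← hc]
    apply Finset.sum_congr rfl
    intro i _
    rw [ha, hu]
  have hane : ∃ j ≤ t, a j ≠ 0 := by
    by_contra hno
    push Not at hno
    have h0 : (⇑φ)^[t + 1] v = 0 := by
      rw [hrel]
      apply Finset.sum_eq_zero
      intro i hi
      rw [hno i (by rw [Finset.mem_range] at hi; omega), zero_smul]
    have h1 : (⇑φ)^[t + 1] v = (⇑φ)^[t + 1] 0 := by rw [h0, iterate_map_zero]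
    exact hv ((hφ.iterate (t + 1)) h1)
  obtain ⟨z, hz0, hz⟩ := exists_root_Xpoly hq a t hane
  refine ⟨∑ i ∈ Finset.range (t + 1), (Xpoly q a i).eval z • (⇑φ)^[i] v, ?_,
    fixed_of_root φ hσ a t v hrel z hz⟩
  intro hx
  rw [Finset.sum_range (fun i => (Xpoly q a i).eval z • (⇑φ)^[i] v)] at hx
  have hx' : ∑ i : Fin (t + 1), (fun i : Fin (t + 1) => (Xpoly q a i).eval z) i • u i = 0 := by
    rw [← hx]
    apply Finset.sum_congr rfl
    intro i _
    rw [hu]
  have := Fintype.linearIndependent_iff.1 hliT _ hx' (Fin.last t)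
  simp only [Fin.val_last] at this
  rw [hz] at this
  exact hz0 this

end Fixed

section Span

variable {k : Type u} [Field k] [IsAlgClosed k] {q : ℕ} {σ : k →+* k}
variable {V : Type v} [AddCommGroup V] [Module k V]

theorem artin_schreier (hq : 2 ≤ q) (c : k) : ∃ d : k, d ^ q - d = c := by
  have hdeg : (X ^ q - (X + C c) : Polynomial k).degree ≠ 0 := by
    have h1 : (X + C c : Polynomial k).degree < (X ^ q : Polynomial k).degree := by
      rw [degree_X_pow, degree_X_add_C]
      exact_mod_cast (by omega : 1 < q)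
    rw [degree_sub_eq_left_of_degree_lt h1, degree_X_pow]
    exact_mod_cast (by omega : q ≠ 0)
  obtain ⟨d, hd⟩ := IsAlgClosed.exists_root _ hdeg
  refine ⟨d, ?_⟩
  rw [IsRoot.def, eval_sub, eval_pow, eval_X, eval_add, eval_X, eval_C] at hd
  linear_combination hd

theorem exists_sub_eq_of_mem_span (hq : 2 ≤ q) (φ : V →ₛₗ[σ] V) (hσ : ∀ c, σ c = c ^ q) {w : V}
    (hw : w ∈ Submodule.span k {x | φ x = x}) :
    ∃ u ∈ Submodule.span k {x | φ x = x}, φ u - u = w := by
  rw [← Submodule.mem_toAddSubmonoid, Submodule.span_eq_closure] at hw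
  induction hw using AddSubmonoid.closure_induction with
  | mem w hw =>
    obtain ⟨c, -, f, hf, rfl⟩ := Set.mem_smul.1 hw
    obtain ⟨d, hd⟩ := artin_schreier hq c
    refine ⟨d • f, Submodule.smul_mem _ _ (Submodule.subset_span hf), ?_⟩
    have hf' : φ f = f := hf
    rw [map_smulₛₗ, hσ, hf', ← sub_smul, hd]
  | zero => exact ⟨0, Submodule.zero_mem _, by simp⟩
  | add w₁ w₂ _ _ h₁ h₂ =>
    obtain ⟨u₁, hu₁, rfl⟩ := h₁
    obtain ⟨u₂, hu₂, rfl⟩ := h₂
    exact ⟨u₁ + u₂, Submodule.add_mem _ hu₁ hu₂, by rw [map_add]; abel⟩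

theorem exists_map_eq_of_mem_span (hq : 2 ≤ q) (φ : V →ₛₗ[σ] V) (hσ : ∀ c, σ c = c ^ q) {w : V}
    (hw : w ∈ Submodule.span k {x | φ x = x}) :
    ∃ u ∈ Submodule.span k {x | φ x = x}, φ u = w := by
  rw [← Submodule.mem_toAddSubmonoid, Submodule.span_eq_closure] at hw
  induction hw using AddSubmonoid.closure_induction with
  | mem w hw =>
    obtain ⟨c, -, f, hf, rfl⟩ := Set.mem_smul.1 hw
    obtain ⟨d, hd⟩ := IsAlgClosed.exists_pow_nat_eq c (by omega : 0 < q)
    refine ⟨d • f, Submodule.smul_mem _ _ (Submodule.subset_span hf), ?_⟩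
    have hf' : φ f = f := hf
    rw [map_smulₛₗ, hσ, hf', hd]
  | zero => exact ⟨0, Submodule.zero_mem _, by simp⟩
  | add w₁ w₂ _ _ h₁ h₂ =>
    obtain ⟨u₁, hu₁, rfl⟩ := h₁
    obtain ⟨u₂, hu₂, rfl⟩ := h₂
    exact ⟨u₁ + u₂, Submodule.add_mem _ hu₁ hu₂, by rw [map_add]⟩

/-- The fixed vectors of an injective `q`-semilinear endomorphism span. -/
theorem span_fixed_eq_top [FiniteDimensional k V] (hq : 2 ≤ q) (φ : V →ₛₗ[σ] V)
    (hσ : ∀ c, σ c = c ^ q) (hφ : Function.Injective φ) :
    Submodule.span k {x | φ x = x} = ⊤ := by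
  by_contra hne
  obtain ⟨V', hV'⟩ : ∃ V' : Submodule k V, V' = Submodule.span k {x | φ x = x} := ⟨_, rfl⟩
  rw [← hV'] at hne
  have hle : V' ≤ V'.comap φ := by
    rw [hV']
    apply Submodule.span_le.2
    intro x hx
    have hx' : φ x = x := hx
    show φ x ∈ Submodule.span k {x | φ x = x}
    rw [hx']
    exact Submodule.subset_span hx
  have hinj : Function.Injective (V'.mapQ V' φ hle) := by
    rw [injective_iff_map_eq_zero]
    intro y hy
    obtain ⟨y, rfl⟩ := Submodule.Quotient.mk_surjective _ y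
    rw [Submodule.mapQ_apply, Submodule.Quotient.mk_eq_zero] at hy
    rw [Submodule.Quotient.mk_eq_zero]
    rw [hV'] at hy ⊢
    obtain ⟨u, hu, hu'⟩ := exists_map_eq_of_mem_span hq φ hσ hy
    rw [← hφ hu']
    exact hu
  have : Nontrivial (V ⧸ V') := Submodule.Quotient.nontrivial_iff.2 hne
  obtain ⟨y, hy0, hy⟩ := exists_fixed_ne_zero hq (V'.mapQ V' φ hle) hσ hinj
  obtain ⟨y, rfl⟩ := Submodule.Quotient.mk_surjective _ y
  rw [Submodule.mapQ_apply, Submodule.Quotient.eq] at hy
  apply hy0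
  rw [Submodule.Quotient.mk_eq_zero]
  rw [hV'] at hy ⊢
  obtain ⟨u, hu, hu'⟩ := exists_sub_eq_of_mem_span hq φ hσ (Submodule.neg_mem _ hy)
  have hfix : φ (y + u) = y + u := by
    rw [map_add]
    have : φ u = u - (φ y - y) := by
      rw [sub_eq_iff_eq_add] at hu'
      rw [hu']; abel
    rw [this]; abel
  have : y + u ∈ Submodule.span k {x | φ x = x} := Submodule.subset_span hfix
  have h2 := Submodule.sub_mem _ this hu
  rwa [add_sub_cancel_right] at h2

/-- `φ - 1` is surjective. -/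
theorem exists_sub_eq [FiniteDimensional k V] (hq : 2 ≤ q) (φ : V →ₛₗ[σ] V)
    (hσ : ∀ c, σ c = c ^ q) (hφ : Function.Injective φ) (w : V) : ∃ u : V, φ u - u = w := by
  have hw : w ∈ Submodule.span k {x | φ x = x} := by
    rw [span_fixed_eq_top hq φ hσ hφ]; trivial
  obtain ⟨u, -, hu⟩ := exists_sub_eq_of_mem_span hq φ hσ hw
  exact ⟨u, hu⟩

end Span

section Inverse

variable {k : Type u} [Field k] [IsAlgClosed k] {q : ℕ}
variable {V : Type v} [AddCommGroup V] [Module k V]

/-- The inverse of a bijective semilinear map, as a semilinear map for the inverse twist. -/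
noncomputable def invSemilinear {σ τ : k →+* k} (φ : V →ₛₗ[τ] V) (hφ : Function.Bijective φ)
    (hτσ : ∀ c, τ (σ c) = c) : V →ₛₗ[σ] V where
  toFun := Function.surjInv hφ.surjective
  map_add' x y := by
    apply hφ.injective
    have h1 := Function.surjInv_eq hφ.surjective (x + y)
    have h2 := Function.surjInv_eq hφ.surjective x
    have h3 := Function.surjInv_eq hφ.surjective y
    rw [map_add, h1, h2, h3]
  map_smul' c x := by
    apply hφ.injective
    show φ (Function.surjInv hφ.surjective (c • x)) = φ (σ c • Function.surjInv hφ.surjective x)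
    have h1 := Function.surjInv_eq hφ.surjective (c • x)
    have h2 := Function.surjInv_eq hφ.surjective x
    rw [map_smulₛₗ, hτσ, h1, h2]

omit [IsAlgClosed k] in
theorem invSemilinear_apply {σ τ : k →+* k} (φ : V →ₛₗ[τ] V) (hφ : Function.Bijective φ)
    (hτσ : ∀ c, τ (σ c) = c) (x : V) : φ (invSemilinear φ hφ hτσ x) = x :=
  Function.surjInv_eq hφ.surjective x

omit [IsAlgClosed k] in
theorem invSemilinear_apply' {σ τ : k →+* k} (φ : V →ₛₗ[τ] V) (hφ : Function.Bijective φ)
    (hτσ : ∀ c, τ (σ c) = c) (x : V) : invSemilinear φ hφ hτσ (φ x) = x :=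
  hφ.injective (invSemilinear_apply φ hφ hτσ (φ x))

/-- Main theorem of this file: for `τ` equal to `c ↦ c ^ q` or inverse to it, the fixed vectors
of a bijective `τ`-semilinear endomorphism span, and `φ - 1` is surjective. -/
theorem fix_main [FiniteDimensional k V] (hq : 2 ≤ q) (σ : k →+* k) (hσ : ∀ c, σ c = c ^ q)
    (τ : k →+* k) (hτ : (∀ c, τ c = σ c) ∨ (∀ c, σ (τ c) = c)) (φ : V →ₛₗ[τ] V)
    (hφ : Function.Bijective φ) :
    Submodule.span k {x | φ x = x} = ⊤ ∧ ∀ w, ∃ u, φ u - u = w := by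
  rcases hτ with h | h
  · obtain rfl : τ = σ := RingHom.ext h
    exact ⟨span_fixed_eq_top hq φ hσ hφ.1, exists_sub_eq hq φ hσ hφ.1⟩
  · have hτσ : ∀ c, τ (σ c) = c := fun c => σ.injective (h (σ c))
    set ψ := invSemilinear φ hφ hτσ with hψ
    have hψinj : Function.Injective ψ := by
      intro x y hxy
      have := congrArg φ hxy
      rwa [invSemilinear_apply, invSemilinear_apply] at this
    have hfix : {x | φ x = x} = {x | ψ x = x} := by
      ext x
      constructor
      · intro hx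
        have hx' : φ x = x := hx
        show ψ x = x
        conv_lhs => rw [← hx']
        exact invSemilinear_apply' φ hφ hτσ x
      · intro hx
        have hx' : ψ x = x := hx
        show φ x = x
        conv_lhs => rw [← hx']
        exact invSemilinear_apply φ hφ hτσ x
    refine ⟨by rw [hfix]; exact span_fixed_eq_top hq ψ hσ hψinj, fun w => ?_⟩
    obtain ⟨u, hu⟩ := exists_sub_eq hq ψ hσ hψinj (-w)
    refine ⟨ψ u, ?_⟩
    rw [invSemilinear_apply]
    rw [sub_eq_iff_eq_add] at hu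
    rw [hu]; abel

end Inverse

end Groth.Agent.Lib.Helper25.FrobFix
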