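import Mathlib

/-!
# Frobenius-semilinear bijections of finite-dimensional vector spaces over algebraically closed fields

`exists_fixed_ne_zero`: an injective additive map `φ` with `φ (a • v) = a ^ q • φ v` (`q ≥ 2`) on a
nonzero finite-dimensional space over an algebraically closed field has a nonzero fixed vector.
`span_fixed_eq_top`: if moreover `k` has characteristic `p` and `q = p ^ ν`, the fixed vectors span.
-/

set_option autoImplicit false

namespace Groth.Agent.Lib.Helper25.FrobSemilinear

open Polynomial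

section polyF
variable {k : Type*} [Field k] (q : ℕ) (a : ℕ → k)

/-- The recursive polynomials `F₀ = a₀ Y^q`, `F_{i+1} = F_i^q + a_{i+1} Y^q`. -/
noncomputable def F : ℕ → k[X]
  | 0 => C (a 0) * X ^ q
  | (i+1) => (F i) ^ q + C (a (i+1)) * X ^ q

theorem F_zero : F q a 0 = C (a 0) * X ^ q := rfl
theorem F_succ (i : ℕ) : F q a (i+1) = (F q a i) ^ q + C (a (i+1)) * X ^ q := rfl

theorem X_pow_dvd_F (hq : 1 ≤ q) (i : ℕ) : (X : k[X]) ^ q ∣ F q a i := by
  induction i with
  | zero => exact Dvd.intro_left _ rfl
  | succ i ih =>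
    rw [F_succ]
    exact dvd_add (ih.trans (dvd_pow_self _ (by omega))) (Dvd.intro_left _ rfl)

theorem F_eq_zero (hq : 2 ≤ q) : ∀ i, F q a i = 0 → ∀ j ≤ i, a j = 0 := by
  intro i
  induction i with
  | zero =>
    intro h j hj
    obtain rfl : j = 0 := by omega
    rw [F_zero] at h
    have := mul_eq_zero.mp h
    rcases this with h | h
    · simpa using h
    · exact absurd h (pow_ne_zero _ X_ne_zero)
  | succ i ih =>
    intro h j hj
    by_cases hFi : F q a i = 0
    · rw [F_succ, hFi, zero_pow (by omega), zero_add] at h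
      have h' : a (i+1) = 0 := by
        rcases mul_eq_zero.mp h with h | h
        · simpa using h
        · exact absurd h (pow_ne_zero _ X_ne_zero)
      rcases Nat.lt_or_ge j (i+1) with hlt | hge
      · exact ih hFi j (by omega)
      · obtain rfl : j = i + 1 := by omega
        exact h'
    · exfalso
      have hdeg : q ≤ (F q a i).natDegree := by
        have := natDegree_le_of_dvd (X_pow_dvd_F q a (by omega) i) hFi
        simpa using this
      rw [F_succ] at h
      have h1 : (F q a i) ^ q = - (C (a (i+1)) * X ^ q) := eq_neg_of_add_eq_zero_left h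
      have h2 : ((F q a i) ^ q).natDegree = q * (F q a i).natDegree := natDegree_pow _ _
      have h3 : (- (C (a (i+1)) * X ^ q)).natDegree ≤ q := by
        rw [natDegree_neg]
        exact natDegree_C_mul_X_pow_le _ _
      rw [h1] at h2
      have : q * q ≤ q := by
        calc q * q ≤ q * (F q a i).natDegree := Nat.mul_le_mul_left _ hdeg
          _ ≤ q := by rw [← h2]; exact h3
      nlinarith

end polyF

theorem exists_ne_zero_eval_eq {k : Type*} [Field k] [IsAlgClosed k] (P : k[X])
    (hdvd : (X : k[X]) ^ 2 ∣ P) (hne : P ≠ 0) : ∃ y : k, y ≠ 0 ∧ P.eval y = y := by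
  obtain ⟨H, rfl⟩ := hdvd
  have hH : H ≠ 0 := by
    rintro rfl
    simp at hne
  have hdeg : (X * H - 1 : k[X]).degree ≠ 0 := by
    have h1 : (X * H : k[X]).natDegree = 1 + H.natDegree := by
      rw [natDegree_mul X_ne_zero hH, natDegree_X]
    have h2 : (X * H - 1 : k[X]).natDegree = (X * H : k[X]).natDegree := by
      apply natDegree_sub_eq_left_of_natDegree_lt
      rw [natDegree_one, h1]; omega
    intro h
    have := natDegree_eq_zero_iff_degree_le_zero.mpr (le_of_eq h)
    rw [h2, h1] at this
    omega
  obtain ⟨y, hy⟩ := IsAlgClosed.exists_root _ hdeg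
  simp only [IsRoot.def, eval_sub, eval_mul, eval_X, eval_one] at hy
  have hy1 : y * H.eval y = 1 := sub_eq_zero.mp hy
  refine ⟨y, ?_, ?_⟩
  · rintro rfl
    simp at hy1
  · simp only [eval_mul, eval_pow, eval_X]
    rw [pow_two, mul_assoc, hy1, mul_one]

section main

variable {k : Type*} [Field k] [IsAlgClosed k] (q : ℕ)
  {V : Type*} [AddCommGroup V] [Module k V]
  (φ : V →+ V) (hφ : ∀ (a : k) (v : V), φ (a • v) = a ^ q • φ v)

include hφ in
theorem exists_fixed_ne_zero (hq : 2 ≤ q) [FiniteDimensional k V] [Nontrivial V]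
    (hinj : Function.Injective φ) : ∃ w : V, w ≠ 0 ∧ φ w = w := by
  classical
  obtain ⟨v, hv⟩ := exists_ne (0 : V)
  set u : ℕ → V := fun i => φ^[i] v with hu
  have hu_succ : ∀ i, φ (u i) = u (i+1) := fun i => (Function.iterate_succ_apply' φ i v).symm
  have hex : ∃ r, ¬ LinearIndependent k (fun i : Fin (r+1) => u i) := by
    refine ⟨Module.finrank k V, fun h => ?_⟩
    have := h.fintype_card_le_finrank
    simp at this
  have hr : ¬ LinearIndependent k (fun i : Fin (Nat.find hex + 1) => u i) := Nat.find_spec hex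
  have hr0 : Nat.find hex ≠ 0 := by
    intro h0
    apply hr
    rw [h0]
    change LinearIndependent k (fun i : Fin 1 => u i)
    rw [linearIndependent_unique_iff]
    exact hv
  obtain ⟨m, hm⟩ := Nat.exists_eq_succ_of_ne_zero hr0
  have hli : LinearIndependent k (fun i : Fin (m+1) => u i) := by
    have := Nat.find_min hex (m := m) (by omega)
    exact not_not.mp this
  have hmem : u (m+1) ∈ Submodule.span k (Set.range (fun i : Fin (m+1) => u i)) := by
    by_contra h
    apply hr
    rw [hm]
    have : (fun i : Fin (m + 1 + 1) => u i) =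
        Fin.snoc (fun i : Fin (m+1) => u i) (u (m+1)) := by
      ext i
      refine Fin.lastCases ?_ (fun j => ?_) i
      · simp
      · simp
    rw [this, linearIndependent_fin_snoc]
    exact ⟨hli, h⟩
  obtain ⟨c, hc⟩ := (Submodule.mem_span_range_iff_exists_fun k).mp hmem
  set a : ℕ → k := fun i => if h : i < m+1 then c ⟨i, h⟩ else 0 with ha_def
  have ha : ∑ i ∈ Finset.range (m+1), a i • u i = u (m+1) := by
    rw [Finset.sum_range, ← hc]
    refine Finset.sum_congr rfl (fun i _ => ?_)
    simp only [ha_def]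
    rw [dif_pos i.2]
  have hFne : F q a m ≠ 0 := by
    intro h0
    have hall := F_eq_zero q a hq m h0
    have : u (m+1) = 0 := by
      rw [← ha]
      refine Finset.sum_eq_zero (fun i hi => ?_)
      rw [hall i (by have := Finset.mem_range.mp hi; omega), zero_smul]
    have h2 : φ^[m+1] v = φ^[m+1] 0 := by
      rw [show φ^[m+1] v = u (m+1) from rfl, this]
      exact (iterate_map_zero φ (m+1)).symm
    exact hv ((hinj.iterate (m+1)) h2)
  have hdvd : (X : k[X]) ^ 2 ∣ F q a m :=
    (pow_dvd_pow X hq).trans (X_pow_dvd_F q a (by omega) m)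
  obtain ⟨y, hy0, hy⟩ := exists_ne_zero_eval_eq (F q a m) hdvd hFne
  set x : ℕ → k := fun i => (F q a i).eval y with hx_def
  have hx0 : x 0 = a 0 * y ^ q := by simp [hx_def, F_zero]
  have hxs : ∀ i, x (i+1) = (x i) ^ q + a (i+1) * y ^ q := by
    intro i; simp [hx_def, F_succ]
  have hxm : x m = y := hy
  refine ⟨∑ i ∈ Finset.range (m+1), x i • u i, ?_, ?_⟩
  · intro hw
    rw [Finset.sum_range] at hw
    have := Fintype.linearIndependent_iff.mp hli (fun i => x i) hw ⟨m, by omega⟩
    simp only at this
    rw [hxm] at this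
    exact hy0 this
  · rw [map_sum]
    simp only [hφ, hu_succ]
    rw [Finset.sum_range_succ, hxm, ← ha]
    rw [Finset.sum_range_succ' (fun i => x i • u i), Finset.sum_range_succ' (fun i => a i • u i)]
    simp only [hxs, hx0, add_smul, Finset.sum_add_distrib, Finset.smul_sum, smul_add, smul_smul,
      mul_comm (y ^ q)]
    abel

variable (p : ℕ) [Fact p.Prime] [CharP k p] (ν : ℕ)

/-- The span of the fixed vectors. -/
def fixedSpan : Submodule k V := Submodule.span k {v : V | φ v = v}

include hφ in
theorem map_mem_fixedSpan (w : V) (hw : w ∈ fixedSpan (k := k) φ) : φ w ∈ fixedSpan (k := k) φ := by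
  unfold fixedSpan at hw ⊢
  induction hw using Submodule.span_induction with
  | mem w hw =>
    rw [Set.mem_setOf_eq] at hw
    rw [hw]; exact Submodule.subset_span hw
  | zero => simp
  | add x y _ _ hx hy => rw [map_add]; exact add_mem hx hy
  | smul c x _ hx => rw [hφ]; exact Submodule.smul_mem _ _ hx

include hφ in
theorem exists_map_eq_of_mem_fixedSpan (hq : 0 < q) (w : V) (hw : w ∈ fixedSpan (k := k) φ) :
    ∀ c : k, ∃ w' ∈ fixedSpan (k := k) φ, φ w' = c • w := by
  unfold fixedSpan at hw
  induction hw using Submodule.span_induction with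
  | mem w hw =>
    intro c
    rw [Set.mem_setOf_eq] at hw
    obtain ⟨d, hd⟩ := IsAlgClosed.exists_pow_nat_eq c hq
    exact ⟨d • w, Submodule.smul_mem _ _ (Submodule.subset_span hw), by rw [hφ, hw, hd]⟩
  | zero => intro c; exact ⟨0, zero_mem _, by simp⟩
  | add x y _ _ hx hy =>
    intro c
    obtain ⟨x', hx', hx''⟩ := hx c
    obtain ⟨y', hy', hy''⟩ := hy c
    exact ⟨x' + y', add_mem hx' hy', by rw [map_add, hx'', hy'', smul_add]⟩
  | smul d x _ hx =>
    intro c
    obtain ⟨x', hx', hx''⟩ := hx (c * d)
    exact ⟨x', hx', by rw [hx'', mul_smul]⟩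

include hφ in
theorem exists_sub_eq_of_mem_fixedSpan (hq : 2 ≤ q) (w : V) (hw : w ∈ fixedSpan (k := k) φ) :
    ∀ c : k, ∃ w' ∈ fixedSpan (k := k) φ, φ w' - w' = c • w := by
  unfold fixedSpan at hw
  induction hw using Submodule.span_induction with
  | mem w hw =>
    intro c
    rw [Set.mem_setOf_eq] at hw
    have hdeg : (X ^ q - X - C c : k[X]).degree ≠ 0 := by
      have h1 : (X ^ q - X - C c : k[X]).natDegree = q := by
        rw [sub_sub]
        have : (X ^ q - (X + C c) : k[X]).natDegree = (X ^ q : k[X]).natDegree := by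
          apply natDegree_sub_eq_left_of_natDegree_lt
          rw [natDegree_X_pow]
          exact lt_of_le_of_lt (natDegree_X_add_C c).le (by omega)
        rw [this, natDegree_X_pow]
      intro h
      have := natDegree_eq_zero_iff_degree_le_zero.mpr (le_of_eq h)
      rw [h1] at this
      omega
    obtain ⟨d, hd⟩ := IsAlgClosed.exists_root _ hdeg
    simp only [IsRoot.def, eval_sub, eval_pow, eval_X, eval_C] at hd
    refine ⟨d • w, Submodule.smul_mem _ _ (Submodule.subset_span hw), ?_⟩
    rw [hφ, hw, ← sub_smul]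
    congr 1
    linear_combination hd
  | zero => intro c; exact ⟨0, zero_mem _, by simp⟩
  | add x y _ _ hx hy =>
    intro c
    obtain ⟨x', hx', hx''⟩ := hx c
    obtain ⟨y', hy', hy''⟩ := hy c
    refine ⟨x' + y', add_mem hx' hy', ?_⟩
    rw [map_add, smul_add, ← hx'', ← hy'']
    abel
  | smul d x _ hx =>
    intro c
    obtain ⟨x', hx', hx''⟩ := hx (c * d)
    exact ⟨x', hx', by rw [hx'', mul_smul]⟩

include hφ in
theorem fixedSpan_eq_top (hq : 2 ≤ q) [FiniteDimensional k V] (hinj : Function.Injective φ) :
    fixedSpan (k := k) φ = ⊤ := by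
  classical
  by_contra hne
  set W : Submodule k V := fixedSpan (k := k) φ with hW
  have hmap : W.toAddSubgroup ≤ W.toAddSubgroup.comap φ :=
    fun w hw => map_mem_fixedSpan q φ hφ w hw
  let φbar : (V ⧸ W) →+ (V ⧸ W) := QuotientAddGroup.map W.toAddSubgroup W.toAddSubgroup φ hmap
  have hbar : ∀ v : V, φbar (Submodule.Quotient.mk v) = Submodule.Quotient.mk (φ v) :=
    fun v => rfl
  have hsemi : ∀ (a : k) (x : V ⧸ W), φbar (a • x) = a ^ q • φbar x := by
    intro a x
    induction x using Submodule.Quotient.induction_on with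
    | H v => rw [← Submodule.Quotient.mk_smul, hbar, hbar, hφ, Submodule.Quotient.mk_smul]
  have hinjbar : Function.Injective φbar := by
    rw [injective_iff_map_eq_zero]
    intro x hx
    induction x using Submodule.Quotient.induction_on with
    | H v =>
      rw [hbar, Submodule.Quotient.mk_eq_zero] at hx
      rw [Submodule.Quotient.mk_eq_zero]
      obtain ⟨w', hw', hw''⟩ := exists_map_eq_of_mem_fixedSpan q φ hφ (by omega) _ hx 1
      rw [one_smul] at hw''
      rw [← hinj hw'']; exact hw'
  have : Nontrivial (V ⧸ W) :=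
    Submodule.Quotient.nontrivial_iff.mpr hne
  obtain ⟨x, hx0, hx⟩ := exists_fixed_ne_zero q φbar hsemi hq hinjbar
  induction x using Submodule.Quotient.induction_on with
  | H v =>
    rw [hbar] at hx
    have h1 : φ v - v ∈ W := (Submodule.Quotient.eq W).mp hx
    obtain ⟨w', hw', hw''⟩ := exists_sub_eq_of_mem_fixedSpan q φ hφ hq _ h1 (-1)
    have hfix : φ (v + w') = v + w' := by
      rw [map_add]
      have h2 : φ w' - w' = -(φ v - v) := by rw [hw'']; simp
      have h3 : φ v + φ w' - (v + w') = 0 := by
        have : φ v + φ w' - (v + w') = (φ w' - w') + (φ v - v) := by abel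
        rw [this, h2]; abel
      exact sub_eq_zero.mp h3
    have h4 : v + w' ∈ W := Submodule.subset_span hfix
    have h5 : v ∈ W := by simpa using sub_mem h4 hw'
    exact hx0 ((Submodule.Quotient.mk_eq_zero W).mpr h5)

omit hφ in
theorem exists_basis_fixed {V : Type*} [AddCommGroup V] [Module k V]
    (φ : V →+ V) (hφ : ∀ (a : k) (v : V), φ (a • v) = a ^ q • φ v)
    (hq : 2 ≤ q) [FiniteDimensional k V] (hinj : Function.Injective φ) :
    ∃ (s : Set V) (b : Module.Basis s k V), ∀ i, φ (b i) = b i := by
  have htop := fixedSpan_eq_top q φ hφ hq hinj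
  obtain ⟨b, hbs, hspan, hli⟩ := exists_linearIndependent k {v : V | φ v = v}
  refine ⟨b, Module.Basis.mk hli ?_, ?_⟩
  · rw [Subtype.range_coe, hspan]
    exact htop.ge
  · intro i
    rw [Module.Basis.mk_apply]
    exact hbs i.2

end main

end Groth.Agent.Lib.Helper25.FrobSemilinear
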