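import Mathlib
import Groth.Agent.Lib.Helper25.FrobFix

/-!
# Trace of `F = φ^f` via the fixed points of the `p`-linear extension `φ_K` (helper25)

SGA 4½, Rapport / Sommes trig.: for `φ` a `p`-linear endomorphism of a finite-dimensional vector
space `V` over a finite field `k` with `p^f` elements, the trace of the linear map `F = φ^f` equals
the trace of `F_K` on the `𝔽_p`-vector space of fixed points of `φ_K` in `K ⊗ V`.
-/

set_option autoImplicit false

universe u

open TensorProduct

namespace Groth.Agent.Lib.Helper25.FrobTrace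

/-- In a field of characteristic `p`, the solutions of `x ^ p = x` are the natural number casts. -/
theorem exists_natCast_of_pow_eq_self {K : Type*} [Field K] (p : ℕ) [Fact p.Prime] [CharP K p]
    (x : K) (hx : x ^ p = x) : ∃ n : ℕ, (n : K) = x := by
  classical
  have hp : 1 < p := (Fact.out : p.Prime).one_lt
  obtain ⟨P, hP⟩ : ∃ P : Polynomial K, P = Polynomial.X ^ p - Polynomial.X := ⟨_, rfl⟩
  have hP0 : P ≠ 0 := hP ▸ FiniteField.X_pow_card_sub_X_ne_zero K hp
  have hdeg : P.natDegree = p := hP ▸ FiniteField.X_pow_card_sub_X_natDegree_eq K hp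
  have hroot : ∀ y : K, y ∈ P.roots.toFinset ↔ y ^ p = y := by
    intro y
    rw [Multiset.mem_toFinset, Polynomial.mem_roots hP0, Polynomial.IsRoot.def, hP]
    simp only [Polynomial.eval_sub, Polynomial.eval_pow, Polynomial.eval_X]
    exact sub_eq_zero
  obtain ⟨S, hS⟩ : ∃ S : Finset K, S = (Finset.range p).image (fun n : ℕ => (n : K)) := ⟨_, rfl⟩
  have hsub : S ⊆ P.roots.toFinset := by
    intro y hy
    rw [hS] at hy
    obtain ⟨n, -, rfl⟩ := Finset.mem_image.1 hy
    rw [hroot]
    have := map_natCast (frobenius K p) n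
    rwa [frobenius_def] at this
  have hcard : S.card = p := by
    rw [hS, Finset.card_image_of_injOn, Finset.card_range]
    intro a ha b hb hab
    exact CharP.natCast_injOn_Iio K p (Set.mem_Iio.2 (Finset.mem_range.1 (Finset.mem_coe.1 ha)))
      (Set.mem_Iio.2 (Finset.mem_range.1 (Finset.mem_coe.1 hb))) hab
  have hle : P.roots.toFinset.card ≤ S.card := by
    rw [hcard]
    calc P.roots.toFinset.card ≤ Multiset.card P.roots := Multiset.toFinset_card_le _
      _ ≤ P.natDegree := Polynomial.card_roots' P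
      _ = p := hdeg
  have heq : S = P.roots.toFinset := Finset.eq_of_subset_of_card_le hsub hle
  have hxmem : x ∈ P.roots.toFinset := (hroot x).2 hx
  rw [← heq, hS] at hxmem
  obtain ⟨n, -, hn⟩ := Finset.mem_image.1 hxmem
  exact ⟨n, hn⟩

/-- A family of fixed vectors of a `p`-semilinear map which is independent over the prime field
(here: with natural number coefficients) is independent. -/
theorem linearIndependent_of_fixed {K E : Type*} [Field K] [AddCommGroup E] [Module K E] (p : ℕ)
    [Fact p.Prime] [CharP K p] (Φ : E →+ E) (hΦ : ∀ (c : K) (y : E), Φ (c • y) = c ^ p • Φ y)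
    {ι : Type*} (v : ι → E) (hv : ∀ i, Φ (v i) = v i)
    (hind : ∀ (s : Finset ι) (g : ι → ℕ), ∑ i ∈ s, (g i : K) • v i = 0 →
      ∀ i ∈ s, (g i : K) = 0) :
    LinearIndependent K v := by
  classical
  rw [linearIndependent_iff']
  intro s
  induction s using Finset.induction_on with
  | empty => intro g _ i hi; simp at hi
  | insert a s has ih =>
    intro g hg i hi
    by_cases hga : g a = 0
    · rw [Finset.sum_insert has, hga, zero_smul, zero_add] at hg
      rcases Finset.mem_insert.1 hi with rfl | hi'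
      · exact hga
      · exact ih g hg i hi'
    · exfalso
      obtain ⟨h, hh⟩ : ∃ h : ι → K, ∀ i, h i = (g a)⁻¹ * g i := ⟨fun i => (g a)⁻¹ * g i, fun i => rfl⟩
      have hha : h a = 1 := by rw [hh, inv_mul_cancel₀ hga]
      have hsum : ∑ i ∈ insert a s, h i • v i = 0 := by
        have : ∑ i ∈ insert a s, h i • v i = (g a)⁻¹ • ∑ i ∈ insert a s, g i • v i := by
          rw [Finset.smul_sum]
          refine Finset.sum_congr rfl fun i _ => ?_
          rw [hh, mul_smul]
        rw [this, hg, smul_zero]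
      have hsum' : ∑ i ∈ insert a s, (h i) ^ p • v i = 0 := by
        have := congrArg Φ hsum
        rw [map_sum, map_zero] at this
        rw [← this]
        refine Finset.sum_congr rfl fun i _ => ?_
        rw [hΦ, hv]
      have hdiff : ∑ i ∈ s, ((h i) ^ p - h i) • v i = 0 := by
        have h1 : ∑ i ∈ insert a s, ((h i) ^ p - h i) • v i = 0 := by
          have : ∀ i ∈ insert a s, ((h i) ^ p - h i) • v i = (h i) ^ p • v i - h i • v i :=
            fun i _ => sub_smul _ _ _
          rw [Finset.sum_congr rfl this, Finset.sum_sub_distrib, hsum', hsum, sub_zero]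
        rw [Finset.sum_insert has, hha, one_pow, sub_self, zero_smul, zero_add] at h1
        exact h1
      have hfix : ∀ i ∈ insert a s, (h i) ^ p = h i := by
        intro i hi
        rcases Finset.mem_insert.1 hi with rfl | hi'
        · rw [hha, one_pow]
        · exact sub_eq_zero.1 (ih _ hdiff i hi')
      have hex : ∀ i, ∃ n : ℕ, i ∈ insert a s → (n : K) = h i := by
        intro i
        by_cases hi : i ∈ insert a s
        · obtain ⟨n, hn⟩ := exists_natCast_of_pow_eq_self p (h i) (hfix i hi)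
          exact ⟨n, fun _ => hn⟩
        · exact ⟨0, fun h' => absurd h' hi⟩
      choose d hd using hex
      have hsumd : ∑ i ∈ insert a s, (d i : K) • v i = 0 := by
        rw [← hsum]
        exact Finset.sum_congr rfl fun i hi => by rw [hd i hi]
      have := hind (insert a s) d hsumd a (Finset.mem_insert_self a s)
      rw [hd a (Finset.mem_insert_self a s), hha] at this
      exact one_ne_zero this

/-- Fitting: the trace of `T` is the trace of `T` on the stable part `range (T ^ m)`. -/
theorem trace_eq_trace_restrict_of_isCompl {K E : Type*} [Field K] [AddCommGroup E] [Module K E]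
    [FiniteDimensional K E] (T : E →ₗ[K] E) (m : ℕ)
    (hc : IsCompl (LinearMap.ker (T ^ m)) (LinearMap.range (T ^ m)))
    (hN : ∀ x ∈ LinearMap.range (T ^ m), T x ∈ LinearMap.range (T ^ m)) :
    LinearMap.trace K E T = LinearMap.trace K _ (T.restrict hN) := by
  have hTpow : ∀ y, (T ^ m) (T y) = T ((T ^ m) y) := by
    intro y
    rw [← Module.End.mul_apply, ← Module.End.mul_apply, ← pow_succ, ← pow_succ']
  have hZ : ∀ x ∈ LinearMap.ker (T ^ m), T x ∈ LinearMap.ker (T ^ m) := by
    intro x hx
    rw [LinearMap.mem_ker] at hx ⊢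
    rw [hTpow, hx, map_zero]
  obtain ⟨e, he⟩ : ∃ e : (↥(LinearMap.ker (T ^ m)) × ↥(LinearMap.range (T ^ m))) ≃ₗ[K] E,
      ∀ x, e x = (x.1 : E) + (x.2 : E) :=
    ⟨Submodule.prodEquivOfIsCompl _ _ hc, Submodule.coe_prodEquivOfIsCompl' _ _ hc⟩
  have hconj : e.conj ((T.restrict hZ).prodMap (T.restrict hN)) = T := by
    apply LinearMap.ext
    intro x
    obtain ⟨⟨z, n⟩, rfl⟩ := e.surjective x
    rw [LinearEquiv.conj_apply_apply, LinearEquiv.symm_apply_apply, LinearMap.prodMap_apply,
      he, he, map_add]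
    rfl
  have hnil : IsNilpotent (T.restrict hZ) := by
    refine ⟨m, ?_⟩
    apply LinearMap.ext
    intro z
    apply Subtype.ext
    rw [Module.End.pow_restrict, LinearMap.coe_restrict_apply]
    exact z.2
  have h0 : LinearMap.trace K _ (T.restrict hZ) = 0 :=
    (LinearMap.isNilpotent_trace_of_isNilpotent hnil).eq_zero
  calc LinearMap.trace K E T
      = LinearMap.trace K E (e.conj ((T.restrict hZ).prodMap (T.restrict hN))) := by rw [hconj]
    _ = LinearMap.trace K _ ((T.restrict hZ).prodMap (T.restrict hN)) :=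
        LinearMap.trace_conj' _ e
    _ = LinearMap.trace K _ (T.restrict hZ) + LinearMap.trace K _ (T.restrict hN) :=
        LinearMap.trace_prodMap' _ _
    _ = LinearMap.trace K _ (T.restrict hN) := by rw [h0, zero_add]

/-- Trace of a restriction computed in a spanning independent family. -/
theorem trace_restrict_eq_sum {K E : Type*} [Field K] [AddCommGroup E] [Module K E]
    (N : Submodule K E) (T : E →ₗ[K] E) (hN : ∀ x ∈ N, T x ∈ N)
    {ι : Type*} [Fintype ι] [DecidableEq ι] (b : ι → E) (hb : LinearIndependent K b)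
    (hspan : Submodule.span K (Set.range b) = N) (A : ι → ι → K)
    (hA : ∀ j, T (b j) = ∑ i, A i j • b i) :
    LinearMap.trace K N (T.restrict hN) = ∑ i, A i i := by
  have hmem : ∀ i, b i ∈ N := fun i => hspan ▸ Submodule.subset_span (Set.mem_range_self i)
  obtain ⟨b', hb'⟩ : ∃ b' : ι → N, ∀ i, (b' i : E) = b i := ⟨fun i => ⟨b i, hmem i⟩, fun i => rfl⟩
  have hcomp : ⇑N.subtype ∘ b' = b := funext hb'
  have hli : LinearIndependent K b' := by
    apply LinearIndependent.of_comp N.subtype
    rw [hcomp]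
    exact hb
  have hsp' : ⊤ ≤ Submodule.span K (Set.range b') := by
    have hmap : Submodule.map N.subtype (Submodule.span K (Set.range b')) = N := by
      rw [Submodule.map_span, ← Set.range_comp, hcomp]
      exact hspan
    intro x _
    have hx : (x : E) ∈ Submodule.map N.subtype (Submodule.span K (Set.range b')) := by
      rw [hmap]; exact x.2
    obtain ⟨y, hy, hyx⟩ := hx
    have : y = x := Subtype.ext hyx
    rwa [← this]
  obtain ⟨B, hB⟩ : ∃ B : Module.Basis ι K N, ∀ i, B i = b' i :=
    ⟨Module.Basis.mk hli hsp', fun i => Module.Basis.mk_apply hli hsp' i⟩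
  rw [LinearMap.trace_eq_matrix_trace K B, Matrix.trace]
  refine Finset.sum_congr rfl fun i _ => ?_
  rw [Matrix.diag_apply, LinearMap.toMatrix_apply]
  have hT : T.restrict hN (B i) = ∑ j, A j i • B j := by
    apply Subtype.ext
    rw [LinearMap.coe_restrict_apply, hB, hb', hA, Submodule.coe_sum]
    refine Finset.sum_congr rfl fun j _ => ?_
    rw [Submodule.coe_smul, hB, hb']
  rw [hT]
  exact congrFun (B.repr_sum_self (fun j => A j i)) i

/-- Lang: a `p`-semilinear map which is injective on a stable subspace `N` has `N` spanned by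
fixed vectors. -/
theorem le_span_fixed {K E : Type*} [Field K] [IsAlgClosed K] [AddCommGroup E] [Module K E]
    [FiniteDimensional K E] (p : ℕ) [Fact p.Prime] [CharP K p] (Φ : E →+ E)
    (hΦ : ∀ (c : K) (y : E), Φ (c • y) = c ^ p • Φ y)
    (N : Submodule K E) (hN : ∀ x ∈ N, Φ x ∈ N) (hinj : ∀ x ∈ N, Φ x = 0 → x = 0) :
    N ≤ Submodule.span K {y | Φ y = y} := by
  let ΦN : N →ₛₗ[frobenius K p] N :=
    { toFun := fun x => ⟨Φ x, hN x x.2⟩
      map_add' := fun x y => Subtype.ext (by
        show Φ ((x + y : N) : E) = Φ x + Φ y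
        rw [Submodule.coe_add, map_add])
      map_smul' := fun c x => Subtype.ext (by
        show Φ ((c • x : N) : E) = (frobenius K p c) • Φ x
        rw [Submodule.coe_smul, hΦ, frobenius_def]) }
  have hΦN : Function.Injective ΦN := by
    rw [injective_iff_map_eq_zero]
    intro x hx
    apply Subtype.ext
    exact hinj x x.2 (congrArg Subtype.val hx)
  have hspan := FrobFix.span_fixed_eq_top (q := p) (Fact.out : p.Prime).two_le ΦN
    (fun c => rfl) hΦN
  intro x hx
  have hx' : (⟨x, hx⟩ : N) ∈ Submodule.span K {y : N | ΦN y = y} := by rw [hspan]; trivial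
  have h2 := Submodule.mem_map_of_mem (f := N.subtype) hx'
  rw [Submodule.map_span] at h2
  refine Submodule.span_mono ?_ h2
  rintro _ ⟨y, hy, rfl⟩
  exact congrArg Subtype.val hy

/-- The abstract core: `T` linear, `Φ` `p`-semilinear commuting with `T`, `Φ^f = T ∘ G` with `G`
injective commuting with both. Then the span of the fixed vectors of `Φ` is `T`-stable and carries
the whole trace of `T`. -/
theorem core {K E : Type*} [Field K] [IsAlgClosed K] [AddCommGroup E] [Module K E]
    [FiniteDimensional K E] (p : ℕ) [Fact p.Prime] [CharP K p] (T : E →ₗ[K] E) (Φ : E →+ E)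
    (hΦ : ∀ (c : K) (y : E), Φ (c • y) = c ^ p • Φ y) (hcomm : ∀ y, Φ (T y) = T (Φ y))
    (G : E → E) (hG0 : G 0 = 0) (hGinj : Function.Injective G) (hGT : ∀ y, G (T y) = T (G y))
    (hGΦ : ∀ y, G (Φ y) = Φ (G y)) (f : ℕ) (hf : f ≠ 0) (hD : ∀ y, (⇑Φ)^[f] y = T (G y)) :
    ∃ (N : Submodule K E) (hN : ∀ x ∈ N, T x ∈ N),
      N = Submodule.span K {y | Φ y = y} ∧
        LinearMap.trace K E T = LinearMap.trace K N (T.restrict hN) := by
  obtain ⟨m, hm, hm1⟩ := ((LinearMap.eventually_isCompl_ker_pow_range_pow T).and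
    (Filter.eventually_ge_atTop 1)).exists
  have hTpow : ∀ (n : ℕ) y, T ((T ^ n) y) = (T ^ n) (T y) := by
    intro n y
    rw [← Module.End.mul_apply, ← Module.End.mul_apply, ← pow_succ', ← pow_succ]
  have hN : ∀ x ∈ LinearMap.range (T ^ m), T x ∈ LinearMap.range (T ^ m) := by
    rintro _ ⟨z, rfl⟩
    exact ⟨T z, (hTpow m z).symm⟩
  refine ⟨LinearMap.range (T ^ m), hN, ?_, trace_eq_trace_restrict_of_isCompl T m hm hN⟩
  have hΦpow : ∀ (n : ℕ) y, Φ ((T ^ n) y) = (T ^ n) (Φ y) := by
    intro n
    induction n with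
    | zero => intro y; rw [pow_zero, Module.End.one_apply, Module.End.one_apply]
    | succ n ih =>
      intro y
      rw [pow_succ', Module.End.mul_apply, hcomm, ih, Module.End.mul_apply]
  have hGpow : ∀ (n : ℕ) y, G ((T ^ n) y) = (T ^ n) (G y) := by
    intro n
    induction n with
    | zero => intro y; rw [pow_zero, Module.End.one_apply, Module.End.one_apply]
    | succ n ih =>
      intro y
      rw [pow_succ', Module.End.mul_apply, hGT, ih, Module.End.mul_apply]
  have hTinj : ∀ x ∈ LinearMap.range (T ^ m), T x = 0 → x = 0 := by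
    intro x hx hTx
    have hker : x ∈ LinearMap.ker (T ^ m) := by
      obtain ⟨m', rfl⟩ : ∃ m', m = m' + 1 := ⟨m - 1, by omega⟩
      rw [LinearMap.mem_ker, pow_succ, Module.End.mul_apply, hTx, map_zero]
    exact Submodule.disjoint_def.1 hm.disjoint x hker hx
  have hfix : ∀ (n : ℕ) y, Φ y = y → y ∈ LinearMap.range (T ^ n) := by
    intro n
    induction n with
    | zero => intro y _; exact ⟨y, by rw [pow_zero, Module.End.one_apply]⟩
    | succ n ih =>
      intro y hy
      have h1 : (⇑Φ)^[f] y = y := Function.iterate_fixed hy f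
      have h2 : Φ (G y) = G y := by rw [← hGΦ, hy]
      obtain ⟨z, hz⟩ := ih (G y) h2
      refine ⟨z, ?_⟩
      rw [pow_succ', Module.End.mul_apply, hz, ← hD, h1]
  have hΦinj : ∀ x ∈ LinearMap.range (T ^ m), Φ x = 0 → x = 0 := by
    intro x hx hΦx
    have h1 : (⇑Φ)^[f] x = 0 := by
      obtain ⟨f', rfl⟩ := Nat.exists_eq_succ_of_ne_zero hf
      rw [Function.iterate_succ_apply, hΦx, iterate_map_zero]
    rw [hD] at h1
    have hGx : G x ∈ LinearMap.range (T ^ m) := by
      obtain ⟨z, rfl⟩ := hx
      exact ⟨G z, (hGpow m z).symm⟩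
    have := hTinj (G x) hGx h1
    exact hGinj (by rw [this, hG0])
  have hΦN : ∀ x ∈ LinearMap.range (T ^ m), Φ x ∈ LinearMap.range (T ^ m) := by
    rintro _ ⟨z, rfl⟩
    exact ⟨Φ z, (hΦpow m z).symm⟩
  apply le_antisymm
  · exact le_span_fixed p Φ hΦ _ hΦN hΦinj
  · apply Submodule.span_le.2
    intro y hy
    exact hfix m y hy

/-- The statement S8618. -/
theorem main8618 {p : ℕ} [Fact p.Prime] (k : Type u) [Field k] [Fintype k]
    [CharP k p] (f : ℕ) (hq : Fintype.card k = p ^ f) (K : Type u) [Field K] [Algebra k K]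
    [IsAlgClosed K]
    (V : Type u) [AddCommGroup V] [Module k V] [FiniteDimensional k V]
    (φ : V →ₛₗ[frobenius k p] V) (F : V →ₗ[k] V) (hF : ∀ x, F x = (⇑φ)^[f] x)
    (φK : K ⊗[k] V →+ K ⊗[k] V) (hφK : ∀ (μ : K) (v : V), φK (μ ⊗ₜ[k] v) = (μ ^ p) ⊗ₜ[k] φ v)
    (W : Submodule (↥(⊥ : Subfield k)) (K ⊗[k] V)) (hW : ∀ y, y ∈ W ↔ φK y = y) :
    (∀ y, φK y = y → φK (F.baseChange K y) = F.baseChange K y) ∧
    Module.Finite (↥(⊥ : Subfield k)) ↥W ∧
    ∀ (G : ↥W →ₗ[↥(⊥ : Subfield k)] ↥W), (∀ y : ↥W, (↑(G y) : K ⊗[k] V) = F.baseChange K ↑y) →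
      algebraMap k K (algebraMap (↥(⊥ : Subfield k)) k (LinearMap.trace (↥(⊥ : Subfield k)) ↥W G)) =
        algebraMap k K (LinearMap.trace k V F) := by
  classical
  haveI hK : CharP K p := charP_of_injective_algebraMap (algebraMap k K).injective p
  have hf : f ≠ 0 := by
    rintro rfl
    rw [pow_zero] at hq
    have := Fintype.one_lt_card (α := k)
    omega
  have hsemi : ∀ (c : K) (y : K ⊗[k] V), φK (c • y) = c ^ p • φK y := by
    intro c y
    induction y using TensorProduct.induction_on with
    | zero => rw [smul_zero, map_zero, smul_zero]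
    | tmul μ v =>
      rw [TensorProduct.smul_tmul', hφK, hφK, smul_eq_mul, mul_pow, TensorProduct.smul_tmul',
        smul_eq_mul]
    | add x y hx hy => rw [smul_add, map_add, map_add, hx, hy, smul_add]
  have hFφ : ∀ v, φ (F v) = F (φ v) := by
    intro v
    rw [hF, hF]
    exact (Function.iterate_succ_apply' (⇑φ) f v).symm.trans
      (Function.iterate_succ_apply (⇑φ) f v)
  have hcomm : ∀ y, φK (F.baseChange K y) = F.baseChange K (φK y) := by
    intro y
    induction y using TensorProduct.induction_on with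
    | zero => rw [map_zero, map_zero, map_zero]
    | tmul μ v => rw [LinearMap.baseChange_tmul, hφK, hφK, LinearMap.baseChange_tmul, hFφ]
    | add x y hx hy => rw [map_add, map_add, map_add, map_add, hx, hy]
  have part1 : ∀ y, φK y = y → φK (F.baseChange K y) = F.baseChange K y :=
    fun y hy => by rw [hcomm, hy]
  -- the `q`-Frobenius on the `K` factor
  have hcard : ∀ c : k, c ^ (p ^ f) = c := fun c => by rw [← hq]; exact FiniteField.pow_card c
  let frobq : K →ₗ[k] K :=
    { toFun := fun μ => μ ^ (p ^ f)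
      map_add' := fun x y => add_pow_char_pow x y p f
      map_smul' := fun c μ => by
        simp only [RingHom.id_apply]
        rw [Algebra.smul_def, mul_pow, ← map_pow, hcard, ← Algebra.smul_def] }
  have hfrobq_inj : Function.Injective frobq := by
    intro x y hxy
    exact (iterateFrobenius K p f).injective hxy
  let Gq : K ⊗[k] V →ₗ[k] K ⊗[k] V := LinearMap.rTensor V frobq
  have hGq_tmul : ∀ (μ : K) (v : V), Gq (μ ⊗ₜ[k] v) = (μ ^ (p ^ f)) ⊗ₜ[k] v := fun μ v => rfl
  have hGq_inj : Function.Injective Gq :=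
    Module.Flat.rTensor_preserves_injective_linearMap frobq hfrobq_inj
  have hiter : ∀ (n : ℕ) (μ : K) (v : V),
      (⇑φK)^[n] (μ ⊗ₜ[k] v) = (μ ^ (p ^ n)) ⊗ₜ[k] ((⇑φ)^[n] v) := by
    intro n
    induction n with
    | zero => intro μ v; simp
    | succ n ih =>
      intro μ v
      rw [Function.iterate_succ_apply', ih, hφK, ← pow_mul, ← pow_succ,
        Function.iterate_succ_apply']
  have hD : ∀ y, (⇑φK)^[f] y = F.baseChange K (Gq y) := by
    intro y
    induction y using TensorProduct.induction_on with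
    | zero => rw [iterate_map_zero, map_zero, map_zero]
    | tmul μ v => rw [hiter, hGq_tmul, LinearMap.baseChange_tmul, hF]
    | add x y hx hy => rw [iterate_map_add, map_add, map_add, hx, hy]
  have hE : ∀ y, Gq (F.baseChange K y) = F.baseChange K (Gq y) := by
    intro y
    induction y using TensorProduct.induction_on with
    | zero => rw [map_zero, map_zero, map_zero]
    | tmul μ v => rw [LinearMap.baseChange_tmul, hGq_tmul, hGq_tmul, LinearMap.baseChange_tmul]
    | add x y hx hy => rw [map_add, map_add, map_add, map_add, hx, hy]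
  have hFq : ∀ y, Gq (φK y) = φK (Gq y) := by
    intro y
    induction y using TensorProduct.induction_on with
    | zero => rw [map_zero, map_zero, map_zero]
    | tmul μ v => rw [hφK, hGq_tmul, hGq_tmul, hφK, pow_right_comm]
    | add x y hx hy => rw [map_add, map_add, map_add, map_add, hx, hy]
  -- scalars from the prime field
  obtain ⟨ρ, hρ⟩ : ∃ ρ : ↥(⊥ : Subfield k) →+* K, ∀ c, ρ c = algebraMap k K (c : k) :=
    ⟨(algebraMap k K).comp (⊥ : Subfield k).subtype, fun c => rfl⟩
  have hsmul : ∀ (c : ↥(⊥ : Subfield k)) (y : K ⊗[k] V), c • y = ρ c • y := by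
    intro c y
    rw [hρ, algebraMap_smul]
    rfl
  have hindepK : ∀ {ι : Type u} (v : ι → K ⊗[k] V), (∀ i, φK (v i) = v i) →
      LinearIndependent ↥(⊥ : Subfield k) v → LinearIndependent K v := by
    intro ι v hv hli
    apply linearIndependent_of_fixed p φK hsemi v hv
    intro s g hg i hi
    have h1 : ∑ i ∈ s, ((g i : ℕ) : ↥(⊥ : Subfield k)) • v i = 0 := by
      rw [← hg]
      refine Finset.sum_congr rfl fun i _ => ?_
      rw [Nat.cast_smul_eq_nsmul, Nat.cast_smul_eq_nsmul]
    have h2 := linearIndependent_iff'ₛ.1 hli s (fun i => ((g i : ℕ) : ↥(⊥ : Subfield k)))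
      (fun _ => 0) (by
        show ∑ i ∈ s, ((g i : ℕ) : ↥(⊥ : Subfield k)) • v i =
          ∑ i ∈ s, (0 : ↥(⊥ : Subfield k)) • v i
        rw [h1]
        exact (Finset.sum_eq_zero fun i _ => zero_smul _ _).symm) i hi
    have h3 := congrArg ρ h2
    rwa [map_natCast, map_zero] at h3
  haveI hfree : Module.Free ↥(⊥ : Subfield k) ↥W :=
    Module.Free.of_divisionRing ↥(⊥ : Subfield k) ↥W
  obtain ⟨⟨ι, b⟩⟩ := Module.Free.exists_basis (R := ↥(⊥ : Subfield k)) (M := ↥W)
  have hbfix : ∀ i, φK (b i : K ⊗[k] V) = b i := fun i => (hW _).1 (b i).2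
  have hbli : LinearIndependent ↥(⊥ : Subfield k) (fun i => (b i : K ⊗[k] V)) :=
    b.linearIndependent.map_injOn W.subtype (Subtype.val_injective.injOn)
  have hbK : LinearIndependent K (fun i => (b i : K ⊗[k] V)) := hindepK _ hbfix hbli
  haveI : Finite ι := hbK.finite
  haveI : Fintype ι := Fintype.ofFinite ι
  have part2 : Module.Finite ↥(⊥ : Subfield k) ↥W := Module.Finite.of_basis b
  refine ⟨part1, part2, fun G hG => ?_⟩
  obtain ⟨N, hN, hNspan, htr⟩ := core p (F.baseChange K) φK hsemi hcomm (⇑Gq) (map_zero Gq)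
    hGq_inj hE hFq f hf hD
  have hcoe_sum : ∀ (c : ι → ↥(⊥ : Subfield k)),
      ((∑ i, c i • b i : ↥W) : K ⊗[k] V) = ∑ i, ρ (c i) • (b i : K ⊗[k] V) := by
    intro c
    rw [Submodule.coe_sum]
    refine Finset.sum_congr rfl fun i _ => ?_
    rw [Submodule.coe_smul, hsmul]
  have hspanb : Submodule.span K (Set.range fun i => (b i : K ⊗[k] V)) = N := by
    rw [hNspan]
    apply le_antisymm
    · apply Submodule.span_le.2
      rintro _ ⟨i, rfl⟩
      exact Submodule.subset_span (hbfix i)
    · apply Submodule.span_le.2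
      intro y hy
      have hyW : y ∈ W := (hW y).2 hy
      have h : ((∑ i, b.repr ⟨y, hyW⟩ i • b i : ↥W) : K ⊗[k] V) =
          ∑ i, ρ (b.repr ⟨y, hyW⟩ i) • (b i : K ⊗[k] V) := hcoe_sum _
      rw [b.sum_repr] at h
      have h2 : y = ∑ i, ρ (b.repr ⟨y, hyW⟩ i) • (b i : K ⊗[k] V) := h
      rw [h2]
      exact Submodule.sum_mem _ fun i _ =>
        Submodule.smul_mem _ _ (Submodule.subset_span ⟨i, rfl⟩)
  have hA : ∀ j, F.baseChange K (b j : K ⊗[k] V) =
      ∑ i, ρ (b.repr (G (b j)) i) • (b i : K ⊗[k] V) := by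
    intro j
    rw [← hG (b j)]
    have h : ((∑ i, b.repr (G (b j)) i • b i : ↥W) : K ⊗[k] V) =
        ∑ i, ρ (b.repr (G (b j)) i) • (b i : K ⊗[k] V) := hcoe_sum _
    rw [b.sum_repr] at h
    exact h
  have htrN := trace_restrict_eq_sum N (F.baseChange K) hN (fun i => (b i : K ⊗[k] V)) hbK hspanb
    (fun i j => ρ (b.repr (G (b j)) i)) hA
  rw [← LinearMap.trace_baseChange F K, htr, htrN,
    LinearMap.trace_eq_matrix_trace (↥(⊥ : Subfield k)) b G, Matrix.trace, map_sum, map_sum]
  refine Finset.sum_congr rfl fun i _ => ?_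
  rw [Matrix.diag_apply, LinearMap.toMatrix_apply, hρ]
  rfl

end Groth.Agent.Lib.Helper25.FrobTrace
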