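import Mathlib
import Groth.Prelude
import Groth.Agent.Lib.Helper11.SimpleTwoB

/-!
# A functional on a rank two bundle gives a twisted section (helper25, for helper11)

Let `E` be locally free of rank two with `Λ² E = L` and `T` invertible.  A non-zero
`θ : E ⟶ T` gives a non-zero `ρ : L ⟶ E ⊗ T`, locally `a ∧ b ↦ b ⊗ θ(a) - a ⊗ θ(b)`.
-/

set_option autoImplicit false
set_option linter.style.haveILetI false
set_option linter.unusedSectionVars false
universe u
open CategoryTheory CategoryTheory.Limits AlgebraicGeometry TopologicalSpace Opposite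
open Scheme.Modules

namespace Groth.Agent.Lib.Helper25.FunctionalTw

open Groth.Agent.Lib.Helper3 Groth.Agent.Lib.Helper3.QCSec Groth.Agent.Lib.Helper3.InvGen
  Groth.Agent.Lib.Helper3.FreeBasis Groth.Agent.Lib.Helper3.InvTensor
open Groth.Agent.Lib.Helper25.TwKosz Groth.Agent.Lib.Helper11.SimpleTwoAlg

section Alg

variable {R M N : Type*} [CommRing R] [AddCommGroup M] [Module R M] [AddCommGroup N]
  [Module R N]

/-- the alternating map on `Fin 2` attached to an alternating bilinear function -/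
def alt2 (B : M → M → N)
    (hal : ∀ a a' b, B (a + a') b = B a b + B a' b)
    (har : ∀ a b b', B a (b + b') = B a b + B a b')
    (hsl : ∀ (r : R) a b, B (r • a) b = r • B a b)
    (hsr : ∀ (r : R) a b, B a (r • b) = r • B a b)
    (hself : ∀ a, B a a = 0) : M [⋀^Fin 2]→ₗ[R] N :=
  { toFun := fun v => B (v 0) (v 1)
    map_update_add' := by
      intro _ m i x y
      fin_cases i
      · simp [hal]
      · simp [har]
    map_update_smul' := by
      intro _ m i c x
      fin_cases i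
      · simp [hsl]
      · simp [hsr]
    map_eq_zero_of_eq' := by
      intro v i j hv hij
      fin_cases i <;> fin_cases j
      · exact absurd rfl hij
      · have hv' : v 0 = v 1 := hv
        show B (v 0) (v 1) = 0
        rw [hv']
        exact hself _
      · have hv' : v 1 = v 0 := hv
        show B (v 0) (v 1) = 0
        rw [hv']
        exact hself _
      · exact absurd rfl hij }

theorem alt2_apply (B : M → M → N)
    (hal : ∀ a a' b, B (a + a') b = B a b + B a' b)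
    (har : ∀ a b b', B a (b + b') = B a b + B a b')
    (hsl : ∀ (r : R) a b, B (r • a) b = r • B a b)
    (hsr : ∀ (r : R) a b, B a (r • b) = r • B a b)
    (hself : ∀ a, B a a = 0) (v : Fin 2 → M) :
    alt2 (R := R) B hal har hsl hsr hself v = B (v 0) (v 1) := rfl

end Alg

variable {X : Scheme.{u}} {E L T : X.Modules}

section rho

variable (θ : E ⟶ T)

/-- `(a, b) ↦ b ⊗ θ(a) - a ⊗ θ(b)` -/
noncomputable def Bt (V : X.Opens) (a b : Γ(E, V)) : Γ(CohB1.tensorMod E T, V) :=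
  tm E T V b (θ.app V a) - tm E T V a (θ.app V b)

theorem Bt_add_left (V : X.Opens) (a a' b : Γ(E, V)) :
    Bt θ V (a + a') b = Bt θ V a b + Bt θ V a' b := by
  unfold Bt
  rw [QCExact.app_add, tm_add_right, tm_add_left]
  abel

theorem Bt_add_right (V : X.Opens) (a b b' : Γ(E, V)) :
    Bt θ V a (b + b') = Bt θ V a b + Bt θ V a b' := by
  unfold Bt
  rw [QCExact.app_add, tm_add_right, tm_add_left]
  abel

theorem Bt_smul_left (V : X.Opens) (r : Γ(X, V)) (a b : Γ(E, V)) :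
    Bt θ V (r • a) b = r • Bt θ V a b := by
  unfold Bt
  rw [Scheme.Modules.Hom.app_smul, tm_smul_right, tm_smul_left, smul_sub]

theorem Bt_smul_right (V : X.Opens) (r : Γ(X, V)) (a b : Γ(E, V)) :
    Bt θ V a (r • b) = r • Bt θ V a b := by
  unfold Bt
  rw [Scheme.Modules.Hom.app_smul, tm_smul_right, tm_smul_left, smul_sub]

theorem Bt_self (V : X.Opens) (a : Γ(E, V)) : Bt θ V a a = 0 := sub_self _

theorem Bt_res {V V' : X.Opens} (h : V' ≤ V) (a b : Γ(E, V)) :
    res (CohB1.tensorMod E T) h (Bt θ V a b) = Bt θ V' (res E h a) (res E h b) := by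
  unfold Bt
  rw [res_sub, tm_res, tm_res, QCExact.app_res', QCExact.app_res']

/-- the alternating map `(a, b) ↦ b ⊗ θ(a) - a ⊗ θ(b)` -/
noncomputable def BtAlt (V : X.Opens) :
    Γ(E, V) [⋀^Fin 2]→ₗ[Γ(X, V)] Γ(CohB1.tensorMod E T, V) :=
  alt2 (Bt θ V) (Bt_add_left θ V) (Bt_add_right θ V) (Bt_smul_left θ V) (Bt_smul_right θ V)
    (Bt_self θ V)

theorem BtAlt_apply (V : X.Opens) (v : Fin 2 → Γ(E, V)) :
    BtAlt θ V v = Bt θ V (v 0) (v 1) := rfl

variable (φ : ∀ U : X.affineOpens, Γ(L, U.1) ≃ₗ[Γ(X, U.1)] ↥(⋀[Γ(X, U.1)]^2 Γ(E, U.1)))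
  (hφ : ∀ (U V : X.affineOpens) (h : V.1 ≤ U.1) (e : Fin 2 → Γ(E, U.1)),
    res L h ((φ U).symm (exteriorPower.ιMulti _ 2 e)) =
      (φ V).symm (exteriorPower.ιMulti _ 2 (fun j => res E h (e j))))

/-- the local map `L → E ⊗ T` -/
noncomputable def rho (V : X.affineOpens) (l : Γ(L, V.1)) : Γ(CohB1.tensorMod E T, V.1) :=
  exteriorPower.alternatingMapLinearEquiv (BtAlt θ V.1) (φ V l)

theorem rho_add (V : X.affineOpens) (l l' : Γ(L, V.1)) :
    rho θ φ V (l + l') = rho θ φ V l + rho θ φ V l' := by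
  unfold rho
  rw [_root_.map_add, _root_.map_add]

theorem rho_smul (V : X.affineOpens) (a : Γ(X, V.1)) (l : Γ(L, V.1)) :
    rho θ φ V (a • l) = a • rho θ φ V l := by
  unfold rho
  rw [_root_.map_smul, _root_.map_smul]

theorem rho_zero (V : X.affineOpens) : rho θ φ V 0 = 0 := by
  unfold rho
  rw [_root_.map_zero, _root_.map_zero]

theorem rho_symm_ιMulti (V : X.affineOpens) (e : Fin 2 → Γ(E, V.1)) :
    rho θ φ V ((φ V).symm (exteriorPower.ιMulti _ 2 e)) = Bt θ V.1 (e 0) (e 1) := by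
  unfold rho
  rw [LinearEquiv.apply_symm_apply, exteriorPower.alternatingMapLinearEquiv_apply_ιMulti]
  rfl

include hφ in
theorem rho_res {V V' : X.affineOpens} (h : V'.1 ≤ V.1) (l : Γ(L, V.1)) :
    res (CohB1.tensorMod E T) h (rho θ φ V l) = rho θ φ V' (res L h l) := by
  have key : ∀ z : ↥(⋀[Γ(X, V.1)]^2 Γ(E, V.1)),
      res (CohB1.tensorMod E T) h (rho θ φ V ((φ V).symm z)) =
        rho θ φ V' (res L h ((φ V).symm z)) := by
    intro z
    have hz : z ∈ Submodule.span Γ(X, V.1)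
        (Set.range (exteriorPower.ιMulti Γ(X, V.1) 2 (M := Γ(E, V.1)))) := by
      rw [exteriorPower.ιMulti_span]
      exact Submodule.mem_top
    induction hz using Submodule.span_induction with
    | mem z hz =>
      obtain ⟨e, rfl⟩ := hz
      rw [rho_symm_ιMulti, hφ V V' h, rho_symm_ιMulti, Bt_res]
    | zero =>
      rw [_root_.map_zero, rho_zero, res_zero, res_zero, rho_zero]
    | add z z' _ _ hz hz' =>
      rw [_root_.map_add, rho_add, QCExact.res_add, QCExact.res_add, rho_add, hz, hz']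
    | smul a z _ hz =>
      rw [_root_.map_smul, rho_smul, res_smul, res_smul, rho_smul, hz]
  have := key (φ V l)
  rwa [LinearEquiv.symm_apply_apply] at this

end rho

/-- rank two bundle `E` with `Λ²E = L`, `T` invertible: a nonzero `θ : E ⟶ T` gives a nonzero
`L ⟶ E ⊗ T`. -/
theorem exists_hom_of_functional {X : Scheme.{u}} {E L T : X.Modules}
    (hE : FlatMod.IsFinLocFreeOfRank 2 E) (hL : ExtPow.IsExtPow 2 E L)
    (hT : PicF.IsInvertible T) (θ : E ⟶ T) (hθ : θ ≠ 0) :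
    ∃ ρ : L ⟶ CohB1.tensorMod E T, ρ ≠ 0 := by
  obtain ⟨φ, hφ⟩ := Groth.Agent.Lib.Helper17.ExtPowCoh.exists_phi hL
  let Small : X.Opens → Prop := fun V =>
    IsAffineOpen V ∧ (∃ g : Γ(T, V), IsGen T V g) ∧ ∃ e : Fin 2 → Γ(E, V), IsBasisAt E V e
  have hcov : ∀ (W : X.Opens) (x : X), x ∈ W → ∃ V : X.Opens, Small V ∧ x ∈ V ∧ V ≤ W := by
    intro W x hx
    obtain ⟨U, e, hxU, he⟩ := FreeBasis.isFinLocFreeOfRank_iff.mp hE x
    obtain ⟨V, g, hV, hxV, hVle, hg⟩ := exists_affine_isGen_le hT x (U ⊓ W) ⟨hxU, hx⟩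
    exact ⟨V, ⟨hV, ⟨g, hg⟩, _, he V (hVle.trans inf_le_left)⟩, hxV, hVle.trans inf_le_right⟩
  obtain ⟨ρ, hρ⟩ := Groth.Agent.Lib.Helper25.ExtPowTw.exists_hom_of_basis (M := L)
    (N := CohB1.tensorMod E T) Small hcov
    (fun V hV => rho θ φ ⟨V, hV.1⟩)
    (fun V hV s s' => rho_add θ φ ⟨V, hV.1⟩ s s')
    (fun V hV a s => rho_smul θ φ ⟨V, hV.1⟩ a s)
    (fun {V V'} h hV hV' s => rho_res θ φ hφ (V := ⟨V, hV.1⟩) (V' := ⟨V', hV'.1⟩) h s)
  refine ⟨ρ, fun h0 => hθ ?_⟩
  apply ModGlue.hom_ext_of_small Small hcov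
  intro V hV s
  change θ.app V s = 0
  obtain ⟨g, hg⟩ := hV.2.1
  obtain ⟨e, he⟩ := hV.2.2
  have hB : ∀ a b : Γ(E, V), Bt θ V a b = 0 := by
    intro a b
    have h1 := hρ V hV ((φ ⟨V, hV.1⟩).symm (exteriorPower.ιMulti _ 2 ![a, b]))
    rw [h0, rho_symm_ιMulti] at h1
    exact h1.symm
  have hrel : ∀ (a b : Γ(E, V)) (fa fb : Γ(X, V)), fa • g = θ.app V a → fb • g = θ.app V b →
      fa • b - fb • a = 0 := by
    intro a b fa fb ha hb
    have h2 := hB a b
    unfold Bt at h2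
    rw [← ha, ← hb, tm_smul_right, tm_smul_right, ← tm_smul_left, ← tm_smul_left,
      ← tm_sub_left] at h2
    exact (tm_eq_zero_iff hg _).mp h2
  obtain ⟨f0, hf0⟩ := hg.self.exists_coord (θ.app V (e 0))
  obtain ⟨f1, hf1⟩ := hg.self.exists_coord (θ.app V (e 1))
  have h3 := hrel (e 0) (e 1) f0 f1 hf0 hf1
  have h4 : (fun a : Fin 2 → Γ(X, V) => ∑ i, a i • e i) ![-f1, f0] =
      (fun a : Fin 2 → Γ(X, V) => ∑ i, a i • e i) 0 := by
    show ∑ i, (![-f1, f0] : Fin 2 → Γ(X, V)) i • e i = ∑ i, (0 : Fin 2 → Γ(X, V)) i • e i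
    rw [Fin.sum_univ_two, Fin.sum_univ_two]
    show (-f1) • e 0 + f0 • e 1 = (0 : Γ(X, V)) • e 0 + (0 : Γ(X, V)) • e 1
    rw [zero_smul, zero_smul, add_zero, neg_smul, neg_add_eq_sub]
    exact h3
  have h5 := he.1 h4
  have hf0' : f0 = 0 := congrFun h5 1
  have hf1' : f1 = 0 := neg_eq_zero.mp (congrFun h5 0)
  have he0 : θ.app V (e 0) = 0 := by rw [← hf0, hf0', zero_smul]
  have he1 : θ.app V (e 1) = 0 := by rw [← hf1, hf1', zero_smul]
  obtain ⟨c, hc⟩ := he.2 s
  have hc' : c 0 • e 0 + c 1 • e 1 = s := by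
    rw [← hc]
    show c 0 • e 0 + c 1 • e 1 = ∑ i, c i • e i
    rw [Fin.sum_univ_two]
  rw [← hc', QCExact.app_add, Scheme.Modules.Hom.app_smul, Scheme.Modules.Hom.app_smul, he0, he1,
    smul_zero, smul_zero, add_zero]

end Groth.Agent.Lib.Helper25.FunctionalTw
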