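import Mathlib
import Groth.Prelude
import Groth.Agent.Lib.Helper23.CurveE
import Groth.Agent.Lib.Helper17.LocConstRank
import Groth.Agent.Lib.Helper17.LocFreeRank
import Groth.Agent.Lib.Helper17.CohStalk
import Groth.Agent.Lib.Helper17.StalkExact
import Groth.Agent.Lib.Helper3.LocFreeCrit
import Groth.Agent.Lib.Helper3.FreeBasis

/-!
# Generalized parabolic bundles: weights near one (helper25)
-/

set_option autoImplicit false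
set_option linter.style.haveILetI false
universe u
open CategoryTheory CategoryTheory.Limits AlgebraicGeometry TopologicalSpace Opposite

namespace Groth.Agent.Lib.Helper25.GPNear

theorem near_one_aux (d n : ℕ) (hd : 0 < d) (hn : 2 ≤ n) (α : ℝ)
    (hα : 1 - 1 / ((d : ℝ) * (n : ℝ) * ((n : ℝ) - 1)) < α) :
    0 < (d : ℝ) * (n : ℝ) * ((n : ℝ) - 1) ∧
      (1 - α) * ((d : ℝ) * (n : ℝ) * ((n : ℝ) - 1)) < 1 := by
  have hd' : (1 : ℝ) ≤ (d : ℝ) := by exact_mod_cast hd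
  have hn' : (2 : ℝ) ≤ (n : ℝ) := by exact_mod_cast hn
  have hK : 0 < (d : ℝ) * (n : ℝ) * ((n : ℝ) - 1) :=
    mul_pos (mul_pos (by linarith) (by linarith)) (by linarith)
  refine ⟨hK, ?_⟩
  have h0 : 1 - α < 1 / ((d : ℝ) * (n : ℝ) * ((n : ℝ) - 1)) := by linarith
  rwa [lt_div_iff₀ hK] at h0

theorem arithA (dG dE : ℤ) (a' b r' n d : ℕ) (α : ℝ) (hr' : r' < n) (hd : 0 < d) (hn : 2 ≤ n)
    (ha' : a' ≤ r' * d) (hα1 : α < 1)
    (hα : 1 - 1 / ((d : ℝ) * (n : ℝ) * ((n : ℝ) - 1)) < α)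
    (h : ((dG : ℝ) + α * (a' : ℝ)) * (n : ℝ) ≤ ((dE : ℝ) + α * (b : ℝ)) * (r' : ℝ)) :
    ((dG : ℝ) + 1 * (a' : ℝ)) * (n : ℝ) ≤ ((dE : ℝ) + 1 * (b : ℝ)) * (r' : ℝ) := by
  obtain ⟨hK, h1⟩ := near_one_aux d n hd hn α hα
  have hd' : (0 : ℝ) ≤ (d : ℝ) := Nat.cast_nonneg d
  have hn' : (0 : ℝ) ≤ (n : ℝ) := Nat.cast_nonneg n
  have ha'R : (a' : ℝ) ≤ (r' : ℝ) * (d : ℝ) := by exact_mod_cast ha'
  have hr'R : (r' : ℝ) ≤ (n : ℝ) - 1 := by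
    have h4 : (r' : ℝ) + 1 ≤ (n : ℝ) := by exact_mod_cast hr'
    linarith
  have h2 : (a' : ℝ) * (n : ℝ) ≤ (d : ℝ) * (n : ℝ) * ((n : ℝ) - 1) := by
    calc (a' : ℝ) * (n : ℝ) ≤ ((r' : ℝ) * (d : ℝ)) * (n : ℝ) :=
          mul_le_mul_of_nonneg_right ha'R hn'
      _ ≤ (((n : ℝ) - 1) * (d : ℝ)) * (n : ℝ) :=
          mul_le_mul_of_nonneg_right (mul_le_mul_of_nonneg_right hr'R hd') hn'
      _ = _ := by ring
  have h3 : (1 - α) * ((a' : ℝ) * (n : ℝ) - (b : ℝ) * (r' : ℝ)) ≤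
      (1 - α) * ((d : ℝ) * (n : ℝ) * ((n : ℝ) - 1)) := by
    apply mul_le_mul_of_nonneg_left _ (by linarith)
    have h5 : (0 : ℝ) ≤ (b : ℝ) * (r' : ℝ) := mul_nonneg (Nat.cast_nonneg _) (Nat.cast_nonneg _)
    linarith
  have hZ : (((dG + a') * n - (dE + b) * r' : ℤ) : ℝ) < 1 := by
    push_cast
    have e : ((dG : ℝ) + (a' : ℝ)) * (n : ℝ) - ((dE : ℝ) + (b : ℝ)) * (r' : ℝ) =
        (((dG : ℝ) + α * (a' : ℝ)) * (n : ℝ) - ((dE : ℝ) + α * (b : ℝ)) * (r' : ℝ)) +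
          (1 - α) * ((a' : ℝ) * (n : ℝ) - (b : ℝ) * (r' : ℝ)) := by ring
    rw [e]
    linarith
  have hZ' : (dG + a') * n - (dE + b) * r' < 1 := by exact_mod_cast hZ
  have hZ'' : (dG + a') * n - (dE + b) * r' ≤ 0 := Int.lt_add_one_iff.mp (by simpa using hZ')
  have hR : (((dG + a') * n - (dE + b) * r' : ℤ) : ℝ) ≤ 0 := by exact_mod_cast hZ''
  push_cast at hR
  linarith

theorem arithB (dG dE : ℤ) (a' b n d : ℕ) (α : ℝ) (hd : 0 < d) (hn : 2 ≤ n)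
    (ha' : a' ≤ n * d) (hα1 : α < 1)
    (hα : 1 - 1 / ((d : ℝ) * (n : ℝ) * ((n : ℝ) - 1)) < α)
    (h : ((dG : ℝ) + α * (a' : ℝ)) * (n : ℝ) ≤ ((dE : ℝ) + α * (b : ℝ)) * (n : ℝ)) :
    ((dG : ℝ) + 1 * (a' : ℝ)) * (n : ℝ) ≤ ((dE : ℝ) + 1 * (b : ℝ)) * (n : ℝ) := by
  obtain ⟨hK, h1⟩ := near_one_aux d n hd hn α hα
  have hn' : (2 : ℝ) ≤ (n : ℝ) := by exact_mod_cast hn
  have hnpos : (0 : ℝ) < (n : ℝ) := by linarith
  have h' : (dG : ℝ) + α * (a' : ℝ) ≤ (dE : ℝ) + α * (b : ℝ) := le_of_mul_le_mul_right h hnpos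
  have ha'R : (a' : ℝ) ≤ (n : ℝ) * (d : ℝ) := by exact_mod_cast ha'
  have hd' : (0 : ℝ) ≤ (d : ℝ) := Nat.cast_nonneg d
  have h2 : (a' : ℝ) ≤ (d : ℝ) * (n : ℝ) * ((n : ℝ) - 1) := by
    have h5 : 0 ≤ (d : ℝ) * (n : ℝ) := mul_nonneg hd' hnpos.le
    have h6 : 0 ≤ (d : ℝ) * (n : ℝ) * ((n : ℝ) - 2) := mul_nonneg h5 (by linarith)
    nlinarith
  have h3 : (1 - α) * ((a' : ℝ) - (b : ℝ)) ≤ (1 - α) * ((d : ℝ) * (n : ℝ) * ((n : ℝ) - 1)) := by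
    apply mul_le_mul_of_nonneg_left _ (by linarith)
    have h5 : (0 : ℝ) ≤ (b : ℝ) := Nat.cast_nonneg _
    linarith
  have hZ : (((dG + a') - (dE + b) : ℤ) : ℝ) < 1 := by
    push_cast
    have e : ((dG : ℝ) + (a' : ℝ)) - ((dE : ℝ) + (b : ℝ)) =
        (((dG : ℝ) + α * (a' : ℝ)) - ((dE : ℝ) + α * (b : ℝ))) +
          (1 - α) * ((a' : ℝ) - (b : ℝ)) := by ring
    rw [e]
    linarith
  have hZ' : (dG + a') - (dE + b) < 1 := by exact_mod_cast hZ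
  have hZ'' : (dG + a') - (dE + b) ≤ 0 := Int.lt_add_one_iff.mp (by simpa using hZ')
  have hR : (((dG + a') - (dE + b) : ℤ) : ℝ) ≤ 0 := by exact_mod_cast hZ''
  push_cast at hR
  have h7 : (dG : ℝ) + 1 * (a' : ℝ) ≤ (dE : ℝ) + 1 * (b : ℝ) := by linarith
  exact mul_le_mul_of_nonneg_right h7 hnpos.le

theorem arithC (dG dE : ℤ) (a' b r' n d : ℕ) (α : ℝ) (hr' : r' < n) (hd : 0 < d) (hn : 2 ≤ n)
    (hb : b ≤ n * d) (hα1 : α < 1)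
    (hα : 1 - 1 / ((d : ℝ) * (n : ℝ) * ((n : ℝ) - 1)) < α)
    (h : ((dG : ℝ) + 1 * (a' : ℝ)) * (n : ℝ) < ((dE : ℝ) + 1 * (b : ℝ)) * (r' : ℝ)) :
    ((dG : ℝ) + α * (a' : ℝ)) * (n : ℝ) < ((dE : ℝ) + α * (b : ℝ)) * (r' : ℝ) := by
  obtain ⟨hK, h1⟩ := near_one_aux d n hd hn α hα
  have hZ : (((dG + a') * n - (dE + b) * r' : ℤ) : ℝ) < 0 := by
    push_cast
    linarith
  have hZ' : (dG + a') * n - (dE + b) * r' < 0 := by exact_mod_cast hZ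
  have hZ'' : (dG + a') * n - (dE + b) * r' ≤ -1 := by
    have h8 : (dG + a') * n - (dE + b) * r' < -1 + 1 := by simpa using hZ'
    exact Int.lt_add_one_iff.mp h8
  have hR : (((dG + a') * n - (dE + b) * r' : ℤ) : ℝ) ≤ -1 := by exact_mod_cast hZ''
  push_cast at hR
  have hbR : (b : ℝ) ≤ (n : ℝ) * (d : ℝ) := by exact_mod_cast hb
  have hr'R : (r' : ℝ) ≤ (n : ℝ) - 1 := by
    have h4 : (r' : ℝ) + 1 ≤ (n : ℝ) := by exact_mod_cast hr'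
    linarith
  have h2 : (b : ℝ) * (r' : ℝ) ≤ (d : ℝ) * (n : ℝ) * ((n : ℝ) - 1) := by
    calc (b : ℝ) * (r' : ℝ) ≤ ((n : ℝ) * (d : ℝ)) * (r' : ℝ) :=
          mul_le_mul_of_nonneg_right hbR (Nat.cast_nonneg _)
      _ ≤ ((n : ℝ) * (d : ℝ)) * ((n : ℝ) - 1) :=
          mul_le_mul_of_nonneg_left hr'R (mul_nonneg (Nat.cast_nonneg _) (Nat.cast_nonneg _))
      _ = _ := by ring
  have h3 : (1 - α) * ((b : ℝ) * (r' : ℝ) - (a' : ℝ) * (n : ℝ)) ≤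
      (1 - α) * ((d : ℝ) * (n : ℝ) * ((n : ℝ) - 1)) := by
    apply mul_le_mul_of_nonneg_left _ (by linarith)
    have h5 : (0 : ℝ) ≤ (a' : ℝ) * (n : ℝ) := mul_nonneg (Nat.cast_nonneg _) (Nat.cast_nonneg _)
    linarith
  have e : ((dG : ℝ) + α * (a' : ℝ)) * (n : ℝ) - ((dE : ℝ) + α * (b : ℝ)) * (r' : ℝ) =
      (((dG : ℝ) + (a' : ℝ)) * (n : ℝ) - ((dE : ℝ) + (b : ℝ)) * (r' : ℝ)) +
        (1 - α) * ((b : ℝ) * (r' : ℝ) - (a' : ℝ) * (n : ℝ)) := by ring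
  have h9 : ((dG : ℝ) + α * (a' : ℝ)) * (n : ℝ) - ((dE : ℝ) + α * (b : ℝ)) * (r' : ℝ) < 0 := by
    rw [e]
    linarith
  linarith

variable {X : Scheme.{u}}

theorem finrank_stalk {M : X.Modules} {n : ℕ} (hM : FlatMod.IsFinLocFreeOfRank n M) (x : X) :
    Module.Free (X.presheaf.stalk x) (M.presheaf.stalk x) ∧
      Module.finrank (X.presheaf.stalk x) (M.presheaf.stalk x) = n := by
  haveI := Groth.Agent.Lib.Helper3.LocFreeCrit.isQuasicoherent_of_isFinLocFree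
    (Groth.Agent.Lib.Helper17.LocFreeRank.isFinLocFree_of_rank hM)
  obtain ⟨U, e, hxU, hb⟩ := Groth.Agent.Lib.Helper3.FreeBasis.isFinLocFreeOfRank_iff.mp hM x
  obtain ⟨hfree, hrk⟩ :=
    Groth.Agent.Lib.Helper17.LocConstRank.free_and_fibreRank_of_isBasis M hb x hxU
  refine ⟨hfree, ?_⟩
  haveI := hfree
  rw [← hrk]
  unfold Groth.Agent.Lib.Helper17.LocConstRank.fibreRank
  rw [Module.finrank_baseChange]

theorem rank_le_of_mono [Nonempty X] {G E : X.Modules} {r' n : ℕ}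
    (hG : FlatMod.IsFinLocFreeOfRank r' G) (hE : FlatMod.IsFinLocFreeOfRank n E)
    (i : G ⟶ E) [Mono i] : r' ≤ n := by
  obtain ⟨x⟩ := ‹Nonempty X›
  obtain ⟨hfG, hrG⟩ := finrank_stalk hG x
  obtain ⟨hfE, hrE⟩ := finrank_stalk hE x
  have hEc := Groth.Agent.Lib.Helper23.Curve.isCoh_of_isFinLocFreeOfRank hE
  haveI := hEc.1
  haveI := hEc.2
  haveI : Module.Finite (X.presheaf.stalk x) (E.presheaf.stalk x) :=
    Groth.Agent.Lib.Helper17.CohStalk.finite_stalk E x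
  have h := LinearMap.finrank_le_finrank_of_injective
    (Groth.Agent.Lib.Helper17.StalkExact.stalkLin_injective i x)
  rw [hrG, hrE] at h
  exact h

end Groth.Agent.Lib.Helper25.GPNear
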