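import Mathlib
import Groth.Prelude
import Groth.Agent.Lib.Helper23.VBMaps
import Groth.Agent.Lib.Helper23.EffCartDeg
import Groth.Agent.Lib.Helper25.GPNear

/-!
# Generalized parabolic bundles: the kernel of `H⁰(i ⊗ O_D)` for a full-rank submodule (helper25)
-/

set_option autoImplicit false
set_option linter.style.haveILetI false
universe u
open CategoryTheory CategoryTheory.Limits AlgebraicGeometry TopologicalSpace Opposite

noncomputable section

namespace Groth.Agent.Lib.Helper25.GPGeom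

open Groth.Agent.Lib.Helper3 Groth.Agent.Lib.Helper3.InvGen
  Groth.Agent.Lib.Helper3.InvTensor Groth.Agent.Lib.Helper3.InvMonoidal
  Groth.Agent.Lib.Helper7.TwFun
open Groth.Agent.Lib.Helper23.T2 Groth.Agent.Lib.Helper23.Curve

/-! ### linear algebra -/

theorem finrank_comap_le {K V W : Type*} [Field K] [AddCommGroup V] [Module K V] [AddCommGroup W]
    [Module K W] [Module.Finite K V] [Module.Finite K W] (f : V →ₗ[K] W) (S : Submodule K W) :
    Module.finrank K (S.comap f) ≤ Module.finrank K (LinearMap.ker f) + Module.finrank K S := by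
  let g : S.comap f →ₗ[K] S := f.restrict (fun x hx => hx)
  have h1 := LinearMap.finrank_range_add_finrank_ker g
  have h2 : Module.finrank K (LinearMap.range g) ≤ Module.finrank K S := Submodule.finrank_le _
  have h3 : Module.finrank K (LinearMap.ker g) ≤ Module.finrank K (LinearMap.ker f) := by
    let j : LinearMap.ker g →ₗ[K] LinearMap.ker f :=
      LinearMap.codRestrict _ ((S.comap f).subtype ∘ₗ (LinearMap.ker g).subtype) (fun x => by
        have hx : g x.1 = 0 := LinearMap.mem_ker.mp x.2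
        have h4 : ((g x.1 : S) : W) = 0 := by rw [hx]; rfl
        exact LinearMap.mem_ker.mpr h4)
    have hj : Function.Injective j := by
      intro x y hxy
      have h5 : (j x : V) = (j y : V) := congrArg Subtype.val hxy
      exact Subtype.ext (Subtype.ext h5)
    exact LinearMap.finrank_le_finrank_of_injective hj
  omega

/-! ### real arithmetic -/

theorem arithFull (dG dE : ℤ) (a' b n : ℕ) (β : ℝ) (hβ0 : 0 ≤ β) (hβ1 : β ≤ 1)
    (h : (a' : ℤ) + dG ≤ dE + (b : ℤ)) (hdeg : dG ≤ dE) :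
    ((dG : ℝ) + β * (a' : ℝ)) * (n : ℝ) ≤ ((dE : ℝ) + β * (b : ℝ)) * (n : ℝ) := by
  have hR : (a' : ℝ) + (dG : ℝ) ≤ (dE : ℝ) + (b : ℝ) := by exact_mod_cast h
  have hdR : (dG : ℝ) ≤ (dE : ℝ) := by exact_mod_cast hdeg
  have h1 : β * ((a' : ℝ) - (b : ℝ)) ≤ β * ((dE : ℝ) - (dG : ℝ)) :=
    mul_le_mul_of_nonneg_left (by linarith) hβ0
  have h2 : β * ((dE : ℝ) - (dG : ℝ)) ≤ 1 * ((dE : ℝ) - (dG : ℝ)) :=
    mul_le_mul_of_nonneg_right hβ1 (by linarith)
  have h3 : (dG : ℝ) + β * (a' : ℝ) ≤ (dE : ℝ) + β * (b : ℝ) := by nlinarith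
  exact mul_le_mul_of_nonneg_right h3 (Nat.cast_nonneg n)

theorem arithStrict (dG dE : ℤ) (a' a r' n : ℕ) (hr : 0 < r') (hr' : r' < n)
    (hcop : IsCoprime (n : ℤ) dE)
    (h : ((dG : ℝ) + 1 * (a' : ℝ)) * (n : ℝ) ≤ ((dE : ℝ) + 1 * ((a * n : ℕ) : ℝ)) * (r' : ℝ)) :
    ((dG : ℝ) + 1 * (a' : ℝ)) * (n : ℝ) < ((dE : ℝ) + 1 * ((a * n : ℕ) : ℝ)) * (r' : ℝ) := by
  rcases lt_or_eq_of_le h with hlt | heq
  · exact hlt
  · exfalso
    have hZ : (dG + (a' : ℤ)) * (n : ℤ) = (dE + (a : ℤ) * (n : ℤ)) * (r' : ℤ) := by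
      have h' : (((dG + (a' : ℤ)) * (n : ℤ) : ℤ) : ℝ) =
          (((dE + (a : ℤ) * (n : ℤ)) * (r' : ℤ) : ℤ) : ℝ) := by
        push_cast
        push_cast at heq
        linear_combination heq
      exact_mod_cast h'
    have hdvd : (n : ℤ) ∣ (r' : ℤ) * dE :=
      ⟨(dG + (a' : ℤ)) - (a : ℤ) * (r' : ℤ), by linear_combination (-1 : ℤ) * hZ⟩
    have hdvd' : (n : ℤ) ∣ (r' : ℤ) := hcop.dvd_of_dvd_mul_right hdvd
    have hle : (n : ℤ) ≤ (r' : ℤ) := Int.le_of_dvd (by exact_mod_cast hr) hdvd'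
    omega

/-! ### sheaf lemmas -/

variable {X : Scheme.{u}}

theorem vanish_of_mono {M N : X.Modules} (j : M ⟶ N) [Mono j] (V : X.Opens)
    (hN : ∀ t : Γ(N, V), t = 0) (t : Γ(M, V)) : t = 0 := by
  have h : j.app V t = j.app V 0 := (hN _).trans (hN _).symm
  exact QCExact.injective_sections j V h

theorem unitorR_natural {F F' : X.Modules} (φ : F ⟶ F') :
    (SecTwist.unitorR F).hom ≫ φ =
      KoszTw.tensorMap φ (𝟙 (Coh.structureModule X)) ≫ (SecTwist.unitorR F').hom := by
  apply tensor_hom_ext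
  intro U m r
  change φ.app U ((SecTwist.unitorR F).hom.app U (SecTwist.tmul F (Coh.structureModule X) U m r)) =
    (SecTwist.unitorR F').hom.app U
      ((KoszTw.tensorMap φ (𝟙 (Coh.structureModule X))).app U
        (SecTwist.tmul F (Coh.structureModule X) U m r))
  have e1 : (SecTwist.unitorR F).hom.app U (SecTwist.tmul F (Coh.structureModule X) U m r) =
      toFun U r • m := unitorR_hom_tm F U m (toFun U r)
  have e2 : (KoszTw.tensorMap φ (𝟙 (Coh.structureModule X))).app U
      (SecTwist.tmul F (Coh.structureModule X) U m r) =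
      SecTwist.tmul F' (Coh.structureModule X) U (φ.app U m) r :=
    KoszTw.tensorMap_tmul φ (𝟙 _) U m r
  have e3 : (SecTwist.unitorR F').hom.app U
      (SecTwist.tmul F' (Coh.structureModule X) U (φ.app U m) r) = toFun U r • φ.app U m :=
    unitorR_hom_tm F' U (φ.app U m) (toFun U r)
  rw [e1, e2, e3]
  exact Scheme.Modules.Hom.app_smul φ _ _

theorem tensorMap_right_braid (E : X.Modules) {P Q : X.Modules} (p : P ⟶ Q) :
    KoszTw.tensorMap (𝟙 E) p ≫ (braid E Q).hom = (braid E P).hom ≫ (twR E).map p := by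
  apply tensor_hom_ext
  intro U m r
  change (braid E Q).hom.app U ((KoszTw.tensorMap (𝟙 E) p).app U (SecTwist.tmul E P U m r)) =
    ((twR E).map p).app U ((braid E P).hom.app U (tm E P U m r))
  have e1 : (KoszTw.tensorMap (𝟙 E) p).app U (SecTwist.tmul E P U m r) =
      tm E Q U m (p.app U r) := KoszTw.tensorMap_tmul (𝟙 E) p U m r
  rw [e1, braid_hom_tm, braid_hom_tm]
  exact (Groth.Agent.Lib.Helper23.Twist.tw_app_tm p U r m).symm

theorem epi_tensorMap_right {E : X.Modules} {n : ℕ} (hE : FlatMod.IsFinLocFreeOfRank n E)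
    {P Q : X.Modules} (p : P ⟶ Q) [Epi p] : Epi (KoszTw.tensorMap (𝟙 E) p) := by
  have h : KoszTw.tensorMap (𝟙 E) p = (braid E P).hom ≫ (twR E).map p ≫ (braid E Q).inv := by
    rw [← Category.assoc, Iso.eq_comp_inv]
    exact tensorMap_right_braid E p
  have h1 : Epi ((twR E).map p) := Groth.Agent.Lib.Helper23.TwE.epi_twE hE p
  rw [h]
  have h3 : Epi (braid E Q).inv := inferInstance
  have h4 : Epi (braid E P).hom := inferInstance
  have h2 : Epi ((twR E).map p ≫ (braid E Q).inv) := @epi_comp _ _ _ _ _ _ h1 _ h3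
  exact @epi_comp _ _ _ _ _ _ h4 _ h2

/-- the canonical map `E ⟶ E ⊗ O_D` -/
def qMap (I : X.IdealSheafData) (E : X.Modules) : E ⟶ ParSh.resD I E :=
  (SecTwist.unitorR E).inv ≫ KoszTw.tensorMap (𝟙 E) (ClSub.toSubscheme I)

theorem epi_qMap (I : X.IdealSheafData) {E : X.Modules} {n : ℕ}
    (hE : FlatMod.IsFinLocFreeOfRank n E) : Epi (qMap I E) := by
  haveI := epi_tensorMap_right hE (ClSub.toSubscheme I)
  unfold qMap
  infer_instance

theorem qMap_natural (I : X.IdealSheafData) {G E : X.Modules} (i : G ⟶ E) :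
    i ≫ qMap I E = qMap I G ≫ ParSh.resDMap I i := by
  unfold qMap
  have h1 : i ≫ (SecTwist.unitorR E).inv =
      (SecTwist.unitorR G).inv ≫ KoszTw.tensorMap i (𝟙 (Coh.structureModule X)) := by
    rw [Iso.eq_inv_comp, ← Category.assoc, Iso.comp_inv_eq]
    exact unitorR_natural i
  calc i ≫ (SecTwist.unitorR E).inv ≫ KoszTw.tensorMap (𝟙 E) (ClSub.toSubscheme I)
      = (i ≫ (SecTwist.unitorR E).inv) ≫ KoszTw.tensorMap (𝟙 E) (ClSub.toSubscheme I) :=
        (Category.assoc _ _ _).symm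
    _ = ((SecTwist.unitorR G).inv ≫ KoszTw.tensorMap i (𝟙 (Coh.structureModule X))) ≫
          KoszTw.tensorMap (𝟙 E) (ClSub.toSubscheme I) := by rw [h1]
    _ = (SecTwist.unitorR G).inv ≫ KoszTw.tensorMap (i ≫ 𝟙 E)
          (𝟙 (Coh.structureModule X) ≫ ClSub.toSubscheme I) := by
        rw [Category.assoc, ← KoszTw.tensorMap_comp]
    _ = (SecTwist.unitorR G).inv ≫ KoszTw.tensorMap (𝟙 G ≫ i)
          (ClSub.toSubscheme I ≫ 𝟙 (ClSub.quotMod I)) := by
        simp only [Category.comp_id, Category.id_comp]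
    _ = ((SecTwist.unitorR G).inv ≫ KoszTw.tensorMap (𝟙 G) (ClSub.toSubscheme I)) ≫
          ParSh.resDMap I i := by
        rw [KoszTw.tensorMap_comp, Category.assoc]

theorem isIso_resDMap (I : X.IdealSheafData) {E F : X.Modules} (f : E ⟶ F) [IsIso f] :
    IsIso (ParSh.resDMap I f) := by
  refine ⟨⟨ParSh.resDMap I (inv f), ?_, ?_⟩⟩
  · change KoszTw.tensorMap f (𝟙 (ClSub.quotMod I)) ≫
      KoszTw.tensorMap (inv f) (𝟙 (ClSub.quotMod I)) = 𝟙 _
    rw [← KoszTw.tensorMap_comp, IsIso.hom_inv_id, Category.comp_id, KoszTw.tensorMap_id]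
  · change KoszTw.tensorMap (inv f) (𝟙 (ClSub.quotMod I)) ≫
      KoszTw.tensorMap f (𝟙 (ClSub.quotMod I)) = 𝟙 _
    rw [← KoszTw.tensorMap_comp, IsIso.inv_hom_id, Category.comp_id, KoszTw.tensorMap_id]

/-! ### Euler characteristics -/

section Proper

variable (k : Type u) [Field k] {X : Scheme.{u}} [X.Over (Spec (CommRingCat.of k))]
  [IsProper (X ↘ Spec (CommRingCat.of k))] [IsIntegral X]

include k in
theorem euler_ker_coker {A B : X.Modules} (hA : Coh.IsCoh A) (hB : Coh.IsCoh B) (φ : A ⟶ B) :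
    Curv2.euler k X A + Curv2.euler k X (cokernel φ) =
      Curv2.euler k X B + Curv2.euler k X (kernel φ) := by
  haveI := isNoetherian_of_isProper k X
  have hK := (Groth.Agent.S9514.result X hA hB φ).1
  have hcoim : Coh.IsCoh (Abelian.coimage φ) :=
    (Groth.Agent.S9514.result X hK hA (kernel.ι φ)).2
  have e1 : Curv2.euler k X A =
      Curv2.euler k X (kernel φ) + Curv2.euler k X (Abelian.coimage φ) :=
    Groth.Agent.Lib.Helper23.Twist.euler_cokernel k (kernel.ι φ) hK hA
  have hCm := (Groth.Agent.S9514.result X hcoim hB (Abelian.factorThruCoimage φ)).2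
  have e2 : Curv2.euler k X B = Curv2.euler k X (Abelian.coimage φ) +
      Curv2.euler k X (cokernel (Abelian.factorThruCoimage φ)) :=
    Groth.Agent.Lib.Helper23.Twist.euler_cokernel k (Abelian.factorThruCoimage φ) hcoim hB
  let iso : cokernel (Abelian.factorThruCoimage φ) ≅ cokernel φ :=
    (cokernelEpiComp (Abelian.coimage.π φ) (Abelian.factorThruCoimage φ)).symm ≪≫
      cokernelIsoOfEq (Abelian.coimage.fac φ)
  have e3 := Groth.Agent.Lib.Helper23.Twist.euler_eq_of_iso k iso hCm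
  linarith

include k in
/-- the kernel of `H⁰(φ)` is at most `H⁰(ker φ)` -/
theorem finrank_ker_Hmap_le {A B : X.Modules} (hA : Coh.IsCoh A) (hB : Coh.IsCoh B) (φ : A ⟶ B) :
    Module.finrank k (LinearMap.ker (HmapA k φ 0)) ≤ Module.finrank k (Coh.HH X (kernel φ) 0) := by
  haveI := isNoetherian_of_isProper k X
  have hK := (Groth.Agent.S9514.result X hA hB φ).1
  haveI := finite_HH k A hA 0
  haveI := finite_HH k (kernel φ) hK 0
  have hle : LinearMap.ker (HmapA k φ 0) ≤ LinearMap.range (HmapA k (kernel.ι φ) 0) := by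
    intro y hy
    have hy0 : Hmap φ 0 y = 0 := LinearMap.mem_ker.mp hy
    have hfac : Abelian.coimage.π φ ≫ Abelian.factorThruCoimage φ = φ := Abelian.coimage.fac φ
    have h1 : Hmap (Abelian.factorThruCoimage φ) 0 (Hmap (Abelian.coimage.π φ) 0 y) = 0 := by
      rw [← Hmap_comp, hfac]
      exact hy0
    have h2 : Hmap (Abelian.coimage.π φ) 0 y = 0 := by
      apply Hmap_injective_zero (Abelian.factorThruCoimage φ)
      rw [h1, map_zero]
    have hex := exact_f_g k (cokerSC (kernel.ι φ)) (cokerSC_shortExact (kernel.ι φ)) 0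
    obtain ⟨x, hx⟩ := (hex y).mp h2
    exact ⟨x, hx⟩
  exact (Submodule.finrank_mono hle).trans (LinearMap.finrank_range_le _)

omit [IsIntegral X] in
theorem isCoh_resD (I : X.IdealSheafData) {E : X.Modules} (hE : Coh.IsCoh E) :
    Coh.IsCoh (ParSh.resD I E) :=
  Groth.Agent.Lib.Helper23.EffCart.isCoh_tensor X hE
    (Groth.Agent.Lib.Helper23.EffCart.isCoh_quotMod I)

omit [IsIntegral X] in
include k in
theorem finite_fibD (I : X.IdealSheafData) {E : X.Modules} (hE : Coh.IsCoh E) :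
    Module.Finite k (ParSh.fibD X I E) :=
  finite_HH k _ (isCoh_resD I hE) 0

include k in
/-- **Key estimate.** For a monomorphism `i : G ⟶ E` of finite locally free modules of the same
rank on a proper integral curve and an effective Cartier divisor `D`, the kernel of
`H⁰(G ⊗ O_D) → H⁰(E ⊗ O_D)` has dimension at most `deg E - deg G`. -/
theorem ker_fibDMap_le (hdim : topologicalKrullDim X = 1) (I : X.IdealSheafData)
    (hD : FGA.IsEffCartier I) {G E : X.Modules} (n : ℕ)
    (hG : FlatMod.IsFinLocFreeOfRank n G) (hE : FlatMod.IsFinLocFreeOfRank n E)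
    (i : G ⟶ E) [Mono i] :
    (Module.finrank k (LinearMap.ker (ParSh.fibDMap k X I i)) : ℤ) ≤
      Curv2.deg k X E n - Curv2.deg k X G n := by
  haveI := isNoetherian_of_isProper k X
  have hdim' : topologicalKrullDim X ≤ 1 := hdim.le
  obtain ⟨hfin, hpt⟩ := Groth.Agent.Lib.Helper23.EffCart.support_finite k X hdim' I (fun x => hD x)
  have hQcoh : Coh.IsCoh (ClSub.quotMod I) := Groth.Agent.Lib.Helper23.EffCart.isCoh_quotMod I
  have hGcoh := isCoh_of_isFinLocFreeOfRank hG
  have hEcoh := isCoh_of_isFinLocFreeOfRank hE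
  have hAcoh : Coh.IsCoh (ParSh.resD I G) := isCoh_resD I hGcoh
  have hBcoh : Coh.IsCoh (ParSh.resD I E) := isCoh_resD I hEcoh
  -- vanishing off the support of `D`
  have hvanQ : ∀ V : X.Opens, Disjoint (V : Set X) (I.support : Set X) →
      ∀ t : Γ(ClSub.quotMod I, V), t = 0 :=
    fun V hV t => Groth.Agent.Lib.Helper23.EffCart.quotMod_eq_zero_of_disjoint I V hV t
  let D₁ : X.Opens := ⟨(I.support : Set X)ᶜ, I.support.isClosed.isOpen_compl⟩
  have hvanQ' : ∀ V : X.Opens, V ≤ D₁ → ∀ t : Γ(ClSub.quotMod I, V), t = 0 := by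
    intro V hV t
    refine hvanQ V ?_ t
    rw [Set.disjoint_left]
    intro x hxV hxD
    exact hV hxV hxD
  have hvanT : ∀ (M : X.Modules) (V : X.Opens), Disjoint (V : Set X) (I.support : Set X) →
      ∀ t : Γ(CohB1.tensorMod M (ClSub.quotMod I), V), t = 0 := by
    intro M V hV
    have hVD : V ≤ D₁ := by
      intro x hxV
      change x ∈ (I.support : Set X)ᶜ
      exact fun hxD => Set.disjoint_left.mp hV hxV hxD
    exact vanish_of_mono (braid M (ClSub.quotMod I)).hom V
      (fun s => Groth.Agent.Lib.Helper23.TmBasis.tensor_eq_zero_of_vanishes (ClSub.quotMod I) M D₁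
        hvanQ' V hVD s)
  -- Euler characteristics of `G ⊗ O_D` and `E ⊗ O_D`
  have hχA : Curv2.euler k X (ParSh.resD I G) = n * Curv2.euler k X (ClSub.quotMod I) :=
    (Groth.Agent.Lib.Helper23.Twist.euler_eq_of_iso k (braid G (ClSub.quotMod I)) hAcoh).trans
      (Groth.Agent.Lib.Helper23.TensorPts.euler_tensor_of_vanishing k X (ClSub.quotMod I) hQcoh _
        I.support.isClosed hfin hpt hvanQ n G hG)
  have hχB : Curv2.euler k X (ParSh.resD I E) = n * Curv2.euler k X (ClSub.quotMod I) :=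
    (Groth.Agent.Lib.Helper23.Twist.euler_eq_of_iso k (braid E (ClSub.quotMod I)) hBcoh).trans
      (Groth.Agent.Lib.Helper23.TensorPts.euler_tensor_of_vanishing k X (ClSub.quotMod I) hQcoh _
        I.support.isClosed hfin hpt hvanQ n E hE)
  -- kernel and cokernel of `i ⊗ O_D`
  obtain ⟨φ, hφ⟩ : ∃ φ : ParSh.resD I G ⟶ ParSh.resD I E, φ = ParSh.resDMap I i := ⟨_, rfl⟩
  have hKcoh : Coh.IsCoh (kernel φ) := (Groth.Agent.S9514.result X hAcoh hBcoh φ).1
  have hCcoh : Coh.IsCoh (cokernel φ) := (Groth.Agent.S9514.result X hAcoh hBcoh φ).2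
  have hflK : IsFlq (kernel φ) :=
    isFlq_of_vanishing_off_finite (kernel φ) _ hfin hpt
      (fun V hV t => vanish_of_mono (kernel.ι φ) V (hvanT G V hV) t)
  have hχK : Curv2.euler k X (kernel φ) = (Module.finrank k (Coh.HH X (kernel φ) 0) : ℤ) :=
    euler_eq_finrank_of_isFlq k X _ hKcoh hflK
  have hkc := euler_ker_coker k hAcoh hBcoh φ
  have hKC : Curv2.euler k X (kernel φ) = Curv2.euler k X (cokernel φ) := by linarith
  have h3 : Module.finrank k (LinearMap.ker (ParSh.fibDMap k X I i)) ≤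
      Module.finrank k (Coh.HH X (kernel φ) 0) := by
    have h4 := finrank_ker_Hmap_le k hAcoh hBcoh φ
    rw [hφ] at h4 ⊢
    exact h4
  -- the epimorphism `coker i ⟶ coker (i ⊗ O_D)`
  haveI : Epi (qMap I E) := epi_qMap I hE
  have hψ0 : i ≫ (qMap I E ≫ cokernel.π φ) = 0 := by
    rw [← Category.assoc, qMap_natural I i, Category.assoc, ← hφ, cokernel.condition, comp_zero]
  let δ : cokernel i ⟶ cokernel φ := cokernel.desc i (qMap I E ≫ cokernel.π φ) hψ0
  haveI : Epi (cokernel.π i ≫ δ) := by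
    have : cokernel.π i ≫ δ = qMap I E ≫ cokernel.π φ := cokernel.π_desc _ _ _
    rw [this]
    infer_instance
  haveI : Epi δ := epi_of_epi (cokernel.π i) δ
  have hTcoh : Coh.IsCoh (cokernel i) := (Groth.Agent.S9514.result X hGcoh hEcoh i).2
  obtain ⟨D₀, hD₀, hvanT₀⟩ :=
    Groth.Agent.Lib.Helper23.VBMaps.exists_vanishesOn_cokernel_of_mono₂ hG hE i
  have hNcoh : Coh.IsCoh (kernel δ) := (Groth.Agent.S9514.result X hTcoh hCcoh δ).1
  have hflN : IsFlq (kernel δ) :=
    @isFlq_of_vanishesOn k _ X _ _ _ hdim' _ D₀ hD₀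
      (fun V hV t => vanish_of_mono (kernel.ι δ) V (fun s => hvanT₀ V hV s) t)
  have hNnn := euler_nonneg_of_isFlq k X _ hNcoh hflN
  have hδ := euler_ker_coker k hTcoh hCcoh δ
  have hz : Curv2.euler k X (cokernel δ) = 0 :=
    euler_eq_zero_of_isZero k X _ (isZero_cokernel_of_epi δ)
  have hT : Curv2.euler k X E = Curv2.euler k X G + Curv2.euler k X (cokernel i) :=
    Groth.Agent.Lib.Helper23.Twist.euler_cokernel k i hGcoh hEcoh
  have h3' : (Module.finrank k (LinearMap.ker (ParSh.fibDMap k X I i)) : ℤ) ≤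
      (Module.finrank k (Coh.HH X (kernel φ) 0) : ℤ) := by exact_mod_cast h3
  unfold Curv2.deg
  linarith

include k in
/-- the full-rank inequality for induced generalized parabolic structures -/
theorem fullrank_ineq (hdim : topologicalKrullDim X = 1) (I : X.IdealSheafData)
    (hD : FGA.IsEffCartier I) {G E : X.Modules} (n : ℕ)
    (hG : FlatMod.IsFinLocFreeOfRank n G) (hE : FlatMod.IsFinLocFreeOfRank n E)
    (i : G ⟶ E) [Mono i] (F₁ : Submodule k (ParSh.fibD X I E)) :
    (Module.finrank k (ParSh.gpInduced k X I i F₁) : ℤ) + Curv2.deg k X G n ≤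
      Curv2.deg k X E n + (Module.finrank k F₁ : ℤ) := by
  have h1 := ker_fibDMap_le k hdim I hD n hG hE i
  haveI : Module.Finite k (ParSh.fibD X I G) := finite_fibD k I (isCoh_of_isFinLocFreeOfRank hG)
  haveI : Module.Finite k (ParSh.fibD X I E) := finite_fibD k I (isCoh_of_isFinLocFreeOfRank hE)
  have h2 := finrank_comap_le (ParSh.fibDMap k X I i) F₁
  have h2' : (Module.finrank k (F₁.comap (ParSh.fibDMap k X I i)) : ℤ) ≤
      (Module.finrank k (LinearMap.ker (ParSh.fibDMap k X I i)) : ℤ) +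
        (Module.finrank k F₁ : ℤ) := by exact_mod_cast h2
  unfold ParSh.gpInduced
  linarith

omit [IsProper (X ↘ Spec (CommRingCat.of k))] [IsIntegral X] in
include k in
theorem fibDMap_injective_of_isIso (I : X.IdealSheafData) {E F : X.Modules} (f : E ⟶ F)
    [IsIso f] : Function.Injective (ParSh.fibDMap k X I f) := by
  haveI := isIso_resDMap I f
  exact HmapA_injective_zero k (ParSh.resDMap I f)

end Proper

end Groth.Agent.Lib.Helper25.GPGeom
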