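import Mathlib
import Groth.Prelude
import Groth.Agent.Lib.Helper25.GPGeom
import Groth.Agent.Lib.Helper23.Sat

/-!
# Generalized parabolic bundles: homomorphisms between semistable objects (helper25)
-/

set_option autoImplicit false
set_option linter.style.haveILetI false
set_option linter.unusedSectionVars false
universe u
open CategoryTheory CategoryTheory.Limits AlgebraicGeometry TopologicalSpace Opposite

noncomputable section

namespace Groth.Agent.Lib.Helper25.GPGeom2

open Groth.Agent.Lib.Helper3 Groth.Agent.Lib.Helper3.InvGen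
  Groth.Agent.Lib.Helper3.InvTensor Groth.Agent.Lib.Helper3.InvMonoidal
  Groth.Agent.Lib.Helper7.TwFun
open Groth.Agent.Lib.Helper23.T2 Groth.Agent.Lib.Helper23.Curve
open Groth.Agent.Lib.Helper25.GPGeom

/-! ### linear algebra -/

section LA

variable {K V W : Type*} [Field K] [AddCommGroup V] [Module K V] [AddCommGroup W] [Module K W]

theorem finrank_map_add_inf_ker [Module.Finite K V] (f : V →ₗ[K] W) (P : Submodule K V) :
    Module.finrank K (P.map f) + Module.finrank K ↥(P ⊓ LinearMap.ker f) = Module.finrank K P := by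
  have h := LinearMap.finrank_range_add_finrank_ker (f ∘ₗ P.subtype)
  rw [LinearMap.range_comp, Submodule.range_subtype, LinearMap.ker_comp] at h
  rw [← Submodule.finrank_map_subtype_eq P (Submodule.comap P.subtype (LinearMap.ker f)),
    Submodule.map_comap_subtype] at h
  exact h

theorem finrank_le_comap_add_map {U : Type*} [AddCommGroup U] [Module K U]
    [Module.Finite K U] [Module.Finite K V] [Module.Finite K W]
    (ι₀ : U →ₗ[K] V) (π₀ : V →ₗ[K] W) (h0 : ∀ x, π₀ (ι₀ x) = 0) (hs : Function.Surjective π₀)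
    (hd : Module.finrank K V = Module.finrank K U + Module.finrank K W) (F₁ : Submodule K V) :
    Module.finrank K F₁ ≤ Module.finrank K (F₁.comap ι₀) + Module.finrank K (F₁.map π₀) := by
  have hRZ : LinearMap.range ι₀ ≤ LinearMap.ker π₀ := by
    rintro y ⟨x, rfl⟩
    exact LinearMap.mem_ker.mpr (h0 x)
  -- (A)
  have hA := finrank_map_add_inf_ker π₀ F₁
  -- (C)
  have hC := finrank_map_add_inf_ker ι₀ (F₁.comap ι₀)
  rw [Submodule.map_comap_eq, inf_eq_right.mpr (LinearMap.ker_le_comap ι₀)] at hC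
  -- (D)
  have hD1 := LinearMap.finrank_range_add_finrank_ker π₀
  rw [LinearMap.range_eq_top.mpr hs, finrank_top] at hD1
  have hD2 := LinearMap.finrank_range_add_finrank_ker ι₀
  -- (B)
  have hB := Submodule.finrank_sup_add_finrank_inf_eq (F₁ ⊓ LinearMap.ker π₀) (LinearMap.range ι₀)
  have hB1 : Module.finrank K ↥((F₁ ⊓ LinearMap.ker π₀) ⊔ LinearMap.range ι₀) ≤
      Module.finrank K (LinearMap.ker π₀) :=
    Submodule.finrank_mono (sup_le inf_le_right hRZ)
  have hB2 : Module.finrank K ↥((F₁ ⊓ LinearMap.ker π₀) ⊓ LinearMap.range ι₀) ≤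
      Module.finrank K ↥(LinearMap.range ι₀ ⊓ F₁) :=
    Submodule.finrank_mono (le_inf inf_le_right (inf_le_left.trans inf_le_left))
  omega

end LA

/-! ### real arithmetic -/

theorem arith_e2 (DI DE DF α s p p' : ℝ) (b n m : ℕ) (hm : 0 < m)
    (h2 : (DI + α * s) * m ≤ (DF + α * p') * b)
    (hμ : (DE + α * p) * m = (DF + α * p') * n) :
    (DI + α * s) * n ≤ (DE + α * p) * b := by
  have hm' : (0 : ℝ) < m := by exact_mod_cast hm
  have e1 : ((DI + α * s) * n) * m ≤ ((DE + α * p) * b) * m := by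
    have h3 : ((DI + α * s) * m) * n ≤ ((DF + α * p') * b) * n :=
      mul_le_mul_of_nonneg_right h2 (Nat.cast_nonneg n)
    have h4 : ((DF + α * p') * b) * n = ((DE + α * p) * b) * m := by
      calc ((DF + α * p') * b) * n = ((DF + α * p') * n) * b := by ring
        _ = ((DE + α * p) * m) * b := by rw [hμ]
        _ = _ := by ring
    calc ((DI + α * s) * n) * m = ((DI + α * s) * m) * n := by ring
      _ ≤ ((DF + α * p') * b) * n := h3
      _ = _ := h4
  exact le_of_mul_le_mul_right e1 hm'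

theorem arithKI (DK DI DE DF α κ s p p' : ℝ) (a b n m : ℕ) (hn : n = a + b) (hm : 0 < m)
    (hnpos : 0 < n) (hα0 : 0 ≤ α) (hDE : DE = DK + DI)
    (h1 : (DK + α * κ) * n < (DE + α * p) * a)
    (h2 : (DI + α * s) * m ≤ (DF + α * p') * b)
    (hμ : (DE + α * p) * m = (DF + α * p') * n)
    (hp : p ≤ κ + s) : False := by
  have e2 := arith_e2 DI DE DF α s p p' b n m hm h2 hμ
  have hn' : (n : ℝ) = (a : ℝ) + (b : ℝ) := by rw [hn]; push_cast; ring
  have e3 : α * p ≤ α * (κ + s) := mul_le_mul_of_nonneg_left hp hα0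
  have e4 : (DK + DI + α * κ + α * s) * n < (DE + α * p) * n := by
    have h5 : (DE + α * p) * (n : ℝ) = (DE + α * p) * a + (DE + α * p) * b := by rw [hn']; ring
    rw [h5]
    nlinarith [h1, e2]
  have hnpos' : (0 : ℝ) ≤ n := Nat.cast_nonneg n
  have e5 := lt_of_mul_lt_mul_right e4 hnpos'
  rw [hDE] at e5
  nlinarith [e3, e5]

theorem arithMono (DE DF α s' p p' : ℝ) (n m : ℕ) (hα0 : 0 ≤ α) (hps : p ≤ s')
    (hμ : (DE + α * p) * m = (DF + α * p') * n)
    (hst : (DE + α * s') * m < (DF + α * p') * n) : False := by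
  rw [← hμ] at hst
  have e := lt_of_mul_lt_mul_right hst (Nat.cast_nonneg m)
  have e3 : α * p ≤ α * s' := mul_le_mul_of_nonneg_left hps hα0
  linarith

/-! ### sheaf lemmas -/

variable {X : Scheme.{u}}

theorem kosz_eq {M M' N N' : X.Modules} (f : M ⟶ M') (g : N ⟶ N') :
    KoszTw.tensorMap f g = InvMonoidal.tensorMap f g := by
  apply tensor_hom_ext
  intro U m n
  rw [tensorMap_tm]
  exact KoszTw.tensorMap_tmul f g U m n

theorem resDMap_zero (I : X.IdealSheafData) (A B : X.Modules) :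
    ParSh.resDMap I (0 : A ⟶ B) = 0 := by
  change KoszTw.tensorMap (0 : A ⟶ B) (𝟙 (ClSub.quotMod I)) = 0
  rw [kosz_eq]
  exact (twR (ClSub.quotMod I)).map_zero A B

theorem resDMap_comp (I : X.IdealSheafData) {A B C : X.Modules} (u : A ⟶ B) (v : B ⟶ C) :
    ParSh.resDMap I (u ≫ v) = ParSh.resDMap I u ≫ ParSh.resDMap I v := by
  have h := KoszTw.tensorMap_comp u v (𝟙 (ClSub.quotMod I)) (𝟙 (ClSub.quotMod I))
  rwa [Category.comp_id] at h

theorem vanish_resD (I : X.IdealSheafData) (M : X.Modules) (V : X.Opens)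
    (hV : Disjoint (V : Set X) (I.support : Set X)) (t : Γ(ParSh.resD I M, V)) : t = 0 := by
  let D₁ : X.Opens := ⟨(I.support : Set X)ᶜ, I.support.isClosed.isOpen_compl⟩
  have hvanQ' : ∀ V : X.Opens, V ≤ D₁ → ∀ t : Γ(ClSub.quotMod I, V), t = 0 := by
    intro V hV t
    refine Groth.Agent.Lib.Helper23.EffCart.quotMod_eq_zero_of_disjoint I V ?_ t
    rw [Set.disjoint_left]
    intro x hxV hxD
    exact hV hxV hxD
  have hVD : V ≤ D₁ := by
    intro x hxV
    change x ∈ (I.support : Set X)ᶜ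
    exact fun hxD => Set.disjoint_left.mp hV hxV hxD
  exact vanish_of_mono (braid M (ClSub.quotMod I)).hom V
    (fun s => Groth.Agent.Lib.Helper23.TmBasis.tensor_eq_zero_of_vanishes (ClSub.quotMod I) M D₁
      hvanQ' V hVD s) t

section Proper

variable (k : Type u) [Field k] {X : Scheme.{u}} [X.Over (Spec (CommRingCat.of k))]
  [IsProper (X ↘ Spec (CommRingCat.of k))] [IsIntegral X]

theorem fibDMap_comp (I : X.IdealSheafData) {A B C : X.Modules} (u : A ⟶ B) (v : B ⟶ C)
    (x : ParSh.fibD X I A) :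
    ParSh.fibDMap k X I (u ≫ v) x = ParSh.fibDMap k X I v (ParSh.fibDMap k X I u x) := by
  change Hmap (ParSh.resDMap I (u ≫ v)) 0 x =
    Hmap (ParSh.resDMap I v) 0 (Hmap (ParSh.resDMap I u) 0 x)
  rw [resDMap_comp, Hmap_comp]

theorem fibDMap_zero (I : X.IdealSheafData) (A B : X.Modules) (x : ParSh.fibD X I A) :
    ParSh.fibDMap k X I (0 : A ⟶ B) x = 0 := by
  change Hmap (ParSh.resDMap I (0 : A ⟶ B)) 0 x = 0
  rw [resDMap_zero, Hmap_zero]

include k in
theorem isFlq_of_mono_resD (hdim : topologicalKrullDim X = 1) (I : X.IdealSheafData)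
    (hD : FGA.IsEffCartier I) {M K : X.Modules} (j : K ⟶ ParSh.resD I M) [Mono j] : IsFlq K := by
  obtain ⟨hfin, hpt⟩ :=
    Groth.Agent.Lib.Helper23.EffCart.support_finite k X hdim.le I (fun x => hD x)
  exact isFlq_of_vanishing_off_finite K _ hfin hpt
    (fun V hV t => vanish_of_mono j V (fun s => vanish_resD I M V hV s) t)

include k in
theorem finrank_fibD (hdim : topologicalKrullDim X = 1) (I : X.IdealSheafData)
    (hD : FGA.IsEffCartier I) {M : X.Modules} (r : ℕ) (hM : FlatMod.IsFinLocFreeOfRank r M) :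
    Module.finrank k (ParSh.fibD X I M) =
      r * Module.finrank k (Coh.HH X (ClSub.quotMod I) 0) := by
  haveI := isNoetherian_of_isProper k X
  obtain ⟨hfin, hpt⟩ :=
    Groth.Agent.Lib.Helper23.EffCart.support_finite k X hdim.le I (fun x => hD x)
  have hQcoh : Coh.IsCoh (ClSub.quotMod I) := Groth.Agent.Lib.Helper23.EffCart.isCoh_quotMod I
  have hMcoh := isCoh_of_isFinLocFreeOfRank hM
  have hAcoh : Coh.IsCoh (ParSh.resD I M) := isCoh_resD I hMcoh
  have hvanQ : ∀ V : X.Opens, Disjoint (V : Set X) (I.support : Set X) →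
      ∀ t : Γ(ClSub.quotMod I, V), t = 0 :=
    fun V hV t => Groth.Agent.Lib.Helper23.EffCart.quotMod_eq_zero_of_disjoint I V hV t
  have hχA : Curv2.euler k X (ParSh.resD I M) = r * Curv2.euler k X (ClSub.quotMod I) :=
    (Groth.Agent.Lib.Helper23.Twist.euler_eq_of_iso k (braid M (ClSub.quotMod I)) hAcoh).trans
      (Groth.Agent.Lib.Helper23.TensorPts.euler_tensor_of_vanishing k X (ClSub.quotMod I) hQcoh _
        I.support.isClosed hfin hpt hvanQ r M hM)
  have hflA : IsFlq (ParSh.resD I M) := isFlq_of_mono_resD k hdim I hD (𝟙 (ParSh.resD I M))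
  have hflQ : IsFlq (ClSub.quotMod I) := isFlq_of_vanishing_off_finite _ _ hfin hpt hvanQ
  have h1 := euler_eq_finrank_of_isFlq k X _ hAcoh hflA
  have h2 := euler_eq_finrank_of_isFlq k X _ hQcoh hflQ
  have h3 : (Module.finrank k (ParSh.fibD X I M) : ℤ) =
      (r : ℤ) * (Module.finrank k (Coh.HH X (ClSub.quotMod I) 0) : ℤ) := by
    rw [← h2, ← hχA, h1]
  exact_mod_cast h3

include k in
theorem fibDMap_surjective (hdim : topologicalKrullDim X = 1) (I : X.IdealSheafData)
    (hD : FGA.IsEffCartier I) {E M : X.Modules} {b : ℕ}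
    (hM : FlatMod.IsFinLocFreeOfRank b M) (π : E ⟶ M) [Epi π] :
    Function.Surjective (ParSh.fibDMap k X I π) := by
  have hqM : Epi (qMap I M) := epi_qMap I hM
  have hnat := qMap_natural I π
  have h1 : Epi (π ≫ qMap I M) := @epi_comp _ _ _ _ _ π inferInstance (qMap I M) hqM
  have h2 : Epi (qMap I E ≫ ParSh.resDMap I π) := by rw [← hnat]; exact h1
  haveI h3 : Epi (ParSh.resDMap I π) := @epi_of_epi _ _ _ _ _ (qMap I E) (ParSh.resDMap I π) h2
  let S : ShortComplex X.Modules :=
    ShortComplex.mk (kernel.ι (ParSh.resDMap I π)) (ParSh.resDMap I π) (kernel.condition _)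
  have hS : S.ShortExact :=
    { exact := ShortComplex.exact_kernel _
      mono_f := inferInstanceAs (Mono (kernel.ι (ParSh.resDMap I π)))
      epi_g := h3 }
  have hfl : IsFlq (kernel (ParSh.resDMap I π)) :=
    isFlq_of_mono_resD k hdim I hD (kernel.ι (ParSh.resDMap I π))
  haveI h4 : Subsingleton (Coh.HH X S.X₁ (0 + 1)) := acyclic_of_isFlq hfl 0
  intro y
  obtain ⟨x, hx⟩ := (exact_g_δ k S hS 0 y).mp (Subsingleton.elim _ _)
  exact ⟨x, hx⟩

include k in
/-- for `K → E → M` with `ι ≫ π = 0`, `π` epi and additive ranks, a generalized parabolic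
structure on `E` is bounded by the induced structure on `K` plus its image in `M`. -/
theorem finrank_le_induced_add_map (hdim : topologicalKrullDim X = 1) (I : X.IdealSheafData)
    (hD : FGA.IsEffCartier I) {K E M : X.Modules} {a n b : ℕ}
    (hK : FlatMod.IsFinLocFreeOfRank a K) (hE : FlatMod.IsFinLocFreeOfRank n E)
    (hM : FlatMod.IsFinLocFreeOfRank b M) (hn : n = a + b) (ι : K ⟶ E) (π : E ⟶ M) [Epi π]
    (w : ι ≫ π = 0) (F₁ : Submodule k (ParSh.fibD X I E)) :
    Module.finrank k F₁ ≤ Module.finrank k (ParSh.gpInduced k X I ι F₁) +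
      Module.finrank k (F₁.map (ParSh.fibDMap k X I π)) := by
  haveI : Module.Finite k (ParSh.fibD X I K) := finite_fibD k I (isCoh_of_isFinLocFreeOfRank hK)
  haveI : Module.Finite k (ParSh.fibD X I E) := finite_fibD k I (isCoh_of_isFinLocFreeOfRank hE)
  haveI : Module.Finite k (ParSh.fibD X I M) := finite_fibD k I (isCoh_of_isFinLocFreeOfRank hM)
  unfold ParSh.gpInduced
  refine finrank_le_comap_add_map (ParSh.fibDMap k X I ι) (ParSh.fibDMap k X I π) ?_
    (fibDMap_surjective k hdim I hD hM π) ?_ F₁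
  · intro x
    rw [← fibDMap_comp, w, fibDMap_zero]
  · rw [finrank_fibD k hdim I hD a hK, finrank_fibD k hdim I hD n hE, finrank_fibD k hdim I hD b hM,
      hn, Nat.add_mul]

end Proper

end Groth.Agent.Lib.Helper25.GPGeom2
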