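import Mathlib
import Groth.Prelude
import Groth.Agent.Lib.Helper25.GPGeom2
import Groth.Agent.Lib.Helper23.StableEnd
import Groth.Agent.Lib.Helper23.HilbPU

/-!
# Generalized parabolic bundles: simplicity of stable objects (helper25)
-/

set_option autoImplicit false
set_option linter.style.haveILetI false
set_option linter.unusedSectionVars false
universe u
open CategoryTheory CategoryTheory.Limits AlgebraicGeometry TopologicalSpace Opposite
open Groth.Agent.Lib.Helper3 Groth.Agent.Lib.Helper3.QCSec Groth.Agent.Lib.Helper3.InvGen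
open Groth.Agent.Lib.Helper3.FreeBasis Groth.Agent.Lib.Helper3.SecLoc
open Groth.Agent.Lib.Helper23.T2 Groth.Agent.Lib.Helper23.Curve

noncomputable section

namespace Groth.Agent.Lib.Helper25.GPGeom3

open Groth.Agent.Lib.Helper3.InvTensor Groth.Agent.Lib.Helper3.InvMonoidal
  Groth.Agent.Lib.Helper7.TwFun
open Groth.Agent.Lib.Helper25.GPGeom Groth.Agent.Lib.Helper25.GPGeom2
open Groth.Agent.Lib.Helper23.StableEnd

variable {X : Scheme.{u}}

theorem resDMap_sub (I : X.IdealSheafData) {A B : X.Modules} (u v : A ⟶ B) :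
    ParSh.resDMap I (u - v) = ParSh.resDMap I u - ParSh.resDMap I v := by
  change KoszTw.tensorMap (u - v) (𝟙 (ClSub.quotMod I)) =
    KoszTw.tensorMap u (𝟙 (ClSub.quotMod I)) - KoszTw.tensorMap v (𝟙 (ClSub.quotMod I))
  rw [kosz_eq, kosz_eq, kosz_eq]
  exact (twR (ClSub.quotMod I)).map_sub

section Proper

variable (k : Type u) [Field k] {X : Scheme.{u}} [X.Over (Spec (CommRingCat.of k))]
  [IsProper (X ↘ Spec (CommRingCat.of k))]

theorem resDMap_smul_id (I : X.IdealSheafData) (E : X.Modules) (a : k) :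
    ParSh.resDMap I (a • 𝟙 E) = a • 𝟙 (ParSh.resD I E) := by
  change KoszTw.tensorMap (a • 𝟙 E) (𝟙 (ClSub.quotMod I)) =
    a • 𝟙 (CohB1.tensorMod E (ClSub.quotMod I))
  apply tensor_hom_ext
  intro U m n
  have e1 : (KoszTw.tensorMap (a • 𝟙 E) (𝟙 (ClSub.quotMod I))).app U
      (tm E (ClSub.quotMod I) U m n) =
      tm E (ClSub.quotMod I) U ((a • 𝟙 E).app U m) n :=
    KoszTw.tensorMap_tmul (a • 𝟙 E) (𝟙 _) U m n
  rw [e1, KLin.smul_app_apply, KLin.smul_app_apply, tm_smul_left]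
  rfl

theorem Hmap_smul_id (M : X.Modules) (a : k) (n : ℕ) (x : Coh.HH X M n) :
    Hmap (a • 𝟙 M) n x = a • x := by
  have h : (SheafOfModules.toSheaf X.ringCatSheaf).map (a • 𝟙 M) =
      Coh.smulAb M (Coh.toGlobal (X ↘ Spec (CommRingCat.of k)) a) := by
    rw [KLin.smul_id]
    rfl
  change Sheaf.H.map ((SheafOfModules.toSheaf X.ringCatSheaf).map (a • 𝟙 M)) n x = a • x
  rw [h]
  rfl

theorem fibDMap_sub_smul (I : X.IdealSheafData) {E : X.Modules} (f : E ⟶ E) (a : k)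
    (x : ParSh.fibD X I E) :
    ParSh.fibDMap k X I (f - a • 𝟙 E) x = ParSh.fibDMap k X I f x - a • x := by
  change Hmap (ParSh.resDMap I (f - a • 𝟙 E)) 0 x = Hmap (ParSh.resDMap I f) 0 x - a • x
  rw [resDMap_sub, resDMap_smul_id, Groth.Agent.Lib.Helper23.HilbP.Hmap_sub, Hmap_smul_id]

theorem isGPHom_sub_smul (I : X.IdealSheafData) {E : X.Modules}
    (F₁ : Submodule k (ParSh.fibD X I E)) (f : E ⟶ E) (hf : ParSh.IsGPHom k X I F₁ F₁ f)
    (a : k) : ParSh.IsGPHom k X I F₁ F₁ (f - a • 𝟙 E) := by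
  have hf' : F₁.map (ParSh.fibDMap k X I f) ≤ F₁ := hf
  change F₁.map (ParSh.fibDMap k X I (f - a • 𝟙 E)) ≤ F₁
  rintro y ⟨x, hx, rfl⟩
  rw [fibDMap_sub_smul]
  exact F₁.sub_mem (hf' (Submodule.mem_map_of_mem hx)) (F₁.smul_mem a hx)

include k in
/-- an endomorphism all of whose nonzero translates by scalars are isomorphisms is a scalar
(adapted from helper23's `scalar_of_stable`). -/
theorem scalar_of_forall_isIso [IsAlgClosed k] [IsIntegral X] (r : ℕ) (hr : 0 < r)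
    (E : X.Modules) (hE : FlatMod.IsFinLocFreeOfRank r E) (φ : E ⟶ E)
    (hiso : ∀ a : k, φ - a • 𝟙 E ≠ 0 → IsIso (φ - a • 𝟙 E)) : ∃ a : k, φ = a • 𝟙 E := by
  obtain ⟨x⟩ : Nonempty X := inferInstance
  obtain ⟨U₀, e₀, hxU₀, hb₀⟩ := isFinLocFreeOfRank_iff.mp hE x
  obtain ⟨U, hU, hxU, hUU₀⟩ : ∃ U : X.Opens, IsAffineOpen U ∧ x ∈ U ∧ U ≤ U₀ := by
    obtain ⟨_, ⟨W, hW, rfl⟩, hxW, hWU⟩ := X.isBasis_affineOpens.exists_subset_of_mem_open
      (show x ∈ (U₀ : Set X) from hxU₀) U₀.2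
    exact ⟨W, hW, hxW, hWU⟩
  have hb : IsBasis E U (fun i => res E hUU₀ (e₀ i)) := hb₀.mono hUU₀
  haveI : Nonempty U := ⟨⟨x, hxU⟩⟩
  haveI : Nontrivial Γ(X, U) := Scheme.component_nontrivial X U
  obtain ⟨eE⟩ := free_of_isBasisAt hb.self
  let ρ : k →+* Γ(X, U) := (X.presheaf.map (homOfLE (le_top : U ≤ ⊤)).op).hom.comp
    (Coh.toGlobal (X ↘ Spec (CommRingCat.of k)))
  letI : Algebra k Γ(X, U) := ρ.toAlgebra
  haveI : Algebra.FiniteType k Γ(X, U) := by
    have e' : U ≤ (X ↘ Spec (CommRingCat.of k)) ⁻¹ᵁ ⊤ := fun x _ => Set.mem_univ _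
    have hft : RingHom.FiniteType ((X ↘ Spec (CommRingCat.of k)).appLE ⊤ U e').hom :=
      HasRingHomProperty.appLE @LocallyOfFiniteType (X ↘ Spec (CommRingCat.of k)) inferInstance
        ⟨⊤, isAffineOpen_top _⟩ ⟨U, hU⟩ e'
    have hinv : RingHom.FiniteType (Scheme.ΓSpecIso (CommRingCat.of k)).inv.hom :=
      RingHom.FiniteType.of_surjective _
        (ConcreteCategory.bijective_of_isIso (Scheme.ΓSpecIso (CommRingCat.of k)).inv).2
    have hcomp := hft.comp hinv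
    have heq : ((X ↘ Spec (CommRingCat.of k)).appLE ⊤ U e').hom.comp
        (Scheme.ΓSpecIso (CommRingCat.of k)).inv.hom = ρ := by
      ext c
      rfl
    rw [heq] at hcomp
    exact hcomp
  obtain ⟨a, ha⟩ := exists_scalar_not_surjective (k := k) hr eE (appLin φ U)
  refine ⟨a, ?_⟩
  by_contra hne
  have hψ : φ - a • 𝟙 E ≠ 0 := sub_ne_zero.mpr hne
  haveI := hiso a hψ
  apply ha
  intro w
  refine ⟨(inv (φ - a • 𝟙 E)).app U w, ?_⟩
  have h1 : (φ - a • 𝟙 E).app U ((inv (φ - a • 𝟙 E)).app U w) = w := by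
    have : (inv (φ - a • 𝟙 E) ≫ (φ - a • 𝟙 E)).app U w = w := by
      rw [IsIso.inv_hom_id]; rfl
    exact this
  have h2 : ∀ m : Γ(E, U), (φ - a • 𝟙 E).app U m = φ.app U m - ρ a • m := by
    intro m
    rw [Scheme.Modules.Hom.sub_app]
    change φ.app U m - (a • 𝟙 E).app U m = _
    rw [KLin.smul_app_apply]
    rfl
  rw [h2] at h1
  exact h1

end Proper

end Groth.Agent.Lib.Helper25.GPGeom3
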