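import Mathlib

/-!
# Real arithmetic for homomorphisms of semistable generalized parabolic bundles (helper25)
-/

set_option autoImplicit false

namespace Groth.Agent.Lib.Helper25.GPGeom4

theorem arithEqA (DK DI DE α κ s p : ℝ) (a b n : ℕ) (hn : n = a + b) (hα0 : 0 ≤ α)
    (hDE : DE = DK + DI) (h1 : (DK + α * κ) * n ≤ (DE + α * p) * a) (hp : p ≤ κ + s) :
    (DE + α * p) * b ≤ (DI + α * s) * n := by
  by_contra hlt
  push_neg at hlt
  have hn' : (n : ℝ) = (a : ℝ) + (b : ℝ) := by rw [hn]; push_cast; ring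
  have e3 : α * p ≤ α * (κ + s) := mul_le_mul_of_nonneg_left hp hα0
  have e4 : (DK + DI + α * κ + α * s) * n < (DE + α * p) * n := by
    have h5 : (DE + α * p) * (n : ℝ) = (DE + α * p) * a + (DE + α * p) * b := by rw [hn']; ring
    rw [h5]
    nlinarith [h1, hlt]
  have e5 := lt_of_mul_lt_mul_right e4 (Nat.cast_nonneg n)
  rw [hDE] at e5
  nlinarith [e3, e5]

theorem arithEqB (DI DE DF α s p p' : ℝ) (b n m : ℕ) (hnpos : 0 < n)
    (h : (DE + α * p) * b ≤ (DI + α * s) * n) (hμ : (DE + α * p) * m = (DF + α * p') * n) :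
    (DF + α * p') * b ≤ (DI + α * s) * m := by
  have hn' : (0 : ℝ) < n := by exact_mod_cast hnpos
  have e1 : ((DF + α * p') * b) * n ≤ ((DI + α * s) * m) * n := by
    calc ((DF + α * p') * b) * n = ((DF + α * p') * n) * b := by ring
      _ = ((DE + α * p) * m) * b := by rw [hμ]
      _ = ((DE + α * p) * b) * m := by ring
      _ ≤ ((DI + α * s) * n) * m := mul_le_mul_of_nonneg_right h (Nat.cast_nonneg m)
      _ = _ := by ring
  exact le_of_mul_le_mul_right e1 hn'

theorem arithSat (DI DG DF α s s'' p' : ℝ) (b m : ℕ) (hm : 0 < m) (hα0 : 0 ≤ α) (hα1 : α < 1)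
    (heq : (DF + α * p') * b ≤ (DI + α * s) * m)
    (h3 : (DG + α * s'') * m ≤ (DF + α * p') * b)
    (h4 : s + DI ≤ DG + s'') (hdle : DI ≤ DG) : DG = DI := by
  have hm' : (0 : ℝ) < m := by exact_mod_cast hm
  have e1 : DG + α * s'' ≤ DI + α * s := le_of_mul_le_mul_right (h3.trans heq) hm'
  have e2 : α * (s + DI - DG) ≤ α * s'' := mul_le_mul_of_nonneg_left (by linarith) hα0
  have e3 : (1 - α) * (DG - DI) ≤ 0 := by nlinarith [e1, e2]
  have e4 : DG - DI ≤ 0 := by
    by_contra hpos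
    push_neg at hpos
    have := mul_pos (sub_pos.mpr hα1) hpos
    linarith
  linarith

end Groth.Agent.Lib.Helper25.GPGeom4
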