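import Mathlib
import Groth.Agent.Lib.Helper23.T2L
import Groth.Agent.Lib.Helper23.GenusZeroSmooth
import Groth.Agent.Lib.Helper3.Reduced
import Groth.Agent.Lib.Helper25.StalkStr
import Groth.Agent.Lib.Helper25.SecTensor
import Groth.Agent.Lib.Helper25.DivGlue

/-!
# Global functions of a proper flat scheme over a DVR with reduced connected special fibre
-/

set_option autoImplicit false
set_option linter.style.haveILetI false
universe u
open CategoryTheory CategoryTheory.Limits AlgebraicGeometry Opposite TopologicalSpace TensorProduct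

namespace Groth.Agent.Lib.Helper25.GammaDVR

open Groth.Agent.Lib.Helper17.SpecBC Groth.Agent.Lib.Helper25.SecTensor
  Groth.Agent.Lib.Helper25.DivGlue

variable {R : Type u} [CommRing R] {X : Scheme.{u}} (f : X ⟶ Spec (CommRingCat.of R))

theorem appLE_top_top : f.appLE ⊤ ⊤ le_top = f.appTop := Scheme.Hom.appLE_eq_app f

theorem toSec_top_hom : (toSec f ⊤).hom = Coh.toGlobal f := by
  rw [toSec, appLE_top_top]
  rfl

theorem toGlobal_apply (r : R) : Coh.toGlobal f r = (toSec f ⊤).hom r := by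
  rw [toSec_top_hom]
  rfl

theorem res_toSec (U : X.Opens) (r : R) : res ((toSec f ⊤).hom r) U = (toSec f U).hom r := by
  rw [toSec, appLE_top_top]
  simp only [res, toSec, Scheme.Hom.appLE, CommRingCat.hom_comp, RingHom.comp_apply]
  rfl

theorem stalk_regular [IsDomain R] [Flat f] (x : X) (r : R) (hr : r ≠ 0) (z : X.presheaf.stalk x)
    (h : (X.presheaf.germ ⊤ x trivial).hom ((toSec f ⊤).hom r) * z = 0) : z = 0 := by
  letI algO : Algebra R (X.presheaf.stalk x) :=
    ((X.presheaf.germ ⊤ x trivial).hom.comp (Coh.toGlobal f)).toAlgebra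
  have hc : X.fromSpecStalk x ≫ f =
      Spec.map (CommRingCat.ofHom (algebraMap R (X.presheaf.stalk x))) :=
    Groth.Agent.Lib.Helper25.StalkStr.fromSpecStalk_comp f x
  haveI : Module.Flat R (X.presheaf.stalk x) := by
    have h1 : Flat (X.fromSpecStalk x) := Groth.Agent.Lib.Helper3.flat_fromSpecStalk X x
    have h2 : Flat (X.fromSpecStalk x ≫ f) := MorphismProperty.comp_mem _ _ _ h1 inferInstance
    rw [hc, Flat.SpecMap_iff] at h2
    exact RingHom.flat_algebraMap_iff.mp h2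
  have hreg : IsSMulRegular (X.presheaf.stalk x) r :=
    Module.Flat.isSMulRegular_of_nonZeroDivisors (mem_nonZeroDivisors_of_ne_zero hr)
  apply hreg
  change r • z = r • 0
  rw [smul_zero, Algebra.smul_def]
  change (X.presheaf.germ ⊤ x trivial).hom (Coh.toGlobal f r) * z = 0
  rw [toGlobal_apply]
  exact h

theorem local_dvd [IsLocalRing R] {Xs : Scheme.{u}} {gs : Xs ⟶ X}
    {fs : Xs ⟶ Spec (CommRingCat.of (IsLocalRing.ResidueField R))}
    (hs : IsPullback gs fs f (Spec.map (CommRingCat.ofHom (IsLocalRing.residue R))))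
    (ϖ : R) (hϖ : IsLocalRing.maximalIdeal R = Ideal.span {ϖ})
    (U : X.Opens) (hU : IsAffineOpen U) (a : Γ(X, U))
    (ha : (gs.appLE U (gs ⁻¹ᵁ U) le_rfl).hom a = 0) :
    ∃ t : Γ(X, U), (toSec f U).hom ϖ * t = a := by
  letI algA : Algebra R Γ(X, U) := (toSec f U).hom.toAlgebra
  have hs' : IsPullback gs fs f
      (Spec.map (CommRingCat.ofHom (algebraMap R (IsLocalRing.ResidueField R)))) := hs
  have hpo := isPushout_sections hs' hU
  obtain ⟨e, he⟩ := exists_equiv_of_isPushout (R := R) (S := IsLocalRing.ResidueField R)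
    (A := Γ(X, U)) (T := Γ(Xs, gs ⁻¹ᵁ U))
    (toSec fs (gs ⁻¹ᵁ U)).hom (gs.appLE U (gs ⁻¹ᵁ U) le_rfl).hom hpo
  have h1 : (1 : IsLocalRing.ResidueField R) ⊗ₜ[R] a = 0 := by
    apply e.injective
    rw [he, ha, mul_zero, map_zero]
  have h2 : a ⊗ₜ[R] (1 : IsLocalRing.ResidueField R) = 0 := by
    have := congrArg (Algebra.TensorProduct.comm R (IsLocalRing.ResidueField R) Γ(X, U)) h1
    simpa using this
  let ψ : (Γ(X, U) ⧸ (IsLocalRing.maximalIdeal R).map (algebraMap R Γ(X, U))) ≃ₐ[Γ(X, U)]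
      Γ(X, U) ⊗[R] (IsLocalRing.ResidueField R) :=
    Algebra.TensorProduct.quotIdealMapEquivTensorQuot Γ(X, U) (IsLocalRing.maximalIdeal R)
  have h3 : ψ (Ideal.Quotient.mk _ a) = a ⊗ₜ[R] 1 := by
    have := ψ.commutes a
    rw [Algebra.TensorProduct.algebraMap_apply] at this
    exact this
  have h4 : Ideal.Quotient.mk ((IsLocalRing.maximalIdeal R).map (algebraMap R Γ(X, U))) a = 0 := by
    apply ψ.injective
    rw [h3, h2, map_zero]
  have h5 := Ideal.Quotient.eq_zero_iff_mem.mp h4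
  rw [hϖ, Ideal.map_span, Set.image_singleton, Ideal.mem_span_singleton'] at h5
  obtain ⟨t, ht⟩ := h5
  exact ⟨t, by rw [mul_comm]; exact ht⟩

theorem toSec_top_bijective (R : Type u) [CommRing R] [IsDomain R] [IsDiscreteValuationRing R]
    [IsAlgClosed (IsLocalRing.ResidueField R)]
    {X : Scheme.{u}} (f : X ⟶ Spec (CommRingCat.of R)) [IsProper f] [Flat f]
    {Xs : Scheme.{u}} (gs : Xs ⟶ X) (fs : Xs ⟶ Spec (CommRingCat.of (IsLocalRing.ResidueField R)))
    (hs : IsPullback gs fs f (Spec.map (CommRingCat.ofHom (IsLocalRing.residue R))))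
    [ConnectedSpace Xs] [IsReduced Xs] :
    Function.Bijective (toSec f ⊤).hom := by
  classical
  obtain ⟨ϖ, hϖ⟩ := IsDiscreteValuationRing.exists_irreducible R
  have hm : IsLocalRing.maximalIdeal R = Ideal.span {ϖ} := hϖ.maximalIdeal_eq
  have hk : Function.Bijective (toSec fs ⊤).hom := by
    letI : Xs.Over (Spec (CommRingCat.of (IsLocalRing.ResidueField R))) := ⟨fs⟩
    haveI : IsProper (Xs ↘ Spec (CommRingCat.of (IsLocalRing.ResidueField R))) :=
      (MorphismProperty.of_isPullback (P := @IsProper) hs inferInstance : IsProper fs)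
    have hk0 : Function.Bijective (Coh.toGlobal fs) :=
      Groth.Agent.Lib.Helper23.GenusZeroSmooth.toGlobal_bijective_of_isAlgClosed
        (IsLocalRing.ResidueField R) Xs
    rw [toSec_top_hom]
    exact hk0
  have hreg : ∀ (r : R), r ≠ 0 → ∀ (x : X) (z : X.presheaf.stalk x),
      (X.presheaf.germ ⊤ x trivial).hom ((toSec f ⊤).hom r) * z = 0 → z = 0 :=
    fun r hr x z h => stalk_regular f x r hr z h
  have hcomm : ∀ r : R, gs.appTop.hom ((toSec f ⊤).hom r) =
      (toSec fs ⊤).hom (IsLocalRing.residue R r) := by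
    intro r
    have h1 := toSec_comm (φ := CommRingCat.ofHom (IsLocalRing.residue R)) hs.w ⊤
    have h3 : gs.appLE ⊤ (gs ⁻¹ᵁ ⊤) le_rfl = gs.appTop := Scheme.Hom.appLE_eq_app gs
    rw [h3] at h1
    have h2 := congr($(h1).hom r)
    simp only [CommRingCat.hom_comp, RingHom.comp_apply] at h2
    exact h2.symm
  have hdiv : ∀ s : Γ(X, ⊤), gs.appTop.hom s = 0 → ∃ t, (toSec f ⊤).hom ϖ * t = s := by
    intro s hs0
    apply dvd_of_locally_dvd ((toSec f ⊤).hom ϖ) (hreg ϖ hϖ.ne_zero) s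
    intro U
    rw [res_toSec]
    apply local_dvd f hs ϖ hm U.1 U.2
    have h1 : X.presheaf.map (homOfLE (le_top : U.1 ≤ ⊤)).op ≫
        gs.appLE U.1 (gs ⁻¹ᵁ U.1) le_rfl = gs.appLE ⊤ (gs ⁻¹ᵁ U.1) le_top :=
      gs.map_appLE _ _
    have h2 : (gs.appLE U.1 (gs ⁻¹ᵁ U.1) le_rfl).hom (res s U.1) =
        (gs.appLE ⊤ (gs ⁻¹ᵁ U.1) le_top).hom s := congr($(h1).hom s)
    rw [h2]
    have h3 : (gs.appLE ⊤ (gs ⁻¹ᵁ U.1) le_top).hom s =
        (Xs.presheaf.map (homOfLE (le_top : gs ⁻¹ᵁ U.1 ≤ ⊤)).op).hom (gs.appTop.hom s) := rfl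
    rw [h3, hs0, map_zero]
  letI alg : Algebra R Γ(X, ⊤) := (toSec f ⊤).hom.toAlgebra
  haveI hfin : Module.Finite R Γ(X, ⊤) := by
    have h1 : (f.app ⊤).hom.Finite :=
      Groth.Agent.Lib.Helper23.T2.finite_app_of_isProper f ⊤ (isAffineOpen_top _)
    have h2 : ((Scheme.ΓSpecIso (CommRingCat.of R)).inv.hom).Finite :=
      RingHom.Finite.of_surjective _
        (ConcreteCategory.bijective_of_isIso (Scheme.ΓSpecIso (CommRingCat.of R)).inv).2
    have h3 : (toSec f ⊤).hom = (f.app ⊤).hom.comp (Scheme.ΓSpecIso (CommRingCat.of R)).inv.hom := by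
      rw [toSec, appLE_top_top]
      rfl
    change (toSec f ⊤).hom.Finite
    rw [h3]
    exact RingHom.Finite.comp h1 h2
  constructor
  · rw [injective_iff_map_eq_zero]
    intro r hr
    by_contra hr0
    obtain ⟨y⟩ : Nonempty Xs := inferInstance
    have := hreg r hr0 (gs.base y) 1 (by rw [hr]; simp)
    exact one_ne_zero this
  · have hN : (⊤ : Submodule R Γ(X, ⊤)) ≤ LinearMap.range (Algebra.linearMap R Γ(X, ⊤)) := by
      apply Submodule.le_of_le_smul_of_le_jacobson_bot (I := IsLocalRing.maximalIdeal R)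
        Module.Finite.fg_top
      · rw [IsLocalRing.jacobson_eq_maximalIdeal ⊥ bot_ne_top]
      · intro s _
        obtain ⟨c, hc⟩ := hk.2 (gs.appTop.hom s)
        obtain ⟨r, rfl⟩ := IsLocalRing.residue_surjective c
        obtain ⟨t, ht⟩ := hdiv (s - (toSec f ⊤).hom r) (by rw [map_sub, hcomm, hc, sub_self])
        have hst : s = (toSec f ⊤).hom r + ϖ • t := by
          rw [Algebra.smul_def]
          change s = _ + (toSec f ⊤).hom ϖ * t
          rw [ht]; ring
        rw [hst]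
        exact Submodule.add_mem_sup (LinearMap.mem_range.mpr ⟨r, rfl⟩)
          (Submodule.smul_mem_smul ((IsLocalRing.mem_maximalIdeal _).mpr hϖ.not_isUnit)
            Submodule.mem_top)
    intro s
    obtain ⟨r, hr⟩ := LinearMap.mem_range.mp (hN (Submodule.mem_top : s ∈ ⊤))
    exact ⟨r, hr⟩

end Groth.Agent.Lib.Helper25.GammaDVR
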