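import Mathlib
import Groth.Prelude.Def_Neron
import Groth.Agent.Lib.Helper25.FibreKer
import Groth.Agent.Lib.Helper17.PushIso
import Groth.Agent.S1340

/-!
# `O_X = π_* O_Y` for a proper morphism of flat schemes over a DVR which is an isomorphism on
generic fibres, when the special fibre of the target is reduced
-/

set_option autoImplicit false
set_option linter.style.haveILetI false
universe u
open CategoryTheory CategoryTheory.Limits AlgebraicGeometry Opposite TopologicalSpace TensorProduct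

noncomputable section

namespace Groth.Agent.Lib.Helper25.GenIsoRed

open Groth.Agent.Lib.Helper17.SpecBC Groth.Agent.Lib.Helper25.SecTensor
  Groth.Agent.Lib.Helper25.DivGlue Groth.Agent.Lib.Helper25.FibreKer

theorem sec_regular {R : Type u} [CommRing R] [IsDomain R] {X : Scheme.{u}}
    (f : X ⟶ Spec (CommRingCat.of R)) [Flat f] (W : X.Opens) (r : R) (hr : r ≠ 0)
    (b : Γ(X, W)) (hb : (toSec f W).hom r * b = 0) : b = 0 := by
  apply eq_zero_of_mul_eq_zero ((toSec f ⊤).hom r)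
    (fun x z h => stalk_regular f x r hr z h) W b
  rw [res_toSec]
  exact hb

theorem toSec_comp_appLE {A : CommRingCat.{u}} {X Y : Scheme.{u}} (h : Y ⟶ X) (p : X ⟶ Spec A)
    (U : X.Opens) (V : Y.Opens) (e : V ≤ h ⁻¹ᵁ U) :
    toSec (h ≫ p) V = toSec p U ≫ h.appLE U V e := by
  unfold toSec
  rw [Category.assoc, Scheme.Hom.appLE_comp_appLE]

theorem appLE_congr_hom {X Y : Scheme.{u}} {k k' : X ⟶ Y} (e : k = k') (U : Y.Opens)
    (V : X.Opens) (h : V ≤ k ⁻¹ᵁ U) (h' : V ≤ k' ⁻¹ᵁ U) :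
    k.appLE U V h = k'.appLE U V h' := by
  subst e
  rfl

theorem isIso_appLE_of_eq {X Y : Scheme.{u}} (h : Y ⟶ X) [IsIso h] (V : X.Opens) (V' : Y.Opens)
    (e : V' = h ⁻¹ᵁ V) : IsIso (h.appLE V V' e.le) := by
  subst e
  rw [← Scheme.Hom.app_eq_appLE]
  infer_instance

/-- Tensoring a torsion-free algebra over a DVR with the fraction field: the map to the pushout
is injective and every element of the pushout has a nonzero multiple in the image. -/
theorem pushout_frac {R : Type u} [CommRing R] [IsDomain R] [IsDiscreteValuationRing R]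
    {A T : CommRingCat.{u}} (a₁ : CommRingCat.of R ⟶ A)
    (k₁ : CommRingCat.of (FractionRing R) ⟶ T) (x₁ : A ⟶ T)
    (hpo : IsPushout (CommRingCat.ofHom (algebraMap R (FractionRing R))) a₁ k₁ x₁)
    (htf : ∀ r : R, r ≠ 0 → ∀ b : A, a₁.hom r * b = 0 → b = 0) :
    Function.Injective x₁.hom ∧
      ∀ t : T, ∃ (s : R) (a : A), s ≠ 0 ∧ x₁.hom (a₁.hom s) * t = x₁.hom a := by
  letI algA : Algebra R A := a₁.hom.toAlgebra
  obtain ⟨e, he⟩ := exists_equiv_of_isPushout (R := R) (S := FractionRing R) (A := A)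
    (T := T) k₁.hom x₁.hom hpo
  haveI : Module.IsTorsionFree R A := ⟨fun r hr b₁ b₂ hb => by
    have hr0 : r ≠ 0 := hr.ne_zero
    have hb' : a₁.hom r * b₁ = a₁.hom r * b₂ := by
      have := hb
      simp only [Algebra.smul_def] at this
      exact this
    have : a₁.hom r * (b₁ - b₂) = 0 := by
      rw [mul_sub, sub_eq_zero]
      exact hb'
    exact sub_eq_zero.mp (htf r hr0 _ this)⟩
  haveI : Module.Flat R A := inferInstance
  have hincl : Function.Injective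
      (Algebra.TensorProduct.includeRight : A →ₐ[R] FractionRing R ⊗[R] A) :=
    Algebra.TensorProduct.includeRight_injective (IsFractionRing.injective R (FractionRing R))
  have hx1 : ∀ a : A, x₁.hom a = e ((1 : FractionRing R) ⊗ₜ[R] a) := by
    intro a
    rw [he, map_one, one_mul]
  constructor
  · intro b₁ b₂ hb
    apply hincl
    apply e.injective
    change e ((1 : FractionRing R) ⊗ₜ[R] b₁) = e ((1 : FractionRing R) ⊗ₜ[R] b₂)
    rw [← hx1, ← hx1, hb]
  · have key : ∀ z : FractionRing R ⊗[R] A, ∃ (s : R) (a : A), s ≠ 0 ∧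
        s • z = (1 : FractionRing R) ⊗ₜ[R] a := by
      intro z
      induction z using TensorProduct.induction_on with
      | zero => exact ⟨1, 0, one_ne_zero, by simp⟩
      | tmul k x =>
        obtain ⟨r, s, hs, rfl⟩ := IsFractionRing.div_surjective (A := R) k
        have hs0 : s ≠ 0 := nonZeroDivisors.ne_zero hs
        have hs' : algebraMap R (FractionRing R) s ≠ 0 := by
          intro h0
          apply hs0
          exact (IsFractionRing.injective R (FractionRing R)) (h0.trans (map_zero _).symm)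
        have hk : s • (algebraMap R (FractionRing R) r / algebraMap R (FractionRing R) s) =
            r • (1 : FractionRing R) := by
          rw [Algebra.smul_def, Algebra.smul_def, mul_one]
          field_simp
        refine ⟨s, r • x, hs0, ?_⟩
        rw [TensorProduct.smul_tmul', hk, TensorProduct.smul_tmul]
      | add z₁ z₂ h₁ h₂ =>
        obtain ⟨s₁, c₁, hs₁, h₁⟩ := h₁
        obtain ⟨s₂, c₂, hs₂, h₂⟩ := h₂
        refine ⟨s₁ * s₂, s₂ • c₁ + s₁ • c₂, mul_ne_zero hs₁ hs₂, ?_⟩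
        rw [smul_add, TensorProduct.tmul_add, TensorProduct.tmul_smul, TensorProduct.tmul_smul,
          ← h₁, ← h₂, smul_smul, smul_smul, mul_comm s₂ s₁]
    intro t
    obtain ⟨s, a, hs, hsa⟩ := key (e.symm t)
    refine ⟨s, a, hs, ?_⟩
    have h1 : e (s • e.symm t) = x₁.hom (a₁.hom s) * t := by
      rw [Algebra.smul_def, map_mul, RingEquiv.apply_symm_apply]
      congr 1
      rw [Algebra.TensorProduct.algebraMap_apply, he, map_one, mul_one]
      exact congr($(hpo.w).hom s)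
    rw [← h1, hsa, ← hx1]

/-- The purely algebraic core. -/
theorem alg_core {R : Type u} [CommRing R] [IsDomain R] [IsDiscreteValuationRing R]
    {A B AK BK : Type u} [CommRing A] [CommRing B] [CommRing AK] [CommRing BK]
    (a₁ : R →+* A) (ψ : A →+* B) (x₁ : A →+* AK) (y₁ : B →+* BK) (θ : AK →+* BK)
    (hθ : Function.Bijective θ)
    (hx₁ : Function.Injective x₁) (hy₁ : Function.Injective y₁)
    (hfrac : ∀ t : AK, ∃ (s : R) (a : A), s ≠ 0 ∧ x₁ (a₁ s) * t = x₁ a)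
    (hc : ∀ a, y₁ (ψ a) = θ (x₁ a))
    (hBtf : ∀ r : R, r ≠ 0 → ∀ b : B, ψ (a₁ r) * b = 0 → b = 0)
    (hint : ψ.IsIntegral)
    (ϖ : R) (hϖ : Irreducible ϖ)
    (hred : ∀ (a : A) (m : ℕ), a₁ ϖ ∣ a ^ m → a₁ ϖ ∣ a) :
    Function.Bijective ψ := by
  have hinj : Function.Injective ψ := by
    intro a a' haa
    apply hx₁
    apply hθ.1
    rw [← hc, ← hc, haa]
  refine ⟨hinj, ?_⟩
  have hϖ0 : ϖ ≠ 0 := hϖ.ne_zero
  have claim : ∀ n : ℕ, ∀ b : B, (∃ a : A, ψ (a₁ (ϖ ^ n)) * b = ψ a) → ∃ a, ψ a = b := by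
    intro n
    induction n with
    | zero =>
      rintro b ⟨a, ha⟩
      rw [pow_zero, map_one, map_one, one_mul] at ha
      exact ⟨a, ha.symm⟩
    | succ n ih =>
      rintro b ⟨a, ha⟩
      have hb' : ψ (a₁ ϖ) * (ψ (a₁ (ϖ ^ n)) * b) = ψ a := by
        rw [← ha, pow_succ]
        simp only [map_mul]
        ring
      obtain ⟨P, hPm, hP⟩ := hint (ψ (a₁ (ϖ ^ n)) * b)
      have hdvd : a₁ ϖ ∣ a ^ P.natDegree :=
        Polynomial.dvd_pow_natDegree_of_eval₂_eq_zero hinj hPm (a₁ ϖ) a _ hP hb'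
      obtain ⟨t, ht⟩ := hred a _ hdvd
      apply ih b
      refine ⟨t, ?_⟩
      have h0 : ψ (a₁ ϖ) * (ψ (a₁ (ϖ ^ n)) * b - ψ t) = 0 := by
        rw [mul_sub, hb', ht, map_mul, sub_self]
      exact sub_eq_zero.mp (hBtf ϖ hϖ0 _ h0)
  intro b
  obtain ⟨t, ht⟩ := hθ.2 (y₁ b)
  obtain ⟨s, a, hs, hsa⟩ := hfrac t
  have h1 : ψ (a₁ s) * b = ψ a := by
    apply hy₁
    rw [map_mul, hc, hc, ← ht, ← map_mul, hsa]
  obtain ⟨n, u, rfl⟩ := IsDiscreteValuationRing.eq_unit_mul_pow_irreducible hs hϖ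
  obtain ⟨a', ha'⟩ := claim n (ψ (a₁ (u : R)) * b) ⟨a, by
    rw [← h1]
    simp only [map_mul]
    ring⟩
  refine ⟨a₁ ((u⁻¹ : Rˣ) : R) * a', ?_⟩
  rw [map_mul, ha', ← mul_assoc, ← map_mul, ← map_mul, Units.inv_mul, map_one, map_one, one_mul]

theorem bijective_app_affine (R : Type u) [CommRing R] [IsDomain R] [IsDiscreteValuationRing R]
    {X Y : Scheme.{u}} (fX : X ⟶ Spec (CommRingCat.of R)) [Flat fX]
    (π : Y ⟶ X) [IsProper π] [Flat (π ≫ fX)]
    {XK YK : Scheme.{u}} {gX : XK ⟶ X} {qX : XK ⟶ Spec (CommRingCat.of (FractionRing R))}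
    {gY : YK ⟶ Y} (h : YK ⟶ XK) [IsIso h]
    (sqX : IsPullback gX qX fX (Spec.map (CommRingCat.ofHom (algebraMap R (FractionRing R)))))
    (sqY : IsPullback gY (h ≫ qX) (π ≫ fX)
      (Spec.map (CommRingCat.ofHom (algebraMap R (FractionRing R)))))
    (h1 : h ≫ gX = gY ≫ π)
    [IsReduced (fX.fiber (IsLocalRing.closedPoint R))]
    (U : X.Opens) (hU : IsAffineOpen U) : Function.Bijective (π.app U).hom := by
  classical
  let φ : CommRingCat.of R ⟶ CommRingCat.of (FractionRing R) :=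
    CommRingCat.ofHom (algebraMap R (FractionRing R))
  haveI : Flat (Spec.map φ) := by
    rw [Flat.SpecMap_iff]
    exact RingHom.flat_algebraMap_iff.mpr
      (IsLocalization.flat (FractionRing R) (nonZeroDivisors R))
  have hWc : IsCompact (X := Y) (π ⁻¹ᵁ U) := π.isCompact_preimage hU.isCompact
  have hWqs : IsQuasiSeparated (α := Y) (π ⁻¹ᵁ U) :=
    π.isQuasiSeparated_preimage hU.isQuasiSeparated
  have PX : IsPushout φ (toSec fX U) (toSec qX (gX ⁻¹ᵁ U)) (gX.appLE U (gX ⁻¹ᵁ U) le_rfl) :=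
    isPushout_sections sqX hU
  have PY : IsPushout φ (toSec (π ≫ fX) (π ⁻¹ᵁ U)) (toSec (h ≫ qX) (gY ⁻¹ᵁ (π ⁻¹ᵁ U)))
      (gY.appLE (π ⁻¹ᵁ U) (gY ⁻¹ᵁ (π ⁻¹ᵁ U)) le_rfl) :=
    isPushout_sections_of_flat sqY hWc hWqs
  have hVeq : gY ⁻¹ᵁ (π ⁻¹ᵁ U) = h ⁻¹ᵁ (gX ⁻¹ᵁ U) := by
    change (gY ≫ π) ⁻¹ᵁ U = (h ≫ gX) ⁻¹ᵁ U
    rw [h1]
  haveI hθ : IsIso (h.appLE (gX ⁻¹ᵁ U) (gY ⁻¹ᵁ (π ⁻¹ᵁ U)) hVeq.le) :=
    isIso_appLE_of_eq h _ _ hVeq
  have hθb := ConcreteCategory.bijective_of_isIso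
    (h.appLE (gX ⁻¹ᵁ U) (gY ⁻¹ᵁ (π ⁻¹ᵁ U)) hVeq.le)
  have c3 : toSec (π ≫ fX) (π ⁻¹ᵁ U) = toSec fX U ≫ π.app U := by
    rw [Scheme.Hom.app_eq_appLE]
    exact toSec_comp_appLE π fX U (π ⁻¹ᵁ U) le_rfl
  have c1 : π.app U ≫ gY.appLE (π ⁻¹ᵁ U) (gY ⁻¹ᵁ (π ⁻¹ᵁ U)) le_rfl =
      gX.appLE U (gX ⁻¹ᵁ U) le_rfl ≫ h.appLE (gX ⁻¹ᵁ U) (gY ⁻¹ᵁ (π ⁻¹ᵁ U)) hVeq.le := by
    rw [Scheme.Hom.app_eq_appLE, Scheme.Hom.appLE_comp_appLE, Scheme.Hom.appLE_comp_appLE]
    exact (appLE_congr_hom h1 _ _ _ _).symm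
  have c1' : ∀ a : Γ(X, U),
      (gY.appLE (π ⁻¹ᵁ U) (gY ⁻¹ᵁ (π ⁻¹ᵁ U)) le_rfl).hom ((π.app U).hom a) =
      (h.appLE (gX ⁻¹ᵁ U) (gY ⁻¹ᵁ (π ⁻¹ᵁ U)) hVeq.le).hom
        ((gX.appLE U (gX ⁻¹ᵁ U) le_rfl).hom a) :=
    fun a => congr($(c1).hom a)
  have c3' : ∀ r : R, (toSec (π ≫ fX) (π ⁻¹ᵁ U)).hom r = (π.app U).hom ((toSec fX U).hom r) :=
    fun r => congr($(c3).hom r)
  have hXtf : ∀ r : R, r ≠ 0 → ∀ b : Γ(X, U), (toSec fX U).hom r * b = 0 → b = 0 :=
    fun r hr b hb => sec_regular fX U r hr b hb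
  have hYtf : ∀ r : R, r ≠ 0 → ∀ b : Γ(Y, π ⁻¹ᵁ U),
      (toSec (π ≫ fX) (π ⁻¹ᵁ U)).hom r * b = 0 → b = 0 :=
    fun r hr b hb => sec_regular (π ≫ fX) (π ⁻¹ᵁ U) r hr b hb
  obtain ⟨hx₁, hfrac⟩ := pushout_frac (toSec fX U) (toSec qX (gX ⁻¹ᵁ U))
    (gX.appLE U (gX ⁻¹ᵁ U) le_rfl) PX hXtf
  obtain ⟨hy₁, -⟩ := pushout_frac (toSec (π ≫ fX) (π ⁻¹ᵁ U))
    (toSec (h ≫ qX) (gY ⁻¹ᵁ (π ⁻¹ᵁ U))) (gY.appLE (π ⁻¹ᵁ U) (gY ⁻¹ᵁ (π ⁻¹ᵁ U)) le_rfl) PY hYtf
  -- the special fibre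
  obtain ⟨ϖ, hϖ⟩ := IsDiscreteValuationRing.exists_irreducible R
  have hm : IsLocalRing.maximalIdeal R = Ideal.span {ϖ} := hϖ.maximalIdeal_eq
  let s : Spec (CommRingCat.of R) := IsLocalRing.closedPoint R
  let ρ := Scheme.Spec.residueFieldIso (CommRingCat.of R) s
  let φs : CommRingCat.of R ⟶ (Spec (CommRingCat.of R)).residueField s :=
    CommRingCat.ofHom (algebraMap R s.asIdeal.ResidueField) ≫ ρ.inv
  have hσ : (Spec (CommRingCat.of R)).fromSpecResidueField s = Spec.map φs := by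
    rw [Spec.map_comp]
    exact (Scheme.Spec.map_residueFieldIso_inv_eq_fromSpecResidueField (CommRingCat.of R) s).symm
  have hρ : Function.Bijective ρ.inv.hom := ConcreteCategory.bijective_of_isIso ρ.inv
  have hkerφ : RingHom.ker φs.hom = s.asIdeal := by
    ext a
    rw [RingHom.mem_ker]
    change ρ.inv.hom (algebraMap R s.asIdeal.ResidueField a) = 0 ↔ _
    rw [map_eq_zero_iff _ hρ.1, ← RingHom.mem_ker, Ideal.ker_algebraMap_residueField]
  have hs1 : s.asIdeal = IsLocalRing.maximalIdeal R := rfl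
  have hφsurj : Function.Surjective φs.hom := by
    haveI : s.asIdeal.IsMaximal := hs1 ▸ IsLocalRing.maximalIdeal.isMaximal R
    have hsj : Function.Surjective (algebraMap R s.asIdeal.ResidueField) :=
      Ideal.algebraMap_residueField_surjective s.asIdeal
    exact hρ.2.comp hsj
  have hsq : IsPullback (pullback.fst fX ((Spec (CommRingCat.of R)).fromSpecResidueField s))
      (pullback.snd fX ((Spec (CommRingCat.of R)).fromSpecResidueField s)) fX (Spec.map φs) := by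
    rw [← hσ]
    exact IsPullback.of_hasPullback _ _
  have hφϖ : φs.hom ϖ = 0 := by
    have : ϖ ∈ RingHom.ker φs.hom := by
      rw [hkerφ, hs1, hm]
      exact Ideal.mem_span_singleton_self ϖ
    exact RingHom.mem_ker.mp this
  haveI hredS : IsReduced (pullback fX ((Spec (CommRingCat.of R)).fromSpecResidueField s)) :=
    ‹IsReduced (fX.fiber (IsLocalRing.closedPoint R))›
  have hred : ∀ (a : Γ(X, U)) (m : ℕ), (toSec fX U).hom ϖ ∣ a ^ m → (toSec fX U).hom ϖ ∣ a := by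
    rintro a m ⟨t, ht⟩
    have hw := toSec_comm hsq.w U
    have hz : ((pullback.fst fX ((Spec (CommRingCat.of R)).fromSpecResidueField s)).appLE U
        ((pullback.fst fX ((Spec (CommRingCat.of R)).fromSpecResidueField s)) ⁻¹ᵁ U) le_rfl).hom
        ((toSec fX U).hom ϖ) = 0 := by
      have hw' := congr($(hw).hom ϖ)
      change (toSec _ _).hom (φs.hom ϖ) = _ at hw'
      refine hw'.symm.trans ?_
      rw [hφϖ, map_zero]
    have hnil : ((pullback.fst fX ((Spec (CommRingCat.of R)).fromSpecResidueField s)).appLE U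
        ((pullback.fst fX ((Spec (CommRingCat.of R)).fromSpecResidueField s)) ⁻¹ᵁ U) le_rfl).hom a
          ^ m = 0 := by
      rw [← map_pow, ht, map_mul, hz, zero_mul]
    have h0 : ((pullback.fst fX ((Spec (CommRingCat.of R)).fromSpecResidueField s)).appLE U
        ((pullback.fst fX ((Spec (CommRingCat.of R)).fromSpecResidueField s)) ⁻¹ᵁ U) le_rfl).hom a
          = 0 :=
      (show IsNilpotent _ from ⟨m, hnil⟩).eq_zero
    obtain ⟨t', ht'⟩ := local_dvd fX φs hφsurj hsq ϖ (hkerφ.trans (hs1.trans hm)) U hU a h0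
    exact ⟨t', ht'.symm⟩
  have hint : (π.app U).hom.IsIntegral := Groth.Agent.S1340.integral_app π U hU
  exact alg_core (toSec fX U).hom (π.app U).hom (gX.appLE U (gX ⁻¹ᵁ U) le_rfl).hom
    (gY.appLE (π ⁻¹ᵁ U) (gY ⁻¹ᵁ (π ⁻¹ᵁ U)) le_rfl).hom
    (h.appLE (gX ⁻¹ᵁ U) (gY ⁻¹ᵁ (π ⁻¹ᵁ U)) hVeq.le).hom hθb hx₁ hy₁ hfrac c1'
    (fun r hr b hb => hYtf r hr b (by rw [c3']; exact hb)) hint ϖ hϖ hred

theorem main13746 (R : Type u) [CommRing R] [IsDomain R] [IsDiscreteValuationRing R]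
    (X Y : Over (Spec (CommRingCat.of R))) [Flat X.hom] [Flat Y.hom]
    (π : Y ⟶ X) [IsProper π.left]
    (hgen : IsIso ((Neron.genericFibre R).map π))
    [IsReduced (X.hom.fiber (IsLocalRing.closedPoint R))] :
    ∀ V : X.left.Opens, IsIso (π.left.app V) := by
  have hw : π.left ≫ X.hom = Y.hom := Over.w π
  haveI : Flat (π.left ≫ X.hom) := by rw [hw]; infer_instance
  let hK : pullback Y.hom (Neron.genPt R) ⟶ pullback X.hom (Neron.genPt R) :=
    ((Neron.genericFibre R).map π).left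
  haveI : IsIso hK := by
    change IsIso ((Over.forget _).map ((Neron.genericFibre R).map π))
    infer_instance
  have hK1 : hK ≫ pullback.fst X.hom (Neron.genPt R) =
      pullback.fst Y.hom (Neron.genPt R) ≫ π.left := by
    simp only [hK, Over.pullback_map_left]
    exact pullback.lift_fst _ _ _
  have hK2 : hK ≫ pullback.snd X.hom (Neron.genPt R) = pullback.snd Y.hom (Neron.genPt R) := by
    simp only [hK, Over.pullback_map_left]
    exact pullback.lift_snd _ _ _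
  have sqX : IsPullback (pullback.fst X.hom (Neron.genPt R)) (pullback.snd X.hom (Neron.genPt R))
      X.hom (Neron.genPt R) := IsPullback.of_hasPullback _ _
  have sqY : IsPullback (pullback.fst Y.hom (Neron.genPt R))
      (hK ≫ pullback.snd X.hom (Neron.genPt R)) (π.left ≫ X.hom) (Neron.genPt R) := by
    rw [hK2, hw]
    exact IsPullback.of_hasPullback _ _
  have haff : ∀ U : X.left.Opens, IsAffineOpen U → IsIso (π.left.app U) := by
    intro U hU
    exact isIso_of_bijective _ (bijective_app_affine R X.hom π.left hK sqX sqY hK1 U hU)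
  intro V
  exact Groth.Agent.Lib.Helper17.PushIso.isIso_app_of_cover π.left
    {V | IsAffineOpen V} (fun V hV => hV) (fun y => by
      obtain ⟨_, ⟨V, hV, rfl⟩, hyV, -⟩ := X.left.isBasis_affineOpens.exists_subset_of_mem_open
        (Set.mem_univ y) isOpen_univ
      exact ⟨V, hV, hyV⟩) (fun V hV => haff V hV) V

end Groth.Agent.Lib.Helper25.GenIsoRed
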