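import Mathlib

/-!
# Generic points of irreducible components in quasi-separated schemes (helper25)

* `exists_notMem_mul_nilpotent`: for a minimal prime `p` and `g ∈ p` there is `s ∉ p` with `s * g`
  nilpotent.
* `asIdeal_mem_minimalPrimes`: a generic point of an irreducible component gives a minimal prime in
  every affine open containing it.
* `mem_of_mem_closure`: a generic point of an irreducible component in the closure of a
  quasi-compact open lies in that open.
* `exists_disjoint_opens`: two distinct such points have disjoint open neighbourhoods.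
* `exists_affine_of_finset`: finitely many such points and any other point lie in a common affine open.
-/

set_option autoImplicit false
open CategoryTheory AlgebraicGeometry TopologicalSpace
universe u

namespace Groth.Agent.Lib.Helper25.GenericPts

lemma exists_notMem_mul_nilpotent {A : Type*} [CommRing A] {p : Ideal A} [hpp : p.IsPrime]
    (hp : p ∈ minimalPrimes A) {g : A} (hg : g ∈ p) :
    ∃ s, s ∉ p ∧ IsNilpotent (s * g) := by
  have h1 := IsLocalization.AtPrime.radical_map_of_mem_minimalPrimes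
    (A := Localization.AtPrime p) p ⊥ hp
  have h2 : algebraMap A (Localization.AtPrime p) g ∈
      (Ideal.map (algebraMap A (Localization.AtPrime p)) ⊥).radical := by
    rw [h1]; exact Ideal.mem_map_of_mem _ hg
  rw [Ideal.map_bot] at h2
  obtain ⟨n, hn⟩ := h2
  rw [Ideal.mem_bot, ← map_pow, IsLocalization.map_eq_zero_iff p.primeCompl] at hn
  obtain ⟨m, hm⟩ := hn
  refine ⟨m.1, m.2, n + 1, ?_⟩
  have : (m.1 * g) ^ (n + 1) = m.1 ^ n * g * (m.1 * g ^ n) := by ring
  rw [this, hm, mul_zero]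

lemma asIdeal_mem_minimalPrimes {X : Scheme.{u}} {η : X}
    (hη : closure ({η} : Set X) ∈ irreducibleComponents (X : Type u)) {W : X.Opens}
    (hW : IsAffineOpen W) (p : PrimeSpectrum Γ(X, W)) (hp : hW.fromSpec p = η) :
    p.asIdeal ∈ minimalPrimes Γ(X, W) := by
  have hη' : Maximal IsIrreducible (closure ({η} : Set X)) := hη
  refine ⟨⟨p.isPrime, bot_le⟩, ?_⟩
  rintro q ⟨hq, -⟩ hqp
  let q' : PrimeSpectrum Γ(X, W) := ⟨q, hq⟩
  have h1 : q' ⤳ p := (PrimeSpectrum.le_iff_specializes q' p).mp hqp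
  have h2 : hW.fromSpec q' ⤳ hW.fromSpec p := h1.map hW.fromSpec.continuous
  rw [hp] at h2
  have h3 : closure ({η} : Set X) ⊆ closure {hW.fromSpec q'} :=
    specializes_iff_closure_subset.mp h2
  have h4 : closure {hW.fromSpec q'} ⊆ closure ({η} : Set X) :=
    hη'.le_of_ge (isIrreducible_singleton.closure) h3
  have h5 : η ⤳ hW.fromSpec q' := specializes_iff_closure_subset.mpr h4
  rw [← hp] at h5
  have h6 : p ⤳ q' := hW.fromSpec.isOpenEmbedding.isInducing.specializes_iff.mp h5
  exact (PrimeSpectrum.le_iff_specializes p q').mpr h6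

lemma mem_of_mem_closure {X : Scheme.{u}} [QuasiSeparatedSpace X] {η : X}
    (hη : closure ({η} : Set X) ∈ irreducibleComponents (X : Type u)) {U : Set X} (hUo : IsOpen U)
    (hUc : IsCompact U) (h : η ∈ closure U) : η ∈ U := by
  obtain ⟨_, ⟨W, hW, rfl⟩, hηW, -⟩ :=
    X.isBasis_affineOpens.exists_subset_of_mem_open (Set.mem_univ η) isOpen_univ
  have hW : IsAffineOpen W := hW
  have hφo : Topology.IsOpenEmbedding hW.fromSpec := hW.fromSpec.isOpenEmbedding
  obtain ⟨p, hp⟩ : ∃ p : PrimeSpectrum Γ(X, W), hW.fromSpec p = η := by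
    have : η ∈ Set.range hW.fromSpec := by rw [hW.range_fromSpec]; exact hηW
    exact this
  have hpmin := asIdeal_mem_minimalPrimes hη hW p hp
  have hOo : IsOpen (hW.fromSpec ⁻¹' U) := hUo.preimage hW.fromSpec.continuous
  have hOc : IsCompact (hW.fromSpec ⁻¹' U) := by
    rw [hφo.isInducing.isCompact_iff, Set.image_preimage_eq_inter_range, hW.range_fromSpec]
    exact QuasiSeparatedSpace.inter_isCompact _ _ hUo hUc W.2 hW.isCompact
  obtain ⟨t, ht⟩ := PrimeSpectrum.isCompact_isOpen_iff.mp ⟨hOc, hOo⟩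
  have hpcl : p ∈ closure (hW.fromSpec ⁻¹' U) := by
    rw [← hφo.isOpenMap.preimage_closure_eq_closure_preimage hW.fromSpec.continuous U]
    show hW.fromSpec p ∈ closure U
    rw [hp]; exact h
  by_contra hηU
  have hpO : p ∉ hW.fromSpec ⁻¹' U := fun hpO => hηU (by rw [← hp]; exact hpO)
  have hpt : ∀ g ∈ t, g ∈ p.asIdeal := by
    intro g hg
    by_contra hgp
    apply hpO
    rw [← ht]
    intro hz
    exact hgp (hz hg)
  haveI := p.isPrime
  have hex : ∀ g : Γ(X, W), ∃ s, g ∈ p.asIdeal → (s ∉ p.asIdeal ∧ IsNilpotent (s * g)) := by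
    intro g
    by_cases hg : g ∈ p.asIdeal
    · obtain ⟨s, hs1, hs2⟩ := exists_notMem_mul_nilpotent hpmin hg
      exact ⟨s, fun _ => ⟨hs1, hs2⟩⟩
    · exact ⟨0, fun h => absurd h hg⟩
  choose sfun hsfun using hex
  have hs : (∏ g ∈ t, sfun g) ∉ p.asIdeal := by
    intro hmem
    obtain ⟨g, hg, hgs⟩ := Ideal.IsPrime.prod_mem_iff.mp hmem
    exact (hsfun g (hpt g hg)).1 hgs
  obtain ⟨q, hqs, hqO⟩ := mem_closure_iff.mp hpcl (PrimeSpectrum.basicOpen (∏ g ∈ t, sfun g) : Set _)
    (PrimeSpectrum.basicOpen (∏ g ∈ t, sfun g)).2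
    ((PrimeSpectrum.mem_basicOpen _ p).mpr hs)
  rw [← ht] at hqO
  apply hqO
  intro g hg
  obtain ⟨n, hn⟩ := (hsfun g (hpt g hg)).2
  have hmem : sfun g * g ∈ q.asIdeal :=
    q.isPrime.mem_of_pow_mem n (by rw [hn]; exact zero_mem _)
  haveI := q.isPrime
  rcases q.isPrime.mem_or_mem hmem with h' | h'
  · exact absurd (Ideal.IsPrime.prod_mem_iff.mpr ⟨g, hg, h'⟩)
      ((PrimeSpectrum.mem_basicOpen _ q).mp hqs)
  · exact h'

lemma exists_disjoint_opens {X : Scheme.{u}} [QuasiSeparatedSpace X] {η η' : X}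
    (hη : closure ({η} : Set X) ∈ irreducibleComponents (X : Type u))
    (hη' : closure ({η'} : Set X) ∈ irreducibleComponents (X : Type u)) (hne : η ≠ η') :
    ∃ O O' : Set X, IsOpen O ∧ IsOpen O' ∧ η ∈ O ∧ η' ∈ O' ∧ Disjoint O O' := by
  obtain ⟨_, ⟨W, hW, rfl⟩, hηW, -⟩ :=
    X.isBasis_affineOpens.exists_subset_of_mem_open (Set.mem_univ η) isOpen_univ
  have hW : IsAffineOpen W := hW
  by_cases hη'W : η' ∈ (W : Set X)
  · have hφo : Topology.IsOpenEmbedding hW.fromSpec := hW.fromSpec.isOpenEmbedding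
    obtain ⟨p, hp⟩ : ∃ p : PrimeSpectrum Γ(X, W), hW.fromSpec p = η := by
      have : η ∈ Set.range hW.fromSpec := by rw [hW.range_fromSpec]; exact hηW
      exact this
    obtain ⟨p', hp'⟩ : ∃ p : PrimeSpectrum Γ(X, W), hW.fromSpec p = η' := by
      have : η' ∈ Set.range hW.fromSpec := by rw [hW.range_fromSpec]; exact hη'W
      exact this
    have hpmin := asIdeal_mem_minimalPrimes hη hW p hp
    have hpmin' := asIdeal_mem_minimalPrimes hη' hW p' hp'
    have hpp' : ¬ p.asIdeal ≤ p'.asIdeal := by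
      intro hle
      have hge : p'.asIdeal ≤ p.asIdeal := hpmin'.2 ⟨p.isPrime, bot_le⟩ hle
      apply hne
      rw [← hp, ← hp', PrimeSpectrum.ext (le_antisymm hle hge)]
    obtain ⟨a, hap, hap'⟩ := SetLike.not_le_iff_exists.mp hpp'
    haveI := p.isPrime
    obtain ⟨s, hs, hnil⟩ := exists_notMem_mul_nilpotent hpmin hap
    have hm1 : η ∈ hW.fromSpec '' (PrimeSpectrum.basicOpen s : Set (PrimeSpectrum Γ(X, W))) :=
      ⟨p, (PrimeSpectrum.mem_basicOpen s p).mpr hs, hp⟩
    have hm2 : η' ∈ hW.fromSpec '' (PrimeSpectrum.basicOpen a : Set (PrimeSpectrum Γ(X, W))) :=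
      ⟨p', (PrimeSpectrum.mem_basicOpen a p').mpr hap', hp'⟩
    refine ⟨hW.fromSpec '' (PrimeSpectrum.basicOpen s : Set (PrimeSpectrum Γ(X, W))),
      hW.fromSpec '' (PrimeSpectrum.basicOpen a : Set (PrimeSpectrum Γ(X, W))),
      hφo.isOpenMap _ (PrimeSpectrum.basicOpen s).2, hφo.isOpenMap _ (PrimeSpectrum.basicOpen a).2,
      hm1, hm2, ?_⟩
    rw [Set.disjoint_left]
    rintro _ ⟨q, hq, rfl⟩ ⟨q', hq', hqq'⟩
    have : q' = q := hφo.injective hqq'
    subst this
    obtain ⟨n, hn⟩ := hnil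
    have hmem : s * a ∈ q'.asIdeal := q'.isPrime.mem_of_pow_mem n (by rw [hn]; exact zero_mem _)
    rcases q'.isPrime.mem_or_mem hmem with h | h
    · exact (PrimeSpectrum.mem_basicOpen s q').mp hq h
    · exact (PrimeSpectrum.mem_basicOpen a q').mp hq' h
  · have hncl : η' ∉ closure (W : Set X) := fun hcl =>
      hη'W (mem_of_mem_closure hη' W.2 hW.isCompact hcl)
    exact ⟨W, (closure (W : Set X))ᶜ, W.2, isClosed_closure.isOpen_compl, hηW, hncl,
      Set.disjoint_left.mpr fun x hx hx' => hx' (subset_closure hx)⟩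

lemma exists_affine_of_finset {X : Scheme.{u}} [QuasiSeparatedSpace X] (x : X) (s : Finset X)
    (hs : ∀ y ∈ s, closure ({y} : Set X) ∈ irreducibleComponents (X : Type u)) :
    ∃ U : X.Opens, IsAffineOpen U ∧ x ∈ U ∧ ∀ y ∈ s, y ∈ U := by
  classical
  induction s using Finset.induction_on with
  | empty =>
    obtain ⟨_, ⟨W, hW, rfl⟩, hxW, -⟩ :=
      X.isBasis_affineOpens.exists_subset_of_mem_open (Set.mem_univ x) isOpen_univ
    exact ⟨W, hW, hxW, fun y hy => absurd hy (Finset.notMem_empty y)⟩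
  | insert y s hys ih =>
    obtain ⟨U, hU, hxU, hsU⟩ := ih (fun z hz => hs z (Finset.mem_insert_of_mem hz))
    by_cases hyU : y ∈ U
    · refine ⟨U, hU, hxU, fun z hz => ?_⟩
      rcases Finset.mem_insert.mp hz with rfl | hz
      · exact hyU
      · exact hsU z hz
    · have hy := hs y (Finset.mem_insert_self y s)
      have hncl : y ∉ closure (U : Set X) := fun hcl =>
        hyU (mem_of_mem_closure hy U.2 hU.isCompact hcl)
      obtain ⟨_, ⟨V, hV, rfl⟩, hyV, hVsub⟩ := X.isBasis_affineOpens.exists_subset_of_mem_open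
        (show y ∈ (closure (U : Set X))ᶜ from hncl) isClosed_closure.isOpen_compl
      have hdisj : Disjoint U V := by
        rw [← TopologicalSpace.Opens.coe_disjoint]
        exact Set.disjoint_left.mpr fun z hzU hzV => hVsub hzV (subset_closure hzU)
      refine ⟨U ⊔ V, hU.sup_of_disjoint hV hdisj, Or.inl hxU, fun z hz => ?_⟩
      rcases Finset.mem_insert.mp hz with rfl | hz
      · exact Or.inr hyV
      · exact Or.inl (hsU z hz)

end Groth.Agent.Lib.Helper25.GenericPts
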