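import Mathlib
import Groth.Agent.Lib.Helper11.AA1
import Groth.Agent.Lib.Helper13.AbVarDim
import Groth.Agent.Lib.Helper25.SecTensor
import Groth.Agent.Lib.Helper25.GammaDVR

/-!
# Geometric integrality of the generic fibre seen on stalks
-/

set_option autoImplicit false
set_option linter.style.haveILetI false
universe u
open CategoryTheory CategoryTheory.Limits AlgebraicGeometry Opposite TopologicalSpace TensorProduct

namespace Groth.Agent.Lib.Helper25.GeomInt

open Groth.Agent.Lib.Helper17.SpecBC Groth.Agent.Lib.Helper25.SecTensor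

theorem compactSpace_of_isProper {A : CommRingCat.{u}} {X : Scheme.{u}} (p : X ⟶ Spec A)
    [IsProper p] : CompactSpace X :=
  QuasiCompact.compactSpace_of_compactSpace p

theorem quasiSeparatedSpace_of_isProper {A : CommRingCat.{u}} {X : Scheme.{u}} (p : X ⟶ Spec A)
    [IsProper p] : QuasiSeparatedSpace X :=
  quasiSeparatedSpace_of_quasiSeparated p

theorem toSec_top_bijective_bc {A B : CommRingCat.{u}} {X X' : Scheme.{u}} {p : X ⟶ Spec A}
    {φ : A ⟶ B} {a : X' ⟶ X} {q : X' ⟶ Spec B}
    (hc : IsPullback a q p (Spec.map φ)) [Flat (Spec.map φ)] [IsProper p]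
    (h : Function.Bijective (toSec p ⊤).hom) : Function.Bijective (toSec q ⊤).hom := by
  haveI := compactSpace_of_isProper p
  haveI := quasiSeparatedSpace_of_isProper p
  have h1 := toSec_bijective_of_flat hc (U := ⊤) (by simpa using isCompact_univ)
    (by simpa using isQuasiSeparated_univ) h
  exact h1

theorem isDomain_tensor_stalk (R : Type u) [CommRing R] [IsDomain R]
    {X : Scheme.{u}} (f : X ⟶ Spec (CommRingCat.of R)) [IsProper f] [Flat f]
    (hΓ : Function.Bijective (toSec f ⊤).hom)
    {XK : Scheme.{u}} (gK : XK ⟶ X) (fK : XK ⟶ Spec (CommRingCat.of (FractionRing R)))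
    (hK : IsPullback gK fK f (Spec.map (CommRingCat.ofHom (algebraMap R (FractionRing R)))))
    [Smooth fK] (x : X) [algO : Algebra R (X.presheaf.stalk x)]
    (halg : algebraMap R (X.presheaf.stalk x) =
      (X.presheaf.germ ⊤ x trivial).hom.comp (Coh.toGlobal f)) :
    IsDomain (AlgebraicClosure (FractionRing R) ⊗[R] X.presheaf.stalk x) := by
  classical
  let i := Spec.map (CommRingCat.ofHom (algebraMap R (FractionRing R)))
  let j := Spec.map (CommRingCat.ofHom
    (algebraMap (FractionRing R) (AlgebraicClosure (FractionRing R))))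
  haveI : Flat i := by
    rw [Flat.SpecMap_iff]
    exact RingHom.flat_algebraMap_iff.mpr (IsLocalization.flat (FractionRing R) (nonZeroDivisors R))
  haveI : Flat j := by
    rw [Flat.SpecMap_iff]
    exact RingHom.flat_algebraMap_iff.mpr inferInstance
  haveI : IsProper fK := MorphismProperty.of_isPullback (P := @IsProper) hK inferInstance
  have hΓK : Function.Bijective (toSec fK ⊤).hom :=
    toSec_top_bijective_bc (φ := CommRingCat.ofHom (algebraMap R (FractionRing R))) hK hΓ
  let P := pullback fK j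
  let p1 : P ⟶ XK := pullback.fst fK j
  let p2 : P ⟶ Spec (CommRingCat.of (AlgebraicClosure (FractionRing R))) := pullback.snd fK j
  have hP : IsPullback p1 p2 fK j := IsPullback.of_hasPullback fK j
  have hΓP : Function.Bijective (toSec p2 ⊤).hom :=
    toSec_top_bijective_bc (φ := CommRingCat.ofHom
      (algebraMap (FractionRing R) (AlgebraicClosure (FractionRing R)))) hP hΓK
  haveI : ConnectedSpace P := by
    apply Groth.Agent.Lib.Helper11.AA1.connectedSpace_of_bijective p2
    have h1 : ((Scheme.ΓSpecIso (CommRingCat.of (AlgebraicClosure (FractionRing R)))).inv ≫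
        p2.appTop).hom = (toSec p2 ⊤).hom := by
      rw [toSec, GammaDVR.appLE_top_top]
    rw [h1]; exact hΓP
  haveI : Smooth p2 := MorphismProperty.of_isPullback (P := @Smooth) hP inferInstance
  haveI : IsIntegral P :=
    Groth.Agent.Lib.Helper13.AbVarDim.isIntegral_of_smooth_connected
      (AlgebraicClosure (FractionRing R)) p2
  have hφ : CommRingCat.ofHom (algebraMap R (FractionRing R)) ≫
      CommRingCat.ofHom (algebraMap (FractionRing R) (AlgebraicClosure (FractionRing R))) =
      CommRingCat.ofHom (algebraMap R (AlgebraicClosure (FractionRing R))) := by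
    rw [← CommRingCat.ofHom_comp, ← IsScalarTower.algebraMap_eq]
  have hji : j ≫ i =
      Spec.map (CommRingCat.ofHom (algebraMap R (AlgebraicClosure (FractionRing R)))) := by
    rw [← hφ, Spec.map_comp]
  have hpaste : IsPullback (p1 ≫ gK) p2 f
      (Spec.map (CommRingCat.ofHom (algebraMap R (AlgebraicClosure (FractionRing R))))) := by
    rw [← hji]; exact hP.paste_horiz hK
  obtain ⟨U, hU, hxU⟩ : ∃ U : X.Opens, IsAffineOpen U ∧ x ∈ U := by
    obtain ⟨U, hU, hxU, -⟩ := TopologicalSpace.Opens.isBasis_iff_nbhd.mp (X.isBasis_affineOpens)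
      (show x ∈ (⊤ : X.Opens) from trivial)
    exact ⟨U, hU, hxU⟩
  letI algA : Algebra R Γ(X, U) := (toSec f U).hom.toAlgebra
  have hpo := isPushout_sections hpaste hU
  obtain ⟨e, -⟩ := exists_equiv_of_isPushout (R := R) (S := AlgebraicClosure (FractionRing R))
    (A := Γ(X, U)) (T := Γ(P, (p1 ≫ gK) ⁻¹ᵁ U)) (toSec p2 ((p1 ≫ gK) ⁻¹ᵁ U)).hom
    ((p1 ≫ gK).appLE U ((p1 ≫ gK) ⁻¹ᵁ U) le_rfl).hom hpo
  haveI : Module.Flat R Γ(X, U) := by
    have h1 : (f.appLE ⊤ U le_top).hom.Flat := f.flat_appLE (isAffineOpen_top _) hU le_top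
    have h2 : ((Scheme.ΓSpecIso (CommRingCat.of R)).inv.hom).Flat :=
      RingHom.Flat.of_bijective
        (ConcreteCategory.bijective_of_isIso (Scheme.ΓSpecIso (CommRingCat.of R)).inv)
    exact RingHom.flat_algebraMap_iff.mp (RingHom.Flat.comp h2 h1)
  haveI : Nonempty U := ⟨⟨x, hxU⟩⟩
  haveI : Nontrivial Γ(X, U) := Scheme.component_nontrivial X U
  have hinjF : Function.Injective (algebraMap R (AlgebraicClosure (FractionRing R))) :=
    by
      rw [IsScalarTower.algebraMap_eq R (FractionRing R) (AlgebraicClosure (FractionRing R))]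
      exact (algebraMap (FractionRing R) (AlgebraicClosure (FractionRing R))).injective.comp
        (IsFractionRing.injective R (FractionRing R))
  have hincl : Function.Injective (Algebra.TensorProduct.includeRight :
      Γ(X, U) →ₐ[R] AlgebraicClosure (FractionRing R) ⊗[R] Γ(X, U)) :=
    Algebra.TensorProduct.includeRight_injective hinjF
  haveI : Nontrivial (AlgebraicClosure (FractionRing R) ⊗[R] Γ(X, U)) := hincl.nontrivial
  haveI : Nontrivial Γ(P, (p1 ≫ gK) ⁻¹ᵁ U) := e.injective.nontrivial
  haveI : Nonempty ((p1 ≫ gK) ⁻¹ᵁ U : P.Opens) := by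
    by_contra hne
    rw [not_nonempty_iff] at hne
    have hW : (p1 ≫ gK) ⁻¹ᵁ U = ⊥ := by
      ext y
      simp only [TopologicalSpace.Opens.coe_bot, Set.mem_empty_iff_false, iff_false]
      exact fun hy => hne.false ⟨y, hy⟩
    haveI : Subsingleton Γ(P, (p1 ≫ gK) ⁻¹ᵁ U) := by rw [hW]; infer_instance
    exact not_subsingleton Γ(P, (p1 ≫ gK) ⁻¹ᵁ U) ‹_›
  haveI : IsDomain Γ(P, (p1 ≫ gK) ⁻¹ᵁ U) := inferInstance
  haveI : IsDomain (AlgebraicClosure (FractionRing R) ⊗[R] Γ(X, U)) :=
    e.toMulEquiv.isDomain Γ(P, (p1 ≫ gK) ⁻¹ᵁ U)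
  letI algAO : Algebra Γ(X, U) (X.presheaf.stalk x) :=
    TopCat.Presheaf.algebra_section_stalk X.presheaf ⟨x, hxU⟩
  haveI hloc : IsLocalization.AtPrime (X.presheaf.stalk x) (hU.primeIdealOf ⟨x, hxU⟩).asIdeal :=
    hU.isLocalization_stalk ⟨x, hxU⟩
  haveI tower : IsScalarTower R Γ(X, U) (X.presheaf.stalk x) :=
    IsScalarTower.of_algebraMap_eq fun r => by
      rw [halg]
      change (X.presheaf.germ ⊤ x trivial).hom (Coh.toGlobal f r) =
        (X.presheaf.germ U x hxU).hom ((toSec f U).hom r)
      rw [GammaDVR.toGlobal_apply, ← GammaDVR.res_toSec f U r]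
      exact (DivGlue.germ_res _ U x hxU).symm
  letI algTT : Algebra (AlgebraicClosure (FractionRing R) ⊗[R] Γ(X, U))
      (AlgebraicClosure (FractionRing R) ⊗[R] X.presheaf.stalk x) :=
    (Algebra.TensorProduct.map (AlgHom.id R (AlgebraicClosure (FractionRing R)))
      (IsScalarTower.toAlgHom R Γ(X, U) (X.presheaf.stalk x))).toAlgebra
  haveI : IsScalarTower (AlgebraicClosure (FractionRing R))
      (AlgebraicClosure (FractionRing R) ⊗[R] Γ(X, U))
      (AlgebraicClosure (FractionRing R) ⊗[R] X.presheaf.stalk x) :=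
    .of_algebraMap_eq <| by intro; simp [RingHom.algebraMap_toAlgebra]
  haveI := IsLocalization.tensorProduct_tensorProduct_right R (AlgebraicClosure (FractionRing R))
    (hU.primeIdealOf ⟨x, hxU⟩).asIdeal.primeCompl (X.presheaf.stalk x)
    (by ext; simp [RingHom.algebraMap_toAlgebra])
  refine IsLocalization.isDomain_of_le_nonZeroDivisors
    (AlgebraicClosure (FractionRing R) ⊗[R] X.presheaf.stalk x)
    (M := (hU.primeIdealOf ⟨x, hxU⟩).asIdeal.primeCompl.map
      (Algebra.TensorProduct.includeRight (R := R) (A := AlgebraicClosure (FractionRing R)))) ?_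
  rintro _ ⟨a, ha, rfl⟩
  apply mem_nonZeroDivisors_of_ne_zero
  intro h0
  have ha0 : a = 0 := hincl (h0.trans (map_zero _).symm)
  exact ha (ha0 ▸ (hU.primeIdealOf ⟨x, hxU⟩).asIdeal.zero_mem)

end Groth.Agent.Lib.Helper25.GeomInt
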