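import Mathlib
import Groth.Agent.Lib.Helper18.KProjD

/-!
# Exactness of `N ⊗ G` for all `N` from the cases of `R/f`-modules and `R_f`-modules (helper25)

Dévissage: an arbitrary module `N` sits in `0 → N[f^∞] → N → N̄ → 0` and
`0 → N̄ → N̄_f → N̄_f / N̄ → 0`; the outer terms are `f`-power torsion (handled by `R/f`-modules,
induction and a colimit argument) or `R_f`-modules.
-/

set_option autoImplicit false
set_option linter.style.haveILetI false
universe u
open TensorProduct

namespace Groth.Agent.Lib.Helper25.GlueFlatAway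

open Groth.Agent.Lib.Helper18.DR

section alg

variable {R : Type u} [CommRing R]

/-- connecting half exactness: exactness for the kernel from exactness for the middle and the
quotient one step to the left -/
lemma exact_lTensor_left {M₁ M₂ M₃ W X Y Z : Type u} [AddCommGroup M₁] [Module R M₁]
    [AddCommGroup M₂] [Module R M₂] [AddCommGroup M₃] [Module R M₃] [AddCommGroup W] [Module R W]
    [AddCommGroup X] [Module R X] [AddCommGroup Y] [Module R Y] [AddCommGroup Z] [Module R Z]
    (s : M₁ →ₗ[R] M₂) (v : M₂ →ₗ[R] M₃) (hs : Function.Injective s) (hsv : Function.Exact s v)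
    (hv : Function.Surjective v) (c : W →ₗ[R] X) (d : X →ₗ[R] Y) (d' : Y →ₗ[R] Z)
    (hcd : d ∘ₗ c = 0) (hdd : d' ∘ₗ d = 0) [Module.Flat R Y]
    (h₂ : Function.Exact (d.lTensor M₂) (d'.lTensor M₂))
    (h₃ : Function.Exact (c.lTensor M₃) (d.lTensor M₃)) :
    Function.Exact (d.lTensor M₁) (d'.lTensor M₁) := by
  intro z'
  constructor
  · intro hz'
    have hz : (d'.lTensor M₂) ((s.rTensor Y) z') = 0 := by
      rw [← rTensor_lTensor_comm, hz', map_zero]
    obtain ⟨w, hw⟩ := (h₂ _).mp hz
    have hw'' : (d.lTensor M₃) ((v.rTensor X) w) = 0 := by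
      rw [← rTensor_lTensor_comm, hw, ← LinearMap.comp_apply, ← LinearMap.rTensor_comp,
        hsv.linearMap_comp_eq_zero, LinearMap.rTensor_zero, LinearMap.zero_apply]
    obtain ⟨u'', hu''⟩ := (h₃ _).mp hw''
    obtain ⟨u, rfl⟩ := LinearMap.rTensor_surjective W hv u''
    have h4 : (v.rTensor X) (w - (c.lTensor M₂) u) = 0 := by
      rw [map_sub, rTensor_lTensor_comm, hu'', sub_self]
    obtain ⟨w', hw'⟩ := (rTensor_exact X hsv hv _).mp h4
    refine ⟨w', ?_⟩
    refine (Module.Flat.rTensor_preserves_injective_linearMap s hs) ?_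
    rw [rTensor_lTensor_comm, hw', map_sub, hw, ← LinearMap.comp_apply (d.lTensor M₂),
      ← LinearMap.lTensor_comp, hcd, LinearMap.lTensor_zero, LinearMap.zero_apply, sub_zero]
  · rintro ⟨y, rfl⟩
    rw [← LinearMap.comp_apply, ← LinearMap.lTensor_comp, hdd, LinearMap.lTensor_zero,
      LinearMap.zero_apply]

/-- dévissage along powers of the kernel of a surjection -/
theorem exact_lTensor_of_pow_ker_smul_eq_bot {A B : Type u} [CommRing A] [CommRing B]
    [Algebra A B] (hsurj : Function.Surjective (algebraMap A B))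
    {X Y Z : Type u} [AddCommGroup X] [Module A X] [AddCommGroup Y] [Module A Y] [AddCommGroup Z]
    [Module A Z] (d : X →ₗ[A] Y) (d' : Y →ₗ[A] Z) (hdd : d' ∘ₗ d = 0) [Module.Flat A Z]
    (h : ∀ (N : Type u) [AddCommGroup N] [Module B N] [Module A N] [IsScalarTower A B N],
      Function.Exact (d.lTensor N) (d'.lTensor N)) (k : ℕ) :
    ∀ (M : Type u) [AddCommGroup M] [Module A M],
      (RingHom.ker (algebraMap A B)) ^ k • (⊤ : Submodule A M) = ⊥ →
      Function.Exact (d.lTensor M) (d'.lTensor M) := by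
  induction k with
  | zero =>
    intro M _ _ hM
    rw [pow_zero, Ideal.one_eq_top, Submodule.top_smul] at hM
    haveI : Subsingleton M := by
      refine ⟨fun x y => ?_⟩
      have hx : x ∈ (⊤ : Submodule A M) := Submodule.mem_top
      have hy : y ∈ (⊤ : Submodule A M) := Submodule.mem_top
      rw [hM, Submodule.mem_bot] at hx hy
      rw [hx, hy]
    exact exact_lTensor_of_subsingleton d d'
  | succ k ih =>
    intro M _ _ hM
    have hM' : (RingHom.ker (algebraMap A B)) ^ k •
        (⊤ : Submodule A ↥((RingHom.ker (algebraMap A B)) • (⊤ : Submodule A M))) = ⊥ := by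
      rw [eq_bot_iff]
      refine Submodule.smul_le.mpr fun a ha m' _ => ?_
      rw [Submodule.mem_bot]
      apply Subtype.ext
      have h1 : a • (m' : M) ∈ (RingHom.ker (algebraMap A B)) ^ k •
          ((RingHom.ker (algebraMap A B)) • (⊤ : Submodule A M)) :=
        Submodule.smul_mem_smul ha m'.2
      rw [← Submodule.smul_assoc, Ideal.smul_eq_mul, ← pow_succ, hM, Submodule.mem_bot] at h1
      exact h1
    exact exact_lTensor_middle _ _ (Submodule.subtype_injective _)
      (exact_subtype_mk_one hsurj M) (mk_one_surjective hsurj M) d d' hdd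
      (ih _ hM') (h (B ⊗[A] M))

/-- an element of `N ⊗ Y` with `N` an `f`-power torsion module comes from some `N[f^n] ⊗ Y` -/
lemma exists_torsionBy_lift (f : R) (N Y : Type u) [AddCommGroup N] [Module R N]
    [AddCommGroup Y] [Module R Y] (hN : ∀ x : N, ∃ n : ℕ, f ^ n • x = 0) (z : N ⊗[R] Y) :
    ∃ (n : ℕ) (zn : ↥(Submodule.torsionBy R N (f ^ n)) ⊗[R] Y),
      ((Submodule.torsionBy R N (f ^ n)).subtype.rTensor Y) zn = z := by
  have hmono : ∀ {a b : ℕ}, a ≤ b →
      Submodule.torsionBy R N (f ^ a) ≤ Submodule.torsionBy R N (f ^ b) := by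
    intro a b hab x hx
    rw [Submodule.mem_torsionBy_iff] at hx ⊢
    obtain ⟨c, rfl⟩ := Nat.exists_eq_add_of_le hab
    rw [pow_add, mul_comm, mul_smul, hx, smul_zero]
  induction z using TensorProduct.induction_on with
  | zero => exact ⟨0, 0, map_zero _⟩
  | tmul x y =>
    obtain ⟨n, hn⟩ := hN x
    exact ⟨n, (⟨x, (Submodule.mem_torsionBy_iff _ _).mpr hn⟩ :
      ↥(Submodule.torsionBy R N (f ^ n))) ⊗ₜ[R] y, rfl⟩
  | add z₁ z₂ h₁ h₂ =>
    obtain ⟨n₁, w₁, hw₁⟩ := h₁
    obtain ⟨n₂, w₂, hw₂⟩ := h₂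
    have e₁ : ((Submodule.torsionBy R N (f ^ max n₁ n₂)).subtype.rTensor Y)
        (((Submodule.inclusion (hmono (le_max_left n₁ n₂))).rTensor Y) w₁) = z₁ := by
      rw [← hw₁, ← LinearMap.comp_apply, ← LinearMap.rTensor_comp,
        Submodule.subtype_comp_inclusion]
    have e₂ : ((Submodule.torsionBy R N (f ^ max n₁ n₂)).subtype.rTensor Y)
        (((Submodule.inclusion (hmono (le_max_right n₁ n₂))).rTensor Y) w₂) = z₂ := by
      rw [← hw₂, ← LinearMap.comp_apply, ← LinearMap.rTensor_comp,
        Submodule.subtype_comp_inclusion]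
    exact ⟨max n₁ n₂, ((Submodule.inclusion (hmono (le_max_left n₁ n₂))).rTensor Y) w₁ +
      ((Submodule.inclusion (hmono (le_max_right n₁ n₂))).rTensor Y) w₂, by rw [map_add, e₁, e₂]⟩

/-- exactness for an `f`-power torsion module from exactness for its `f^n`-torsion submodules -/
lemma exact_lTensor_of_torsion (f : R) (N : Type u) [AddCommGroup N] [Module R N]
    (hN : ∀ x : N, ∃ n : ℕ, f ^ n • x = 0)
    {X Y Z : Type u} [AddCommGroup X] [Module R X] [AddCommGroup Y] [Module R Y] [AddCommGroup Z]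
    [Module R Z] (d : X →ₗ[R] Y) (d' : Y →ₗ[R] Z) (hdd : d' ∘ₗ d = 0) [Module.Flat R Z]
    (h : ∀ n : ℕ, Function.Exact (d.lTensor ↥(Submodule.torsionBy R N (f ^ n)))
      (d'.lTensor ↥(Submodule.torsionBy R N (f ^ n)))) :
    Function.Exact (d.lTensor N) (d'.lTensor N) := by
  intro z
  constructor
  · intro hz
    obtain ⟨n, zn, rfl⟩ := exists_torsionBy_lift f N Y hN z
    have h1 : (d'.lTensor ↥(Submodule.torsionBy R N (f ^ n))) zn = 0 := by
      refine (Module.Flat.rTensor_preserves_injective_linearMap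
        (Submodule.torsionBy R N (f ^ n)).subtype (Submodule.subtype_injective _)) ?_
      rw [rTensor_lTensor_comm, hz, map_zero]
    obtain ⟨wn, hwn⟩ := (h n _).mp h1
    exact ⟨((Submodule.torsionBy R N (f ^ n)).subtype.rTensor X) wn, by
      rw [← rTensor_lTensor_comm, hwn]⟩
  · rintro ⟨y, rfl⟩
    rw [← LinearMap.comp_apply, ← LinearMap.lTensor_comp, hdd, LinearMap.lTensor_zero,
      LinearMap.zero_apply]

end alg

section main

variable {R : Type u} [CommRing R]

/-- **Gluing exactness**: if `N ⊗ G` is exact in negative degrees for all `R/f`-modules and all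
`R_f`-modules `N`, then for all `R`-modules `N`. -/
theorem exact_lTensor_of_away_and_quotient (f : R) (G : DRing.Cx R) (hGflat : DRing.TermwiseFlat G)
    (hq : ∀ (N : Type u) [AddCommGroup N] [Module (R ⧸ Ideal.span ({f} : Set R)) N] [Module R N]
      [IsScalarTower R (R ⧸ Ideal.span ({f} : Set R)) N] (i j k : ℤ), i + 1 = j → j + 1 = k →
      j < 0 → Function.Exact ((G.d i j).hom.lTensor N) ((G.d j k).hom.lTensor N))
    (ha : ∀ (N : Type u) [AddCommGroup N] [Module (Localization.Away f) N] [Module R N]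
      [IsScalarTower R (Localization.Away f) N] (i j k : ℤ), i + 1 = j → j + 1 = k →
      j < 0 → Function.Exact ((G.d i j).hom.lTensor N) ((G.d j k).hom.lTensor N))
    (N : Type u) [AddCommGroup N] [Module R N] (i j k : ℤ) (hij : i + 1 = j) (hjk : j + 1 = k)
    (hj : j < 0) :
    Function.Exact ((G.d i j).hom.lTensor N) ((G.d j k).hom.lTensor N) := by
  classical
  have hsurj : Function.Surjective (algebraMap R (R ⧸ Ideal.span ({f} : Set R))) :=
    Ideal.Quotient.mk_surjective
  have hker : RingHom.ker (algebraMap R (R ⧸ Ideal.span ({f} : Set R))) =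
      Ideal.span ({f} : Set R) := by
    rw [Ideal.Quotient.algebraMap_eq]; exact Ideal.mk_ker
  -- modules killed by a power of `f`
  have step3 : ∀ (n : ℕ) (M : Type u) [AddCommGroup M] [Module R M], (∀ x : M, f ^ n • x = 0) →
      ∀ (i j k : ℤ), i + 1 = j → j + 1 = k → j < 0 →
      Function.Exact ((G.d i j).hom.lTensor M) ((G.d j k).hom.lTensor M) := by
    intro n M _ _ hM i j k hij hjk hj
    haveI : Module.Flat R (G.X k) := hGflat k
    refine exact_lTensor_of_pow_ker_smul_eq_bot hsurj (G.d i j).hom (G.d j k).hom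
      (d_comp_d_hom G i j k) (fun N _ _ _ _ => hq N i j k hij hjk hj) n M ?_
    rw [hker, Ideal.span_singleton_pow, eq_bot_iff]
    refine Submodule.smul_le.mpr fun a ha m _ => ?_
    obtain ⟨r, rfl⟩ := Ideal.mem_span_singleton'.mp ha
    rw [Submodule.mem_bot, mul_smul, hM, smul_zero]
  -- `f`-power torsion modules
  have step4 : ∀ (M : Type u) [AddCommGroup M] [Module R M], (∀ x : M, ∃ n : ℕ, f ^ n • x = 0) →
      ∀ (i j k : ℤ), i + 1 = j → j + 1 = k → j < 0 →
      Function.Exact ((G.d i j).hom.lTensor M) ((G.d j k).hom.lTensor M) := by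
    intro M _ _ hM i j k hij hjk hj
    haveI : Module.Flat R (G.X k) := hGflat k
    refine exact_lTensor_of_torsion f M hM _ _ (d_comp_d_hom G i j k) (fun n => ?_)
    exact step3 n _ (fun x => by
      have hx := x.2
      rw [Submodule.mem_torsionBy_iff] at hx
      exact Subtype.ext hx) i j k hij hjk hj
  -- the torsion submodule
  let T : Submodule R N :=
    { carrier := {x | ∃ n : ℕ, f ^ n • x = 0}
      add_mem' := by
        rintro x y ⟨n, hn⟩ ⟨m, hm⟩
        refine ⟨n + m, ?_⟩
        have hx : f ^ (n + m) • x = 0 := by rw [pow_add, mul_comm, mul_smul, hn, smul_zero]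
        have hy : f ^ (n + m) • y = 0 := by rw [pow_add, mul_smul, hm, smul_zero]
        rw [smul_add, hx, hy, add_zero]
      zero_mem' := ⟨0, smul_zero _⟩
      smul_mem' := by
        rintro r x ⟨n, hn⟩
        exact ⟨n, by rw [smul_comm, hn, smul_zero]⟩ }
  have hT : ∀ x : T, ∃ n : ℕ, f ^ n • x = 0 := by
    rintro ⟨x, n, hn⟩
    exact ⟨n, Subtype.ext hn⟩
  have hreg : ∀ x : N ⧸ T, f • x = 0 → x = 0 := by
    intro x hx
    obtain ⟨y, rfl⟩ := Submodule.Quotient.mk_surjective T x
    rw [← Submodule.Quotient.mk_smul, Submodule.Quotient.mk_eq_zero] at hx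
    obtain ⟨n, hn⟩ := hx
    rw [Submodule.Quotient.mk_eq_zero]
    exact ⟨n + 1, by rw [pow_succ, mul_smul, hn]⟩
  have hpow : ∀ n : ℕ, ∀ x : N ⧸ T, f ^ n • x = 0 → x = 0 := by
    intro n
    induction n with
    | zero => intro x hx; simpa using hx
    | succ n ih =>
      intro x hx
      rw [pow_succ, mul_smul] at hx
      exact hreg x (ih _ hx)
  -- the localization of the torsion free quotient
  let ι : (N ⧸ T) →ₗ[R] (Localization.Away f) ⊗[R] (N ⧸ T) :=
    TensorProduct.mk R (Localization.Away f) (N ⧸ T) 1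
  haveI hloc : IsLocalizedModule (Submonoid.powers f) ι :=
    IsLocalization.tensorProduct_isLocalizedModule (Submonoid.powers f) (Localization.Away f)
  have hιinj : Function.Injective ι := by
    rw [← LinearMap.ker_eq_bot, LinearMap.ker_eq_bot']
    intro x hx
    obtain ⟨n, hn⟩ := IsLocalizedModule.Away.exists_of_eq (f := ι) f
      (show ι x = ι 0 by rw [hx, map_zero])
    rw [smul_zero] at hn
    exact hpow n x hn
  have hex : Function.Exact ι (LinearMap.range ι).mkQ := LinearMap.exact_map_mkQ_range ι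
  have hπ : Function.Surjective (LinearMap.range ι).mkQ := Submodule.mkQ_surjective _
  have hQ : ∀ q : ((Localization.Away f) ⊗[R] (N ⧸ T)) ⧸ LinearMap.range ι,
      ∃ n : ℕ, f ^ n • q = 0 := by
    intro q
    obtain ⟨l, rfl⟩ := Submodule.mkQ_surjective _ q
    obtain ⟨n, m, hm⟩ := IsLocalizedModule.Away.surj ι f l
    refine ⟨n, ?_⟩
    rw [← map_smul, hm, Submodule.mkQ_apply, Submodule.Quotient.mk_eq_zero]
    exact LinearMap.mem_range_self ι m
  -- degrees
  obtain ⟨h, hhi⟩ : ∃ h : ℤ, h + 1 = i := ⟨i - 1, by omega⟩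
  haveI : Module.Flat R (G.X j) := hGflat j
  haveI : Module.Flat R (G.X k) := hGflat k
  have exT := step4 T hT i j k hij hjk hj
  have exL := ha ((Localization.Away f) ⊗[R] (N ⧸ T)) i j k hij hjk hj
  have exQ := step4 (((Localization.Away f) ⊗[R] (N ⧸ T)) ⧸ LinearMap.range ι) hQ h i j hhi hij
    (by omega)
  have exNbar : Function.Exact ((G.d i j).hom.lTensor (N ⧸ T)) ((G.d j k).hom.lTensor (N ⧸ T)) :=
    exact_lTensor_left ι (LinearMap.range ι).mkQ hιinj hex hπ (G.d h i).hom (G.d i j).hom
      (G.d j k).hom (d_comp_d_hom G h i j) (d_comp_d_hom G i j k) exL exQ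
  exact exact_lTensor_middle T.subtype T.mkQ (Submodule.subtype_injective _)
    (LinearMap.exact_subtype_mkQ T) (Submodule.mkQ_surjective _) (G.d i j).hom (G.d j k).hom
    (d_comp_d_hom G i j k) exT exNbar

end main

end Groth.Agent.Lib.Helper25.GlueFlatAway
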