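import Mathlib
import Groth.Agent.Lib.Helper2.QcohExt.HColim

/-!
# helper25: on a qcqs scheme, cohomology vanishing passes to arbitrary (small) coproducts

`subsingleton_HH_sigma`: `X` qcqs, `M : J → X.Modules` (`J : Type u`), `H^r(X, M j) = 0` for all `j`
⟹ `H^r(X, ∐ M) = 0`.  (The coproduct is the directed colimit of the finite sub-coproducts; every class
comes from a stage by `Helper2.QcohExt.exists_rep_H`; finite coproducts are biproducts.)
-/

set_option autoImplicit false
set_option linter.style.haveILetI false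
universe u
open CategoryTheory CategoryTheory.Limits AlgebraicGeometry

namespace Groth.Agent.Lib.Helper25.H1Coprod

open Groth.Agent.Lib.Helper7.MulSurj Groth.Agent.Lib.Helper2.QcohExt
  Groth.Agent.Lib.Helper13.SerreCrit1

variable {X : Scheme.{u}}

lemma Hm_zero' {M N : X.Modules} (j : ℕ) (x : Coh.HH X M j) : Hm (0 : M ⟶ N) j x = 0 := by
  have h := Hm_add (0 : M ⟶ N) 0 j x
  rw [add_zero] at h
  exact add_eq_left.mp h.symm

lemma Hm_id' (M : X.Modules) (j : ℕ) (x : Coh.HH X M j) : Hm (𝟙 M) j x = x := by
  unfold Hm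
  rw [(TT X).map_id]
  exact Sheaf.H.map_id_apply x

lemma Hm_sum' {M N : X.Modules} {ι : Type*} (s : Finset ι) (φ : ι → (M ⟶ N)) (j : ℕ)
    (x : Coh.HH X M j) : Hm (∑ a ∈ s, φ a) j x = ∑ a ∈ s, Hm (φ a) j x := by
  classical
  induction s using Finset.induction_on with
  | empty =>
    rw [Finset.sum_empty, Finset.sum_empty]
    exact Hm_zero' j x
  | insert a s ha ih =>
    rw [Finset.sum_insert ha, Finset.sum_insert ha, Hm_add, ih]

lemma subsingleton_HH_of_iso {M N : X.Modules} (e : M ≅ N) (r : ℕ)
    (h : Subsingleton (Coh.HH X M r)) : Subsingleton (Coh.HH X N r) := by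
  have key : ∀ z : Coh.HH X N r, z = 0 := by
    intro z
    have h1 := Hm_id' N r z
    rw [← e.inv_hom_id, Hm_comp] at h1
    rw [← h1, @Subsingleton.elim _ h (Hm e.inv r z) 0, map_zero]
  exact ⟨fun a b => by rw [key a, key b]⟩

/-- vanishing for a finite biproduct. -/
lemma subsingleton_HH_biproduct {n : ℕ} (N : Fin n → X.Modules) (r : ℕ)
    (h : ∀ s, Subsingleton (Coh.HH X (N s) r)) : Subsingleton (Coh.HH X (⨁ N) r) := by
  have key : ∀ z : Coh.HH X (⨁ N) r, z = 0 := by
    intro z
    have h1 : Hm (∑ j : Fin n, biproduct.π N j ≫ biproduct.ι N j) r z = z :=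
      (congrArg (fun φ => Hm φ r z) (biproduct.total (f := N))).trans (Hm_id' _ r z)
    rw [Hm_sum'] at h1
    rw [← h1]
    refine Finset.sum_eq_zero fun s _ => ?_
    rw [Hm_comp]
    have : Hm (biproduct.π N s) r z = 0 := @Subsingleton.elim _ (h s) _ _
    rw [this, map_zero]
  exact ⟨fun a b => by rw [key a, key b]⟩

/-- vanishing for a finite coproduct. -/
lemma subsingleton_HH_finite_sigma {S : Type u} [Finite S] (N : S → X.Modules) (r : ℕ)
    (h : ∀ s, Subsingleton (Coh.HH X (N s) r)) : Subsingleton (Coh.HH X (∐ N) r) := by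
  obtain ⟨n, ⟨e⟩⟩ := Finite.exists_equiv_fin S
  have h1 : Subsingleton (Coh.HH X (⨁ (N ∘ e.symm)) r) :=
    subsingleton_HH_biproduct _ r (fun s => h (e.symm s))
  have h2 : Subsingleton (Coh.HH X (∐ (N ∘ e.symm)) r) :=
    subsingleton_HH_of_iso (biproduct.isoCoproduct _) r h1
  exact subsingleton_HH_of_iso (Sigma.reindex e.symm N) r h2

/-- **(b)**: on a quasi-compact quasi-separated scheme, `H^r` of a small coproduct of modules with vanishing
`H^r` vanishes. -/
theorem subsingleton_HH_sigma [CompactSpace X] [QuasiSeparatedSpace X] {J : Type u}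
    (M : J → X.Modules) (r : ℕ) (h : ∀ j, Subsingleton (Coh.HH X (M j) r)) :
    Subsingleton (Coh.HH X (∐ M) r) := by
  classical
  have key : ∀ z : Coh.HH X (∐ M) r, z = 0 := by
    intro z
    obtain ⟨j, y, hy⟩ := exists_rep_H
      (CoproductsFromFiniteFiltered.liftToFinsetObj (Discrete.functor M))
      (CoproductsFromFiniteFiltered.finiteSubcoproductsCocone M)
      (CoproductsFromFiniteFiltered.isColimitFiniteSubproductsCocone M) r z
    haveI : Subsingleton (Coh.HH X
        ((CoproductsFromFiniteFiltered.liftToFinsetObj (Discrete.functor M)).obj j) r) :=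
      subsingleton_HH_finite_sigma (fun x : {x // x ∈ j} => (Discrete.functor M).obj x.1) r
        (fun s => h s.1.as)
    have hy0 : y = 0 := Subsingleton.elim _ _
    rw [← hy, hy0]
    exact map_zero _
  exact ⟨fun a b => by rw [key a, key b]⟩

/-- the form asked for: a (possibly infinite) coproduct of copies of `O_X`. -/
theorem subsingleton_HH_sigma_structure [CompactSpace X] [QuasiSeparatedSpace X] (J : Type u) (r : ℕ)
    (h : Subsingleton (Coh.HH X (Coh.structureModule X) r)) :
    Subsingleton (Coh.HH X (∐ fun _ : J => Coh.structureModule X) r) :=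
  subsingleton_HH_sigma (fun _ : J => Coh.structureModule X) r (fun _ => h)

end Groth.Agent.Lib.Helper25.H1Coprod
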