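import Mathlib
import Groth.Prelude.Def_W4c2invhilbsl2HJ

set_option autoImplicit false

namespace Groth.Agent.Lib.Helper25.HJRank

open W4c2invhilbsl2

/-- general HJ linear recurrence -/
def seq (c : List ℤ) (r0 r1 : ℤ) : ℕ → ℤ
  | 0 => r0
  | 1 => r1
  | j + 2 => c.getD j 0 * seq c r0 r1 (j + 1) - seq c r0 r1 j

@[simp] lemma seq_zero (c : List ℤ) (r0 r1 : ℤ) : seq c r0 r1 0 = r0 := by rw [seq]
@[simp] lemma seq_one (c : List ℤ) (r0 r1 : ℤ) : seq c r0 r1 1 = r1 := by rw [seq]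
lemma seq_succ_succ (c : List ℤ) (r0 r1 : ℤ) (j : ℕ) :
    seq c r0 r1 (j + 2) = c.getD j 0 * seq c r0 r1 (j + 1) - seq c r0 r1 j := by rw [seq]

lemma hjP_succ_succ (c : List ℤ) (j : ℕ) :
    hjP c (j + 2) = c.getD j 0 * hjP c (j + 1) - hjP c j := by rw [hjP]
lemma hjQ_succ_succ (c : List ℤ) (j : ℕ) :
    hjQ c (j + 2) = c.getD j 0 * hjQ c (j + 1) - hjQ c j := by rw [hjQ]
@[simp] lemma hjP_zero (c : List ℤ) : hjP c 0 = 0 := by rw [hjP]
@[simp] lemma hjP_one (c : List ℤ) : hjP c 1 = 1 := by rw [hjP]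
@[simp] lemma hjQ_zero (c : List ℤ) : hjQ c 0 = -1 := by rw [hjQ]
@[simp] lemma hjQ_one (c : List ℤ) : hjQ c 1 = 0 := by rw [hjQ]

lemma seq_shift (b : ℤ) (l : List ℤ) (r0 r1 : ℤ) :
    ∀ j, seq (b :: l) r0 r1 (j + 1) = seq l r1 (b * r1 - r0) j := by
  intro j
  induction j using Nat.twoStepInduction with
  | zero => simp
  | one => rw [seq_succ_succ]; simp
  | more j ih1 ih2 =>
    rw [show j + 2 + 1 = (j + 1) + 2 from rfl, seq_succ_succ, List.getD_cons_succ, ih2, ih1,
      seq_succ_succ]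

lemma hjVal_gt_one : ∀ (l : List ℤ), l ≠ [] → (∀ x ∈ l, (2:ℤ) ≤ x) → 1 < HJFrac.hjVal l
  | [], h, _ => absurd rfl h
  | [b], _, hb => by
      have h2 : (2:ℚ) ≤ b := by exact_mod_cast hb b (by simp)
      simp only [HJFrac.hjVal, inv_zero, sub_zero]
      linarith
  | b :: b' :: l, _, hb => by
      have ih := hjVal_gt_one (b' :: l) (by simp) (fun x hx => hb x (List.mem_cons_of_mem _ hx))
      have hb2 : (2:ℚ) ≤ b := by exact_mod_cast hb b (by simp)
      have : (HJFrac.hjVal (b' :: l))⁻¹ < 1 := inv_lt_one_of_one_lt₀ ih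
      show 1 < (b:ℚ) - (HJFrac.hjVal (b' :: l))⁻¹
      linarith

lemma seq_decr : ∀ (c : List ℤ) (r0 r1 : ℤ), (∀ x ∈ c, (2:ℤ) ≤ x) → 0 < r1 →
    (r0 : ℚ) = HJFrac.hjVal c * r1 →
    ∀ j, j < c.length → seq c r0 r1 (j+1) < seq c r0 r1 j ∧ 0 < seq c r0 r1 (j+1)
  | [], _, _, _, _, _ => fun j hj => absurd hj (by simp)
  | b :: l, r0, r1, hc, h1, h0 => by
      intro j hj
      have hv : 1 < HJFrac.hjVal (b :: l) := hjVal_gt_one _ (by simp) hc
      have h1q : (0:ℚ) < r1 := by exact_mod_cast h1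
      cases j with
      | zero =>
        refine ⟨?_, by simpa using h1⟩
        have : (r1 : ℚ) < r0 := by rw [h0]; nlinarith
        simpa using (by exact_mod_cast this : r1 < r0)
      | succ j =>
        have hj' : j < l.length := by simpa using hj
        have hl : l ≠ [] := by intro h; simp [h] at hj'
        have hc' : ∀ x ∈ l, (2:ℤ) ≤ x := fun x hx => hc x (List.mem_cons_of_mem _ hx)
        have hvl : 1 < HJFrac.hjVal l := hjVal_gt_one l hl hc'
        have hvl0 : 0 < HJFrac.hjVal l := by linarith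
        have hr2 : ((b * r1 - r0 : ℤ) : ℚ) = (HJFrac.hjVal l)⁻¹ * r1 := by
          push_cast; rw [h0]; simp only [HJFrac.hjVal]; ring
        have hpos : 0 < b * r1 - r0 := by
          have : (0:ℚ) < ((b * r1 - r0 : ℤ) : ℚ) := by
            rw [hr2]; exact mul_pos (inv_pos.2 hvl0) h1q
          exact_mod_cast this
        have h0' : (r1 : ℚ) = HJFrac.hjVal l * ((b * r1 - r0 : ℤ) : ℚ) := by
          rw [hr2, ← mul_assoc, mul_inv_cancel₀ hvl0.ne', one_mul]
        have := seq_decr l r1 (b * r1 - r0) hc' hpos h0' j hj'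
        rw [seq_shift, seq_shift]; exact this

lemma seq_le (c : List ℤ) (r0 r1 : ℤ) (hc : ∀ x ∈ c, (2:ℤ) ≤ x) (h1 : 0 < r1)
    (h0 : (r0 : ℚ) = HJFrac.hjVal c * r1) :
    ∀ j, j ≤ c.length → seq c r0 r1 j ≤ r0 := by
  intro j
  induction j with
  | zero => intro _; simp
  | succ j ih =>
    intro hj
    have := (seq_decr c r0 r1 hc h1 h0 j (by omega)).1
    have := ih (by omega)
    linarith

lemma rho_eq (c : List ℤ) (b t : ℤ) : ∀ j, t * hjP c j - b * hjQ c j = seq c b t j := by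
  intro j
  induction j using Nat.twoStepInduction with
  | zero => simp
  | one => simp
  | more j ih1 ih2 =>
    rw [hjP_succ_succ, hjQ_succ_succ, seq_succ_succ, ← ih2, ← ih1]; ring

lemma det_eq (c : List ℤ) : ∀ j, hjQ c (j+1) * hjP c j - hjQ c j * hjP c (j+1) = 1 := by
  intro j
  induction j with
  | zero => simp
  | succ j ih =>
    rw [hjP_succ_succ, hjQ_succ_succ]; linear_combination ih

lemma PZ_mono (c : List ℤ) (hc : ∀ x ∈ c, (2:ℤ) ≤ x) :
    ∀ j, j ≤ c.length → 0 ≤ hjP c j ∧ 1 ≤ hjP c (j+1) - hjP c j ∧ 1 ≤ hjP c j - hjQ c j ∧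
      0 ≤ (hjP c (j+1) - hjQ c (j+1)) - (hjP c j - hjQ c j) := by
  intro j
  induction j with
  | zero => intro _; simp
  | succ j ih =>
    intro hj
    obtain ⟨a1, a2, a3, a4⟩ := ih (by omega)
    have hj' : j < c.length := by omega
    have hcj : (2:ℤ) ≤ c.getD j 0 := by
      rw [List.getD_eq_getElem c 0 hj']; exact hc _ (List.getElem_mem hj')
    have hP1 : 0 ≤ hjP c (j+1) := by linarith
    have hZ1 : 1 ≤ hjP c (j+1) - hjQ c (j+1) := by linarith
    refine ⟨hP1, ?_, hZ1, ?_⟩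
    · rw [hjP_succ_succ]
      nlinarith [mul_nonneg (sub_nonneg.2 hcj) hP1]
    · rw [hjP_succ_succ, hjQ_succ_succ]
      nlinarith [mul_nonneg (sub_nonneg.2 hcj) (by linarith : (0:ℤ) ≤ hjP c (j+1) - hjQ c (j+1))]

/-- The core lattice-point lemma. -/
lemma core (g b t α β mm pp qq : ℤ) (P P' Q Q' ρ ρ' : ℤ)
    (hg : 0 < g) (h1 : g * b = qq - pp) (h2 : g * t = qq - pp - β)
    (h3 : mm * pp = (qq - pp) * α + β)
    (hα : 0 ≤ α) (hmm : 0 < mm) (hpp : 0 < pp) (hD : 0 < qq - pp)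
    (hρ : ρ = t * P - b * Q) (hρ' : ρ' = t * P' - b * Q') (hdet : Q * P' - Q' * P = 1)
    (hρpos : 0 < ρ) (hρlt : ρ < ρ') (hρ'le : g * ρ' ≤ qq - pp)
    (hP' : 0 ≤ P') (hPP' : P' < P) (hZ' : 1 ≤ P' - Q') (hZZ' : P' - Q' ≤ P - Q)
    (u1 u2 y : ℤ) (hu1 : 0 ≤ u1) (hu2 : 0 ≤ u2) (hy : u1 - u2 = mm * y)
    (ha0 : 0 < qq * u2 - pp * u1) (ha1 : qq * u2 - pp * u1 < g * ρ') :
    (α + 1 + mm) * P - Q ≤ u1 ∧ (α + 1) * P - Q ≤ u2 := by
  have hy1 : 1 ≤ y := by
    by_contra hcon
    have hy0 : y ≤ 0 := by omega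
    have e1 : qq * u2 - pp * u1 = (qq - pp) * u2 + pp * mm * (-y) := by
      have : u1 = u2 + mm * y := by linarith
      rw [this]; ring
    have t1 : 0 ≤ pp * mm * (-y) :=
      mul_nonneg (mul_nonneg hpp.le hmm.le) (by linarith)
    rcases hu2.eq_or_lt with h | h
    · have t2 : mm * y ≤ 0 := mul_nonpos_of_nonneg_of_nonpos hmm.le hy0
      have t3 : u1 = 0 := by linarith
      rw [← h, t3] at ha0; simp at ha0
    · have : (qq - pp) * 1 ≤ (qq - pp) * u2 :=
        mul_le_mul_of_nonneg_left (by omega) hD.le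
      linarith
  obtain ⟨X, hX⟩ : ∃ X, X = u2 - (α + 1) * y := ⟨_, rfl⟩
  obtain ⟨A, hA⟩ : ∃ A, A = X * P + y * Q := ⟨_, rfl⟩
  obtain ⟨B, hB⟩ : ∃ B, B = -(Q' * y + P' * X) := ⟨_, rfl⟩
  have hXeq : X = -(A * Q') - B * Q := by rw [hA, hB]; linear_combination (-X) * hdet
  have hyeq : y = A * P' + B * P := by rw [hA, hB]; linear_combination (-y) * hdet
  have hf0 : qq * u2 - pp * u1 = g * (b * X + t * y) := by
    linear_combination (-X) * h1 - y * h2 - (qq - pp) * hX - pp * hy - y * h3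
  have hf1 : b * X + t * y = A * ρ' + B * ρ := by
    rw [hρ, hρ']; linear_combination b * hXeq + t * hyeq
  have hfpos : 0 < A * ρ' + B * ρ := by
    have := ha0; rw [hf0, hf1] at this
    exact (mul_pos_iff_of_pos_left hg).1 this
  have hflt : A * ρ' + B * ρ < ρ' := by
    have := ha1; rw [hf0, hf1] at this
    exact lt_of_mul_lt_mul_left this hg.le
  have hXy : X + y = A * (P' - Q') + B * (P - Q) := by
    linear_combination hXeq + hyeq
  have hP0 : 0 ≤ P := by linarith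
  have hZ0 : 1 ≤ P - Q := by linarith
  have hρ'pos : 0 < ρ' := by linarith
  have G : P ≤ y ∧ P - Q ≤ X + y := by
    rcases lt_or_ge A 0 with hA0 | hA0
    · have k1 : (-A) * ρ ≤ (-A) * ρ' := mul_le_mul_of_nonneg_left hρlt.le (by linarith)
      have k2 : 0 < (A + B) * ρ := by nlinarith
      have hAB : 1 ≤ A + B := by
        by_contra h
        have h' : A + B ≤ 0 := by omega
        have := mul_nonpos_of_nonpos_of_nonneg h' hρpos.le
        linarith
      constructor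
      · have m1 : 0 ≤ (A + B - 1) * P := mul_nonneg (by linarith) hP0
        have m2 : 0 ≤ (-A) * (P - P') := mul_nonneg (by linarith) (by linarith)
        nlinarith
      · have m1 : 0 ≤ (A + B - 1) * (P - Q) := mul_nonneg (by linarith) (by linarith)
        have m2 : 0 ≤ (-A) * ((P - Q) - (P' - Q')) := mul_nonneg (by linarith) (by linarith)
        nlinarith
    · rcases lt_or_ge B 1 with hB0 | hB1
      · exfalso
        have hB' : B ≤ 0 := by omega
        have k1 : (-B) * ρ ≤ (-B) * ρ' := mul_le_mul_of_nonneg_left hρlt.le (by linarith)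
        have k2 : (A + B - 1) * ρ' < 0 := by nlinarith
        have k3 : A + B ≤ 0 := by
          by_contra h
          have h' : 0 ≤ A + B - 1 := by omega
          have := mul_nonneg h' hρ'pos.le
          linarith
        have k4 : (A + B) * P' ≤ 0 := mul_nonpos_of_nonpos_of_nonneg k3 hP'
        have k5 : B * (P - P') ≤ 0 := mul_nonpos_of_nonpos_of_nonneg hB' (by linarith)
        nlinarith
      · constructor
        · have m1 : 0 ≤ A * P' := mul_nonneg hA0 hP'
          have m2 : 0 ≤ (B - 1) * P := mul_nonneg (by linarith) hP0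
          nlinarith
        · have m1 : 0 ≤ A * (P' - Q') := mul_nonneg hA0 (by linarith)
          have m2 : 0 ≤ (B - 1) * (P - Q) := mul_nonneg (by linarith) (by linarith)
          nlinarith
  obtain ⟨G1, G2⟩ := G
  have n1 : α * P ≤ α * y := mul_le_mul_of_nonneg_left G1 hα
  have n2 : mm * P ≤ mm * y := mul_le_mul_of_nonneg_left G1 hmm.le
  have hu2eq : u2 = X + y + α * y := by rw [hX]; ring
  have hu1eq : u1 = u2 + mm * y := by linarith
  constructor
  · nlinarith
  · nlinarith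

end Groth.Agent.Lib.Helper25.HJRank
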