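import Groth.Agent.Lib.Helper25.HJRank

set_option autoImplicit false

namespace Groth.Agent.Lib.Helper25.HJRank

open W4c2invhilbsl2

theorem arith (p q m : ℕ) (hp : 0 < p) (hpq : p < q) (hm : 0 < m) (c : List ℤ)
    (hc : IsHJDigits p q m c) (i : ℕ) (hi : 1 ≤ i) (hir : i ≤ c.length) :
    ((nN p q m c (i-1)).toNat ≤ q - p) ∧
    (((nN p q m c i).toNat : ℤ) = q * ((lL p q m c i).toNat : ℤ) - p * ((eE p q m c i).toNat : ℤ)) ∧
    ((((eE p q m c i).toNat : ℕ) : ZMod m) = (((lL p q m c i).toNat : ℕ) : ZMod m)) ∧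
    0 < (lL p q m c i).toNat ∧
    (∀ u1 u2 : ℕ, (u1 : ZMod m) = u2 → 0 < (q:ℤ) * u2 - p * u1 →
      (q:ℤ) * u2 - p * u1 < ((nN p q m c (i-1)).toNat : ℤ) →
      (eE p q m c i).toNat ≤ u1 ∧ (lL p q m c i).toNat ≤ u2) := by
  obtain ⟨j, rfl⟩ : ∃ j, i = j + 1 := ⟨i - 1, by omega⟩
  simp only [Nat.add_sub_cancel]
  have hD : 0 < q - p := Nat.sub_pos_of_lt hpq
  have hg : 0 < gcdK p q m := Nat.gcd_pos_of_pos_left _ hm
  have hgD : gcdK p q m ∣ q - p := Nat.gcd_dvd_right _ _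
  have hgm : gcdK p q m ∣ m := Nat.gcd_dvd_left _ _
  have hβ : m * p % (q - p) < q - p := Nat.mod_lt _ hD
  have hgβ : gcdK p q m ∣ m * p % (q - p) :=
    (Nat.dvd_mod_iff hgD).2 (Dvd.dvd.mul_right hgm p)
  have hb : gcdK p q m * bB p q m = q - p := Nat.mul_div_cancel' hgD
  have ht : gcdK p q m * tT p q m = q - p - m * p % (q - p) :=
    Nat.mul_div_cancel' (Nat.dvd_sub hgD hgβ)
  have hα : (q - p) * alpha p q m + m * p % (q - p) = m * p := Nat.div_add_mod (m * p) (q - p)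
  have htpos : 0 < tT p q m := by
    rcases Nat.eq_zero_or_pos (tT p q m) with h | h
    · rw [h] at ht; omega
    · exact h
  have hbpos : 0 < bB p q m := by
    rcases Nat.eq_zero_or_pos (bB p q m) with h | h
    · rw [h] at hb; omega
    · exact h
  -- integer versions
  have hDz : ((q - p : ℕ) : ℤ) = (q:ℤ) - p := Nat.cast_sub hpq.le
  have h1 : (gcdK p q m : ℤ) * (bB p q m : ℤ) = (q:ℤ) - p := by
    rw [← hDz, ← hb]; push_cast; ring
  have h2 : (gcdK p q m : ℤ) * (tT p q m : ℤ) = (q:ℤ) - p - ((m * p % (q - p) : ℕ) : ℤ) := by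
    rw [← hDz, ← Nat.cast_sub hβ.le, ← ht]; push_cast; ring
  have h3 : (m:ℤ) * p = ((q:ℤ) - p) * (alpha p q m : ℤ) + ((m * p % (q - p) : ℕ) : ℤ) := by
    rw [← hDz]; exact_mod_cast hα.symm
  generalize hβdef : ((m * p % (q - p) : ℕ) : ℤ) = β at h2 h3
  have hgz : (0:ℤ) < gcdK p q m := by exact_mod_cast hg
  have htz : (0:ℤ) < tT p q m := by exact_mod_cast htpos
  have hαz : (0:ℤ) ≤ alpha p q m := Int.natCast_nonneg _
  have h0 : (((bB p q m : ℤ)) : ℚ) = HJFrac.hjVal c * (((tT p q m : ℤ)) : ℚ) := by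
    rw [hc.2]; push_cast
    have : (tT p q m : ℚ) ≠ 0 := by exact_mod_cast htpos.ne'
    field_simp
  have hdec := seq_decr c (bB p q m) (tT p q m) hc.1 htz h0
  have hle := seq_le c (bB p q m) (tT p q m) hc.1 htz h0
  have hnN : ∀ j', nN p q m c j' = (gcdK p q m : ℤ) * seq c (bB p q m) (tT p q m) j' := by
    intro j'
    rw [← rho_eq]; unfold nN eE lL; push_cast
    linear_combination (hjQ c j') * h1 - (hjP c j') * h2 - (hjP c j') * h3
  obtain ⟨d1, d2⟩ := hdec j (by omega)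
  have hρ'pos : 0 < seq c (bB p q m) (tT p q m) j := by linarith
  obtain ⟨a1, a2, a3, a4⟩ := PZ_mono c hc.1 j (by omega)
  obtain ⟨b1, b2, b3, b4⟩ := PZ_mono c hc.1 (j+1) (by omega)
  have hNnn : 0 ≤ nN p q m c j := by rw [hnN]; exact (mul_pos hgz hρ'pos).le
  have hnnn : 0 ≤ nN p q m c (j+1) := by rw [hnN]; exact (mul_pos hgz d2).le
  have hlval : lL p q m c (j+1) = (alpha p q m : ℤ) * hjP c (j+1) + (hjP c (j+1) - hjQ c (j+1)) := by
    unfold lL; push_cast; ring
  have heval : eE p q m c (j+1) = lL p q m c (j+1) + (m:ℤ) * hjP c (j+1) := by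
    unfold eE lL; push_cast; ring
  have hl1 : 1 ≤ lL p q m c (j+1) := by
    rw [hlval]; have := mul_nonneg hαz b1; linarith
  have he1 : 1 ≤ eE p q m c (j+1) := by
    rw [heval]; have := mul_nonneg (Int.natCast_nonneg m) b1; linarith
  have hNle : nN p q m c j ≤ (q:ℤ) - p := by
    rw [hnN, ← h1]
    exact mul_le_mul_of_nonneg_left (hle j (by omega)) hgz.le
  refine ⟨?_, ?_, ?_, ?_, ?_⟩
  · rw [Int.toNat_le, hDz]; exact hNle
  · rw [Int.toNat_of_nonneg hnnn, Int.toNat_of_nonneg (by linarith), Int.toNat_of_nonneg (by linarith)]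
    unfold nN; ring
  · have e1 : (((eE p q m c (j+1)).toNat : ℕ) : ZMod m)
        = (((eE p q m c (j+1)).toNat : ℤ) : ZMod m) := (Int.cast_natCast _).symm
    have e2 : (((lL p q m c (j+1)).toNat : ℕ) : ZMod m)
        = (((lL p q m c (j+1)).toNat : ℤ) : ZMod m) := (Int.cast_natCast _).symm
    rw [e1, e2, Int.toNat_of_nonneg (by linarith), Int.toNat_of_nonneg (by linarith), heval]
    push_cast
    simp
  · omega
  · intro u1 u2 hz ha0 ha1
    have hz' : ((u1:ℤ) : ZMod m) = ((u2:ℤ) : ZMod m) := by push_cast; exact hz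
    rw [ZMod.intCast_eq_intCast_iff_dvd_sub] at hz'
    obtain ⟨y', hy'⟩ := hz'
    rw [Int.toNat_of_nonneg hNnn, hnN] at ha1
    have key := core (gcdK p q m) (bB p q m) (tT p q m) (alpha p q m) β m p q
      (hjP c (j+1)) (hjP c j) (hjQ c (j+1)) (hjQ c j)
      (seq c (bB p q m) (tT p q m) (j+1)) (seq c (bB p q m) (tT p q m) j)
      hgz h1 h2 h3 hαz (by exact_mod_cast hm) (by exact_mod_cast hp) (by rw [← hDz]; exact_mod_cast hD)
      (rho_eq c _ _ (j+1)).symm (rho_eq c _ _ j).symm (det_eq c j) d2 d1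
      (by rw [← hnN]; exact hNle) a1 (by linarith) a3 (by linarith)
      u1 u2 (-y') (Int.natCast_nonneg _) (Int.natCast_nonneg _) (by linarith) ha0 ha1
    obtain ⟨k1, k2⟩ := key
    constructor
    · rw [Int.toNat_le]
      have : eE p q m c (j+1) = ((alpha p q m : ℤ) + 1 + m) * hjP c (j+1) - hjQ c (j+1) := by
        unfold eE; push_cast; ring
      rw [this]; exact k1
    · rw [Int.toNat_le]
      have : lL p q m c (j+1) = ((alpha p q m : ℤ) + 1) * hjP c (j+1) - hjQ c (j+1) := by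
        unfold lL; push_cast; ring
      rw [this]; exact k2

end Groth.Agent.Lib.Helper25.HJRank
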