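import Mathlib

set_option autoImplicit false

namespace Groth.Agent.Lib.Helper25.HJRank

section
variable (k : Type*) [Field k] {A : Type*} [CommRing A] [Algebra k A]

/-- linear dependence of two vectors -/
def Dep (x y : A) : Prop := ∃ a b : k, (a ≠ 0 ∨ b ≠ 0) ∧ a • x + b • y = 0

variable {k}

lemma Dep.symm {x y : A} (h : Dep k x y) : Dep k y x := by
  obtain ⟨a, b, hab, h⟩ := h
  exact ⟨b, a, hab.symm, by rw [add_comm]; exact h⟩

lemma Dep.of_left_zero (y : A) : Dep k (0:A) y := ⟨1, 0, Or.inl one_ne_zero, by simp⟩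
lemma Dep.of_right_zero (y : A) : Dep k y (0:A) := (Dep.of_left_zero y).symm
lemma Dep.of_eq (x : A) : Dep k x x := ⟨1, -1, Or.inl one_ne_zero, by simp⟩

lemma Dep.mul_left {x y : A} (z : A) (h : Dep k x y) : Dep k (z * x) (z * y) := by
  obtain ⟨a, b, hab, h⟩ := h
  refine ⟨a, b, hab, ?_⟩
  rw [← mul_smul_comm, ← mul_smul_comm, ← mul_add, h, mul_zero]

lemma rank_span_le_one {V : Type*} [AddCommGroup V] [Module k V] (S : Set V)
    (h : ∀ x ∈ S, ∀ y ∈ S, ∃ a b : k, (a ≠ 0 ∨ b ≠ 0) ∧ a • x + b • y = 0) :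
    Module.rank k (Submodule.span k S) ≤ 1 := by
  rw [rank_submodule_le_one_iff']
  by_cases hS : ∃ x ∈ S, x ≠ 0
  · obtain ⟨x0, hx0, hne⟩ := hS
    refine ⟨x0, Submodule.span_le.2 ?_⟩
    intro y hy
    obtain ⟨a, b, hab, hh⟩ := h y hy x0 hx0
    have ha : a ≠ 0 := by
      intro ha
      rw [ha, zero_smul, zero_add] at hh
      rcases hab with h' | h'
      · exact h' ha
      · rcases smul_eq_zero.1 hh with h'' | h''
        · exact h' h''
        · exact hne h''
    rw [SetLike.mem_coe, Submodule.mem_span_singleton]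
    refine ⟨-(a⁻¹ * b), ?_⟩
    have : y = -(a⁻¹ • (b • x0)) := by
      have h2 : a • y = -(b • x0) := eq_neg_of_add_eq_zero_left hh
      calc y = a⁻¹ • (a • y) := by rw [smul_smul, inv_mul_cancel₀ ha, one_smul]
        _ = -(a⁻¹ • (b • x0)) := by rw [h2, smul_neg]
    rw [this, neg_smul, mul_smul]
  · push Not at hS
    refine ⟨0, Submodule.span_le.2 ?_⟩
    intro y hy
    rw [hS y hy]; exact Submodule.zero_mem _

end

lemma exists_split (a a' : ℕ) : ∃ c x y, a = x + c ∧ a' = y + c ∧ (x = 0 ∨ y = 0) := by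
  rcases le_total a a' with h | h
  · exact ⟨a, 0, a' - a, by omega, by omega, Or.inl rfl⟩
  · exact ⟨a', a - a', 0, by omega, by omega, Or.inr rfl⟩

theorem dep_main {k : Type*} [Field k] {A : Type*} [CommRing A] [Algebra k A]
    (p q m N n e l : ℕ) (hp : 0 < p) (hpq : p < q)
    (hN : N ≤ q - p) (hn : (n:ℤ) = q * l - p * e) (hel : (e : ZMod m) = l) (hl : 0 < l)
    (hF2 : ∀ u1 u2 : ℕ, (u1 : ZMod m) = u2 → 0 < (q:ℤ) * u2 - p * u1 →
      (q:ℤ) * u2 - p * u1 < N → e ≤ u1 ∧ l ≤ u2)
    (x0 x1 x2 : A) (s : k)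
    (R1 : x0 ^ N = 0) (R2 : x1 ^ e * x2 ^ l = s • x0 ^ n)
    (R3 : ∀ a u1 u2 : ℕ, ¬ (a = 0 ∧ u1 = 0 ∧ u2 = 0) → (a:ℤ) - p * u1 + q * u2 = 0 →
      (u1 : ZMod m) = u2 → x0 ^ a * x1 ^ u1 * x2 ^ u2 = 0) :
    ∀ D a u1 u2 a' u1' u2' : ℕ, a + u1 + u2 + a' + u1' + u2' ≤ D →
      (a:ℤ) - p * u1 + q * u2 = a' - p * u1' + q * u2' →
      (u2 : ZMod m) - u1 = u2' - u1' →
      Dep k (x0 ^ a * x1 ^ u1 * x2 ^ u2) (x0 ^ a' * x1 ^ u1' * x2 ^ u2') := by
  have hpz : (0:ℤ) < p := by exact_mod_cast hp
  have hqz : (0:ℤ) < q := by exact_mod_cast (hp.trans hpq)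
  have hNq : (N:ℤ) ≤ q := by
    have : N ≤ q := by omega
    exact_mod_cast this
  -- weight-zero monomial versus 1
  have Hone : ∀ a u1 u2 : ℕ, (a:ℤ) - p * u1 + q * u2 = 0 → (u1 : ZMod m) = u2 →
      Dep k (x0 ^ a * x1 ^ u1 * x2 ^ u2) (x0 ^ 0 * x1 ^ 0 * x2 ^ 0) := by
    intro a u1 u2 hw hz
    by_cases h0 : a = 0 ∧ u1 = 0 ∧ u2 = 0
    · obtain ⟨rfl, rfl, rfl⟩ := h0
      exact Dep.of_eq _
    · rw [R3 a u1 u2 h0 hw hz]; exact Dep.of_left_zero _
  intro D
  induction D with
  | zero =>
    intro a u1 u2 a' u1' u2' hD _ _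
    obtain ⟨rfl, rfl, rfl, rfl, rfl, rfl⟩ :
        a = 0 ∧ u1 = 0 ∧ u2 = 0 ∧ a' = 0 ∧ u1' = 0 ∧ u2' = 0 := by omega
    exact Dep.of_eq _
  | succ D ih =>
    -- the disjoint-support case with a' = 0
    have DS : ∀ b0 b1 b2 b1' b2' : ℕ, (b1 = 0 ∨ b1' = 0) → (b2 = 0 ∨ b2' = 0) →
        b0 + b1 + b2 + b1' + b2' ≤ D + 1 →
        (b0:ℤ) - p * b1 + q * b2 = - p * b1' + q * b2' →
        (b2 : ZMod m) - b1 = b2' - b1' →
        Dep k (x0 ^ b0 * x1 ^ b1 * x2 ^ b2) (x0 ^ 0 * x1 ^ b1' * x2 ^ b2') := by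
      intro b0 b1 b2 b1' b2' h1 h2 hD' hw hz
      rcases h1 with rfl | rfl <;> rcases h2 with rfl | rfl
      · -- case (A): L = (b0,0,0), R = (0,b1',b2')
        simp only [Nat.cast_zero, mul_zero, sub_zero, add_zero] at hw hz
        have hz' : (b1' : ZMod m) = b2' := by
          have := hz; rw [eq_comm, sub_eq_zero] at this; exact this.symm
        by_cases ha : b0 = 0
        · subst ha
          refine (Hone 0 b1' b2' ?_ hz').symm
          push_cast at hw ⊢; linarith
        by_cases haN : N ≤ b0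
        · rw [pow_eq_zero_of_le haN R1, zero_mul, zero_mul]; exact Dep.of_left_zero _
        push Not at haN
        have hpos : 0 < (q:ℤ) * b2' - p * b1' := by
          have : (0:ℤ) < b0 := by exact_mod_cast Nat.pos_of_ne_zero ha
          linarith
        have hlt : (q:ℤ) * b2' - p * b1' < N := by
          have : (b0:ℤ) < N := by exact_mod_cast haN
          linarith
        obtain ⟨he, hl'⟩ := hF2 b1' b2' hz' hpos hlt
        obtain ⟨v1, rfl⟩ := Nat.exists_eq_add_of_le he
        obtain ⟨v2, rfl⟩ := Nat.exists_eq_add_of_le hl'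
        have hR : x0 ^ 0 * x1 ^ (e + v1) * x2 ^ (l + v2) = s • (x0 ^ n * x1 ^ v1 * x2 ^ v2) := by
          have : x0 ^ 0 * x1 ^ (e + v1) * x2 ^ (l + v2)
              = (x1 ^ e * x2 ^ l) * (x1 ^ v1 * x2 ^ v2) := by ring
          rw [this, R2, smul_mul_assoc]; congr 1; ring
        by_cases hs : s = 0
        · rw [hR, hs, zero_smul]; exact Dep.of_right_zero _
        have hv12 : (v1 : ZMod m) = v2 := by
          have := hz'; push_cast at this
          rw [hel] at this
          exact add_left_cancel this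
        have hwt : (b0:ℤ) = n + (q * v2 - p * v1) := by
          push_cast at hw; rw [hn]; linarith
        by_cases hv : (p:ℤ) * v1 ≤ q * v2
        · have hna : n ≤ b0 := by
            have : (n:ℤ) ≤ b0 := by linarith
            exact_mod_cast this
          obtain ⟨a', rfl⟩ := Nat.exists_eq_add_of_le hna
          have hih := ih a' 0 0 0 v1 v2 (by omega)
            (by push_cast at hwt ⊢; linarith) (by simpa using (sub_eq_zero.2 hv12.symm).symm)
          obtain ⟨α, β, hαβ, hh⟩ := hih
          rw [hR]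
          refine ⟨α * s, β, ?_, ?_⟩
          · rcases hαβ with h' | h'
            · exact Or.inl (mul_ne_zero h' hs)
            · exact Or.inr h'
          · simp only [Algebra.smul_def, map_mul] at hh ⊢
            linear_combination (algebraMap k A s * x0 ^ n) * hh
        · push Not at hv
          have han : b0 ≤ n := by
            have : (b0:ℤ) ≤ n := by linarith
            exact_mod_cast this
          obtain ⟨z, rfl⟩ := Nat.exists_eq_add_of_le han
          have hz0 : z ≠ 0 := by
            intro hz0; subst hz0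
            push_cast at hwt; linarith
          have hzero := R3 z v1 v2 (fun h => hz0 h.1) (by push_cast at hwt ⊢; linarith) hv12
          rw [hR]
          have : x0 ^ (b0 + z) * x1 ^ v1 * x2 ^ v2 = x0 ^ b0 * (x0 ^ z * x1 ^ v1 * x2 ^ v2) := by
            ring
          rw [this, hzero, mul_zero, smul_zero]
          exact Dep.of_right_zero _
      · -- L = (b0, 0, b2), R = (0, b1', 0): everything is zero
        simp only [Nat.cast_zero, mul_zero, sub_zero, add_zero] at hw
        have t1 : (0:ℤ) ≤ p * b1' := by positivity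
        have t2 : (0:ℤ) ≤ q * b2 := by positivity
        have t3 : (0:ℤ) ≤ b0 := Int.natCast_nonneg _
        have hb0 : b0 = 0 := by
          have : (b0:ℤ) = 0 := by linarith
          exact_mod_cast this
        have hb2 : b2 = 0 := by
          have : (q:ℤ) * b2 = 0 := by linarith
          rcases mul_eq_zero.1 this with h | h
          · linarith
          · exact_mod_cast h
        have hb1' : b1' = 0 := by
          have : (p:ℤ) * b1' = 0 := by linarith
          rcases mul_eq_zero.1 this with h | h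
          · linarith
          · exact_mod_cast h
        subst hb0 hb2 hb1'
        exact Dep.of_eq _
      · -- case (B): L = (b0, b1, 0), R = (0, 0, b2')
        simp only [Nat.cast_zero, mul_zero, sub_zero, add_zero, zero_sub, zero_add] at hw hz
        by_cases hb2 : b2' = 0
        · subst hb2
          refine Hone b0 b1 0 ?_ ?_
          · push_cast at hw ⊢; linarith
          · have := hz; simp only [Nat.cast_zero] at this
            rw [neg_eq_zero] at this; rw [this]; simp
        · have h1 : (q:ℤ) * 1 ≤ q * b2' :=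
            mul_le_mul_of_nonneg_left (by exact_mod_cast Nat.one_le_iff_ne_zero.2 hb2) hqz.le
          have h2 : (0:ℤ) ≤ p * b1 := by positivity
          have hNb : N ≤ b0 := by
            have : (N:ℤ) ≤ b0 := by linarith
            exact_mod_cast this
          rw [pow_eq_zero_of_le hNb R1, zero_mul, zero_mul]; exact Dep.of_left_zero _
      · -- R = 1
        simp only [Nat.cast_zero, mul_zero, sub_zero, add_zero] at hw hz
        refine Hone b0 b1 b2 hw ?_
        have := sub_eq_zero.1 hz; exact this.symm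
    intro a u1 u2 a' u1' u2' hD hw hz
    obtain ⟨c0, b0, b0', rfl, rfl, h0⟩ := exists_split a a'
    obtain ⟨c1, b1, b1', rfl, rfl, h1⟩ := exists_split u1 u1'
    obtain ⟨c2, b2, b2', rfl, rfl, h2⟩ := exists_split u2 u2'
    have key : Dep k (x0 ^ b0 * x1 ^ b1 * x2 ^ b2) (x0 ^ b0' * x1 ^ b1' * x2 ^ b2') := by
      have hw' : (b0:ℤ) - p * b1 + q * b2 = b0' - p * b1' + q * b2' := by
        push_cast at hw; linarith
      have hz' : (b2 : ZMod m) - b1 = b2' - b1' := by
        push_cast at hz; linear_combination hz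
      rcases h0 with rfl | rfl
      · refine (DS b0' b1' b2' b1 b2 h1.symm h2.symm (by omega) ?_ hz'.symm).symm
        simp only [Nat.cast_zero, zero_sub] at hw'; linarith
      · refine DS b0 b1 b2 b1' b2' h1 h2 (by omega) ?_ hz'
        simp only [Nat.cast_zero, zero_sub] at hw'; linarith
    have := key.mul_left (x0 ^ c0 * x1 ^ c1 * x2 ^ c2)
    convert this using 1 <;> ring

end Groth.Agent.Lib.Helper25.HJRank
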