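import Groth.Agent.Lib.Helper25.HJRank2
import Groth.Agent.Lib.Helper25.HJRank3

set_option autoImplicit false

namespace Groth.Agent.Lib.Helper25.HJRank

open W4c2invhilbsl2 MvPolynomial

lemma finsupp_eq (d : Fin 3 →₀ ℕ) :
    d = Finsupp.single 0 (d 0) + Finsupp.single 1 (d 1) + Finsupp.single 2 (d 2) := by
  ext i
  fin_cases i <;> simp

lemma weight_triple (p q m : ℕ) (a u1 u2 : ℕ) :
    Finsupp.weight (wt3 p q m)
      (Finsupp.single 0 a + Finsupp.single 1 u1 + Finsupp.single 2 u2)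
      = ((a : ℤ) - p * u1 + q * u2, (u2 : ZMod m) - u1) := by
  simp only [map_add, Finsupp.weight_single]
  simp only [wt3, Matrix.cons_val_zero, Matrix.cons_val_one, Matrix.cons_val_two,
    Matrix.head_cons, Matrix.tail_cons]
  ext
  · simp; ring
  · simp; ring

lemma weight_wt3 (p q m : ℕ) (d : Fin 3 →₀ ℕ) :
    Finsupp.weight (wt3 p q m) d = ((d 0 : ℤ) - p * d 1 + q * d 2, (d 2 : ZMod m) - d 1) := by
  conv_lhs => rw [finsupp_eq d]
  exact weight_triple p q m _ _ _

lemma monomial_triple (k : Type*) [CommRing k] (a u1 u2 : ℕ) :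
    (monomial (Finsupp.single 0 a + Finsupp.single 1 u1 + Finsupp.single 2 u2) (1:k)
      : MvPolynomial (Fin 3) k) = X 0 ^ a * X 1 ^ u1 * X 2 ^ u2 := by
  simp only [X_pow_eq_monomial, monomial_mul, mul_one]

lemma monomial_eq_prod (k : Type*) [CommRing k] (d : Fin 3 →₀ ℕ) :
    (monomial d (1:k) : MvPolynomial (Fin 3) k) = X 0 ^ d 0 * X 1 ^ d 1 * X 2 ^ d 2 := by
  conv_lhs => rw [finsupp_eq d]
  exact monomial_triple k _ _ _

theorem rank_piece_le_one (k : Type*) [Field k] (p q m : ℕ) (hp : 0 < p) (hpq : p < q)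
    (hm : 0 < m) (c : List ℤ) (hc : IsHJDigits p q m c) (i : ℕ) (hi : 1 ≤ i)
    (hir : i ≤ c.length) (s : k) (ν : ℤ × ZMod m) :
    Module.rank k (piece k (wt3 p q m) (idealL k p q m c i s) ν) ≤ 1 := by
  obtain ⟨hN, hn, hel, hl, hF2⟩ := arith p q m hp hpq hm c hc i hi hir
  set L := idealL k p q m c i s with hL
  have hmem1 : (X 0 ^ (nN p q m c (i - 1)).toNat : MvPolynomial (Fin 3) k) ∈ L :=
    Ideal.mem_sup_left (Ideal.subset_span (Set.mem_insert _ _))
  have hmem2 : (C s * X 0 ^ (nN p q m c i).toNat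
      - X 1 ^ (eE p q m c i).toNat * X 2 ^ (lL p q m c i).toNat : MvPolynomial (Fin 3) k) ∈ L :=
    Ideal.mem_sup_left (Ideal.subset_span (Set.mem_insert_of_mem _ rfl))
  have R1 : (Ideal.Quotient.mk L (X 0)) ^ (nN p q m c (i - 1)).toNat = 0 := by
    rw [← map_pow]; exact Ideal.Quotient.eq_zero_iff_mem.2 hmem1
  have R2 : (Ideal.Quotient.mk L (X 1)) ^ (eE p q m c i).toNat
      * (Ideal.Quotient.mk L (X 2)) ^ (lL p q m c i).toNat
      = s • (Ideal.Quotient.mk L (X 0)) ^ (nN p q m c i).toNat := by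
    have := Ideal.Quotient.eq_zero_iff_mem.2 hmem2
    rw [map_sub, sub_eq_zero, C_mul', ← Ideal.Quotient.mkₐ_eq_mk k, map_smul] at this
    simp only [map_mul, map_pow, Ideal.Quotient.mkₐ_eq_mk] at this
    exact this.symm
  have R3 : ∀ a u1 u2 : ℕ, ¬ (a = 0 ∧ u1 = 0 ∧ u2 = 0) → (a:ℤ) - p * u1 + q * u2 = 0 →
      (u1 : ZMod m) = u2 →
      (Ideal.Quotient.mk L (X 0)) ^ a * (Ideal.Quotient.mk L (X 1)) ^ u1
        * (Ideal.Quotient.mk L (X 2)) ^ u2 = 0 := by
    intro a u1 u2 hne hw hz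
    have hmem : (monomial (Finsupp.single 0 a + Finsupp.single 1 u1 + Finsupp.single 2 u2) (1:k)
        : MvPolynomial (Fin 3) k) ∈ L := by
      refine Ideal.mem_sup_right (Ideal.subset_span ⟨_, ?_, ?_, rfl⟩)
      · intro h0
        apply hne
        have e0 := DFunLike.congr_fun h0 0
        have e1 := DFunLike.congr_fun h0 1
        have e2 := DFunLike.congr_fun h0 2
        simp at e0 e1 e2
        exact ⟨e0, e1, e2⟩
      · rw [weight_triple, hw, hz, sub_self]; rfl
    have := Ideal.Quotient.eq_zero_iff_mem.2 hmem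
    rw [monomial_triple] at this
    simpa only [map_mul, map_pow] using this
  have main := dep_main (k := k) p q m _ _ _ _ hp hpq hN hn hel hl hF2
    (Ideal.Quotient.mk L (X 0)) (Ideal.Quotient.mk L (X 1)) (Ideal.Quotient.mk L (X 2)) s R1 R2 R3
  -- the spanning set
  set S : Set (MvPolynomial (Fin 3) k ⧸ L) :=
    {x | ∃ d : Fin 3 →₀ ℕ, Finsupp.weight (wt3 p q m) d = ν ∧
      x = Ideal.Quotient.mk L (monomial d 1)} with hS
  have hle : piece k (wt3 p q m) L ν ≤ Submodule.span k S := by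
    rintro x ⟨φ, hφ, rfl⟩
    have hφ' : IsWeightedHomogeneous (wt3 p q m) φ ν := hφ
    show (Ideal.Quotient.mk L) φ ∈ Submodule.span k S
    rw [← MvPolynomial.support_sum_monomial_coeff φ, map_sum]
    refine Submodule.sum_mem _ ?_
    intro d hd
    have hcoef : coeff d φ ≠ 0 := MvPolynomial.mem_support_iff.1 hd
    have : (monomial d (coeff d φ) : MvPolynomial (Fin 3) k) = coeff d φ • monomial d 1 := by
      rw [smul_monomial, smul_eq_mul, mul_one]
    rw [this]
    have h2 : Ideal.Quotient.mk L (coeff d φ • monomial d 1)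
        = coeff d φ • Ideal.Quotient.mk L (monomial d 1) := by
      rw [← Ideal.Quotient.mkₐ_eq_mk k, map_smul]
    rw [h2]
    exact Submodule.smul_mem _ _ (Submodule.subset_span ⟨d, hφ' hcoef, rfl⟩)
  refine (Submodule.rank_mono hle).trans (rank_span_le_one S ?_)
  rintro x ⟨d, hd, rfl⟩ y ⟨d', hd', rfl⟩
  rw [weight_wt3] at hd hd'
  have hw : (d 0 : ℤ) - p * d 1 + q * d 2 = d' 0 - p * d' 1 + q * d' 2 := by
    rw [← hd'] at hd; exact (Prod.ext_iff.1 hd).1
  have hz : (d 2 : ZMod m) - d 1 = d' 2 - d' 1 := by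
    rw [← hd'] at hd; exact (Prod.ext_iff.1 hd).2
  have := main _ (d 0) (d 1) (d 2) (d' 0) (d' 1) (d' 2) le_rfl hw hz
  rw [monomial_eq_prod k d, monomial_eq_prod k d']
  simp only [map_mul, map_pow]
  exact this

end Groth.Agent.Lib.Helper25.HJRank
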