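import Mathlib

/-!
# Numerical (Hilbert–Mumford type) criterion for bilinear forms with values in a vector space
-/

namespace Groth.Agent.Lib.Helper25.HMNum

open Module

section Dim

variable {K : Type*} [Field K] {H : Type*} [AddCommGroup H] [Module K H] [FiniteDimensional K H]
variable {ι : Type*}

theorem finrank_biSup {Hs : ι → Submodule K H} (hind : iSupIndep Hs) (J : Finset ι) :
    finrank K ↥(⨆ i ∈ J, Hs i) = ∑ i ∈ J, finrank K (Hs i) := by
  classical
  induction J using Finset.induction_on with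
  | empty => simp
  | insert j J hj ih =>
    rw [Finset.sum_insert hj, Finset.iSup_insert]
    have hdisj : Disjoint (Hs j) (⨆ i ∈ J, Hs i) :=
      hind.disjoint_biSup (y := (↑J : Set ι)) (by simpa using hj)
    have h := Submodule.finrank_sup_add_finrank_inf_eq (Hs j) (⨆ i ∈ J, Hs i)
    rw [hdisj.eq_bot, finrank_bot, add_zero] at h
    rw [h, ih]

theorem internal_three (A B C : Submodule K H) (h1 : Disjoint A B) (h2 : Disjoint (A ⊔ B) C)
    (h3 : A ⊔ B ⊔ C = ⊤) : DirectSum.IsInternal ![A, B, C] := by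
  apply DirectSum.isInternal_submodule_of_iSupIndep_of_iSup_eq_top
  · intro i
    fin_cases i
    · refine (h1.disjoint_sup_right_of_disjoint_sup_left h2).mono_right ?_
      refine iSup₂_le fun j hj => ?_
      fin_cases j
      · exact absurd rfl hj
      · exact le_sup_left
      · exact le_sup_right
    · have h1' : Disjoint B A := h1.symm
      have h2' : Disjoint (B ⊔ A) C := by rwa [sup_comm]
      refine (h1'.disjoint_sup_right_of_disjoint_sup_left h2').mono_right ?_
      refine iSup₂_le fun j hj => ?_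
      fin_cases j
      · exact le_sup_left
      · exact absurd rfl hj
      · exact le_sup_right
    · refine h2.symm.mono_right ?_
      refine iSup₂_le fun j hj => ?_
      fin_cases j
      · exact le_sup_left
      · exact le_sup_right
      · exact absurd rfl hj
  · rw [eq_top_iff, ← h3]
    refine sup_le (sup_le ?_ ?_) ?_
    · exact le_iSup (![A, B, C]) 0
    · exact le_iSup (![A, B, C]) 1
    · exact le_iSup (![A, B, C]) 2

end Dim

section LayerCake

theorem clamp_sum (m : ℤ) (T : ℕ) :
    ∑ t ∈ Finset.range T, ((if (t : ℤ) < m then (1 : ℤ) else 0) -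
      (if m ≤ -((t + 1 : ℕ) : ℤ) then 1 else 0)) = max (min m T) (-T) := by
  induction T with
  | zero =>
    rw [Finset.sum_range_zero]
    push_cast
    omega
  | succ T ih =>
    rw [Finset.sum_range_succ, ih]
    push_cast
    split_ifs <;> omega

theorem layer_cake {ι : Type*} [Fintype ι] (m : ι → ℤ) (d : ι → ℤ) (T : ℕ)
    (hT : ∀ i, -(T : ℤ) ≤ m i ∧ m i ≤ T) :
    ∑ i, m i * d i = ∑ t ∈ Finset.range T,
      ((∑ i, if (t : ℤ) < m i then d i else 0) -
        (∑ i, if m i ≤ -((t + 1 : ℕ) : ℤ) then d i else 0)) := by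
  have h1 : ∀ i, ∑ t ∈ Finset.range T, ((if (t : ℤ) < m i then d i else 0) -
      (if m i ≤ -((t + 1 : ℕ) : ℤ) then d i else 0)) = m i * d i := by
    intro i
    have h := clamp_sum (m i) T
    rw [show max (min (m i) (T : ℤ)) (-(T : ℤ)) = m i from by have := hT i; omega] at h
    calc _ = ∑ t ∈ Finset.range T, ((if (t : ℤ) < m i then (1 : ℤ) else 0) -
          (if m i ≤ -((t + 1 : ℕ) : ℤ) then 1 else 0)) * d i := by
          refine Finset.sum_congr rfl fun t _ => ?_
          split_ifs <;> ring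
      _ = m i * d i := by rw [← Finset.sum_mul, h]
  simp_rw [← Finset.sum_sub_distrib]
  rw [Finset.sum_comm]
  exact Finset.sum_congr rfl fun i _ => (h1 i).symm

theorem exists_bound {ι : Type*} [Fintype ι] (m : ι → ℤ) :
    ∃ T : ℕ, ∀ i, -(T : ℤ) < m i ∧ m i < T := by
  refine ⟨∑ i, (m i).natAbs + 1, fun i => ?_⟩
  have h1 : (m i).natAbs ≤ ∑ i, (m i).natAbs :=
    Finset.single_le_sum (f := fun i => (m i).natAbs) (fun _ _ => Nat.zero_le _)
      (Finset.mem_univ i)
  generalize (∑ i, (m i).natAbs) = S at h1 ⊢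
  omega

theorem lc_eq {ι : Type*} [Fintype ι] (m : ι → ℤ) (d : ι → ℤ)
    (hsum : ∑ i, m i * d i = 0)
    (hle : ∀ t : ℕ, (∑ i, if m i ≤ -((t + 1 : ℕ) : ℤ) then d i else 0) ≤
      ∑ i, if (t : ℤ) < m i then d i else 0) :
    ∀ t : ℕ, (∑ i, if (t : ℤ) < m i then d i else 0) =
      ∑ i, if m i ≤ -((t + 1 : ℕ) : ℤ) then d i else 0 := by
  classical
  obtain ⟨T, hT⟩ := exists_bound m
  have hlc := layer_cake m d T (fun i => ⟨(hT i).1.le, (hT i).2.le⟩)
  rw [hsum] at hlc
  have hz := (Finset.sum_eq_zero_iff_of_nonneg (fun t _ => sub_nonneg.2 (hle t))).1 hlc.symm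
  intro t
  by_cases ht : t < T
  · have := hz t (Finset.mem_range.2 ht)
    linarith
  · have hA : ∑ i, (if (t : ℤ) < m i then d i else 0) = 0 :=
      Finset.sum_eq_zero fun i _ => if_neg (by have := hT i; omega)
    have hB : ∑ i, (if m i ≤ -((t + 1 : ℕ) : ℤ) then d i else 0) = 0 :=
      Finset.sum_eq_zero fun i _ => if_neg (by have := hT i; push_cast; omega)
    rw [hA, hB]

end LayerCake

end Groth.Agent.Lib.Helper25.HMNum
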