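import Mathlib
import Groth.Agent.Lib.Helper25.HMNum

namespace Groth.Agent.Lib.Helper25.HMNum

open Module

section Form

variable {K : Type*} [Field K] {W : Type*} [AddCommGroup W] [Module K W]
  {H : Type*} [AddCommGroup H] [Module K H] [FiniteDimensional K H]
  (s : W →ₗ[K] W) (q : H →ₗ[K] H →ₗ[K] W) (hq : ∀ x y : H, q x y = s (q y x))

/-- orthogonal of a subspace -/
def perp (V : Submodule K H) : Submodule K H := ⨅ (y : H) (_ : y ∈ V), LinearMap.ker (q.flip y)

theorem mem_perp {V : Submodule K H} {x : H} : x ∈ perp q V ↔ ∀ y ∈ V, q x y = 0 := by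
  simp [perp, Submodule.mem_iInf]

include hq in
theorem q_comm_zero {x y : H} (h : q y x = 0) : q x y = 0 := by rw [hq x y, h, map_zero]

theorem q_zero_biSup {ι : Type*} (Hs : ι → Submodule K H) (J J' : Finset ι)
    (h : ∀ i ∈ J, ∀ j ∈ J', ∀ x ∈ Hs i, ∀ y ∈ Hs j, q x y = 0) :
    ∀ x ∈ ⨆ i ∈ J, Hs i, ∀ y ∈ ⨆ j ∈ J', Hs j, q x y = 0 := by
  intro x hx y hy
  have h1 : (⨆ i ∈ J, Hs i) ≤ LinearMap.ker (q.flip y) := by
    refine iSup₂_le fun i hi x hx => ?_
    rw [LinearMap.mem_ker, LinearMap.flip_apply]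
    have h2 : (⨆ j ∈ J', Hs j) ≤ LinearMap.ker (q x) :=
      iSup₂_le fun j hj y hy => LinearMap.mem_ker.2 (h i hi j hj x hx y hy)
    exact LinearMap.mem_ker.1 (h2 hy)
  have := h1 hx
  rwa [LinearMap.mem_ker, LinearMap.flip_apply] at this

/-- partial sums by weight -/
noncomputable def U {ι : Type*} [Fintype ι] (Hs : ι → Submodule K H) (m : ι → ℤ) (t : ℤ) :
    Submodule K H := by
  classical
  exact ⨆ i ∈ Finset.univ.filter (fun i => m i ≤ t), Hs i

theorem dims {ι : Type*} [Fintype ι] [DecidableEq ι] (Hs : ι → Submodule K H) (m : ι → ℤ)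
    (hint : DirectSum.IsInternal Hs) :
    (∀ t : ℤ, (finrank K ↥(U Hs m t) : ℤ) =
      ∑ i, if m i ≤ t then (finrank K (Hs i) : ℤ) else 0) ∧
    ((finrank K H : ℤ) = ∑ i, (finrank K (Hs i) : ℤ)) := by
  classical
  have hind := hint.submodule_iSupIndep
  have htop := hint.submodule_iSup_eq_top
  constructor
  · intro t
    unfold U
    rw [finrank_biSup hind]
    push_cast
    rw [Finset.sum_filter]
  · have h := finrank_biSup hind (Finset.univ : Finset ι)
    have h2 : (⨆ i ∈ (Finset.univ : Finset ι), Hs i) = ⊤ := by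
      rw [← htop]
      simp
    rw [h2, finrank_top] at h
    rw [h]
    push_cast
    rfl

theorem split_sum {ι : Type*} [Fintype ι] (m : ι → ℤ) (d : ι → ℤ) (t : ℤ) :
    (∑ i, if m i ≤ t then d i else 0) + (∑ i, if t < m i then d i else 0) = ∑ i, d i := by
  rw [← Finset.sum_add_distrib]
  refine Finset.sum_congr rfl fun i _ => ?_
  by_cases h : m i ≤ t
  · rw [if_pos h, if_neg (not_lt.2 h), add_zero]
  · rw [if_neg h, if_pos (lt_of_not_ge h), zero_add]

include hq in
/-- key orthogonality: if weights `≤ a` and `≤ b` pair to zero and `a ≤ b`, then `U a` is isotropic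
and `U b ≤ (U a)^⊥`. -/
theorem U_orth {ι : Type*} [Fintype ι] (Hs : ι → Submodule K H) (m : ι → ℤ) (a b : ℤ)
    (hab : a ≤ b)
    (h : ∀ i j, m i ≤ a → m j ≤ b → ∀ x ∈ Hs i, ∀ y ∈ Hs j, q x y = 0) :
    (∀ x ∈ U Hs m a, ∀ y ∈ U Hs m a, q x y = 0) ∧ U Hs m b ≤ perp q (U Hs m a) := by
  classical
  constructor
  · unfold U
    apply q_zero_biSup
    intro i hi j hj x hx y hy
    rw [Finset.mem_filter] at hi hj
    exact h i j hi.2 (hj.2.trans hab) x hx y hy
  · intro x hx
    rw [mem_perp]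
    intro y hy
    have key : ∀ y ∈ U Hs m a, ∀ x ∈ U Hs m b, q y x = 0 := by
      unfold U
      apply q_zero_biSup
      intro i hi j hj x hx y hy
      rw [Finset.mem_filter] at hi hj
      exact h i j hi.2 hj.2 x hx y hy
    exact q_comm_zero s q hq (key y hy x hx)

end Form

end Groth.Agent.Lib.Helper25.HMNum
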