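import Mathlib
import Groth.Agent.Lib.Helper25.HMNum2

namespace Groth.Agent.Lib.Helper25.HMNum

open Module

section Arith

variable {ι : Type*} [Fintype ι]

/-- total dimension of weights `≤ -t` -/
def Bsum (m d : ι → ℤ) (t : ℕ) : ℤ := ∑ i, if m i ≤ -(t : ℤ) then d i else 0

/-- total dimension of weights `> t` -/
def Asum (m d : ι → ℤ) (t : ℕ) : ℤ := ∑ i, if (t : ℤ) < m i then d i else 0

variable (m d : ι → ℤ) (hd0 : ∀ i, 0 ≤ d i)

include hd0 in
theorem Bsum_anti (t : ℕ) : Bsum m d (t + 1) ≤ Bsum m d t := by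
  unfold Bsum
  refine Finset.sum_le_sum fun i _ => ?_
  split_ifs with h1 h2
  · exact le_refl _
  · exfalso
    push_cast at h1
    omega
  · exact hd0 i
  · exact le_refl _

include hd0 in
theorem Asum_nonneg (t : ℕ) : 0 ≤ Asum m d t := by
  unfold Asum
  exact Finset.sum_nonneg fun i _ => by split_ifs <;> simp [hd0]

theorem Bsum_large : ∃ T : ℕ, Bsum m d T = 0 := by
  obtain ⟨T, hT⟩ := exists_bound m
  refine ⟨T, ?_⟩
  unfold Bsum
  exact Finset.sum_eq_zero fun i _ => if_neg (by have := hT i; omega)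

theorem Bsum_add_Asum_zero : Bsum m d 0 + Asum m d 0 = ∑ i, d i := by
  have := split_sum m d 0
  unfold Bsum Asum
  simpa using this

include hd0 in
theorem le_Asum_zero (i₀ : ι) (h : 0 < m i₀) : d i₀ ≤ Asum m d 0 := by
  unfold Asum
  have := Finset.single_le_sum (f := fun i => if ((0 : ℕ) : ℤ) < m i then d i else 0)
    (fun i _ => by split_ifs <;> simp [hd0]) (Finset.mem_univ i₀)
  simpa [h] using this

include hd0 in
theorem le_Bsum_one (i₀ : ι) (h : m i₀ < 0) : d i₀ ≤ Bsum m d 1 := by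
  unfold Bsum
  have h' : m i₀ ≤ -((1 : ℕ) : ℤ) := by push_cast; omega
  have := Finset.single_le_sum (f := fun i => if m i ≤ -((1 : ℕ) : ℤ) then d i else 0)
    (fun i _ => by split_ifs <;> simp [hd0]) (Finset.mem_univ i₀)
  simp only [if_pos h'] at this
  exact this

include hd0 in
theorem ss_arith (hsum : ∑ i, m i * d i = 0)
    (hBA : ∀ t : ℕ, Bsum m d t ≤ Asum m d t) : ∀ i, d i = 0 := by
  have hle : ∀ t : ℕ, Bsum m d (t + 1) ≤ Asum m d t := fun t =>
    (Bsum_anti m d hd0 t).trans (hBA t)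
  have hAB : ∀ t : ℕ, Asum m d t = Bsum m d (t + 1) := lc_eq m d hsum hle
  have hBB : ∀ t : ℕ, Bsum m d (t + 1) = Bsum m d t := fun t =>
    le_antisymm (Bsum_anti m d hd0 t) ((hBA t).trans (hAB t).le)
  have hB0 : ∀ t : ℕ, Bsum m d t = Bsum m d 0 := by
    intro t
    induction t with
    | zero => rfl
    | succ t ih => rw [hBB t, ih]
  obtain ⟨T, hT⟩ := Bsum_large m d
  have hB : Bsum m d 0 = 0 := by rw [← hB0 T, hT]
  have hA : Asum m d 0 = 0 := by rw [hAB 0, hBB 0, hB]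
  have hS : ∑ i, d i = 0 := by rw [← Bsum_add_Asum_zero, hB, hA, add_zero]
  intro i
  have := Finset.single_le_sum (f := d) (fun i _ => hd0 i) (Finset.mem_univ i)
  have h0 := hd0 i
  omega

include hd0 in
theorem st_arith (hsum : ∑ i, m i * d i = 0)
    (hle : ∀ t : ℕ, Bsum m d (t + 1) ≤ Asum m d t)
    (hstrict : ∀ t : ℕ, Bsum m d (t + 1) ≠ 0 → Bsum m d (t + 1) < Asum m d t) :
    ∀ i, m i ≠ 0 → d i = 0 := by
  have hAB : ∀ t : ℕ, Asum m d t = Bsum m d (t + 1) := lc_eq m d hsum hle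
  have hB : ∀ t : ℕ, Bsum m d (t + 1) = 0 := by
    intro t
    by_contra h
    have := hstrict t h
    rw [hAB t] at this
    exact lt_irrefl _ this
  intro i hi
  have h0 := hd0 i
  rcases lt_or_gt_of_ne hi with hneg | hpos
  · have := le_Bsum_one m d hd0 i hneg
    rw [hB 0] at this
    omega
  · have := le_Asum_zero m d hd0 i hpos
    rw [hAB 0, hB 0] at this
    omega

end Arith

section Forward

variable {K : Type*} [Field K] {W : Type*} [AddCommGroup W] [Module K W]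
  {H : Type*} [AddCommGroup H] [Module K H] [FiniteDimensional K H]
  (s : W →ₗ[K] W) (q : H →ₗ[K] H →ₗ[K] W) (hq : ∀ x y : H, q x y = s (q y x))

include hq in
theorem ss_forward
    (hSS : ∀ V : Submodule K H, V ≠ ⊥ → (∀ x ∈ V, ∀ y ∈ V, q x y = 0) →
      finrank K V + finrank K (perp q V) ≤ finrank K H)
    {ι : Type*} [Fintype ι] [DecidableEq ι] (Hs : ι → Submodule K H) (m : ι → ℤ)
    (hint : DirectSum.IsInternal Hs) (hsum : ∑ i, m i * (finrank K (Hs i) : ℤ) = 0)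
    (hne : ∃ i, m i ≠ 0 ∧ Hs i ≠ ⊥) :
    ∃ i j, (∃ x ∈ Hs i, ∃ y ∈ Hs j, q x y ≠ 0) ∧ m i + m j ≤ 0 := by
  classical
  by_contra hcon
  push Not at hcon
  have horth : ∀ i j, m i + m j ≤ 0 → ∀ x ∈ Hs i, ∀ y ∈ Hs j, q x y = 0 := by
    intro i j hij x hx y hy
    by_contra hne'
    exact absurd (hcon i j ⟨x, hx, y, hy, hne'⟩) (not_lt.2 hij)
  obtain ⟨hdimU, hn⟩ := dims Hs m hint
  have hd0 : ∀ i, (0 : ℤ) ≤ (finrank K (Hs i) : ℤ) := fun i => Int.natCast_nonneg _
  have hBA : ∀ t : ℕ, Bsum m (fun i => (finrank K (Hs i) : ℤ)) t ≤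
      Asum m (fun i => (finrank K (Hs i) : ℤ)) t := by
    intro t
    obtain ⟨hiso, hle⟩ := U_orth s q hq Hs m (-(t : ℤ)) (t : ℤ) (by omega)
      (fun i j hi hj => horth i j (by omega))
    have hB : Bsum m (fun i => (finrank K (Hs i) : ℤ)) t =
        (finrank K ↥(U Hs m (-(t : ℤ))) : ℤ) := (hdimU _).symm
    by_cases hbot : U Hs m (-(t : ℤ)) = ⊥
    · rw [hB, hbot, finrank_bot]
      exact Asum_nonneg m _ hd0 t
    · have h1 := hSS _ hbot hiso
      have h2 : finrank K (U Hs m (t : ℤ)) ≤ finrank K (perp q (U Hs m (-(t : ℤ)))) :=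
        Submodule.finrank_mono hle
      have h3 : (finrank K (U Hs m (-(t : ℤ))) : ℤ) + (finrank K (U Hs m (t : ℤ)) : ℤ) ≤
          (finrank K H : ℤ) := by exact_mod_cast (by omega)
      rw [← hB, hdimU, hn] at h3
      have h4 := split_sum m (fun i => (finrank K (Hs i) : ℤ)) (t : ℤ)
      unfold Asum
      linarith
  have hzero := ss_arith m _ hd0 hsum hBA
  obtain ⟨i₀, -, hi₀⟩ := hne
  apply hi₀
  have : finrank K (Hs i₀) = 0 := by exact_mod_cast hzero i₀
  exact Submodule.finrank_eq_zero.1 this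

include hq in
theorem st_forward
    (hSt : ∀ V : Submodule K H, V ≠ ⊥ → (∀ x ∈ V, ∀ y ∈ V, q x y = 0) →
      finrank K V + finrank K (perp q V) < finrank K H)
    {ι : Type*} [Fintype ι] [DecidableEq ι] (Hs : ι → Submodule K H) (m : ι → ℤ)
    (hint : DirectSum.IsInternal Hs) (hsum : ∑ i, m i * (finrank K (Hs i) : ℤ) = 0)
    (hne : ∃ i, m i ≠ 0 ∧ Hs i ≠ ⊥) :
    ∃ i j, (∃ x ∈ Hs i, ∃ y ∈ Hs j, q x y ≠ 0) ∧ m i + m j < 0 := by
  classical
  by_contra hcon
  push Not at hcon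
  have horth : ∀ i j, m i + m j < 0 → ∀ x ∈ Hs i, ∀ y ∈ Hs j, q x y = 0 := by
    intro i j hij x hx y hy
    by_contra hne'
    exact absurd (hcon i j ⟨x, hx, y, hy, hne'⟩) (not_le.2 hij)
  obtain ⟨hdimU, hn⟩ := dims Hs m hint
  have hd0 : ∀ i, (0 : ℤ) ≤ (finrank K (Hs i) : ℤ) := fun i => Int.natCast_nonneg _
  have hmain : ∀ t : ℕ, Bsum m (fun i => (finrank K (Hs i) : ℤ)) (t + 1) ≤
      Asum m (fun i => (finrank K (Hs i) : ℤ)) t ∧
      (Bsum m (fun i => (finrank K (Hs i) : ℤ)) (t + 1) ≠ 0 →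
        Bsum m (fun i => (finrank K (Hs i) : ℤ)) (t + 1) <
          Asum m (fun i => (finrank K (Hs i) : ℤ)) t) := by
    intro t
    obtain ⟨hiso, hle⟩ := U_orth s q hq Hs m (-((t + 1 : ℕ) : ℤ)) (t : ℤ)
      (by push_cast; omega)
      (fun i j hi hj => horth i j (by push_cast at hi; omega))
    have hB : Bsum m (fun i => (finrank K (Hs i) : ℤ)) (t + 1) =
        (finrank K ↥(U Hs m (-((t + 1 : ℕ) : ℤ))) : ℤ) := (hdimU _).symm
    by_cases hbot : U Hs m (-((t + 1 : ℕ) : ℤ)) = ⊥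
    · rw [hB, hbot, finrank_bot]
      exact ⟨Asum_nonneg m _ hd0 t, fun h => absurd rfl h⟩
    · have h1 := hSt _ hbot hiso
      have h2 : finrank K (U Hs m (t : ℤ)) ≤
          finrank K (perp q (U Hs m (-((t + 1 : ℕ) : ℤ)))) := Submodule.finrank_mono hle
      have h3 : (finrank K (U Hs m (-((t + 1 : ℕ) : ℤ))) : ℤ) +
          (finrank K (U Hs m (t : ℤ)) : ℤ) < (finrank K H : ℤ) := by exact_mod_cast (by omega)
      rw [← hB, hdimU, hn] at h3
      have h4 := split_sum m (fun i => (finrank K (Hs i) : ℤ)) (t : ℤ)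
      have h5 : Bsum m (fun i => (finrank K (Hs i) : ℤ)) (t + 1) <
          Asum m (fun i => (finrank K (Hs i) : ℤ)) t := by
        unfold Asum
        linarith
      exact ⟨h5.le, fun _ => h5⟩
  have hzero := st_arith m _ hd0 hsum (fun t => (hmain t).1) (fun t => (hmain t).2)
  obtain ⟨i₀, hm, hi₀⟩ := hne
  apply hi₀
  have : finrank K (Hs i₀) = 0 := by exact_mod_cast hzero i₀ hm
  exact Submodule.finrank_eq_zero.1 this

end Forward

end Groth.Agent.Lib.Helper25.HMNum
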