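import Mathlib
import Groth.Agent.Lib.Helper25.HMNum3

namespace Groth.Agent.Lib.Helper25.HMNum

open Module

section Reverse

variable {K : Type*} [Field K] {W : Type*} [AddCommGroup W] [Module K W]
  {H : Type*} [AddCommGroup H] [Module K H] [FiniteDimensional K H]
  (s : W →ₗ[K] W) (q : H →ₗ[K] H →ₗ[K] W) (hq : ∀ x y : H, q x y = s (q y x))

theorem decomp (V : Submodule K H) (hiso : ∀ x ∈ V, ∀ y ∈ V, q x y = 0) :
    ∃ C' D : Submodule K H, Disjoint V C' ∧ Disjoint (V ⊔ C') D ∧ V ⊔ C' ⊔ D = ⊤ ∧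
      C' ≤ perp q V ∧ finrank K (perp q V) = finrank K V + finrank K C' ∧
      finrank K H = finrank K (perp q V) + finrank K D := by
  have hVP : V ≤ perp q V := fun x hx => (mem_perp q).2 (fun y hy => hiso x hx y hy)
  obtain ⟨C, hC⟩ := Submodule.exists_isCompl V
  obtain ⟨D, hD⟩ := Submodule.exists_isCompl (perp q V)
  have h1 : Disjoint V (C ⊓ perp q V) := hC.disjoint.mono_right inf_le_left
  have hsup : V ⊔ C ⊓ perp q V = perp q V := by
    rw [← sup_inf_assoc_of_le C hVP, hC.sup_eq_top, top_inf_eq]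
  refine ⟨C ⊓ perp q V, D, h1, ?_, ?_, inf_le_right, ?_, ?_⟩
  · rw [hsup]; exact hD.disjoint
  · rw [hsup]; exact hD.sup_eq_top
  · have := Submodule.finrank_sup_add_finrank_inf_eq V (C ⊓ perp q V)
    rw [h1.eq_bot, finrank_bot, add_zero, hsup] at this
    exact this
  · have := Submodule.finrank_sup_add_finrank_inf_eq (perp q V) D
    rw [hD.disjoint.eq_bot, finrank_bot, add_zero, hD.sup_eq_top, finrank_top] at this
    exact this

theorem three_cases (P : Fin 3 → Fin 3 → Prop) (h00 : P 0 0) (h01 : P 0 1) (h02 : P 0 2)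
    (h10 : P 1 0) (h11 : P 1 1) (h12 : P 1 2) (h20 : P 2 0) (h21 : P 2 1) (h22 : P 2 2) :
    ∀ i j, P i j := by
  intro i j
  fin_cases i <;> fin_cases j <;> assumption

include hq in
theorem ss_reverse (hq0 : q ≠ 0)
    (hNum : ∀ (Hs : Fin 3 → Submodule K H) (m : Fin 3 → ℤ), DirectSum.IsInternal Hs →
      (∑ i, m i * (finrank K (Hs i) : ℤ)) = 0 → (∃ i, m i ≠ 0 ∧ Hs i ≠ ⊥) →
      ∃ i j, (∃ x ∈ Hs i, ∃ y ∈ Hs j, q x y ≠ 0) ∧ m i + m j ≤ 0)
    (V : Submodule K H) (hV : V ≠ ⊥) (hiso : ∀ x ∈ V, ∀ y ∈ V, q x y = 0) :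
    finrank K V + finrank K (perp q V) ≤ finrank K H := by
  obtain ⟨C', D, h1, h2, h3, hC'P, hdP, hdH⟩ := decomp q V hiso
  by_contra hcon
  push Not at hcon
  have hd1 : 0 < finrank K V := Nat.pos_of_ne_zero fun h => hV (Submodule.finrank_eq_zero.1 h)
  by_cases hdeg : finrank K C' = 0 ∧ finrank K D = 0
  · apply hq0
    have hVtop : V = ⊤ := Submodule.eq_top_of_finrank_eq (by omega)
    exact LinearMap.ext₂ fun x y =>
      hiso x (hVtop ▸ Submodule.mem_top) y (hVtop ▸ Submodule.mem_top)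
  have e1 : (0 : ℤ) < (finrank K V : ℤ) := by exact_mod_cast hd1
  have e2 : (0 : ℤ) ≤ (finrank K C' : ℤ) := Int.natCast_nonneg _
  have e3 : (0 : ℤ) ≤ (finrank K D : ℤ) := Int.natCast_nonneg _
  have e31 : (finrank K D : ℤ) + 1 ≤ (finrank K V : ℤ) := by omega
  have e23 : (0 : ℤ) < (finrank K C' : ℤ) + (finrank K D : ℤ) := by omega
  have hint := internal_three V C' D h1 h2 h3
  have hpos : (0 : ℤ) < (finrank K C' : ℤ) + ((finrank K C' : ℤ) + 1) * (finrank K D : ℤ) := by
    nlinarith [mul_nonneg e2 e3]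
  have hac : (0 : ℤ) < -((finrank K C' : ℤ) + ((finrank K C' : ℤ) + 1) * (finrank K D : ℤ)) +
      ((finrank K C' : ℤ) + 1) * (finrank K V : ℤ) := by
    nlinarith [mul_nonneg e2 (show (0 : ℤ) ≤ (finrank K V : ℤ) - (finrank K D : ℤ) - 1 by linarith)]
  have hc : (0 : ℤ) < ((finrank K C' : ℤ) + 1) * (finrank K V : ℤ) :=
    mul_pos (by linarith) e1
  obtain ⟨i, j, ⟨x, hx, y, hy, hxy⟩, hij⟩ := hNum ![V, C', D]
    ![-((finrank K C' : ℤ) + ((finrank K C' : ℤ) + 1) * (finrank K D : ℤ)), (finrank K V : ℤ),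
      ((finrank K C' : ℤ) + 1) * (finrank K V : ℤ)] hint
    (by
      rw [Fin.sum_univ_three]
      show -((finrank K C' : ℤ) + ((finrank K C' : ℤ) + 1) * (finrank K D : ℤ)) *
        (finrank K V : ℤ) + (finrank K V : ℤ) * (finrank K C' : ℤ) +
        ((finrank K C' : ℤ) + 1) * (finrank K V : ℤ) * (finrank K D : ℤ) = 0
      ring)
    ⟨0, by
      show -((finrank K C' : ℤ) + ((finrank K C' : ℤ) + 1) * (finrank K D : ℤ)) ≠ 0
      intro h; linarith, hV⟩
  have key : ∀ i j : Fin 3, ∀ x ∈ ![V, C', D] i, ∀ y ∈ ![V, C', D] j, q x y ≠ 0 →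
      0 < ![-((finrank K C' : ℤ) + ((finrank K C' : ℤ) + 1) * (finrank K D : ℤ)),
        (finrank K V : ℤ), ((finrank K C' : ℤ) + 1) * (finrank K V : ℤ)] i +
        ![-((finrank K C' : ℤ) + ((finrank K C' : ℤ) + 1) * (finrank K D : ℤ)),
        (finrank K V : ℤ), ((finrank K C' : ℤ) + 1) * (finrank K V : ℤ)] j := by
    apply three_cases
    · intro x hx y hy hxy
      exact absurd (hiso x hx y hy) hxy
    · intro x hx y hy hxy
      exact absurd (q_comm_zero s q hq ((mem_perp q).1 (hC'P hy) x hx)) hxy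
    · intro x hx y hy hxy
      exact hac
    · intro x hx y hy hxy
      exact absurd ((mem_perp q).1 (hC'P hx) y hy) hxy
    · intro x hx y hy hxy
      show (0 : ℤ) < (finrank K V : ℤ) + (finrank K V : ℤ)
      linarith
    · intro x hx y hy hxy
      show (0 : ℤ) < (finrank K V : ℤ) + ((finrank K C' : ℤ) + 1) * (finrank K V : ℤ)
      linarith
    · intro x hx y hy hxy
      show (0 : ℤ) < ((finrank K C' : ℤ) + 1) * (finrank K V : ℤ) +
        -((finrank K C' : ℤ) + ((finrank K C' : ℤ) + 1) * (finrank K D : ℤ))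
      linarith
    · intro x hx y hy hxy
      show (0 : ℤ) < ((finrank K C' : ℤ) + 1) * (finrank K V : ℤ) + (finrank K V : ℤ)
      linarith
    · intro x hx y hy hxy
      show (0 : ℤ) < ((finrank K C' : ℤ) + 1) * (finrank K V : ℤ) +
        ((finrank K C' : ℤ) + 1) * (finrank K V : ℤ)
      linarith
  exact absurd hij (not_le.2 (key i j x hx y hy hxy))

include hq in
theorem st_reverse (hq0 : q ≠ 0)
    (hNum : ∀ (Hs : Fin 3 → Submodule K H) (m : Fin 3 → ℤ), DirectSum.IsInternal Hs →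
      (∑ i, m i * (finrank K (Hs i) : ℤ)) = 0 → (∃ i, m i ≠ 0 ∧ Hs i ≠ ⊥) →
      ∃ i j, (∃ x ∈ Hs i, ∃ y ∈ Hs j, q x y ≠ 0) ∧ m i + m j < 0)
    (V : Submodule K H) (hV : V ≠ ⊥) (hiso : ∀ x ∈ V, ∀ y ∈ V, q x y = 0) :
    finrank K V + finrank K (perp q V) < finrank K H := by
  obtain ⟨C', D, h1, h2, h3, hC'P, hdP, hdH⟩ := decomp q V hiso
  by_contra hcon
  push Not at hcon
  have hd1 : 0 < finrank K V := Nat.pos_of_ne_zero fun h => hV (Submodule.finrank_eq_zero.1 h)
  by_cases hdeg : finrank K C' = 0 ∧ finrank K D = 0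
  · apply hq0
    have hVtop : V = ⊤ := Submodule.eq_top_of_finrank_eq (by omega)
    exact LinearMap.ext₂ fun x y =>
      hiso x (hVtop ▸ Submodule.mem_top) y (hVtop ▸ Submodule.mem_top)
  have e1 : (0 : ℤ) < (finrank K V : ℤ) := by exact_mod_cast hd1
  have e2 : (0 : ℤ) ≤ (finrank K C' : ℤ) := Int.natCast_nonneg _
  have e3 : (0 : ℤ) ≤ (finrank K D : ℤ) := Int.natCast_nonneg _
  have e31 : (finrank K D : ℤ) ≤ (finrank K V : ℤ) := by omega
  have hint := internal_three V C' D h1 h2 h3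
  by_cases hd3 : finrank K D = 0
  · -- D = ⊥
    have hD : D = ⊥ := Submodule.finrank_eq_zero.1 hd3
    have hd2 : finrank K C' ≠ 0 := fun h => hdeg ⟨h, hd3⟩
    obtain ⟨i, j, ⟨x, hx, y, hy, hxy⟩, hij⟩ := hNum ![V, C', D]
      ![-(finrank K C' : ℤ), (finrank K V : ℤ), 0] hint
      (by
        rw [Fin.sum_univ_three]
        show -(finrank K C' : ℤ) * (finrank K V : ℤ) + (finrank K V : ℤ) * (finrank K C' : ℤ) +
          0 * (finrank K D : ℤ) = 0
        ring)
      ⟨0, by
        show -(finrank K C' : ℤ) ≠ 0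
        intro h
        have : (finrank K C' : ℤ) = 0 := by linarith
        exact hd2 (by exact_mod_cast this), hV⟩
    have key : ∀ i j : Fin 3, ∀ x ∈ ![V, C', D] i, ∀ y ∈ ![V, C', D] j, q x y ≠ 0 →
        0 ≤ ![-(finrank K C' : ℤ), (finrank K V : ℤ), 0] i +
          ![-(finrank K C' : ℤ), (finrank K V : ℤ), 0] j := by
      apply three_cases
      · intro x hx y hy hxy
        exact absurd (hiso x hx y hy) hxy
      · intro x hx y hy hxy
        exact absurd (q_comm_zero s q hq ((mem_perp q).1 (hC'P hy) x hx)) hxy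
      · intro x hx y hy hxy
        have hy' : y ∈ D := hy
        rw [hD, Submodule.mem_bot] at hy'
        rw [hy', map_zero] at hxy
        exact absurd rfl hxy
      · intro x hx y hy hxy
        exact absurd ((mem_perp q).1 (hC'P hx) y hy) hxy
      · intro x hx y hy hxy
        show (0 : ℤ) ≤ (finrank K V : ℤ) + (finrank K V : ℤ)
        linarith
      · intro x hx y hy hxy
        have hy' : y ∈ D := hy
        rw [hD, Submodule.mem_bot] at hy'
        rw [hy', map_zero] at hxy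
        exact absurd rfl hxy
      · intro x hx y hy hxy
        have hx' : x ∈ D := hx
        rw [hD, Submodule.mem_bot] at hx'
        rw [hx', map_zero, LinearMap.zero_apply] at hxy
        exact absurd rfl hxy
      · intro x hx y hy hxy
        have hx' : x ∈ D := hx
        rw [hD, Submodule.mem_bot] at hx'
        rw [hx', map_zero, LinearMap.zero_apply] at hxy
        exact absurd rfl hxy
      · intro x hx y hy hxy
        have hx' : x ∈ D := hx
        rw [hD, Submodule.mem_bot] at hx'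
        rw [hx', map_zero, LinearMap.zero_apply] at hxy
        exact absurd rfl hxy
    exact absurd hij (not_lt.2 (key i j x hx y hy hxy))
  · have hDne : D ≠ ⊥ := fun h => hd3 (by rw [h, finrank_bot])
    obtain ⟨i, j, ⟨x, hx, y, hy, hxy⟩, hij⟩ := hNum ![V, C', D]
      ![-(finrank K D : ℤ), 0, (finrank K V : ℤ)] hint
      (by
        rw [Fin.sum_univ_three]
        show -(finrank K D : ℤ) * (finrank K V : ℤ) + 0 * (finrank K C' : ℤ) +
          (finrank K V : ℤ) * (finrank K D : ℤ) = 0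
        ring)
      ⟨2, by
        show (finrank K V : ℤ) ≠ 0
        exact ne_of_gt e1, hDne⟩
    have key : ∀ i j : Fin 3, ∀ x ∈ ![V, C', D] i, ∀ y ∈ ![V, C', D] j, q x y ≠ 0 →
        0 ≤ ![-(finrank K D : ℤ), 0, (finrank K V : ℤ)] i +
          ![-(finrank K D : ℤ), 0, (finrank K V : ℤ)] j := by
      apply three_cases
      · intro x hx y hy hxy
        exact absurd (hiso x hx y hy) hxy
      · intro x hx y hy hxy
        exact absurd (q_comm_zero s q hq ((mem_perp q).1 (hC'P hy) x hx)) hxy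
      · intro x hx y hy hxy
        show (0 : ℤ) ≤ -(finrank K D : ℤ) + (finrank K V : ℤ)
        linarith
      · intro x hx y hy hxy
        exact absurd ((mem_perp q).1 (hC'P hx) y hy) hxy
      · intro x hx y hy hxy
        show (0 : ℤ) ≤ 0 + 0
        norm_num
      · intro x hx y hy hxy
        show (0 : ℤ) ≤ 0 + (finrank K V : ℤ)
        linarith
      · intro x hx y hy hxy
        show (0 : ℤ) ≤ (finrank K V : ℤ) + -(finrank K D : ℤ)
        linarith
      · intro x hx y hy hxy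
        show (0 : ℤ) ≤ (finrank K V : ℤ) + 0
        linarith
      · intro x hx y hy hxy
        show (0 : ℤ) ≤ (finrank K V : ℤ) + (finrank K V : ℤ)
        linarith
    exact absurd hij (not_lt.2 (key i j x hx y hy hxy))

end Reverse

end Groth.Agent.Lib.Helper25.HMNum
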