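import Mathlib
import Groth.Prelude.Def_ArtFun6
import Groth.Prelude.Def_ArtFun2

/-!
# helper25: D12a — the local ring of a `k`-scheme at a `k`-point pro-represents maps from local Artinian
`k`-schemes hitting that point.

For `H` over `Spec k` with a section `h`, `p = h(pt)`, `O = O_{H,p}`:
* `stalkAlgebra H p : Algebra k O` (via `Spec.preimage (fromSpecStalk p ≫ H.hom)`);
* `resO H h : O →ₐ[k] k` (= `Scheme.stalkClosedPointTo h.left`), surjective;
* `gOf H h φ : Spec A ⟶ H.left` for `φ : HomSet O resO A`, over `Spec k` (`gOf_hom`), restricting to `h.left`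
  on the closed point (`specRes_gOf`);
* `gOf_injective`, `exists_of_g`: `φ ↦ gOf φ` is a bijection onto
  `{g : Spec A ⟶ H.left // g ≫ H.hom = specOver A ∧ specRes A ≫ g = h.left}`.
-/

set_option autoImplicit false
set_option linter.style.haveILetI false
universe u
open CategoryTheory CategoryTheory.Limits AlgebraicGeometry

namespace Groth.Agent.Lib.Helper25.HilbStalk

open ArtFun ArtFun.Art

variable {k : Type u} [Field k] (H : Over (Spec (CommRingCat.of k)))

/-- The structure ring map `k → O_{H,p}`. -/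
noncomputable def algMap (p : H.left) : CommRingCat.of k ⟶ H.left.presheaf.stalk p :=
  Spec.preimage (H.left.fromSpecStalk p ≫ H.hom)

lemma specMap_algMap (p : H.left) :
    Spec.map (algMap H p) = H.left.fromSpecStalk p ≫ H.hom :=
  Spec.map_preimage _

/-- `O_{H,p}` as a `k`-algebra. -/
@[reducible] noncomputable def stalkAlgebra (p : H.left) : Algebra k (H.left.presheaf.stalk p) :=
  (algMap H p).hom.toAlgebra

attribute [local instance] stalkAlgebra

variable (h : Over.mk (𝟙 (Spec (CommRingCat.of k))) ⟶ H)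

/-- The image of the point. -/
noncomputable abbrev pt : H.left := h.left.base (IsLocalRing.closedPoint k)

lemma algMap_comp_stalkClosedPointTo :
    algMap H (pt H h) ≫ Scheme.stalkClosedPointTo h.left = 𝟙 _ := by
  apply Spec.map_injective
  rw [Spec.map_comp, specMap_algMap, Scheme.Spec_stalkClosedPointTo_fromSpecStalk_assoc, Spec.map_id]
  exact Over.w h

/-- The augmentation `O_{H,p} → k`. -/
noncomputable def resO : H.left.presheaf.stalk (pt H h) →ₐ[k] k :=
  { (Scheme.stalkClosedPointTo h.left).hom with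
    commutes' := fun c => congrArg (fun f => f.hom c) (algMap_comp_stalkClosedPointTo H h) }

lemma resO_apply (x : H.left.presheaf.stalk (pt H h)) :
    resO H h x = (Scheme.stalkClosedPointTo h.left).hom x := rfl

lemma resO_surjective : Function.Surjective (resO H h) := fun c =>
  ⟨algebraMap k _ c, (resO H h).commutes c⟩

lemma eq_of_specMap_fromSpecStalk_eq {X : Scheme.{u}} {R : CommRingCat.{u}} [IsLocalRing R] {x : X}
    (ψ₁ ψ₂ : X.presheaf.stalk x ⟶ R) [IsLocalHom ψ₁.hom] [IsLocalHom ψ₂.hom]
    (e : Spec.map ψ₁ ≫ X.fromSpecStalk x = Spec.map ψ₂ ≫ X.fromSpecStalk x) : ψ₁ = ψ₂ := by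
  have := (SpecToEquivOfLocalRing X R).symm.injective
    (a₁ := ⟨x, ψ₁, inferInstance⟩) (a₂ := ⟨x, ψ₂, inferInstance⟩) e
  simpa using this

/-- The morphism `Spec A ⟶ H` of an augmented algebra map `O → A`. -/
noncomputable def gOf {A : Art k k} (φ : HomSet (H.left.presheaf.stalk (pt H h)) (resO H h) A) :
    spec A ⟶ H.left :=
  Spec.map (CommRingCat.ofHom φ.1.toRingHom) ≫ H.left.fromSpecStalk (pt H h)

lemma gOf_hom {A : Art k k} (φ : HomSet (H.left.presheaf.stalk (pt H h)) (resO H h) A) :
    gOf H h φ ≫ H.hom = specOver A := by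
  unfold gOf
  rw [Category.assoc, ← specMap_algMap, ← Spec.map_comp]
  change Spec.map _ = Spec.map _
  congr 1
  ext c
  exact φ.1.commutes c

lemma specRes_gOf {A : Art k k} (φ : HomSet (H.left.presheaf.stalk (pt H h)) (resO H h) A) :
    specRes A ≫ gOf H h φ = h.left := by
  have this : (CommRingCat.ofHom φ.1.toRingHom ≫ CommRingCat.ofHom A.res.toRingHom :
      H.left.presheaf.stalk (pt H h) ⟶ CommRingCat.of k) = Scheme.stalkClosedPointTo h.left := by
    ext c
    exact congrArg (fun f => f c) φ.2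
  refine Eq.trans ?_ (Scheme.Spec_stalkClosedPointTo_fromSpecStalk h.left)
  unfold gOf
  rw [← Category.assoc, ← Spec.map_comp]
  exact congrArg (fun f => Spec.map f ≫ H.left.fromSpecStalk (pt H h)) this

lemma isLocalHom_homSet {A : Art k k} (φ : HomSet (H.left.presheaf.stalk (pt H h)) (resO H h) A) :
    IsLocalHom φ.1.toRingHom := by
  haveI : IsLocalHom (A.res.toRingHom.comp φ.1.toRingHom) :=
    IsLocalHom.of_surjective _ fun c => ⟨algebraMap k _ c, by
      show A.res (φ.1 (algebraMap k _ c)) = c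
      rw [φ.1.commutes, A.res.commutes]; rfl⟩
  exact isLocalHom_of_comp φ.1.toRingHom A.res.toRingHom

lemma gOf_injective {A : Art k k} : Function.Injective (gOf H h (A := A)) := by
  intro φ₁ φ₂ e
  haveI h1 : IsLocalHom (CommRingCat.ofHom φ₁.1.toRingHom).hom := isLocalHom_homSet H h φ₁
  haveI h2 : IsLocalHom (CommRingCat.ofHom φ₂.1.toRingHom).hom := isLocalHom_homSet H h φ₂
  have := eq_of_specMap_fromSpecStalk_eq (X := H.left) (x := pt H h) (R := CommRingCat.of A)
    (CommRingCat.ofHom φ₁.1.toRingHom) (CommRingCat.ofHom φ₂.1.toRingHom) e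
  apply Subtype.ext
  apply AlgHom.ext; intro c
  exact congrArg (fun f => f.hom c) this

instance (A : Art k k) : IsLocalHom (CommRingCat.ofHom A.res.toRingHom).hom :=
  IsLocalHom.of_surjective _ A.res_surjective

lemma pt_eq {A : Art k k} (g : spec A ⟶ H.left) (hg2 : specRes A ≫ g = h.left) :
    g.base (IsLocalRing.closedPoint A) = pt H h := by
  have e1 : (specRes A).base (IsLocalRing.closedPoint k) = IsLocalRing.closedPoint A :=
    AlgebraicGeometry.Spec_closedPoint (f := CommRingCat.ofHom A.res.toRingHom)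
  show _ = h.left.base (IsLocalRing.closedPoint k)
  rw [← hg2, ← e1]
  rfl

lemma exists_of_g {A : Art k k} (g : spec A ⟶ H.left) (hg1 : g ≫ H.hom = specOver A)
    (hg2 : specRes A ≫ g = h.left) :
    ∃ φ : HomSet (H.left.presheaf.stalk (pt H h)) (resO H h) A, gOf H h φ = g := by
  have e : g.base (IsLocalRing.closedPoint A) = pt H h := pt_eq H h g hg2
  let φ₀ : H.left.presheaf.stalk (pt H h) ⟶ CommRingCat.of A :=
    H.left.presheaf.stalkSpecializes (specializes_of_eq e) ≫ Scheme.stalkClosedPointTo g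
  have hsp : Spec.map φ₀ ≫ H.left.fromSpecStalk (pt H h) = g := by
    show Spec.map (_ ≫ _) ≫ _ = _
    rw [Spec.map_comp, Category.assoc, Scheme.SpecMap_stalkSpecializes_fromSpecStalk]
    exact Scheme.Spec_stalkClosedPointTo_fromSpecStalk g
  have hcomm : algMap H (pt H h) ≫ φ₀ = CommRingCat.ofHom (algebraMap k A) := by
    apply Spec.map_injective
    rw [Spec.map_comp, specMap_algMap, ← Category.assoc, hsp, hg1]
    rfl
  have hres : φ₀ ≫ CommRingCat.ofHom A.res.toRingHom = Scheme.stalkClosedPointTo h.left := by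
    haveI : IsLocalHom (φ₀ ≫ CommRingCat.ofHom A.res.toRingHom).hom := by
      apply IsLocalHom.of_surjective
      intro c
      refine ⟨(algMap H (pt H h)).hom c, ?_⟩
      have := congrArg (fun f => A.res (f.hom c)) hcomm
      exact this.trans (A.res.commutes c)
    haveI : IsLocalHom (Scheme.stalkClosedPointTo h.left).hom :=
      Scheme.isLocalHom_stalkClosedPointTo' (R := k) h.left
    apply eq_of_specMap_fromSpecStalk_eq
    rw [Spec.map_comp, Category.assoc, hsp, Scheme.Spec_stalkClosedPointTo_fromSpecStalk]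
    exact hg2
  refine ⟨⟨⟨φ₀.hom, fun c => ?_⟩, ?_⟩, ?_⟩
  · exact congrArg (fun f => f.hom c) hcomm
  · exact AlgHom.ext fun c => congrArg (fun f => f.hom c) hres
  · exact hsp

/-- D12a: `φ ↦ gOf φ` is a bijection from augmented `k`-algebra maps `O_{H,p} → A` onto the `k`-morphisms
`Spec A ⟶ H` restricting to `h` on the closed point. -/
theorem gOf_bijective (A : Art k k) :
    Function.Bijective (fun φ : HomSet (H.left.presheaf.stalk (pt H h)) (resO H h) A =>
      (⟨gOf H h φ, gOf_hom H h φ, specRes_gOf H h φ⟩ :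
        {g : spec A ⟶ H.left // g ≫ H.hom = specOver A ∧ specRes A ≫ g = h.left})) := by
  refine ⟨fun φ₁ φ₂ e => gOf_injective H h (congrArg Subtype.val e), fun g => ?_⟩
  obtain ⟨φ, hφ⟩ := exists_of_g H h g.1 g.2.1 g.2.2
  exact ⟨φ, Subtype.ext hφ⟩

end Groth.Agent.Lib.Helper25.HilbStalk
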