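import Mathlib
import Groth.Agent.Lib.Helper25.FrobFix

/-!
# Dieudonné–Manin, part 1 (helper25): unit-root crystals over an algebraically closed field

A finite free `W(k)`-module `M₀` with a bijective semilinear endomorphism `Ψ` (with respect to a
ring endomorphism of `W(k)` inducing `c ↦ c ^ q` or its inverse on `k`) is spanned by
`Ψ`-fixed vectors.
-/

set_option autoImplicit false

universe u v

namespace Groth.Agent.Lib.Helper25.Isoc

section WLift

variable {p : ℕ} [Fact p.Prime] {k : Type u} [Field k] [CharP k p] [PerfectRing k p]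

local notation "𝕎" => WittVector p k

theorem dvd_of_coeff_zero {w : 𝕎} (h : w.coeff 0 = 0) : ∃ w' : 𝕎, w = (p : 𝕎) * w' := by
  by_cases hw : w = 0
  · exact ⟨0, by rw [hw, mul_zero]⟩
  · obtain ⟨m, b, hb, hwb⟩ := WittVector.exists_eq_pow_p_mul w hw
    rcases Nat.eq_zero_or_pos m with h0 | hpos
    · rw [h0, pow_zero, one_mul] at hwb
      rw [hwb] at h
      exact absurd h hb
    · obtain ⟨m', hm'⟩ : ∃ m', m = m' + 1 := ⟨m - 1, by omega⟩
      exact ⟨(p : 𝕎) ^ m' * b, by rw [hwb, hm', pow_succ']; ring⟩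

theorem coeff_zero_p_mul (w : 𝕎) : ((p : 𝕎) * w).coeff 0 = 0 := by
  rw [WittVector.mul_coeff_zero, WittVector.coeff_p_zero, zero_mul]

variable {M₀ : Type v} [AddCommGroup M₀] [Module (WittVector p k) M₀]
variable {n : ℕ}

/-- the reduction map `M₀ → k^n` attached to a basis -/
noncomputable def red (e : Module.Basis (Fin n) 𝕎 M₀) (x : M₀) : Fin n → k :=
  fun i => (e.repr x i).coeff 0

theorem red_apply (e : Module.Basis (Fin n) 𝕎 M₀) (x : M₀) (i : Fin n) :
    red e x i = (e.repr x i).coeff 0 := rfl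

theorem red_add (e : Module.Basis (Fin n) 𝕎 M₀) (x y : M₀) : red e (x + y) = red e x + red e y := by
  funext i
  simp [red_apply, WittVector.add_coeff_zero]

theorem red_zero (e : Module.Basis (Fin n) 𝕎 M₀) : red e (0 : M₀) = 0 := by
  funext i
  simp [red_apply]

theorem red_smul (e : Module.Basis (Fin n) 𝕎 M₀) (w : 𝕎) (x : M₀) :
    red e (w • x) = w.coeff 0 • red e x := by
  funext i
  simp [red_apply, WittVector.mul_coeff_zero]

theorem red_neg (e : Module.Basis (Fin n) 𝕎 M₀) (x : M₀) : red e (-x) = - red e x := by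
  have := red_add e x (-x)
  rw [add_neg_cancel, red_zero] at this
  exact (neg_eq_of_add_eq_zero_right this.symm).symm

theorem red_sub (e : Module.Basis (Fin n) 𝕎 M₀) (x y : M₀) : red e (x - y) = red e x - red e y := by
  rw [sub_eq_add_neg, red_add, red_neg, sub_eq_add_neg]

theorem red_surjective (e : Module.Basis (Fin n) 𝕎 M₀) (v : Fin n → k) : ∃ x, red e x = v := by
  refine ⟨∑ i, WittVector.teichmuller p (v i) • e i, ?_⟩
  funext i
  rw [red_apply, Module.Basis.repr_sum_self, WittVector.teichmuller_coeff_zero]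

theorem red_eq_zero_iff (e : Module.Basis (Fin n) 𝕎 M₀) (x : M₀) :
    red e x = 0 ↔ ∃ y, x = (p : 𝕎) • y := by
  constructor
  · intro h
    have h1 : ∀ i, ∃ w' : 𝕎, e.repr x i = (p : 𝕎) * w' := fun i =>
      dvd_of_coeff_zero (by have := congrFun h i; simpa [red_apply] using this)
    choose w hw using h1
    refine ⟨∑ i, w i • e i, ?_⟩
    apply e.repr.injective
    apply Finsupp.ext
    intro i
    rw [map_smul, Finsupp.smul_apply, Module.Basis.repr_sum_self, smul_eq_mul, hw]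
  · rintro ⟨y, rfl⟩
    funext i
    rw [red_apply, map_smul, Finsupp.smul_apply, smul_eq_mul, coeff_zero_p_mul]
    rfl

variable {τW : WittVector p k →+* WittVector p k} {τk : k →+* k}

/-- the reduction of a semilinear endomorphism -/
noncomputable def redPhi (e : Module.Basis (Fin n) 𝕎 M₀) (Ψ : M₀ →ₛₗ[τW] M₀) (τk : k →+* k) :
    (Fin n → k) →ₛₗ[τk] (Fin n → k) where
  toFun v := fun i => ∑ j, (e.repr (Ψ (e j)) i).coeff 0 * τk (v j)
  map_add' v v' := by
    funext i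
    simp [mul_add, Finset.sum_add_distrib]
  map_smul' c v := by
    funext i
    simp [Finset.mul_sum, mul_left_comm]

theorem redPhi_apply (e : Module.Basis (Fin n) 𝕎 M₀) (Ψ : M₀ →ₛₗ[τW] M₀) (τk : k →+* k)
    (v : Fin n → k) (i : Fin n) :
    redPhi e Ψ τk v i = ∑ j, (e.repr (Ψ (e j)) i).coeff 0 * τk (v j) := rfl

theorem red_comm (e : Module.Basis (Fin n) 𝕎 M₀) (Ψ : M₀ →ₛₗ[τW] M₀)
    (hcoeff : ∀ w, (τW w).coeff 0 = τk (w.coeff 0)) (x : M₀) :
    red e (Ψ x) = redPhi e Ψ τk (red e x) := by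
  funext i
  have hx : x = ∑ j, e.repr x j • e j := (e.sum_repr x).symm
  conv_lhs => rw [hx]
  rw [red_apply, redPhi_apply, map_sum]
  simp only [map_smulₛₗ]
  rw [map_sum, Finsupp.finsetSum_apply]
  simp only [map_smul, Finsupp.smul_apply, smul_eq_mul]
  show WittVector.constantCoeff (∑ j, τW (e.repr x j) * e.repr (Ψ (e j)) i) = _
  rw [map_sum]
  apply Finset.sum_congr rfl
  intro j _
  rw [map_mul, mul_comm]
  congr 1
  exact hcoeff _

theorem redPhi_bijective (e : Module.Basis (Fin n) 𝕎 M₀) (Ψ : M₀ →ₛₗ[τW] M₀)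
    (hΨ : Function.Bijective Ψ)
    (hcoeff : ∀ w, (τW w).coeff 0 = τk (w.coeff 0)) :
    Function.Bijective (redPhi e Ψ τk) := by
  constructor
  · rw [injective_iff_map_eq_zero]
    intro v hv
    obtain ⟨x, rfl⟩ := red_surjective e v
    rw [← red_comm e Ψ hcoeff, red_eq_zero_iff] at hv
    obtain ⟨y, hy⟩ := hv
    obtain ⟨y', rfl⟩ := hΨ.surjective y
    have : Ψ x = Ψ ((p : 𝕎) • y') := by
      rw [hy, map_smulₛₗ, map_natCast]
    rw [hΨ.injective this, red_eq_zero_iff]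
    exact ⟨y', rfl⟩
  · intro v
    obtain ⟨x, rfl⟩ := red_surjective e v
    obtain ⟨y, rfl⟩ := hΨ.surjective x
    exact ⟨red e y, (red_comm e Ψ hcoeff y).symm⟩

end WLift

section Complete

variable {p : ℕ} [Fact p.Prime] {k : Type u} [Field k] [CharP k p] [PerfectRing k p]

local notation "𝕎" => WittVector p k

theorem exists_limit_W' (c : ℕ → 𝕎) (hc : ∀ m, ∃ w, c (m + 1) - c m = (p : 𝕎) ^ m * w) :
    ∃ L : 𝕎, ∀ m, ∃ w, L - c m = (p : 𝕎) ^ m * w := by
  have hcomp : IsPrecomplete (Ideal.span {(p : 𝕎)}) 𝕎 := inferInstance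
  have hcauchy : AdicCompletion.IsAdicCauchy (Ideal.span {(p : 𝕎)}) 𝕎 c := by
    rw [AdicCompletion.isAdicCauchy_iff]
    intro n
    rw [SModEq.sub_mem, smul_eq_mul, Ideal.mul_top, Ideal.span_singleton_pow,
      Ideal.mem_span_singleton]
    obtain ⟨w, hw⟩ := hc n
    exact ⟨-w, by rw [mul_neg, ← hw]; ring⟩
  obtain ⟨L, hL⟩ := hcomp.prec hcauchy
  refine ⟨L, fun m => ?_⟩
  have := hL m
  rw [SModEq.sub_mem, smul_eq_mul, Ideal.mul_top, Ideal.span_singleton_pow,
    Ideal.mem_span_singleton] at this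
  obtain ⟨w, hw⟩ := this
  exact ⟨-w, by rw [mul_neg, ← hw]; ring⟩

theorem eq_zero_of_forall_pow_dvd (w : 𝕎) (h : ∀ m : ℕ, ∃ w', w = (p : 𝕎) ^ m * w') : w = 0 := by
  have hH : IsHausdorff (Ideal.span {(p : 𝕎)}) 𝕎 := inferInstance
  apply hH.haus
  intro m
  rw [SModEq.zero, smul_eq_mul, Ideal.mul_top, Ideal.span_singleton_pow,
    Ideal.mem_span_singleton]
  obtain ⟨w', hw'⟩ := h m
  exact ⟨w', hw'⟩

variable {M₀ : Type v} [AddCommGroup M₀] [Module (WittVector p k) M₀]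
variable {n : ℕ}

theorem exists_limit_free (e : Module.Basis (Fin n) 𝕎 M₀) (a : ℕ → M₀)
    (hc : ∀ m, ∃ y, a (m + 1) - a m = (p : 𝕎) ^ m • y) :
    ∃ L, ∀ m, ∃ y, L - a m = (p : 𝕎) ^ m • y := by
  choose y hy using hc
  have h1 : ∀ i : Fin n, ∃ Li : 𝕎, ∀ m, ∃ w, Li - e.repr (a m) i = (p : 𝕎) ^ m * w := by
    intro i
    apply exists_limit_W'
    intro m
    refine ⟨e.repr (y m) i, ?_⟩
    rw [← Finsupp.sub_apply, ← map_sub, hy, map_smul, Finsupp.smul_apply, smul_eq_mul]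
  choose Li hLi using h1
  choose w hw using hLi
  refine ⟨∑ i, Li i • e i, fun m => ⟨∑ i, w i m • e i, ?_⟩⟩
  apply e.repr.injective
  apply Finsupp.ext
  intro i
  rw [map_sub, Finsupp.sub_apply, Module.Basis.repr_sum_self, map_smul, Finsupp.smul_apply,
    Module.Basis.repr_sum_self, smul_eq_mul, hw]

theorem eq_zero_of_forall_pow_smul (e : Module.Basis (Fin n) 𝕎 M₀) (x : M₀)
    (h : ∀ m : ℕ, ∃ y, x = (p : 𝕎) ^ m • y) : x = 0 := by
  apply e.repr.injective
  apply Finsupp.ext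
  intro i
  rw [map_zero, Finsupp.zero_apply]
  apply eq_zero_of_forall_pow_dvd
  intro m
  obtain ⟨y, hy⟩ := h m
  exact ⟨e.repr y i, by rw [hy, map_smul, Finsupp.smul_apply, smul_eq_mul]⟩

end Complete

section Main

variable {p : ℕ} [Fact p.Prime] {k : Type u} [Field k] [CharP k p] [PerfectRing k p]

local notation "𝕎" => WittVector p k

variable {M₀ : Type v} [AddCommGroup M₀] [Module (WittVector p k) M₀]
variable {τW : WittVector p k →+* WittVector p k} {τk : k →+* k}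

theorem map_pow_p_smul (Ψ : M₀ →ₛₗ[τW] M₀) (m : ℕ) (x : M₀) :
    Ψ ((p : 𝕎) ^ m • x) = (p : 𝕎) ^ m • Ψ x := by
  rw [map_smulₛₗ, map_pow, map_natCast]

/-- `Ψ - 1` is surjective on a unit-root crystal over an algebraically closed field. -/
theorem exists_sub_eq_W [IsAlgClosed k] {n : ℕ} (e : Module.Basis (Fin n) 𝕎 M₀)
    {q : ℕ} (hq : 2 ≤ q) (σ : k →+* k) (hσ : ∀ c, σ c = c ^ q)
    (hτk : (∀ c, τk c = σ c) ∨ (∀ c, σ (τk c) = c))
    (hcoeff : ∀ w, (τW w).coeff 0 = τk (w.coeff 0))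
    (Ψ : M₀ →ₛₗ[τW] M₀) (hΨ : Function.Bijective Ψ) (z : M₀) : ∃ u : M₀, Ψ u - u = z := by
  classical
  obtain ⟨-, hsurj⟩ := FrobFix.fix_main hq σ hσ τk hτk (redPhi e Ψ τk)
    (redPhi_bijective e Ψ hΨ hcoeff)
  have hS : ∀ z : M₀, ∃ u y : M₀, Ψ u - u - z = (p : 𝕎) • y := by
    intro z
    obtain ⟨ū, hū⟩ := hsurj (red e z)
    obtain ⟨u, rfl⟩ := red_surjective e ū
    have : red e (Ψ u - u - z) = 0 := by
      rw [red_sub, red_sub, red_comm e Ψ hcoeff, hū, sub_self]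
    obtain ⟨y, hy⟩ := (red_eq_zero_iff e _).1 this
    exact ⟨u, y, hy⟩
  choose g r hgr using hS
  obtain ⟨zs, hzs0, hzss⟩ : ∃ zs : ℕ → M₀, zs 0 = z ∧ ∀ j, zs (j + 1) = -(r (zs j)) :=
    ⟨fun j => Nat.rec z (fun _ zj => -(r zj)) j, rfl, fun _ => rfl⟩
  obtain ⟨us, hus⟩ : ∃ us : ℕ → M₀, ∀ m, us m = ∑ j ∈ Finset.range m, (p : 𝕎) ^ j • g (zs j) :=
    ⟨_, fun _ => rfl⟩
  have hstep : ∀ j, Ψ (g (zs j)) - g (zs j) = zs j - (p : 𝕎) • zs (j + 1) := by
    intro j
    rw [hzss, smul_neg, sub_neg_eq_add, ← hgr (zs j)]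
    abel
  have htel : ∀ m, Ψ (us m) - us m = z - (p : 𝕎) ^ m • zs m := by
    intro m
    induction m with
    | zero => rw [hus, Finset.range_zero, Finset.sum_empty, map_zero, pow_zero, one_smul, hzs0]; abel
    | succ m ih =>
      have h1 : us (m + 1) = us m + (p : 𝕎) ^ m • g (zs m) := by
        rw [hus, hus, Finset.sum_range_succ]
      rw [h1, map_add, map_pow_p_smul]
      have h2 : Ψ (us m) + (p : 𝕎) ^ m • Ψ (g (zs m)) - (us m + (p : 𝕎) ^ m • g (zs m)) =
          (Ψ (us m) - us m) + (p : 𝕎) ^ m • (Ψ (g (zs m)) - g (zs m)) := by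
        rw [smul_sub]; abel
      rw [h2, ih, hstep, smul_sub, smul_smul, ← pow_succ]
      abel
  obtain ⟨U, hU⟩ := exists_limit_free e us (fun m => ⟨g (zs m), by
    rw [hus, hus, Finset.sum_range_succ, add_sub_cancel_left]⟩)
  refine ⟨U, ?_⟩
  rw [← sub_eq_zero]
  apply eq_zero_of_forall_pow_smul e
  intro m
  obtain ⟨y, hy⟩ := hU m
  refine ⟨Ψ y - y - zs m, ?_⟩
  have hUm : U = us m + (p : 𝕎) ^ m • y := by rw [← hy]; abel
  have h3 : Ψ U - U - z = (Ψ (us m) - us m) + (p : 𝕎) ^ m • (Ψ y - y) - z := by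
    rw [hUm, map_add, map_pow_p_smul, smul_sub]; abel
  rw [h3, htel, smul_sub ((p : 𝕎) ^ m) (Ψ y - y) (zs m)]
  abel

/-- A unit-root crystal over an algebraically closed field is spanned by fixed vectors. -/
theorem span_fixed_eq_top_W [IsAlgClosed k] {n : ℕ} (e : Module.Basis (Fin n) 𝕎 M₀)
    {q : ℕ} (hq : 2 ≤ q) (σ : k →+* k) (hσ : ∀ c, σ c = c ^ q)
    (hτk : (∀ c, τk c = σ c) ∨ (∀ c, σ (τk c) = c))
    (hcoeff : ∀ w, (τW w).coeff 0 = τk (w.coeff 0))
    (Ψ : M₀ →ₛₗ[τW] M₀) (hΨ : Function.Bijective Ψ) :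
    Submodule.span 𝕎 {x | Ψ x = x} = ⊤ := by
  classical
  obtain ⟨hspan, -⟩ := FrobFix.fix_main hq σ hσ τk hτk (redPhi e Ψ τk)
    (redPhi_bijective e Ψ hΨ hcoeff)
  have hsurjW := exists_sub_eq_W e hq σ hσ hτk hcoeff Ψ hΨ
  -- lifting fixed vectors
  have hlift : ∀ v : Fin n → k, redPhi e Ψ τk v = v → ∃ x, Ψ x = x ∧ red e x = v := by
    intro v hv
    obtain ⟨y₀, rfl⟩ := red_surjective e v
    have h0 : red e (Ψ y₀ - y₀) = 0 := by rw [red_sub, red_comm e Ψ hcoeff, hv, sub_self]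
    obtain ⟨z, hz⟩ := (red_eq_zero_iff e _).1 h0
    obtain ⟨u, hu⟩ := hsurjW z
    refine ⟨y₀ - (p : 𝕎) • u, ?_, ?_⟩
    · have h1 := map_pow_p_smul Ψ 1 u
      rw [pow_one] at h1
      rw [map_sub, h1]
      have : Ψ y₀ - (p : 𝕎) • Ψ u - (y₀ - (p : 𝕎) • u) = (Ψ y₀ - y₀) - (p : 𝕎) • (Ψ u - u) := by
        rw [smul_sub]; abel
      rw [← sub_eq_zero, this, hz, hu, sub_self]
    · rw [red_sub, red_smul, WittVector.coeff_p_zero, zero_smul, sub_zero]
  have hall : ∀ v : Fin n → k, ∃ x ∈ Submodule.span 𝕎 {x | Ψ x = x}, red e x = v := by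
    intro v
    have hv : v ∈ Submodule.span k {v | redPhi e Ψ τk v = v} := by rw [hspan]; trivial
    induction hv using Submodule.span_induction with
    | mem v hv =>
      obtain ⟨x, hx, hxv⟩ := hlift v hv
      exact ⟨x, Submodule.subset_span hx, hxv⟩
    | zero => exact ⟨0, Submodule.zero_mem _, red_zero e⟩
    | add v₁ v₂ _ _ h₁ h₂ =>
      obtain ⟨x₁, hx₁, rfl⟩ := h₁
      obtain ⟨x₂, hx₂, rfl⟩ := h₂
      exact ⟨x₁ + x₂, Submodule.add_mem _ hx₁ hx₂, red_add e x₁ x₂⟩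
    | smul c v _ h =>
      obtain ⟨x, hx, rfl⟩ := h
      exact ⟨WittVector.teichmuller p c • x, Submodule.smul_mem _ _ hx, by
        rw [red_smul, WittVector.teichmuller_coeff_zero]⟩
  rw [eq_top_iff]
  apply Submodule.le_of_le_smul_of_le_jacobson_bot (I := Ideal.span {(p : 𝕎)})
  · exact (Module.Finite.of_basis e).fg_top
  · rw [IsLocalRing.jacobson_eq_maximalIdeal ⊥ bot_ne_top]
    apply IsLocalRing.le_maximalIdeal
    rw [Ne, Ideal.span_singleton_eq_top]
    exact (WittVector.irreducible p).not_isUnit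
  · intro x _
    obtain ⟨x', hx', hred⟩ := hall (red e x)
    have h0 : red e (x - x') = 0 := by rw [red_sub, hred, sub_self]
    obtain ⟨y, hy⟩ := (red_eq_zero_iff e _).1 h0
    have : x = x' + (p : 𝕎) • y := by rw [← hy]; abel
    rw [this]
    exact Submodule.add_mem_sup hx'
      (Submodule.smul_mem_smul (Ideal.subset_span rfl) Submodule.mem_top)

end Main

end Groth.Agent.Lib.Helper25.Isoc
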