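import Mathlib
import Groth.Prelude.Def_Isoc

/-!
# Helper library for the `Isoc` statements (helper25)

* `witt_charZero`, `fraction_charZero`.
* p-power calculus of `W`-submodules: `mem_pPow_iff`, `pPow_add`, `pPow_anti`, `pPow_le_pPow_iff`, ...
* lattices: `exists_pPow_le` (comparability), `le_of_pPow_le_pPow` (Nakayama).
* semilinear images: `Good τ`, `mem_img`, `img_pPow`, `img_isLattice`, `mem_latImg`, ...
* orders: `exists_isOrd`, `IsOrd.le_iff`.
-/

set_option autoImplicit false

universe u v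

open scoped Pointwise

namespace Groth.Agent.Lib.Helper25.Isoc

section CharZero

variable (p : ℕ) [Fact p.Prime] (k : Type u) [Field k] [CharP k p]

theorem witt_charZero : CharZero (WittVector p k) := by
  rw [CharZero.charZero_iff_forall_prime_ne_zero]
  intro q hq h
  by_cases hqp : q = p
  · subst hqp
    exact WittVector.p_nonzero q k h
  · have h2 : (WittVector.constantCoeff (p := p) (R := k)) (q : WittVector p k) = 0 := by
      rw [h, map_zero]
    rw [map_natCast] at h2
    have h3 : p ∣ q := (CharP.cast_eq_zero_iff k p q).1 h2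
    exact hqp (((Nat.prime_dvd_prime_iff_eq (Fact.out : p.Prime) hq).1 h3).symm)

theorem fraction_charZero : CharZero (FractionRing (WittVector p k)) := by
  have := witt_charZero p k
  infer_instance

theorem pL_ne_zero : ((p : ℕ) : FractionRing (WittVector p k)) ≠ 0 := by
  have := fraction_charZero p k
  exact Nat.cast_ne_zero.2 (Fact.out : p.Prime).ne_zero

end CharZero

section PPow

variable {p : ℕ} [Fact p.Prime] {k : Type u} [Field k] [CharP k p]
variable {N : Type v} [AddCommGroup N] [Module (WittVector p k) N]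
  [Module (FractionRing (WittVector p k)) N]
  [IsScalarTower (WittVector p k) (FractionRing (WittVector p k)) N]

theorem mem_pPow_iff {r : ℤ} {M : Submodule (WittVector p k) N} {x : N} :
    x ∈ Isoc.pPow r M ↔ ∃ y ∈ M, ((p : FractionRing (WittVector p k)) ^ r) • y = x :=
  Submodule.mem_smul_pointwise_iff_exists _ _ _

theorem mem_pPow_iff' {r : ℤ} {M : Submodule (WittVector p k) N} {x : N} :
    x ∈ Isoc.pPow r M ↔ ((p : FractionRing (WittVector p k)) ^ (-r)) • x ∈ M := by
  have hp := pL_ne_zero p k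
  rw [mem_pPow_iff]
  constructor
  · rintro ⟨y, hy, rfl⟩
    rw [smul_smul, ← zpow_add₀ hp, neg_add_cancel, zpow_zero, one_smul]
    exact hy
  · intro h
    refine ⟨_, h, ?_⟩
    rw [smul_smul, ← zpow_add₀ hp, add_neg_cancel, zpow_zero, one_smul]

theorem smul_mem_pPow {r : ℤ} {M : Submodule (WittVector p k) N} {y : N} (hy : y ∈ M) :
    ((p : FractionRing (WittVector p k)) ^ r) • y ∈ Isoc.pPow r M :=
  mem_pPow_iff.2 ⟨y, hy, rfl⟩

theorem pPow_zero (M : Submodule (WittVector p k) N) : Isoc.pPow 0 M = M := by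
  ext x
  rw [mem_pPow_iff', neg_zero, zpow_zero, one_smul]

theorem pPow_add (r s : ℤ) (M : Submodule (WittVector p k) N) :
    Isoc.pPow (r + s) M = Isoc.pPow r (Isoc.pPow s M) := by
  have hp := pL_ne_zero p k
  ext x
  rw [mem_pPow_iff', mem_pPow_iff', mem_pPow_iff', smul_smul, ← zpow_add₀ hp, neg_add_rev]

theorem pPow_mono {r : ℤ} {M M' : Submodule (WittVector p k) N} (h : M ≤ M') :
    Isoc.pPow r M ≤ Isoc.pPow r M' := by
  intro x hx
  rw [mem_pPow_iff'] at hx ⊢
  exact h hx

theorem pPow_le_pPow_iff {r : ℤ} {M M' : Submodule (WittVector p k) N} :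
    Isoc.pPow r M ≤ Isoc.pPow r M' ↔ M ≤ M' := by
  refine ⟨fun h => ?_, pPow_mono⟩
  have h2 := pPow_mono (r := -r) h
  rwa [← pPow_add, ← pPow_add, neg_add_cancel, pPow_zero, pPow_zero] at h2

theorem le_pPow_iff {r : ℤ} {M M' : Submodule (WittVector p k) N} :
    M ≤ Isoc.pPow r M' ↔ Isoc.pPow (-r) M ≤ M' := by
  rw [← pPow_le_pPow_iff (r := -r) (M := M), ← pPow_add, neg_add_cancel, pPow_zero]

theorem pPow_le_iff {r : ℤ} {M M' : Submodule (WittVector p k) N} :
    Isoc.pPow r M ≤ M' ↔ M ≤ Isoc.pPow (-r) M' := by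
  rw [le_pPow_iff, neg_neg]

theorem natCast_smul_eq (n : ℕ) (y : N) :
    ((p : FractionRing (WittVector p k)) ^ n) • y = ((p : WittVector p k) ^ n) • y := by
  rw [← algebraMap_smul (FractionRing (WittVector p k)) ((p : WittVector p k) ^ n) y, map_pow,
    map_natCast]

theorem pPow_natCast_le (n : ℕ) (M : Submodule (WittVector p k) N) :
    Isoc.pPow (n : ℤ) M ≤ M := by
  intro x hx
  obtain ⟨y, hy, rfl⟩ := mem_pPow_iff.1 hx
  rw [zpow_natCast, natCast_smul_eq]
  exact M.smul_mem _ hy

theorem pPow_anti {r s : ℤ} (h : r ≤ s) (M : Submodule (WittVector p k) N) :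
    Isoc.pPow s M ≤ Isoc.pPow r M := by
  obtain ⟨n, hn⟩ := Int.eq_ofNat_of_zero_le (sub_nonneg.2 h)
  have hs : s = r + (n : ℤ) := by omega
  rw [hs, pPow_add]
  exact pPow_mono (pPow_natCast_le n M)

theorem pPow_bot (r : ℤ) : Isoc.pPow r (⊥ : Submodule (WittVector p k) N) = ⊥ := by
  ext x
  rw [mem_pPow_iff', Submodule.mem_bot, Submodule.mem_bot]
  have hp := pL_ne_zero p k
  constructor
  · intro h
    exact (smul_eq_zero.1 h).resolve_left (zpow_ne_zero _ hp)
  · rintro rfl; simp

theorem pPow_isLattice {r : ℤ} {M : Submodule (WittVector p k) N}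
    (hM : M.IsLattice (FractionRing (WittVector p k))) :
    (Isoc.pPow r M).IsLattice (FractionRing (WittVector p k)) := by
  have hp := pL_ne_zero p k
  refine ⟨?_, ?_⟩
  · exact hM.fg.map _
  · rw [eq_top_iff, ← hM.span_eq_top]
    apply Submodule.span_le.2
    intro y hy
    have h1 : ((p : FractionRing (WittVector p k)) ^ r) • y ∈
        Submodule.span (FractionRing (WittVector p k)) (Isoc.pPow r M : Set N) :=
      Submodule.subset_span (smul_mem_pPow hy)
    have h2 := Submodule.smul_mem _ ((p : FractionRing (WittVector p k)) ^ (-r)) h1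
    rwa [smul_smul, ← zpow_add₀ hp, neg_add_cancel, zpow_zero, one_smul] at h2

end PPow

section Lattice

variable {p : ℕ} [Fact p.Prime] {k : Type u} [Field k] [CharP k p] [PerfectRing k p]
variable {N : Type v} [AddCommGroup N] [Module (WittVector p k) N]
  [Module (FractionRing (WittVector p k)) N]
  [IsScalarTower (WittVector p k) (FractionRing (WittVector p k)) N]

/-- Every element of the fraction field becomes integral after multiplying by a power of `p`. -/
theorem exists_pow_mul_eq_algebraMap (l : FractionRing (WittVector p k)) :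
    ∃ (e : ℕ) (w : WittVector p k),
      ((p : FractionRing (WittVector p k)) ^ e) * l =
        algebraMap (WittVector p k) (FractionRing (WittVector p k)) w := by
  obtain ⟨a, b, hb, rfl⟩ := IsFractionRing.div_surjective (A := WittVector p k) l
  have hb0 : b ≠ 0 := nonZeroDivisors.ne_zero hb
  obtain ⟨m, u, hu⟩ := WittVector.exists_eq_pow_p_mul' b hb0
  refine ⟨m, a * ((u⁻¹ : (WittVector p k)ˣ) : WittVector p k), ?_⟩
  have hb' : algebraMap (WittVector p k) (FractionRing (WittVector p k)) b ≠ 0 := by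
    intro h0
    exact hb0 ((IsFractionRing.injective (WittVector p k) (FractionRing (WittVector p k)))
      (h0.trans (map_zero _).symm))
  rw [mul_div_assoc', eq_comm, eq_div_iff hb', ← map_natCast (algebraMap (WittVector p k)
    (FractionRing (WittVector p k))) p, ← map_pow, ← map_mul, ← map_mul]
  congr 1
  rw [hu]
  have : ((u⁻¹ : (WittVector p k)ˣ) : WittVector p k) * (u : WittVector p k) = 1 := by
    rw [← Units.val_mul, inv_mul_cancel, Units.val_one]
  calc a * ((u⁻¹ : (WittVector p k)ˣ) : WittVector p k) * ((p : WittVector p k) ^ m * u)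
      = (p : WittVector p k) ^ m * a * (((u⁻¹ : (WittVector p k)ˣ) : WittVector p k) * u) := by ring
    _ = (p : WittVector p k) ^ m * a := by rw [this, mul_one]

theorem exists_pow_smul_mem (M' : Submodule (WittVector p k) N) (x : N)
    (hx : x ∈ Submodule.span (FractionRing (WittVector p k)) (M' : Set N)) :
    ∃ c : ℕ, ((p : FractionRing (WittVector p k)) ^ c) • x ∈ M' := by
  induction hx using Submodule.span_induction with
  | mem x hx => exact ⟨0, by simpa using hx⟩
  | zero => exact ⟨0, by simp⟩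
  | add x y _ _ hx hy =>
    obtain ⟨c, hc⟩ := hx
    obtain ⟨c', hc'⟩ := hy
    refine ⟨c + c', ?_⟩
    rw [smul_add]
    refine M'.add_mem ?_ ?_
    · rw [add_comm, pow_add, mul_smul, natCast_smul_eq]
      exact M'.smul_mem _ hc
    · rw [pow_add, mul_smul, natCast_smul_eq]
      exact M'.smul_mem _ hc'
  | smul l x _ hx =>
    obtain ⟨c, hc⟩ := hx
    obtain ⟨e, w, hw⟩ := exists_pow_mul_eq_algebraMap (p := p) (k := k) l
    refine ⟨c + e, ?_⟩
    rw [smul_smul, pow_add, mul_assoc, hw, mul_comm, mul_smul, algebraMap_smul]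
    exact M'.smul_mem _ hc

/-- Two lattices are commensurable. -/
theorem exists_pPow_le {M M' : Submodule (WittVector p k) N}
    (hM : M.FG) (hM' : Submodule.span (FractionRing (WittVector p k)) (M' : Set N) = ⊤) :
    ∃ c : ℕ, Isoc.pPow (c : ℤ) M ≤ M' := by
  obtain ⟨S, hS⟩ := hM
  have h1 : ∀ x : N, ∃ c : ℕ, ((p : FractionRing (WittVector p k)) ^ c) • x ∈ M' := fun x =>
    exists_pow_smul_mem M' x (by rw [hM']; trivial)
  choose cf hcf using h1
  refine ⟨S.sup cf, ?_⟩
  rw [pPow_le_iff, ← hS, Submodule.span_le]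
  intro x hx
  rw [SetLike.mem_coe, mem_pPow_iff', neg_neg, zpow_natCast]
  have hle : cf x ≤ S.sup cf := Finset.le_sup (f := cf) hx
  obtain ⟨d, hd⟩ := Nat.exists_eq_add_of_le hle
  rw [hd, add_comm, pow_add, mul_smul, natCast_smul_eq]
  exact M'.smul_mem _ (hcf x)

theorem not_isUnit_p : ¬ IsUnit ((p : ℕ) : WittVector p k) :=
  (WittVector.irreducible p).not_isUnit

/-- Nakayama: a finitely generated `W`-submodule with `M ≤ p M` is zero. -/
theorem eq_bot_of_le_pPow_one {M : Submodule (WittVector p k) N} (hM : M.FG)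
    (h : M ≤ Isoc.pPow 1 M) : M = ⊥ := by
  apply Submodule.eq_bot_of_le_smul_of_le_jacobson_bot
    (Ideal.span {((p : ℕ) : WittVector p k)}) M hM
  · intro x hx
    obtain ⟨y, hy, rfl⟩ := mem_pPow_iff.1 (h hx)
    rw [zpow_one]
    have : ((p : FractionRing (WittVector p k))) • y = ((p : ℕ) : WittVector p k) • y := by
      have := natCast_smul_eq (p := p) (k := k) 1 y
      simpa using this
    rw [this]
    exact Submodule.smul_mem_smul (Ideal.subset_span rfl) hy
  · rw [IsLocalRing.jacobson_eq_maximalIdeal ⊥ bot_ne_top]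
    apply IsLocalRing.le_maximalIdeal
    rw [Ne, Ideal.span_singleton_eq_top]
    exact not_isUnit_p

theorem le_of_pPow_le_pPow {M : Submodule (WittVector p k) N} (hM : M.FG) (hM0 : M ≠ ⊥)
    {a b : ℤ} (h : Isoc.pPow a M ≤ Isoc.pPow b M) : b ≤ a := by
  by_contra hab
  push Not at hab
  apply hM0
  apply eq_bot_of_le_pPow_one hM
  have h2 : Isoc.pPow a M ≤ Isoc.pPow (a + 1) M := h.trans (pPow_anti (by omega) M)
  rw [pPow_add] at h2
  exact pPow_le_pPow_iff.1 h2

theorem ne_bot_of_isLattice [Nontrivial N] {M : Submodule (WittVector p k) N}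
    (hM : M.IsLattice (FractionRing (WittVector p k))) : M ≠ ⊥ := by
  rintro rfl
  have h := hM.span_eq_top
  rw [Submodule.bot_coe, Submodule.span_zero_singleton] at h
  exact bot_ne_top h

end Lattice

section Semilinear

variable {p : ℕ} [Fact p.Prime] {k : Type u} [Field k] [CharP k p]
variable {N : Type v} [AddCommGroup N] [Module (WittVector p k) N]
  [Module (FractionRing (WittVector p k)) N]
  [IsScalarTower (WittVector p k) (FractionRing (WittVector p k)) N]

/-- The ring endomorphism `τ` of `L` maps `W` bijectively onto `W`. -/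
def Good (τ : FractionRing (WittVector p k) →+* FractionRing (WittVector p k)) : Prop :=
  (∀ w : WittVector p k, ∃ w' : WittVector p k,
    τ (algebraMap (WittVector p k) (FractionRing (WittVector p k)) w) =
      algebraMap (WittVector p k) (FractionRing (WittVector p k)) w') ∧
  (∀ w : WittVector p k, ∃ w' : WittVector p k,
    τ (algebraMap (WittVector p k) (FractionRing (WittVector p k)) w') =
      algebraMap (WittVector p k) (FractionRing (WittVector p k)) w)

theorem good_one : Good (1 : FractionRing (WittVector p k) →+* FractionRing (WittVector p k)) :=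
  ⟨fun w => ⟨w, rfl⟩, fun w => ⟨w, rfl⟩⟩

theorem Good.mul {τ σ : FractionRing (WittVector p k) →+* FractionRing (WittVector p k)}
    (hτ : Good τ) (hσ : Good σ) : Good (τ * σ) := by
  constructor
  · intro w
    obtain ⟨w₁, h₁⟩ := hσ.1 w
    obtain ⟨w₂, h₂⟩ := hτ.1 w₁
    exact ⟨w₂, by rw [RingHom.mul_def, RingHom.comp_apply, h₁, h₂]⟩
  · intro w
    obtain ⟨w₁, h₁⟩ := hτ.2 w
    obtain ⟨w₂, h₂⟩ := hσ.2 w₁
    exact ⟨w₂, by rw [RingHom.mul_def, RingHom.comp_apply, h₂, h₁]⟩

theorem Good.pow {τ : FractionRing (WittVector p k) →+* FractionRing (WittVector p k)}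
    (hτ : Good τ) (n : ℕ) : Good (τ ^ n) := by
  induction n with
  | zero => rw [pow_zero]; exact good_one
  | succ n ih => rw [pow_succ]; exact ih.mul hτ

theorem good_frob [PerfectRing k p] (a : ℤ) : Good (Isoc.frob p k a) := by
  constructor
  · intro w
    exact ⟨_, Isoc.frob_algebraMap p k a w⟩
  · intro w
    refine ⟨(WittVector.frobeniusEquiv p k ^ a).symm w, ?_⟩
    rw [Isoc.frob_algebraMap, RingEquiv.apply_symm_apply]

theorem map_p_zpow (τ : FractionRing (WittVector p k) →+* FractionRing (WittVector p k)) (r : ℤ) :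
    τ ((p : FractionRing (WittVector p k)) ^ r) = (p : FractionRing (WittVector p k)) ^ r := by
  rw [map_zpow₀, map_natCast]

variable {σ : FractionRing (WittVector p k) →+* FractionRing (WittVector p k)}

theorem smul_map (G : N →ₛₗ[σ] N) (w : WittVector p k) (x : N) {w' : WittVector p k}
    (h : σ (algebraMap (WittVector p k) (FractionRing (WittVector p k)) w) =
      algebraMap (WittVector p k) (FractionRing (WittVector p k)) w') :
    G (w • x) = w' • G x := by
  rw [← algebraMap_smul (FractionRing (WittVector p k)) w x, map_smulₛₗ, h, algebraMap_smul]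

/-- The `W`-span of the image of `M` under a semilinear map. -/
noncomputable def img (G : N →ₛₗ[σ] N) (M : Submodule (WittVector p k) N) :
    Submodule (WittVector p k) N :=
  Submodule.span (WittVector p k) (G '' (M : Set N))

theorem mem_img (G : N →ₛₗ[σ] N) (hσ : Good σ) {M : Submodule (WittVector p k) N} {y : N} :
    y ∈ img G M ↔ ∃ x ∈ M, G x = y := by
  constructor
  · intro hy
    induction hy using Submodule.span_induction with
    | mem y hy => exact hy
    | zero => exact ⟨0, M.zero_mem, map_zero G⟩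
    | add y₁ y₂ _ _ h₁ h₂ =>
      obtain ⟨x₁, hx₁, rfl⟩ := h₁
      obtain ⟨x₂, hx₂, rfl⟩ := h₂
      exact ⟨x₁ + x₂, M.add_mem hx₁ hx₂, map_add G _ _⟩
    | smul w y _ h =>
      obtain ⟨x, hx, rfl⟩ := h
      obtain ⟨w', hw'⟩ := hσ.2 w
      exact ⟨w' • x, M.smul_mem _ hx, smul_map G w' x hw'⟩
  · rintro ⟨x, hx, rfl⟩
    exact Submodule.subset_span ⟨x, hx, rfl⟩

theorem img_mono (G : N →ₛₗ[σ] N) {M M' : Submodule (WittVector p k) N} (h : M ≤ M') :
    img G M ≤ img G M' :=
  Submodule.span_mono (Set.image_mono h)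

theorem img_pPow (G : N →ₛₗ[σ] N) (hσ : Good σ) (r : ℤ) (M : Submodule (WittVector p k) N) :
    img G (Isoc.pPow r M) = Isoc.pPow r (img G M) := by
  ext y
  rw [mem_img G hσ, mem_pPow_iff]
  constructor
  · rintro ⟨x, hx, rfl⟩
    obtain ⟨z, hz, rfl⟩ := mem_pPow_iff.1 hx
    exact ⟨G z, (mem_img G hσ).2 ⟨z, hz, rfl⟩, by rw [map_smulₛₗ, map_p_zpow]⟩
  · rintro ⟨z', hz', rfl⟩
    obtain ⟨z, hz, rfl⟩ := (mem_img G hσ).1 hz'
    exact ⟨((p : FractionRing (WittVector p k)) ^ r) • z, smul_mem_pPow hz,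
      by rw [map_smulₛₗ, map_p_zpow]⟩

theorem img_isLattice (G : N →ₛₗ[σ] N) (hσ : Good σ) (hG : Function.Surjective G)
    {M : Submodule (WittVector p k) N} (hM : M.IsLattice (FractionRing (WittVector p k))) :
    (img G M).IsLattice (FractionRing (WittVector p k)) := by
  classical
  refine ⟨?_, ?_⟩
  · obtain ⟨S, hS⟩ := hM.fg
    refine ⟨S.image G, ?_⟩
    apply le_antisymm
    · apply Submodule.span_le.2
      intro y hy
      rw [Finset.coe_image] at hy
      obtain ⟨x, hx, rfl⟩ := hy
      exact Submodule.subset_span ⟨x, by rw [← hS]; exact Submodule.subset_span hx, rfl⟩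
    · apply Submodule.span_le.2
      rintro y ⟨x, hx, rfl⟩
      rw [SetLike.mem_coe, ← hS] at hx
      induction hx using Submodule.span_induction with
      | mem x hx => exact Submodule.subset_span (by rw [Finset.coe_image]; exact ⟨x, hx, rfl⟩)
      | zero => rw [map_zero]; exact Submodule.zero_mem _
      | add x₁ x₂ _ _ h₁ h₂ => rw [map_add]; exact Submodule.add_mem _ h₁ h₂
      | smul w x _ h =>
        obtain ⟨w', hw'⟩ := hσ.1 w
        rw [smul_map G w x hw']
        exact Submodule.smul_mem _ _ h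
  · rw [eq_top_iff]
    intro y hy
    clear hy
    obtain ⟨x, rfl⟩ := hG y
    have hx : x ∈ Submodule.span (FractionRing (WittVector p k)) (M : Set N) := by
      rw [hM.span_eq_top]; trivial
    induction hx using Submodule.span_induction with
    | mem x hx => exact Submodule.subset_span (Submodule.subset_span ⟨x, hx, rfl⟩)
    | zero => rw [map_zero]; exact Submodule.zero_mem _
    | add x₁ x₂ _ _ h₁ h₂ => rw [map_add]; exact Submodule.add_mem _ h₁ h₂
    | smul l x _ h => rw [map_smulₛₗ]; exact Submodule.smul_mem _ _ h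

variable {τ : FractionRing (WittVector p k) →+* FractionRing (WittVector p k)}

theorem latImg_eq_img (F : N →ₛₗ[τ] N) (s : ℕ) (M : Submodule (WittVector p k) N) :
    Isoc.latImg F s M = img (Isoc.iter F s) M := rfl

theorem mem_latImg (F : N →ₛₗ[τ] N) (hτ : Good τ) {s : ℕ} {M : Submodule (WittVector p k) N}
    {y : N} : y ∈ Isoc.latImg F s M ↔ ∃ x ∈ M, (⇑F)^[s] x = y := by
  show y ∈ img (Isoc.iter F s) M ↔ _
  rw [mem_img (Isoc.iter F s) (hτ.pow s)]
  simp only [Isoc.coe_iter]

theorem latImg_mono (F : N →ₛₗ[τ] N) (s : ℕ) {M M' : Submodule (WittVector p k) N} (h : M ≤ M') :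
    Isoc.latImg F s M ≤ Isoc.latImg F s M' :=
  Submodule.span_mono (Set.image_mono h)

theorem latImg_pPow (F : N →ₛₗ[τ] N) (hτ : Good τ) (s : ℕ) (r : ℤ)
    (M : Submodule (WittVector p k) N) :
    Isoc.latImg F s (Isoc.pPow r M) = Isoc.pPow r (Isoc.latImg F s M) := by
  show img (Isoc.iter F s) (Isoc.pPow r M) = Isoc.pPow r (img (Isoc.iter F s) M)
  exact img_pPow (Isoc.iter F s) (hτ.pow s) r M

theorem latImg_add (F : N →ₛₗ[τ] N) (hτ : Good τ) (s t : ℕ) (M : Submodule (WittVector p k) N) :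
    Isoc.latImg F (s + t) M = Isoc.latImg F s (Isoc.latImg F t M) := by
  ext y
  rw [mem_latImg F hτ, mem_latImg F hτ]
  constructor
  · rintro ⟨x, hx, rfl⟩
    exact ⟨(⇑F)^[t] x, (mem_latImg F hτ).2 ⟨x, hx, rfl⟩, (Function.iterate_add_apply _ s t x).symm⟩
  · rintro ⟨x', hx', rfl⟩
    obtain ⟨x, hx, rfl⟩ := (mem_latImg F hτ).1 hx'
    exact ⟨x, hx, Function.iterate_add_apply _ s t x⟩

theorem latImg_zero (F : N →ₛₗ[τ] N) (M : Submodule (WittVector p k) N) :
    Isoc.latImg F 0 M = M := by
  unfold Isoc.latImg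
  rw [Function.iterate_zero, Set.image_id, Submodule.span_eq]

theorem latImg_isLattice (F : N →ₛₗ[τ] N) (hτ : Good τ) (hF : Function.Surjective F) (s : ℕ)
    {M : Submodule (WittVector p k) N} (hM : M.IsLattice (FractionRing (WittVector p k))) :
    (Isoc.latImg F s M).IsLattice (FractionRing (WittVector p k)) := by
  show (img (Isoc.iter F s) M).IsLattice (FractionRing (WittVector p k))
  exact img_isLattice (Isoc.iter F s) (hτ.pow s) (by rw [Isoc.coe_iter]; exact hF.iterate s) hM

end Semilinear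

section Ord

variable {p : ℕ} [Fact p.Prime] {k : Type u} [Field k] [CharP k p] [PerfectRing k p]
variable {N : Type v} [AddCommGroup N] [Module (WittVector p k) N]
  [Module (FractionRing (WittVector p k)) N]
  [IsScalarTower (WittVector p k) (FractionRing (WittVector p k)) N]
variable {τ : FractionRing (WittVector p k) →+* FractionRing (WittVector p k)}

theorem latImg_bot (F : N →ₛₗ[τ] N) (s : ℕ) :
    Isoc.latImg F s (⊥ : Submodule (WittVector p k) N) = ⊥ := by
  unfold Isoc.latImg
  rw [eq_bot_iff, Submodule.span_le]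
  rintro y ⟨x, hx, rfl⟩
  rw [SetLike.mem_coe, Submodule.mem_bot] at hx
  subst hx
  have : (⇑(Isoc.iter F s)) 0 = 0 := map_zero _
  rw [Isoc.coe_iter] at this
  rw [this]
  exact Submodule.zero_mem _

theorem isOrd_ne_bot {M : Submodule (WittVector p k) N} {F : N →ₛₗ[τ] N} {s : ℕ} {r : ℤ}
    (h : Isoc.IsOrd M F s r) : M ≠ ⊥ := by
  rintro rfl
  apply h.2
  rw [latImg_bot]
  exact bot_le

theorem isOrd_le_iff {M : Submodule (WittVector p k) N} {F : N →ₛₗ[τ] N} {s : ℕ} {r : ℤ}
    (h : Isoc.IsOrd M F s r) {r' : ℤ} : Isoc.latImg F s M ≤ Isoc.pPow r' M ↔ r' ≤ r := by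
  constructor
  · intro h'
    by_contra hlt
    push Not at hlt
    exact h.2 (h'.trans (pPow_anti (by omega) M))
  · intro hle
    exact h.1.trans (pPow_anti hle M)

theorem isOrd_unique {M : Submodule (WittVector p k) N} {F : N →ₛₗ[τ] N} {s : ℕ} {r r' : ℤ}
    (h : Isoc.IsOrd M F s r) (h' : Isoc.IsOrd M F s r') : r = r' :=
  le_antisymm ((isOrd_le_iff h').1 h.1) ((isOrd_le_iff h).1 h'.1)

/-- The order `ord_M(F^s)` exists for a non-zero lattice. -/
theorem exists_isOrd (F : N →ₛₗ[τ] N) (hτ : Good τ) (hF : Function.Surjective F)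
    {M : Submodule (WittVector p k) N} (hM : M.IsLattice (FractionRing (WittVector p k)))
    (hM0 : M ≠ ⊥) (s : ℕ) : ∃ r : ℤ, Isoc.IsOrd M F s r := by
  have hM' := latImg_isLattice F hτ hF s hM
  obtain ⟨c, hc⟩ := exists_pPow_le hM'.fg hM.span_eq_top
  obtain ⟨c', hc'⟩ := exists_pPow_le hM.fg hM'.span_eq_top
  obtain ⟨ub, hub, hmax⟩ := Int.exists_greatest_of_bdd
    (P := fun r : ℤ => Isoc.latImg F s M ≤ Isoc.pPow r M)
    ⟨c', fun z hz => le_of_pPow_le_pPow hM.fg hM0 (hc'.trans hz)⟩
    ⟨-(c : ℤ), pPow_le_iff.1 hc⟩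
  refine ⟨ub, hub, fun h => ?_⟩
  have := hmax _ h
  omega

theorem isOrd_zero (F : N →ₛₗ[τ] N) {M : Submodule (WittVector p k) N} (hM : M.FG)
    (hM0 : M ≠ ⊥) : Isoc.IsOrd M F 0 0 := by
  refine ⟨by rw [latImg_zero, pPow_zero], fun h => ?_⟩
  rw [latImg_zero] at h
  exact hM0 (eq_bot_of_le_pPow_one hM (by simpa using h))

/-- superadditivity of orders -/
theorem isOrd_add_le {M : Submodule (WittVector p k) N} {F : N →ₛₗ[τ] N} (hτ : Good τ)
    {s t : ℕ} {r r' r'' : ℤ}
    (h : Isoc.IsOrd M F s r) (h' : Isoc.IsOrd M F t r') (h'' : Isoc.IsOrd M F (s + t) r'') :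
    r + r' ≤ r'' := by
  rw [← isOrd_le_iff h'', latImg_add F hτ]
  calc Isoc.latImg F s (Isoc.latImg F t M) ≤ Isoc.latImg F s (Isoc.pPow r' M) :=
        latImg_mono F s h'.1
    _ = Isoc.pPow r' (Isoc.latImg F s M) := latImg_pPow F hτ s r' M
    _ ≤ Isoc.pPow r' (Isoc.pPow r M) := pPow_mono h.1
    _ = Isoc.pPow (r + r') M := by rw [add_comm, pPow_add]

/-- If `p^c M ≤ F M` then `p^{c n} M ≤ F^n M`. -/
theorem pPow_mul_le_latImg (F : N →ₛₗ[τ] N) (hτ : Good τ) {M : Submodule (WittVector p k) N}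
    {c : ℤ} (hc : Isoc.pPow c M ≤ Isoc.latImg F 1 M) (n : ℕ) :
    Isoc.pPow (c * n) M ≤ Isoc.latImg F n M := by
  induction n with
  | zero => simp [pPow_zero, latImg_zero]
  | succ n ih =>
    rw [add_comm n 1, latImg_add F hτ]
    calc Isoc.pPow (c * ((1 + n : ℕ) : ℤ)) M = Isoc.pPow (c * n) (Isoc.pPow c M) := by
          rw [← pPow_add]; congr 1; push_cast; ring
      _ ≤ Isoc.pPow (c * n) (Isoc.latImg F 1 M) := pPow_mono hc
      _ = Isoc.latImg F 1 (Isoc.pPow (c * n) M) := (latImg_pPow F hτ 1 _ M).symm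
      _ ≤ Isoc.latImg F 1 (Isoc.latImg F n M) := latImg_mono F 1 ih

end Ord

end Groth.Agent.Lib.Helper25.Isoc
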