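import Mathlib
import Groth.Prelude.Def_Isoc
import Groth.Agent.Lib.Helper25.IsocLib

/-!
# Helper library for the `Isoc` statements, part 2 (helper25)

* `latImg_mul_eq`, `eq_zero_of_forall_mem_pPow` (Krull), `exists_pPow_le'`,
* transport along equivariant linear maps: `map_pPow`, `map_latImg`.
-/

set_option autoImplicit false

universe u v w

open scoped Pointwise

namespace Groth.Agent.Lib.Helper25.Isoc

section A

variable {p : ℕ} [Fact p.Prime] {k : Type u} [Field k] [CharP k p] [PerfectRing k p]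
variable {N : Type v} [AddCommGroup N] [Module (WittVector p k) N]
  [Module (FractionRing (WittVector p k)) N]
  [IsScalarTower (WittVector p k) (FractionRing (WittVector p k)) N]
variable {τ : FractionRing (WittVector p k) →+* FractionRing (WittVector p k)}

theorem latImg_mul_eq (F : N →ₛₗ[τ] N) (hτ : Good τ) {M : Submodule (WittVector p k) N}
    {s : ℕ} {r : ℤ} (h : Isoc.latImg F s M = Isoc.pPow r M) (n : ℕ) :
    Isoc.latImg F (s * n) M = Isoc.pPow (r * n) M := by
  induction n with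
  | zero => simp [pPow_zero, latImg_zero]
  | succ n ih =>
    rw [Nat.mul_succ, add_comm, latImg_add F hτ, ih, latImg_pPow F hτ, h, ← pPow_add]
    congr 1
    push_cast
    ring

/-- Krull intersection for a finitely generated `W`-submodule. -/
theorem eq_zero_of_forall_mem_pPow {M : Submodule (WittVector p k) N} (hM : M.FG) {x : N}
    (hx : ∀ n : ℕ, x ∈ Isoc.pPow (n : ℤ) M) : x = 0 := by
  have hxM : x ∈ M := by simpa [pPow_zero] using hx 0
  haveI : Module.Finite (WittVector p k) ↥M := Module.Finite.iff_fg.2 hM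
  have hI : Ideal.span {((p : ℕ) : WittVector p k)} ≠ ⊤ := by
    rw [Ne, Ideal.span_singleton_eq_top]
    exact not_isUnit_p
  have key := Ideal.iInf_pow_smul_eq_bot_of_isLocalRing (M := ↥M)
    (Ideal.span {((p : ℕ) : WittVector p k)}) hI
  have hmem : (⟨x, hxM⟩ : ↥M) ∈ (⨅ i : ℕ, (Ideal.span {((p : ℕ) : WittVector p k)}) ^ i • ⊤ :
      Submodule (WittVector p k) ↥M) := by
    rw [Submodule.mem_iInf]
    intro i
    obtain ⟨y, hy, hyx⟩ := mem_pPow_iff.1 (hx i)
    rw [zpow_natCast, natCast_smul_eq] at hyx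
    have : (⟨x, hxM⟩ : ↥M) = ((p : WittVector p k) ^ i) • (⟨y, hy⟩ : ↥M) := by
      apply Subtype.ext
      simp [hyx]
    rw [this]
    have hp_mem : ((p : ℕ) : WittVector p k) ∈ Ideal.span {((p : ℕ) : WittVector p k)} :=
      Ideal.subset_span (Set.mem_singleton _)
    have hpow : ((p : ℕ) : WittVector p k) ^ i ∈ (Ideal.span {((p : ℕ) : WittVector p k)}) ^ i :=
      Ideal.pow_mem_pow hp_mem i
    exact Submodule.smul_mem_smul hpow Submodule.mem_top
  rw [key, Submodule.mem_bot] at hmem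
  exact congrArg Subtype.val hmem

/-- Variant of `exists_pPow_le` with weaker hypothesis. -/
theorem exists_pPow_le' {M M' : Submodule (WittVector p k) N}
    (hM : M.FG)
    (hM' : ∀ x ∈ M, x ∈ Submodule.span (FractionRing (WittVector p k)) (M' : Set N)) :
    ∃ c : ℕ, Isoc.pPow (c : ℤ) M ≤ M' := by
  classical
  obtain ⟨S, hS⟩ := hM
  have h1 : ∀ x : N, ∃ c : ℕ, x ∈ M → ((p : FractionRing (WittVector p k)) ^ c) • x ∈ M' := by
    intro x
    by_cases hx : x ∈ M
    · obtain ⟨c, hc⟩ := exists_pow_smul_mem M' x (hM' x hx)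
      exact ⟨c, fun _ => hc⟩
    · exact ⟨0, fun h => absurd h hx⟩
  choose cf hcf using h1
  refine ⟨S.sup cf, ?_⟩
  rw [pPow_le_iff, ← hS, Submodule.span_le]
  intro x hx
  rw [SetLike.mem_coe, mem_pPow_iff', neg_neg, zpow_natCast]
  have hle : cf x ≤ S.sup cf := Finset.le_sup (f := cf) hx
  obtain ⟨d, hd⟩ := Nat.exists_eq_add_of_le hle
  rw [hd, add_comm, pow_add, mul_smul, natCast_smul_eq]
  exact M'.smul_mem _ (hcf x (by rw [← hS]; exact Submodule.subset_span hx))

end A

section B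

variable {p : ℕ} [Fact p.Prime] {k : Type u} [Field k] [CharP k p]
variable {N₁ : Type v} [AddCommGroup N₁] [Module (WittVector p k) N₁]
  [Module (FractionRing (WittVector p k)) N₁]
  [IsScalarTower (WittVector p k) (FractionRing (WittVector p k)) N₁]
variable {N₂ : Type w} [AddCommGroup N₂] [Module (WittVector p k) N₂]
  [Module (FractionRing (WittVector p k)) N₂]
  [IsScalarTower (WittVector p k) (FractionRing (WittVector p k)) N₂]
variable {τ : FractionRing (WittVector p k) →+* FractionRing (WittVector p k)}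

/-- The image of a `W`-submodule under an `L`-linear map. -/
noncomputable def mapL (f : N₁ →ₗ[FractionRing (WittVector p k)] N₂)
    (M : Submodule (WittVector p k) N₁) : Submodule (WittVector p k) N₂ :=
  M.map (f.restrictScalars (WittVector p k))

theorem mem_mapL {f : N₁ →ₗ[FractionRing (WittVector p k)] N₂}
    {M : Submodule (WittVector p k) N₁} {y : N₂} : y ∈ mapL f M ↔ ∃ x ∈ M, f x = y := by
  unfold mapL
  rw [Submodule.mem_map]
  rfl

theorem mapL_fg {f : N₁ →ₗ[FractionRing (WittVector p k)] N₂}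
    {M : Submodule (WittVector p k) N₁} (hM : M.FG) : (mapL f M).FG :=
  hM.map _

theorem mapL_pPow (f : N₁ →ₗ[FractionRing (WittVector p k)] N₂) (r : ℤ)
    (M : Submodule (WittVector p k) N₁) : mapL f (Isoc.pPow r M) = Isoc.pPow r (mapL f M) := by
  ext y
  rw [mem_mapL, mem_pPow_iff]
  constructor
  · rintro ⟨x, hx, rfl⟩
    obtain ⟨z, hz, rfl⟩ := mem_pPow_iff.1 hx
    exact ⟨f z, mem_mapL.2 ⟨z, hz, rfl⟩, by rw [map_smul]⟩
  · rintro ⟨z', hz', rfl⟩
    obtain ⟨z, hz, rfl⟩ := mem_mapL.1 hz'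
    exact ⟨_, smul_mem_pPow hz, by rw [map_smul]⟩

theorem mapL_latImg (f : N₁ →ₗ[FractionRing (WittVector p k)] N₂)
    (F₁ : N₁ →ₛₗ[τ] N₁) (F₂ : N₂ →ₛₗ[τ] N₂) (hτ : Good τ)
    (hf : ∀ x : N₁, f (F₁ x) = F₂ (f x)) (s : ℕ) (M : Submodule (WittVector p k) N₁) :
    mapL f (Isoc.latImg F₁ s M) = Isoc.latImg F₂ s (mapL f M) := by
  have hsc : ∀ x : N₁, f ((⇑F₁)^[s] x) = (⇑F₂)^[s] (f x) := by
    intro x
    exact (Function.Semiconj.iterate_right (f := ⇑f) (ga := ⇑F₁) (gb := ⇑F₂) hf s) x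
  ext y
  rw [mem_mapL, mem_latImg F₂ hτ]
  constructor
  · rintro ⟨x, hx, rfl⟩
    obtain ⟨z, hz, rfl⟩ := (mem_latImg F₁ hτ).1 hx
    exact ⟨f z, mem_mapL.2 ⟨z, hz, rfl⟩, (hsc z).symm⟩
  · rintro ⟨z', hz', rfl⟩
    obtain ⟨z, hz, rfl⟩ := mem_mapL.1 hz'
    exact ⟨_, (mem_latImg F₁ hτ).2 ⟨z, hz, rfl⟩, hsc z⟩

end B

end Groth.Agent.Lib.Helper25.Isoc
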