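import Mathlib
import Groth.Prelude.Def_Isoc
import Groth.Agent.Lib.Helper25.IsocLib
import Groth.Agent.Lib.Helper25.IsocLib2

/-!
# Helper library for the `Isoc` statements, part 3 (helper25): sub-isocrystals

* `map_eq_of_map_le` : an injective semilinear endomorphism of a finite-dimensional space maps a
  stable subspace onto itself.
* `resL P M` : the lattice `M ∩ P` of `P`, `resL_fg`, `resL_span`, `resL_pPow`, `resL_latImg`.
-/

set_option autoImplicit false

universe u v w

open scoped Pointwise

namespace Groth.Agent.Lib.Helper25.Isoc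

section Chain

variable {K : Type u} [Field K] {N : Type v} [AddCommGroup N] [Module K N]
variable {τ : K →+* K} [RingHomSurjective τ]

theorem map_eq_of_map_le [IsArtinian K N] (F : N →ₛₗ[τ] N) (hinj : Function.Injective F)
    (P : Submodule K N) (hP : P.map F ≤ P) : P.map F = P := by
  have hmono : Monotone (Submodule.map F : Submodule K N → Submodule K N) :=
    fun _ _ h => Submodule.map_mono h
  have hanti : ∀ n, (Submodule.map F)^[n + 1] P ≤ (Submodule.map F)^[n] P := by
    intro n
    induction n with
    | zero => simpa using hP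
    | succ n ih =>
      have e1 : (Submodule.map F)^[n + 1 + 1] P =
          Submodule.map F ((Submodule.map F)^[n + 1] P) := Function.iterate_succ_apply' _ _ _
      have e2 : (Submodule.map F)^[n + 1] P =
          Submodule.map F ((Submodule.map F)^[n] P) := Function.iterate_succ_apply' _ _ _
      rw [e1]
      conv_rhs => rw [e2]
      exact hmono ih
  let f : ℕ →o (Submodule K N)ᵒᵈ :=
    ⟨fun n => OrderDual.toDual ((Submodule.map F)^[n] P), monotone_nat_of_le_succ hanti⟩
  obtain ⟨n, hn⟩ := IsArtinian.monotone_stabilizes f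
  have h1 : (Submodule.map F)^[n] P = (Submodule.map F)^[n + 1] P :=
    congrArg OrderDual.ofDual (hn (n + 1) (Nat.le_succ n))
  rw [Function.iterate_succ_apply] at h1
  have hinj' : Function.Injective (Submodule.map F : Submodule K N → Submodule K N) :=
    Submodule.map_injective_of_injective hinj
  exact (hinj'.iterate n h1).symm

theorem mem_of_apply_mem [IsArtinian K N] (F : N →ₛₗ[τ] N) (hinj : Function.Injective F)
    (P : Submodule K N) (hP : ∀ x ∈ P, F x ∈ P) {x : N} (hx : F x ∈ P) : x ∈ P := by
  have h1 : P.map F = P := map_eq_of_map_le F hinj P (by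
    rintro y ⟨z, hz, rfl⟩
    exact hP z hz)
  have h2 := Submodule.comap_map_eq_of_injective hinj P
  rw [h1] at h2
  rw [← h2]
  exact hx

theorem mem_of_iterate_mem [IsArtinian K N] (F : N →ₛₗ[τ] N) (hinj : Function.Injective F)
    (P : Submodule K N) (hP : ∀ x ∈ P, F x ∈ P) (s : ℕ) {x : N} (hx : (⇑F)^[s] x ∈ P) :
    x ∈ P := by
  induction s generalizing x with
  | zero => exact hx
  | succ s ih =>
    rw [Function.iterate_succ_apply] at hx
    exact mem_of_apply_mem F hinj P hP (ih hx)

end Chain

section Frob

variable (p : ℕ) [Fact p.Prime] (k : Type u) [Field k] [CharP k p] [PerfectRing k p]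

theorem frob_surjective (a : ℤ) : Function.Surjective (Isoc.frob p k a) :=
  (IsFractionRing.ringEquivOfRingEquiv (K := FractionRing (WittVector p k))
    (L := FractionRing (WittVector p k)) (WittVector.frobeniusEquiv p k ^ a)).surjective

theorem frob_ringHomSurjective (a : ℤ) : RingHomSurjective (Isoc.frob p k a) :=
  ⟨frob_surjective p k a⟩

end Frob

section Sub

variable {p : ℕ} [Fact p.Prime] {k : Type u} [Field k] [CharP k p] [PerfectRing k p]
variable {N : Type v} [AddCommGroup N] [Module (WittVector p k) N]
  [Module (FractionRing (WittVector p k)) N]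
  [IsScalarTower (WittVector p k) (FractionRing (WittVector p k)) N]
variable {τ : FractionRing (WittVector p k) →+* FractionRing (WittVector p k)}

/-- `M ∩ P` as a `W`-submodule of `P`. -/
noncomputable def resL (P : Submodule (FractionRing (WittVector p k)) N)
    (M : Submodule (WittVector p k) N) : Submodule (WittVector p k) ↥P :=
  M.comap (P.subtype.restrictScalars (WittVector p k))

theorem mem_resL {P : Submodule (FractionRing (WittVector p k)) N}
    {M : Submodule (WittVector p k) N} {x : ↥P} : x ∈ resL P M ↔ (x : N) ∈ M := Iff.rfl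

theorem resL_fg {P : Submodule (FractionRing (WittVector p k)) N}
    {M : Submodule (WittVector p k) N} (hM : M.FG) : (resL P M).FG := by
  apply Submodule.fg_of_fg_map_injective (P.subtype.restrictScalars (WittVector p k))
    Subtype.val_injective
  exact Submodule.FG.of_le hM (Submodule.map_comap_le _ _)

theorem resL_span {P : Submodule (FractionRing (WittVector p k)) N}
    {M : Submodule (WittVector p k) N}
    (hM : Submodule.span (FractionRing (WittVector p k)) (M : Set N) = ⊤) :
    Submodule.span (FractionRing (WittVector p k)) (resL P M : Set ↥P) = ⊤ := by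
  rw [eq_top_iff]
  intro x _
  obtain ⟨c, hc⟩ := exists_pow_smul_mem M (x : N) (by rw [hM]; trivial)
  have h1 : ((p : FractionRing (WittVector p k)) ^ c) • x ∈ resL P M := by
    rw [mem_resL, Submodule.coe_smul]
    exact hc
  have h2 := Submodule.smul_mem (Submodule.span (FractionRing (WittVector p k))
    (resL P M : Set ↥P)) (((p : FractionRing (WittVector p k)) ^ c)⁻¹) (Submodule.subset_span h1)
  rwa [smul_smul, inv_mul_cancel₀ (pow_ne_zero _ (pL_ne_zero p k)), one_smul] at h2

theorem resL_isLattice {P : Submodule (FractionRing (WittVector p k)) N}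
    {M : Submodule (WittVector p k) N} (hM : M.IsLattice (FractionRing (WittVector p k))) :
    (resL P M).IsLattice (FractionRing (WittVector p k)) :=
  ⟨resL_fg hM.fg, resL_span hM.span_eq_top⟩

theorem resL_pPow (P : Submodule (FractionRing (WittVector p k)) N) (r : ℤ)
    (M : Submodule (WittVector p k) N) : resL P (Isoc.pPow r M) = Isoc.pPow r (resL P M) := by
  ext x
  rw [mem_resL, mem_pPow_iff', mem_pPow_iff', mem_resL, Submodule.coe_smul]

theorem restrict_iterate {P : Submodule (FractionRing (WittVector p k)) N} (F : N →ₛₗ[τ] N)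
    (hP : ∀ x ∈ P, F x ∈ P) (s : ℕ) (x : ↥P) :
    (((⇑(F.restrict hP))^[s] x : ↥P) : N) = (⇑F)^[s] (x : N) := by
  induction s generalizing x with
  | zero => rfl
  | succ s ih =>
    rw [Function.iterate_succ_apply, Function.iterate_succ_apply, ih]
    rfl

theorem resL_latImg {P : Submodule (FractionRing (WittVector p k)) N} (F : N →ₛₗ[τ] N)
    (hτ : Good τ) (hP : ∀ x ∈ P, F x ∈ P) (s : ℕ)
    (hback : ∀ x : N, (⇑F)^[s] x ∈ P → x ∈ P) (M : Submodule (WittVector p k) N) :
    resL P (Isoc.latImg F s M) = Isoc.latImg (F.restrict hP) s (resL P M) := by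
  ext y
  rw [mem_resL, mem_latImg F hτ, mem_latImg (F.restrict hP) hτ]
  constructor
  · rintro ⟨x, hx, hxy⟩
    have hxP : x ∈ P := hback x (by rw [hxy]; exact y.2)
    refine ⟨⟨x, hxP⟩, hx, ?_⟩
    apply Subtype.ext
    rw [restrict_iterate, hxy]
  · rintro ⟨x, hx, rfl⟩
    exact ⟨(x : N), hx, (restrict_iterate F hP s x).symm⟩

end Sub

section Quot

variable {p : ℕ} [Fact p.Prime] {k : Type u} [Field k] [CharP k p]
variable {N₁ : Type v} [AddCommGroup N₁] [Module (WittVector p k) N₁]
  [Module (FractionRing (WittVector p k)) N₁]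
  [IsScalarTower (WittVector p k) (FractionRing (WittVector p k)) N₁]
variable {N₂ : Type w} [AddCommGroup N₂] [Module (WittVector p k) N₂]
  [Module (FractionRing (WittVector p k)) N₂]
  [IsScalarTower (WittVector p k) (FractionRing (WittVector p k)) N₂]

theorem mapL_span {f : N₁ →ₗ[FractionRing (WittVector p k)] N₂} (hf : Function.Surjective f)
    {M : Submodule (WittVector p k) N₁}
    (hM : Submodule.span (FractionRing (WittVector p k)) (M : Set N₁) = ⊤) :
    Submodule.span (FractionRing (WittVector p k)) (mapL f M : Set N₂) = ⊤ := by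
  have h1 : (mapL f M : Set N₂) = f '' (M : Set N₁) := by
    ext y
    simp only [SetLike.mem_coe, mem_mapL, Set.mem_image]
  rw [h1, ← Submodule.map_span, hM, Submodule.map_top, LinearMap.range_eq_top]
  exact hf

theorem mapL_isLattice {f : N₁ →ₗ[FractionRing (WittVector p k)] N₂} (hf : Function.Surjective f)
    {M : Submodule (WittVector p k) N₁} (hM : M.IsLattice (FractionRing (WittVector p k))) :
    (mapL f M).IsLattice (FractionRing (WittVector p k)) :=
  ⟨mapL_fg hM.fg, mapL_span hf hM.span_eq_top⟩

end Quot

end Groth.Agent.Lib.Helper25.Isoc
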