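import Mathlib
import Groth.Prelude.Def_Isoc
import Groth.Agent.Lib.Helper25.IsocLib
import Groth.Agent.Lib.Helper25.IsocLib2
import Groth.Agent.Lib.Helper25.IsocLib3

/-!
# Helper library for the `Isoc` statements, part 4 (helper25): ambient form of "isoclinic"

* `IsoclinicOn F μ P` : there is a finitely generated `W`-submodule `M` of `N` spanning `P` with
  `F^s M = p^r M`, `r / s = μ`.
* `isoclinicOn_of_restrict`, `restrict_of_isoclinicOn`, `IsoclinicOn.sup`, `isoclinicOn_bot`.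
-/

set_option autoImplicit false

universe u v w

open scoped Pointwise

namespace Groth.Agent.Lib.Helper25.Isoc

section A

variable {p : ℕ} [Fact p.Prime] {k : Type u} [Field k] [CharP k p] [PerfectRing k p]
variable {N : Type v} [AddCommGroup N] [Module (WittVector p k) N]
  [Module (FractionRing (WittVector p k)) N]
  [IsScalarTower (WittVector p k) (FractionRing (WittVector p k)) N]
variable {τ : FractionRing (WittVector p k) →+* FractionRing (WittVector p k)}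

/-- ambient form of isoclinic for a subspace -/
def IsoclinicOn (F : N →ₛₗ[τ] N) (μ : ℚ) (P : Submodule (FractionRing (WittVector p k)) N) : Prop :=
  ∃ M : Submodule (WittVector p k) N, M.FG ∧
    Submodule.span (FractionRing (WittVector p k)) (M : Set N) = P ∧
    ∃ (r : ℤ) (s : ℕ), 0 < s ∧ (r : ℚ) / s = μ ∧ Isoc.latImg F s M = Isoc.pPow r M

theorem resL_span' {P : Submodule (FractionRing (WittVector p k)) N}
    {M : Submodule (WittVector p k) N}
    (hM : P ≤ Submodule.span (FractionRing (WittVector p k)) (M : Set N)) :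
    Submodule.span (FractionRing (WittVector p k)) (resL P M : Set ↥P) = ⊤ := by
  rw [eq_top_iff]
  intro x _
  obtain ⟨c, hc⟩ := exists_pow_smul_mem M (x : N) (hM x.2)
  have h1 : ((p : FractionRing (WittVector p k)) ^ c) • x ∈ resL P M := by
    rw [mem_resL, Submodule.coe_smul]
    exact hc
  have h2 := Submodule.smul_mem (Submodule.span (FractionRing (WittVector p k))
    (resL P M : Set ↥P)) (((p : FractionRing (WittVector p k)) ^ c)⁻¹) (Submodule.subset_span h1)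
  rwa [smul_smul, inv_mul_cancel₀ (pow_ne_zero _ (pL_ne_zero p k)), one_smul] at h2

theorem resL_latImg' {P : Submodule (FractionRing (WittVector p k)) N} (F : N →ₛₗ[τ] N)
    (hτ : Good τ) (hP : ∀ x ∈ P, F x ∈ P) (s : ℕ) (M : Submodule (WittVector p k) N)
    (hMP : ∀ x ∈ M, x ∈ P) :
    resL P (Isoc.latImg F s M) = Isoc.latImg (F.restrict hP) s (resL P M) := by
  ext y
  rw [mem_resL, mem_latImg F hτ, mem_latImg (F.restrict hP) hτ]
  constructor
  · rintro ⟨x, hx, hxy⟩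
    refine ⟨⟨x, hMP x hx⟩, hx, ?_⟩
    apply Subtype.ext
    rw [restrict_iterate, hxy]
  · rintro ⟨x, hx, rfl⟩
    exact ⟨(x : N), hx, (restrict_iterate F hP s x).symm⟩

theorem isoclinicOn_of_restrict (F : N →ₛₗ[τ] N) (hτ : Good τ) {μ : ℚ}
    {P : Submodule (FractionRing (WittVector p k)) N} (hP : ∀ x ∈ P, F x ∈ P)
    (h : Isoc.IsIsoclinic (F.restrict hP) μ) : IsoclinicOn F μ P := by
  obtain ⟨M', hM', r, s, hs, hrs, hFM⟩ := h
  refine ⟨mapL P.subtype M', mapL_fg hM'.fg, ?_, r, s, hs, hrs, ?_⟩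
  · have h1 : (mapL P.subtype M' : Set N) = P.subtype '' (M' : Set ↥P) := by
      ext y
      simp only [SetLike.mem_coe, mem_mapL, Set.mem_image]
    rw [h1, ← Submodule.map_span, hM'.span_eq_top, Submodule.map_top, Submodule.range_subtype]
  · rw [← mapL_latImg P.subtype (F.restrict hP) F hτ (fun x => rfl), hFM, mapL_pPow]

theorem restrict_of_isoclinicOn (F : N →ₛₗ[τ] N) (hτ : Good τ) {μ : ℚ}
    {P : Submodule (FractionRing (WittVector p k)) N} (hP : ∀ x ∈ P, F x ∈ P)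
    (h : IsoclinicOn F μ P) : Isoc.IsIsoclinic (F.restrict hP) μ := by
  obtain ⟨M, hM, hspan, r, s, hs, hrs, hFM⟩ := h
  have hMP : ∀ x ∈ M, x ∈ P := fun x hx => by
    rw [← hspan]; exact Submodule.subset_span hx
  refine ⟨resL P M, ⟨resL_fg hM, resL_span' (by rw [hspan])⟩, r, s, hs, hrs, ?_⟩
  rw [← resL_latImg' F hτ hP s M hMP, hFM, resL_pPow]

theorem latImg_sup (F : N →ₛₗ[τ] N) (hτ : Good τ) (s : ℕ) (M₁ M₂ : Submodule (WittVector p k) N) :
    Isoc.latImg F s (M₁ ⊔ M₂) = Isoc.latImg F s M₁ ⊔ Isoc.latImg F s M₂ := by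
  apply le_antisymm
  · intro y hy
    obtain ⟨x, hx, rfl⟩ := (mem_latImg F hτ).1 hy
    obtain ⟨x₁, hx₁, x₂, hx₂, rfl⟩ := Submodule.mem_sup.1 hx
    have : (⇑F)^[s] (x₁ + x₂) = (⇑F)^[s] x₁ + (⇑F)^[s] x₂ := map_add (Isoc.iter F s) x₁ x₂
    rw [this]
    exact Submodule.add_mem_sup ((mem_latImg F hτ).2 ⟨x₁, hx₁, rfl⟩)
      ((mem_latImg F hτ).2 ⟨x₂, hx₂, rfl⟩)
  · exact sup_le (latImg_mono F s le_sup_left) (latImg_mono F s le_sup_right)

theorem pPow_sup (r : ℤ) (M₁ M₂ : Submodule (WittVector p k) N) :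
    Isoc.pPow r (M₁ ⊔ M₂) = Isoc.pPow r M₁ ⊔ Isoc.pPow r M₂ := by
  apply le_antisymm
  · intro y hy
    obtain ⟨x, hx, rfl⟩ := mem_pPow_iff.1 hy
    obtain ⟨x₁, hx₁, x₂, hx₂, rfl⟩ := Submodule.mem_sup.1 hx
    rw [smul_add]
    exact Submodule.add_mem_sup (smul_mem_pPow hx₁) (smul_mem_pPow hx₂)
  · exact sup_le (pPow_mono le_sup_left) (pPow_mono le_sup_right)

theorem span_sup_coe (M₁ M₂ : Submodule (WittVector p k) N) :
    Submodule.span (FractionRing (WittVector p k)) ((M₁ ⊔ M₂ : Submodule (WittVector p k) N) : Set N)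
      = Submodule.span (FractionRing (WittVector p k)) (M₁ : Set N) ⊔
        Submodule.span (FractionRing (WittVector p k)) (M₂ : Set N) := by
  apply le_antisymm
  · apply Submodule.span_le.2
    intro y hy
    obtain ⟨x₁, hx₁, x₂, hx₂, rfl⟩ := Submodule.mem_sup.1 hy
    exact Submodule.add_mem_sup (Submodule.subset_span hx₁) (Submodule.subset_span hx₂)
  · exact sup_le (Submodule.span_mono (fun x hx => (le_sup_left : M₁ ≤ M₁ ⊔ M₂) hx))
      (Submodule.span_mono (fun x hx => (le_sup_right : M₂ ≤ M₁ ⊔ M₂) hx))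

theorem IsoclinicOn.sup {F : N →ₛₗ[τ] N} (hτ : Good τ) {μ : ℚ}
    {P₁ P₂ : Submodule (FractionRing (WittVector p k)) N}
    (h₁ : IsoclinicOn F μ P₁) (h₂ : IsoclinicOn F μ P₂) : IsoclinicOn F μ (P₁ ⊔ P₂) := by
  obtain ⟨M₁, hM₁, hsp₁, r₁, s₁, hs₁, hrs₁, hF₁⟩ := h₁
  obtain ⟨M₂, hM₂, hsp₂, r₂, s₂, hs₂, hrs₂, hF₂⟩ := h₂
  have hR : r₁ * (s₂ : ℤ) = r₂ * (s₁ : ℤ) := by
    have h1 : (s₁ : ℚ) ≠ 0 := by exact_mod_cast hs₁.ne'
    have h2 : (s₂ : ℚ) ≠ 0 := by exact_mod_cast hs₂.ne'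
    have := hrs₁.trans hrs₂.symm
    rw [div_eq_div_iff h1 h2] at this
    exact_mod_cast this
  refine ⟨M₁ ⊔ M₂, hM₁.sup hM₂, ?_, r₁ * (s₂ : ℤ), s₁ * s₂, Nat.mul_pos hs₁ hs₂, ?_, ?_⟩
  · rw [span_sup_coe, hsp₁, hsp₂]
  · rw [← hrs₁]
    have h1 : (s₁ : ℚ) ≠ 0 := by exact_mod_cast hs₁.ne'
    have h2 : (s₂ : ℚ) ≠ 0 := by exact_mod_cast hs₂.ne'
    push_cast
    field_simp
  · rw [latImg_sup F hτ, pPow_sup]
    have e₁ := latImg_mul_eq F hτ hF₁ s₂
    have e₂ := latImg_mul_eq F hτ hF₂ s₁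
    rw [mul_comm s₂ s₁] at e₂
    rw [e₁, e₂, hR]

theorem isoclinicOn_bot (F : N →ₛₗ[τ] N) (μ : ℚ) :
    IsoclinicOn F μ (⊥ : Submodule (FractionRing (WittVector p k)) N) := by
  refine ⟨⊥, Submodule.fg_bot, by simp, μ.num, μ.den, μ.den_pos, ?_, ?_⟩
  · exact_mod_cast Rat.num_div_den μ
  · rw [latImg_bot, pPow_bot]

end A

end Groth.Agent.Lib.Helper25.Isoc
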