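import Mathlib
import Groth.Prelude.Def_Isoc
import Groth.Agent.Lib.Helper25.IsocLib
import Groth.Agent.Lib.Helper25.IsocLib2
import Groth.Agent.Lib.Helper25.IsocLib3
import Groth.Agent.Lib.Helper25.IsocLib4
import Groth.Agent.Lib.Helper25.IsocDM1

/-!
# Dieudonné–Manin, part 2 (helper25): fixed vectors of `p^{-r} F^s` in an isoclinic isocrystal
over an algebraically closed field span.
-/

set_option autoImplicit false

universe u v

open scoped Pointwise

namespace Groth.Agent.Lib.Helper25.Isoc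

section FrobPow

variable {p : ℕ} [Fact p.Prime] {k : Type u} [Field k] [CharP k p] [PerfectRing k p]

local notation "𝕎" => WittVector p k
local notation "𝕃" => FractionRing (WittVector p k)

/-- `τW` induces `c ↦ c ^ q` or its inverse on the residue field, `q ≥ 2`. -/
def FrobPow (τW : WittVector p k →+* WittVector p k) : Prop :=
  ∃ (τk : k →+* k) (q : ℕ) (σ : k →+* k), 2 ≤ q ∧ (∀ c, σ c = c ^ q) ∧
    ((∀ c, τk c = σ c) ∨ (∀ c, σ (τk c) = c)) ∧ ∀ w : 𝕎, (τW w).coeff 0 = τk (w.coeff 0)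

theorem coeff_zero_frobeniusEquiv_pow (n : ℕ) (w : 𝕎) :
    (((WittVector.frobeniusEquiv p k) ^ n) w).coeff 0 = (w.coeff 0) ^ (p ^ n) := by
  induction n generalizing w with
  | zero => simp
  | succ n ih =>
    rw [pow_succ, RingAut.mul_apply, ih]
    show (WittVector.frobenius w).coeff 0 ^ p ^ n = _
    rw [WittVector.coeff_frobenius_charP, ← pow_mul, ← pow_succ']

theorem frobPow_zpow (b : ℤ) (hb : b ≠ 0) :
    FrobPow (p := p) (k := k)
      (((WittVector.frobeniusEquiv p k) ^ b : 𝕎 ≃+* 𝕎) : 𝕎 →+* 𝕎) := by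
  have hp2 : 2 ≤ p := (Fact.out : p.Prime).two_le
  rcases Int.lt_or_gt_of_ne hb with hneg | hpos
  · obtain ⟨n, hn⟩ : ∃ n : ℕ, b = -(n : ℤ) := ⟨(-b).toNat, by omega⟩
    have hn0 : n ≠ 0 := by rintro rfl; simp at hn; omega
    refine ⟨((iterateFrobeniusEquiv k p n).symm : k →+* k), p ^ n, iterateFrobenius k p n,
      ?_, fun c => rfl, Or.inr ?_, ?_⟩
    · calc 2 ≤ p := hp2
        _ = p ^ 1 := (pow_one p).symm
        _ ≤ p ^ n := Nat.pow_le_pow_right (by omega) (by omega)
    · intro c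
      exact (iterateFrobeniusEquiv k p n).apply_symm_apply c
    · intro w
      show (((WittVector.frobeniusEquiv p k) ^ b) w).coeff 0 =
        (iterateFrobeniusEquiv k p n).symm (w.coeff 0)
      rw [RingEquiv.eq_symm_apply, iterateFrobeniusEquiv_def,
        ← coeff_zero_frobeniusEquiv_pow, hn, zpow_neg, zpow_natCast]
      congr 1
      rw [RingAut.inv_apply, RingEquiv.apply_symm_apply]
  · obtain ⟨n, hn⟩ : ∃ n : ℕ, b = (n : ℤ) := ⟨b.toNat, by omega⟩
    have hn0 : n ≠ 0 := by rintro rfl; simp at hn; omega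
    refine ⟨iterateFrobenius k p n, p ^ n, iterateFrobenius k p n,
      ?_, fun c => rfl, Or.inl (fun c => rfl), ?_⟩
    · calc 2 ≤ p := hp2
        _ = p ^ 1 := (pow_one p).symm
        _ ≤ p ^ n := Nat.pow_le_pow_right (by omega) (by omega)
    · intro w
      show (((WittVector.frobeniusEquiv p k) ^ b) w).coeff 0 = (w.coeff 0) ^ p ^ n
      rw [hn, zpow_natCast, coeff_zero_frobeniusEquiv_pow]

theorem frob_pow_algebraMap (a : ℤ) (s : ℕ) (w : 𝕎) :
    (Isoc.frob p k a ^ s) (algebraMap 𝕎 𝕃 w) =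
      algebraMap 𝕎 𝕃 (((WittVector.frobeniusEquiv p k) ^ (a * s)) w) := by
  induction s generalizing w with
  | zero => simp
  | succ s ih =>
    rw [pow_succ, RingHom.mul_def, RingHom.comp_apply, Isoc.frob_algebraMap, ih]
    congr 1
    have : a * ((s + 1 : ℕ) : ℤ) = a * s + a := by push_cast; ring
    rw [this, zpow_add, RingAut.mul_apply]

end FrobPow

section Fixed

variable {p : ℕ} [Fact p.Prime] {k : Type u} [Field k] [CharP k p] [PerfectRing k p]
variable {N : Type v} [AddCommGroup N] [Module (WittVector p k) N]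
  [Module (FractionRing (WittVector p k)) N]
  [IsScalarTower (WittVector p k) (FractionRing (WittVector p k)) N]

local notation "𝕎" => WittVector p k
local notation "𝕃" => FractionRing (WittVector p k)

/-- Fixed vectors of `p^{-r} F^s` in a lattice `M` with `F^s M = p^r M` span `M`
(`k` algebraically closed, `a ≠ 0`). -/
theorem le_span_fixed [IsAlgClosed k] {a : ℤ} (ha : a ≠ 0)
    (F : N →ₛₗ[Isoc.frob p k a] N) (hF : Function.Injective F) {M : Submodule 𝕎 N}
    (hM : M.IsLattice 𝕃) {r : ℤ} {s : ℕ} (hs : 0 < s)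
    (hFM : Isoc.latImg F s M = Isoc.pPow r M) :
    M ≤ Submodule.span 𝕎 {x | x ∈ M ∧ (⇑F)^[s] x = ((p : 𝕃) ^ r) • x} := by
  classical
  have hp := pL_ne_zero p k
  have hτ := good_frob (p := p) (k := k) a
  obtain ⟨τW, hτW⟩ : ∃ τW : 𝕎 →+* 𝕎, τW =
      (((WittVector.frobeniusEquiv p k) ^ (a * s) : 𝕎 ≃+* 𝕎) : 𝕎 →+* 𝕎) := ⟨_, rfl⟩
  have hmemΨ : ∀ x ∈ M, ((p : 𝕃) ^ (-r)) • (⇑F)^[s] x ∈ M := by
    intro x hx
    have : (⇑F)^[s] x ∈ Isoc.latImg F s M := (mem_latImg F hτ).2 ⟨x, hx, rfl⟩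
    rw [hFM] at this
    exact mem_pPow_iff'.1 this
  have hsemi : ∀ (w : 𝕎) (x : N), (⇑F)^[s] (w • x) = τW w • (⇑F)^[s] x := by
    intro w x
    have h1 : (Isoc.iter F s) (w • x) = τW w • (Isoc.iter F s) x :=
      smul_map (Isoc.iter F s) w x (by rw [hτW]; exact frob_pow_algebraMap a s w)
    exact h1
  let Ψ : ↥M →ₛₗ[τW] ↥M :=
    { toFun := fun x => ⟨((p : 𝕃) ^ (-r)) • (⇑F)^[s] (x : N), hmemΨ x x.2⟩
      map_add' := by
        intro x y
        apply Subtype.ext
        show ((p : 𝕃) ^ (-r)) • (⇑F)^[s] ((x : N) + (y : N)) =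
          ((p : 𝕃) ^ (-r)) • (⇑F)^[s] (x : N) + ((p : 𝕃) ^ (-r)) • (⇑F)^[s] (y : N)
        rw [← smul_add]
        congr 1
        exact map_add (Isoc.iter F s) (x : N) (y : N)
      map_smul' := by
        intro w x
        apply Subtype.ext
        show ((p : 𝕃) ^ (-r)) • (⇑F)^[s] (w • (x : N)) =
          τW w • (((p : 𝕃) ^ (-r)) • (⇑F)^[s] (x : N))
        rw [hsemi, smul_comm] }
  have hΨval : ∀ x : ↥M, ((Ψ x : ↥M) : N) = ((p : 𝕃) ^ (-r)) • (⇑F)^[s] (x : N) := fun x => rfl
  have hΨ : Function.Bijective Ψ := by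
    constructor
    · intro x y hxy
      have h1 := congrArg Subtype.val hxy
      rw [hΨval, hΨval] at h1
      have h2 := smul_right_injective N (zpow_ne_zero (-r) hp) h1
      exact Subtype.ext ((hF.iterate s) h2)
    · intro y
      have h1 : ((p : 𝕃) ^ r) • (y : N) ∈ Isoc.latImg F s M := by
        rw [hFM]; exact smul_mem_pPow y.2
      obtain ⟨x, hx, hxy⟩ := (mem_latImg F hτ).1 h1
      refine ⟨⟨x, hx⟩, Subtype.ext ?_⟩
      rw [hΨval]
      show ((p : 𝕃) ^ (-r)) • (⇑F)^[s] x = (y : N)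
      rw [hxy, smul_smul, ← zpow_add₀ hp, neg_add_cancel, zpow_zero, one_smul]
  haveI := hM
  haveI : Module.Free 𝕎 M := inferInstance
  haveI : Module.Finite 𝕎 M := Module.Finite.iff_fg.2 hM.fg
  have hb : a * (s : ℤ) ≠ 0 := mul_ne_zero ha (by exact_mod_cast hs.ne')
  obtain ⟨τk, q, σ, hq, hσ, hτk, hcoeff⟩ := frobPow_zpow (p := p) (k := k) (a * s) hb
  rw [← hτW] at hcoeff
  have hmain := span_fixed_eq_top_W (Module.finBasis 𝕎 M) hq σ hσ hτk hcoeff Ψ hΨ
  intro x hx
  have hx' : (⟨x, hx⟩ : ↥M) ∈ Submodule.span 𝕎 {y | Ψ y = y} := by rw [hmain]; trivial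
  have h2 := Submodule.mem_map_of_mem (f := M.subtype) hx'
  rw [Submodule.map_span] at h2
  refine Submodule.span_mono ?_ h2
  rintro _ ⟨y, hy, rfl⟩
  refine ⟨y.2, ?_⟩
  have hy' : Ψ y = y := hy
  have h3 := congrArg Subtype.val hy'
  rw [hΨval] at h3
  show (⇑F)^[s] (y : N) = ((p : 𝕃) ^ r) • (y : N)
  conv_rhs => rw [← h3]
  rw [smul_smul, ← zpow_add₀ hp, add_neg_cancel, zpow_zero, one_smul]

end Fixed

section Lowest

variable {p : ℕ} [Fact p.Prime] {k : Type u} [Field k] [CharP k p] [PerfectRing k p]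
variable {N : Type v} [AddCommGroup N] [Module (WittVector p k) N]
  [Module (FractionRing (WittVector p k)) N]
  [IsScalarTower (WittVector p k) (FractionRing (WittVector p k)) N]
variable {τ : FractionRing (WittVector p k) →+* FractionRing (WittVector p k)}

local notation "𝕎" => WittVector p k
local notation "𝕃" => FractionRing (WittVector p k)

/-- From `F^{sc} M = p^{rc} M` to a lattice `M'` with `F^s M' = p^r M'`. -/
theorem exists_lattice_lowest (F : N →ₛₗ[τ] N) (hτ : Good τ) (hFs : Function.Surjective F)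
    {M : Submodule 𝕎 N} (hM : M.IsLattice 𝕃) {r : ℤ} {s c : ℕ} (hc : 0 < c)
    (hFM : Isoc.latImg F (s * c) M = Isoc.pPow (r * c) M) :
    ∃ M' : Submodule 𝕎 N, M'.IsLattice 𝕃 ∧ Isoc.latImg F s M' = Isoc.pPow r M' := by
  classical
  obtain ⟨D, hD⟩ : ∃ D : ℕ → Submodule 𝕎 N,
      ∀ i, D i = Isoc.pPow (-(r * i)) (Isoc.latImg F (s * i) M) := ⟨_, fun _ => rfl⟩
  have hD0 : D 0 = M := by
    rw [hD]; simp [pPow_zero, latImg_zero]
  have hDc : D c = M := by
    rw [hD, hFM, ← pPow_add, neg_add_cancel, pPow_zero]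
  have hstep : ∀ i, Isoc.latImg F s (D i) = Isoc.pPow r (D (i + 1)) := by
    intro i
    rw [hD, hD, latImg_pPow F hτ, ← latImg_add F hτ, ← pPow_add]
    congr 1
    · push_cast; ring
    · congr 1; ring
  have hDlat : ∀ i, (D i).IsLattice 𝕃 := by
    intro i
    rw [hD]
    exact pPow_isLattice (latImg_isLattice F hτ hFs _ hM)
  have hne : (Finset.range c).Nonempty := Finset.nonempty_range_iff.2 hc.ne'
  refine ⟨(Finset.range c).sup' hne D, ?_, ?_⟩
  · apply Finset.sup'_induction hne D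
    · intro a₁ h₁ a₂ h₂
      haveI := h₁
      haveI := h₂
      exact inferInstance
    · intro i _
      exact hDlat i
  · rw [Finset.apply_sup'_eq_sup'_comp hne (Isoc.latImg F s) (latImg_sup F hτ s),
      Finset.apply_sup'_eq_sup'_comp hne (Isoc.pPow r) (pPow_sup r)]
    have h1 : (Finset.range c).sup' hne (Isoc.latImg F s ∘ D) =
        (Finset.range c).sup' hne (Isoc.pPow r ∘ (fun i => D (i + 1))) := by
      apply Finset.sup'_congr hne rfl
      intro i _
      exact hstep i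
    rw [h1, ← Finset.apply_sup'_eq_sup'_comp hne (Isoc.pPow r) (pPow_sup r),
      ← Finset.apply_sup'_eq_sup'_comp hne (Isoc.pPow r) (pPow_sup r)]
    congr 1
    apply le_antisymm
    · apply Finset.sup'_le
      intro i hi
      rw [Finset.mem_range] at hi
      by_cases hic : i + 1 = c
      · rw [hic, hDc, ← hD0]
        exact Finset.le_sup' D (Finset.mem_range.2 hc)
      · exact Finset.le_sup' D (Finset.mem_range.2 (by omega))
    · apply Finset.sup'_le
      intro i hi
      rw [Finset.mem_range] at hi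
      rcases Nat.eq_zero_or_pos i with h0 | hpos
      · rw [h0, hD0, ← hDc]
        have : c = (c - 1) + 1 := by omega
        conv_lhs => rw [this]
        exact Finset.le_sup' (fun i => D (i + 1)) (Finset.mem_range.2 (by omega))
      · have : i = (i - 1) + 1 := by omega
        conv_lhs => rw [this]
        exact Finset.le_sup' (fun i => D (i + 1)) (Finset.mem_range.2 (by omega))

end Lowest

end Groth.Agent.Lib.Helper25.Isoc
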