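import Mathlib
import Groth.Prelude.Def_Isoc
import Groth.Agent.Lib.Helper25.IsocLib
import Groth.Agent.Lib.Helper25.IsocLib2

/-!
# Helper library for the `Isoc` statements (helper25): determinants of semilinear maps

* `IsOrdP` calculus: `isOrdP_one`, `isOrdP_mul`, `isOrdP_inv`, `isOrdP_map`, `exists_isOrdP`,
  `isOrdP_le`, `isOrdP_unique`.
* `smat b G` the matrix of a semilinear map, `smat_comp`, `smat_basis_change`.
* lattice bases: `exists_latticeBasis`; integrality of the matrix: `exists_intMatrix_of_img_le`,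
  `isUnit_det_of_img_eq`.
-/

set_option autoImplicit false

universe u v w

open scoped Pointwise

namespace Groth.Agent.Lib.Helper25.Isoc

section OrdP

variable {p : ℕ} [Fact p.Prime] {k : Type u} [Field k] [CharP k p] [PerfectRing k p]

local notation "𝕎" => WittVector p k
local notation "𝕃" => FractionRing (WittVector p k)

theorem isOrdP_one : Isoc.IsOrdP (1 : 𝕃) 0 := ⟨1, by simp⟩

theorem isOrdP_mul {c c' : 𝕃} {r r' : ℤ} (h : Isoc.IsOrdP c r) (h' : Isoc.IsOrdP c' r') :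
    Isoc.IsOrdP (c * c') (r + r') := by
  obtain ⟨u, rfl⟩ := h
  obtain ⟨u', rfl⟩ := h'
  refine ⟨u * u', ?_⟩
  rw [zpow_add₀ (pL_ne_zero p k), Units.val_mul, map_mul]
  ring

theorem isOrdP_inv {c : 𝕃} {r : ℤ} (h : Isoc.IsOrdP c r) : Isoc.IsOrdP c⁻¹ (-r) := by
  obtain ⟨u, rfl⟩ := h
  refine ⟨u⁻¹, ?_⟩
  rw [mul_inv, zpow_neg]
  congr 1
  symm
  apply eq_inv_of_mul_eq_one_left
  rw [← map_mul, ← Units.val_mul, inv_mul_cancel, Units.val_one, map_one]

theorem isOrdP_ne_zero {c : 𝕃} {r : ℤ} (h : Isoc.IsOrdP c r) : c ≠ 0 := by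
  obtain ⟨u, rfl⟩ := h
  apply mul_ne_zero (zpow_ne_zero _ (pL_ne_zero p k))
  intro h0
  have := (IsFractionRing.injective 𝕎 𝕃) (h0.trans (map_zero _).symm)
  exact u.ne_zero this

theorem isOrdP_p_zpow (r : ℤ) : Isoc.IsOrdP ((p : 𝕃) ^ r) r := ⟨1, by simp⟩

theorem isOrdP_map {τ : 𝕃 →+* 𝕃} (hτ : Good τ) {c : 𝕃} {r : ℤ} (h : Isoc.IsOrdP c r) :
    Isoc.IsOrdP (τ c) r := by
  obtain ⟨u, rfl⟩ := h
  obtain ⟨w, hw⟩ := hτ.1 (u : 𝕎)
  obtain ⟨w', hw'⟩ := hτ.1 ((u⁻¹ : 𝕎ˣ) : 𝕎)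
  have hww : w * w' = 1 := by
    apply IsFractionRing.injective 𝕎 𝕃
    rw [map_mul, ← hw, ← hw', ← map_mul, ← map_mul, ← Units.val_mul, mul_inv_cancel, Units.val_one,
      map_one, map_one]
  refine ⟨Units.mkOfMulEqOne w w' hww, ?_⟩
  rw [map_mul, map_p_zpow, hw]
  rfl

theorem isOrdP_algebraMap {a : 𝕎} (ha : a ≠ 0) :
    ∃ m : ℕ, Isoc.IsOrdP (algebraMap 𝕎 𝕃 a) (m : ℤ) := by
  obtain ⟨m, u, hu⟩ := WittVector.exists_eq_pow_p_mul' a ha
  refine ⟨m, u, ?_⟩
  rw [hu, map_mul, map_pow, map_natCast, zpow_natCast]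

theorem exists_isOrdP {c : 𝕃} (hc : c ≠ 0) : ∃ r : ℤ, Isoc.IsOrdP c r := by
  obtain ⟨a, b, hb, rfl⟩ := IsFractionRing.div_surjective (A := 𝕎) c
  have hb0 : b ≠ 0 := nonZeroDivisors.ne_zero hb
  have ha0 : a ≠ 0 := by
    rintro rfl
    apply hc
    rw [map_zero, zero_div]
  obtain ⟨m, hm⟩ := isOrdP_algebraMap (p := p) (k := k) ha0
  obtain ⟨n, hn⟩ := isOrdP_algebraMap (p := p) (k := k) hb0
  exact ⟨m + -n, by rw [div_eq_mul_inv]; exact isOrdP_mul hm (isOrdP_inv hn)⟩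

theorem isOrdP_le {c : 𝕃} {d m : ℤ} (h : Isoc.IsOrdP c d) {w : 𝕎}
    (hc : c = (p : 𝕃) ^ m * algebraMap 𝕎 𝕃 w) : m ≤ d := by
  have hp := pL_ne_zero p k
  obtain ⟨u, hu⟩ := h
  by_contra hlt
  push Not at hlt
  obtain ⟨t, ht⟩ : ∃ t : ℕ, m = d + 1 + t := ⟨(m - d - 1).toNat, by omega⟩
  rw [hu, ht, zpow_add₀ hp, zpow_add₀ hp, mul_assoc, mul_assoc] at hc
  have h2 := mul_left_cancel₀ (zpow_ne_zero d hp) hc
  rw [zpow_one, zpow_natCast, ← map_natCast (algebraMap 𝕎 𝕃) p, ← map_pow, ← map_mul,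
    ← map_mul] at h2
  have h3 := IsFractionRing.injective 𝕎 𝕃 h2
  have : IsUnit ((p : ℕ) : 𝕎) := isUnit_of_mul_isUnit_left (by rw [← h3]; exact u.isUnit)
  exact not_isUnit_p this

theorem isOrdP_unique {c : 𝕃} {d d' : ℤ} (h : Isoc.IsOrdP c d) (h' : Isoc.IsOrdP c d') :
    d = d' := by
  apply le_antisymm
  · obtain ⟨u, hu⟩ := h
    exact isOrdP_le h' hu
  · obtain ⟨u, hu⟩ := h'
    exact isOrdP_le h hu

end OrdP

section SMat

variable {K : Type u} [CommRing K] {N : Type v} [AddCommGroup N] [Module K N] {n : ℕ}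
variable {σ σ' σ'' : K →+* K}

/-- The matrix of a semilinear map in a basis: column `j` holds the coordinates of `G (b j)`. -/
noncomputable def smat (b : Module.Basis (Fin n) K N) (G : N →ₛₗ[σ] N) : Matrix (Fin n) (Fin n) K :=
  Matrix.of fun i j => b.repr (G (b j)) i

theorem smat_apply (b : Module.Basis (Fin n) K N) (G : N →ₛₗ[σ] N) (i j : Fin n) :
    smat b G i j = b.repr (G (b j)) i := rfl

theorem repr_apply_eq (b : Module.Basis (Fin n) K N) (G : N →ₛₗ[σ] N) (x : N) (i : Fin n) :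
    b.repr (G x) i = ∑ j, smat b G i j * σ (b.repr x j) := by
  conv_lhs => rw [← b.sum_repr x]
  rw [map_sum, map_sum, Finsupp.finsetSum_apply]
  apply Finset.sum_congr rfl
  intro j _
  rw [map_smulₛₗ, map_smul, Finsupp.smul_apply, smul_eq_mul, mul_comm]
  rfl

theorem smat_comp (b : Module.Basis (Fin n) K N) (G : N →ₛₗ[σ] N) (G' : N →ₛₗ[σ'] N)
    (H : N →ₛₗ[σ''] N) (hH : ∀ x, H x = G (G' x)) :
    smat b H = smat b G * (smat b G').map σ := by
  ext i j
  rw [Matrix.mul_apply, smat_apply, hH, repr_apply_eq]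
  rfl

theorem det_smat_comp (b : Module.Basis (Fin n) K N) (G : N →ₛₗ[σ] N) (G' : N →ₛₗ[σ'] N)
    (H : N →ₛₗ[σ''] N) (hH : ∀ x, H x = G (G' x)) :
    (smat b H).det = (smat b G).det * σ ((smat b G').det) := by
  rw [smat_comp b G G' H hH, Matrix.det_mul, RingHom.map_det]
  rfl

theorem smat_basis_change (b b' : Module.Basis (Fin n) K N) (G : N →ₛₗ[σ] N) :
    smat b' G = b'.toMatrix b * (smat b G * (b.toMatrix b').map σ) := by
  ext i j
  rw [smat_apply, Matrix.mul_apply, ← Module.Basis.sum_repr_mul_repr b' b (G (b' j)) i]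
  apply Finset.sum_congr rfl
  intro l _
  rw [Module.Basis.toMatrix_apply]
  congr 1
  rw [repr_apply_eq, Matrix.mul_apply]
  rfl

theorem det_smat_basis_change (b b' : Module.Basis (Fin n) K N) (G : N →ₛₗ[σ] N) :
    (smat b' G).det = (b'.toMatrix b).det * ((smat b G).det * σ ((b.toMatrix b').det)) := by
  rw [smat_basis_change b b' G, Matrix.det_mul, Matrix.det_mul, RingHom.map_det]
  rfl

theorem smat_id (b : Module.Basis (Fin n) K N) (G : N →ₛₗ[σ] N) (hG : ∀ x, G x = x) :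
    smat b G = 1 := by
  ext i j
  rw [smat_apply, hG, Module.Basis.repr_self, Finsupp.single_apply, Matrix.one_apply]
  simp only [eq_comm]

end SMat

section LatticeBasis

variable {p : ℕ} [Fact p.Prime] {k : Type u} [Field k] [CharP k p] [PerfectRing k p]
variable {N : Type v} [AddCommGroup N] [Module (WittVector p k) N]
  [Module (FractionRing (WittVector p k)) N]
  [IsScalarTower (WittVector p k) (FractionRing (WittVector p k)) N]

local notation "𝕎" => WittVector p k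
local notation "𝕃" => FractionRing (WittVector p k)

/-- `e` is an `L`-basis of `N` which is a `W`-basis of `M`. -/
def IsLatticeBasis {h : ℕ} (e : Module.Basis (Fin h) 𝕃 N) (M : Submodule 𝕎 N) : Prop :=
  ∀ x : N, x ∈ M ↔ ∀ i, ∃ w : 𝕎, e.repr x i = algebraMap 𝕎 𝕃 w

theorem IsLatticeBasis.mem {h : ℕ} {e : Module.Basis (Fin h) 𝕃 N} {M : Submodule 𝕎 N}
    (he : IsLatticeBasis e M) (j : Fin h) : e j ∈ M := by
  rw [he]
  intro i
  rw [Module.Basis.repr_self, Finsupp.single_apply]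
  split_ifs
  · exact ⟨1, (map_one _).symm⟩
  · exact ⟨0, (map_zero _).symm⟩

theorem exists_latticeBasis {h : ℕ} (b : Module.Basis (Fin h) 𝕃 N) {M : Submodule 𝕎 N}
    (hM : M.IsLattice 𝕃) : ∃ e : Module.Basis (Fin h) 𝕃 N, IsLatticeBasis e M := by
  haveI := hM
  haveI : Module.Free 𝕎 M := inferInstance
  let e0 := Module.Free.chooseBasis 𝕎 M
  let e1 := e0.extendOfIsLattice 𝕃
  let eq := e1.indexEquiv b
  let e' := e0.reindex eq
  let e := e'.extendOfIsLattice 𝕃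
  have hee : ∀ i, e i = (e' i : N) := fun i => Module.Basis.extendOfIsLattice_apply 𝕃 e' i
  refine ⟨e, fun x => ⟨fun hx i => ?_, fun hx => ?_⟩⟩
  · refine ⟨e'.repr ⟨x, hx⟩ i, ?_⟩
    have hx' : x = ∑ i, (algebraMap 𝕎 𝕃 (e'.repr ⟨x, hx⟩ i)) • e i := by
      have h1 := congrArg Subtype.val (e'.sum_repr ⟨x, hx⟩)
      rw [Submodule.coe_sum] at h1
      refine h1.symm.trans ?_
      apply Finset.sum_congr rfl
      intro i _
      rw [Submodule.coe_smul, hee, algebraMap_smul]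
    conv_lhs => rw [hx']
    rw [Module.Basis.repr_sum_self]
  · choose w hw using hx
    have hx' : x = ∑ i, w i • (e' i : N) := by
      conv_lhs => rw [← e.sum_repr x]
      apply Finset.sum_congr rfl
      intro i _
      rw [hw i, hee, algebraMap_smul]
    rw [hx']
    exact Submodule.sum_mem _ (fun i _ => M.smul_mem _ (e' i).2)

variable {σ : FractionRing (WittVector p k) →+* FractionRing (WittVector p k)}

theorem exists_intMatrix_of_img_le {h : ℕ} {e : Module.Basis (Fin h) 𝕃 N} {M : Submodule 𝕎 N}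
    (he : IsLatticeBasis e M) (G : N →ₛₗ[σ] N) {r : ℤ} (hG : img G M ≤ Isoc.pPow r M) :
    ∃ B : Matrix (Fin h) (Fin h) 𝕎, smat e G = ((p : 𝕃) ^ r) • B.map (algebraMap 𝕎 𝕃) := by
  have hp := pL_ne_zero p k
  have h1 : ∀ j i, ∃ w : 𝕎, e.repr (((p : 𝕃) ^ (-r)) • G (e j)) i = algebraMap 𝕎 𝕃 w := fun j =>
    (he _).1 (mem_pPow_iff'.1 (hG (Submodule.subset_span ⟨e j, he.mem j, rfl⟩)))
  choose B hB using h1
  refine ⟨Matrix.of fun i j => B j i, ?_⟩
  ext i j
  have := hB j i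
  rw [map_smul, Finsupp.smul_apply, smul_eq_mul] at this
  rw [Matrix.smul_apply, Matrix.map_apply, Matrix.of_apply, ← this, smul_eq_mul, ← mul_assoc,
    ← zpow_add₀ hp, add_neg_cancel, zpow_zero, one_mul]
  rfl

theorem det_of_intMatrix {h : ℕ} (A : Matrix (Fin h) (Fin h) 𝕃) (B : Matrix (Fin h) (Fin h) 𝕎)
    (r : ℤ) (hA : A = ((p : 𝕃) ^ r) • B.map (algebraMap 𝕎 𝕃)) :
    A.det = (p : 𝕃) ^ (r * h) * algebraMap 𝕎 𝕃 B.det := by
  rw [hA, Matrix.det_smul, Fintype.card_fin, zpow_mul, zpow_natCast, RingHom.map_det]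
  rfl

theorem isUnit_det_of_img_eq {h : ℕ} {e : Module.Basis (Fin h) 𝕃 N} {M : Submodule 𝕎 N}
    (he : IsLatticeBasis e M) (G : N →ₛₗ[σ] N) (hσ : Good σ) {r : ℤ}
    (hG : img G M = Isoc.pPow r M) (B : Matrix (Fin h) (Fin h) 𝕎)
    (hB : smat e G = ((p : 𝕃) ^ r) • B.map (algebraMap 𝕎 𝕃)) : IsUnit B.det := by
  have hp := pL_ne_zero p k
  have h1 : ∀ j, ∃ x ∈ M, G x = ((p : 𝕃) ^ r) • e j := fun j =>
    (mem_img G hσ).1 (by rw [hG]; exact smul_mem_pPow (he.mem j))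
  choose x hxM hx using h1
  have h2 : ∀ j i, ∃ w : 𝕎, e.repr (x j) i = algebraMap 𝕎 𝕃 w := fun j => (he _).1 (hxM j)
  choose X hX using h2
  have h3 : ∀ j i, ∃ w' : 𝕎, σ (algebraMap 𝕎 𝕃 (X j i)) = algebraMap 𝕎 𝕃 w' := fun j i =>
    hσ.1 _
  choose X' hX' using h3
  have hmul : B * (Matrix.of fun i j => X' j i) = 1 := by
    apply Matrix.ext
    intro l j
    apply IsFractionRing.injective 𝕎 𝕃
    have h4 := repr_apply_eq e G (x j) l
    rw [hx j, map_smul, Finsupp.smul_apply, Module.Basis.repr_self, Finsupp.single_apply,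
      smul_eq_mul] at h4
    have h5 : ∀ i, smat e G l i * σ (e.repr (x j) i) =
        (p : 𝕃) ^ r * (algebraMap 𝕎 𝕃 (B l i) * algebraMap 𝕎 𝕃 (X' j i)) := by
      intro i
      rw [hB, hX, hX', Matrix.smul_apply, Matrix.map_apply, smul_eq_mul, mul_assoc]
    rw [Finset.sum_congr rfl (fun i _ => h5 i), ← Finset.mul_sum] at h4
    have h6 := mul_left_cancel₀ (zpow_ne_zero r hp) h4
    rw [Matrix.mul_apply, map_sum, Matrix.one_apply]
    simp only [map_mul, Matrix.of_apply]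
    rw [← h6]
    split_ifs with h7 h8 h8
    · exact (map_one _).symm
    · exact absurd h7.symm h8
    · exact absurd h8.symm h7
    · exact (map_zero _).symm
  exact IsUnit.of_mul_eq_one _ (by rw [← Matrix.det_mul, hmul, Matrix.det_one])

/-- `ord det = r h` when `G M = p^r M`. -/
theorem isOrdP_det_of_img_eq {h : ℕ} {e : Module.Basis (Fin h) 𝕃 N} {M : Submodule 𝕎 N}
    (he : IsLatticeBasis e M) (G : N →ₛₗ[σ] N) (hσ : Good σ) {r : ℤ}
    (hG : img G M = Isoc.pPow r M) : Isoc.IsOrdP (smat e G).det (r * h) := by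
  obtain ⟨B, hB⟩ := exists_intMatrix_of_img_le he G hG.le
  have hu := isUnit_det_of_img_eq he G hσ hG B hB
  exact ⟨hu.unit, by rw [det_of_intMatrix (p := p) (k := k) (smat e G) B r hB]; rfl⟩

theorem det_of_img_le {h : ℕ} {e : Module.Basis (Fin h) 𝕃 N} {M : Submodule 𝕎 N}
    (he : IsLatticeBasis e M) (G : N →ₛₗ[σ] N) {r : ℤ}
    (hG : img G M ≤ Isoc.pPow r M) :
    ∃ w : 𝕎, (smat e G).det = (p : 𝕃) ^ (r * h) * algebraMap 𝕎 𝕃 w := by
  obtain ⟨B, hB⟩ := exists_intMatrix_of_img_le he G hG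
  exact ⟨B.det, det_of_intMatrix (p := p) (k := k) (smat e G) B r hB⟩

end LatticeBasis

section DetIter

variable {p : ℕ} [Fact p.Prime] {k : Type u} [Field k] [CharP k p] [PerfectRing k p]
variable {N : Type v} [AddCommGroup N] [Module (FractionRing (WittVector p k)) N]

local notation "𝕎" => WittVector p k
local notation "𝕃" => FractionRing (WittVector p k)

variable {σ : FractionRing (WittVector p k) →+* FractionRing (WittVector p k)}

theorem detCoeff_eq_det_smat {h : ℕ} (b : Module.Basis (Fin h) 𝕃 N) (G : N →ₛₗ[σ] N) :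
    Isoc.detCoeff b G = (smat b G).det := rfl

theorem isOrdP_det_basis_change {h : ℕ} (b b' : Module.Basis (Fin h) 𝕃 N) (G : N →ₛₗ[σ] N)
    (hσ : Good σ) {d : ℤ} (hd : Isoc.IsOrdP (smat b G).det d) :
    Isoc.IsOrdP (smat b' G).det d := by
  have h1 : (b'.toMatrix b).det * (b.toMatrix b').det = 1 := by
    rw [← Matrix.det_mul, Module.Basis.toMatrix_mul_toMatrix_flip, Matrix.det_one]
  have h0 : (b.toMatrix b').det ≠ 0 := right_ne_zero_of_mul_eq_one h1
  obtain ⟨e, he⟩ := exists_isOrdP (p := p) (k := k) h0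
  have h2 : (b'.toMatrix b).det = ((b.toMatrix b').det)⁻¹ := eq_inv_of_mul_eq_one_left h1
  rw [det_smat_basis_change b b' G, h2]
  have := isOrdP_mul (isOrdP_inv he) (isOrdP_mul hd (isOrdP_map hσ he))
  have e2 : -e + (d + e) = d := by ring
  rwa [e2] at this

theorem isOrdP_det_iter {h : ℕ} (b : Module.Basis (Fin h) 𝕃 N) (F : N →ₛₗ[σ] N)
    (hσ : Good σ) {d : ℤ} (hd : Isoc.IsOrdP (smat b F).det d) (m : ℕ) :
    Isoc.IsOrdP (smat b (Isoc.iter F m)).det (m * d) := by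
  induction m with
  | zero =>
    rw [smat_id b (Isoc.iter F 0) (fun x => rfl), Matrix.det_one]
    simpa using isOrdP_one (p := p) (k := k)
  | succ m ih =>
    rw [det_smat_comp b F (Isoc.iter F m) (Isoc.iter F (m + 1))
      (fun x => by
        rw [Isoc.iter_apply, Isoc.iter_apply, Function.iterate_succ_apply'])]
    have := isOrdP_mul hd (isOrdP_map hσ ih)
    have e2 : d + (m : ℤ) * d = ((m + 1 : ℕ) : ℤ) * d := by push_cast; ring
    rwa [e2] at this

end DetIter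

end Groth.Agent.Lib.Helper25.Isoc
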