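import Mathlib
import Groth.Prelude.Def_Isoc
import Groth.Agent.Lib.Helper25.IsocLib
import Groth.Agent.Lib.Helper25.IsocLib2
import Groth.Agent.Lib.Helper25.IsocLib3
import Groth.Agent.Lib.Helper25.IsocDet

/-!
# Helper library for the `Isoc` statements (helper25): the standard isocrystals

* `stdIsoc_iterate_self` : `F^h x = p^d τ^h(x)` componentwise on `N_{d/h}`.
* `stdLattice`, `stdIsoc_latImg` : `F^h (W^h) = p^d W^h`; `stdIsoc_isIsoc`.
-/

set_option autoImplicit false

universe u v w

open scoped Pointwise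

namespace Groth.Agent.Lib.Helper25.Isoc

section LB

variable {p : ℕ} [Fact p.Prime] {k : Type u} [Field k] [CharP k p] [PerfectRing k p]
variable {N : Type v} [AddCommGroup N] [Module (WittVector p k) N]
  [Module (FractionRing (WittVector p k)) N]
  [IsScalarTower (WittVector p k) (FractionRing (WittVector p k)) N]

local notation "𝕎" => WittVector p k
local notation "𝕃" => FractionRing (WittVector p k)

theorem IsLatticeBasis.isLattice {h : ℕ} {e : Module.Basis (Fin h) 𝕃 N} {M : Submodule 𝕎 N}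
    (he : IsLatticeBasis e M) : M.IsLattice 𝕃 := by
  classical
  refine ⟨⟨Finset.univ.image e, ?_⟩, ?_⟩
  · apply le_antisymm
    · apply Submodule.span_le.2
      intro y hy
      rw [Finset.coe_image] at hy
      obtain ⟨i, _, rfl⟩ := hy
      exact he.mem i
    · intro x hx
      have hx2 := (he x).1 hx
      choose w hw using hx2
      have hx' : x = ∑ i, w i • e i := by
        conv_lhs => rw [← e.sum_repr x]
        apply Finset.sum_congr rfl
        intro i _
        rw [hw i, algebraMap_smul]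
      rw [hx']
      refine Submodule.sum_mem _ (fun i _ => Submodule.smul_mem _ _ (Submodule.subset_span ?_))
      rw [Finset.coe_image]
      exact ⟨i, Finset.mem_coe.2 (Finset.mem_univ i), rfl⟩
  · rw [eq_top_iff, ← e.span_eq]
    apply Submodule.span_mono
    rintro y ⟨i, rfl⟩
    exact he.mem i

end LB

section Std

variable {p : ℕ} [Fact p.Prime] {k : Type u} [Field k] [CharP k p] [PerfectRing k p]

local notation "𝕎" => WittVector p k
local notation "𝕃" => FractionRing (WittVector p k)

variable (τ : FractionRing (WittVector p k) →+* FractionRing (WittVector p k)) (d : ℤ) (n : ℕ)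

/-- the coefficients of the standard isocrystal -/
noncomputable def stdC (d : ℤ) (n : ℕ) (i : Fin (n + 1)) : FractionRing (WittVector p k) :=
  if i.val = 0 then (p : FractionRing (WittVector p k)) ^ d else 1

theorem stdIsoc_apply' (x : Fin (n + 1) → 𝕃) (i : Fin (n + 1)) :
    Isoc.stdIsoc τ d (n + 1) x i = stdC d n i * τ (x (i - 1)) := by
  rw [Isoc.stdIsoc_apply, finRotate_symm_apply]
  rfl

theorem map_stdC (i : Fin (n + 1)) : τ (stdC (p := p) (k := k) d n i) = stdC d n i := by
  unfold stdC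
  split_ifs
  · exact map_p_zpow τ d
  · exact map_one τ

open Fin.NatCast in
theorem stdIsoc_iterate (m : ℕ) (x : Fin (n + 1) → 𝕃) (i : Fin (n + 1)) :
    ((⇑(Isoc.stdIsoc τ d (n + 1)))^[m] x) i =
      (∏ j ∈ Finset.range m, stdC d n (i - (j : Fin (n + 1)))) *
        (τ ^ m) (x (i - (m : Fin (n + 1)))) := by
  induction m generalizing x with
  | zero => simp
  | succ m ih =>
    rw [Function.iterate_succ_apply, ih, stdIsoc_apply', Finset.prod_range_succ, map_mul,
      map_stdC, pow_succ, RingHom.coe_mul, Function.comp_apply, Nat.cast_succ, sub_sub, mul_assoc]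

open Fin.NatCast in
theorem prod_stdC (i : Fin (n + 1)) :
    (∏ j ∈ Finset.range (n + 1), stdC (p := p) (k := k) d n (i - (j : Fin (n + 1)))) =
      (p : 𝕃) ^ d := by
  rw [← Fin.prod_univ_eq_prod_range (fun j : ℕ => stdC (p := p) (k := k) d n
    (i - (j : Fin (n + 1)))) (n + 1)]
  simp only [Fin.cast_val_eq_self]
  have hE := Equiv.prod_comp (Equiv.subLeft i) (stdC (p := p) (k := k) d n)
  simp only [Equiv.subLeft_apply] at hE
  rw [hE]
  rw [Finset.prod_eq_single (0 : Fin (n + 1))]
  · unfold stdC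
    simp
  · intro l _ hl
    unfold stdC
    rw [if_neg]
    intro h0
    exact hl (Fin.ext h0)
  · intro h0
    exact absurd (Finset.mem_univ _) h0

open Fin.NatCast in
theorem stdIsoc_iterate_self (x : Fin (n + 1) → 𝕃) (i : Fin (n + 1)) :
    ((⇑(Isoc.stdIsoc τ d (n + 1)))^[n + 1] x) i = (p : 𝕃) ^ d * (τ ^ (n + 1)) (x i) := by
  rw [stdIsoc_iterate, prod_stdC, Fin.natCast_self, sub_zero]

/-- the standard lattice `W^h` of `L^h` -/
noncomputable def stdLattice (h : ℕ) : Submodule 𝕎 (Fin h → 𝕃) where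
  carrier := {x | ∀ i, ∃ w : 𝕎, x i = algebraMap 𝕎 𝕃 w}
  add_mem' := by
    intro x y hx hy i
    obtain ⟨w, hw⟩ := hx i
    obtain ⟨w', hw'⟩ := hy i
    exact ⟨w + w', by rw [Pi.add_apply, hw, hw', map_add]⟩
  zero_mem' := fun i => ⟨0, by simp⟩
  smul_mem' := by
    intro c x hx i
    obtain ⟨w, hw⟩ := hx i
    exact ⟨c * w, by rw [Pi.smul_apply, hw, Algebra.smul_def, map_mul]⟩

theorem mem_stdLattice {h : ℕ} {x : Fin h → 𝕃} :
    x ∈ stdLattice (p := p) (k := k) h ↔ ∀ i, ∃ w : 𝕎, x i = algebraMap 𝕎 𝕃 w := Iff.rfl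

theorem stdLattice_isLatticeBasis (h : ℕ) :
    IsLatticeBasis (Pi.basisFun 𝕃 (Fin h)) (stdLattice (p := p) (k := k) h) := by
  intro x
  rw [mem_stdLattice]
  simp only [Pi.basisFun_repr]

theorem stdLattice_isLattice (h : ℕ) : (stdLattice (p := p) (k := k) h).IsLattice 𝕃 :=
  (stdLattice_isLatticeBasis h).isLattice

theorem stdIsoc_latImg (hτ : Good τ) :
    Isoc.latImg (Isoc.stdIsoc τ d (n + 1)) (n + 1) (stdLattice (p := p) (k := k) (n + 1)) =
      Isoc.pPow d (stdLattice (n + 1)) := by
  have hp := pL_ne_zero p k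
  have hτ' := hτ.pow (n + 1)
  ext y
  rw [mem_latImg _ hτ, mem_pPow_iff', mem_stdLattice]
  constructor
  · rintro ⟨x, hx, rfl⟩ i
    obtain ⟨w, hw⟩ := hx i
    obtain ⟨w', hw'⟩ := hτ'.1 w
    refine ⟨w', ?_⟩
    rw [Pi.smul_apply, stdIsoc_iterate_self, hw, hw', smul_eq_mul, ← mul_assoc, ← zpow_add₀ hp,
      neg_add_cancel, zpow_zero, one_mul]
  · intro hy
    choose w hw using hy
    have h2 : ∀ i, ∃ w'' : 𝕎, (τ ^ (n + 1)) (algebraMap 𝕎 𝕃 w'') = algebraMap 𝕎 𝕃 (w i) :=
      fun i => hτ'.2 (w i)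
    choose w'' hw'' using h2
    refine ⟨fun i => algebraMap 𝕎 𝕃 (w'' i), fun i => ⟨w'' i, rfl⟩, ?_⟩
    funext i
    rw [stdIsoc_iterate_self, hw'', ← hw i, Pi.smul_apply, smul_eq_mul, ← mul_assoc,
      ← zpow_add₀ hp, add_neg_cancel, zpow_zero, one_mul]

theorem stdIsoc_bijective (hτs : Function.Surjective τ) :
    Function.Bijective (Isoc.stdIsoc τ d (n + 1)) := by
  have hp := pL_ne_zero p k
  have hτi : Function.Injective (τ ^ (n + 1)) := RingHom.injective _
  have hτs' : Function.Surjective (τ ^ (n + 1)) := by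
    have : ∀ m : ℕ, Function.Surjective (τ ^ m) := by
      intro m
      induction m with
      | zero => rw [pow_zero]; exact fun y => ⟨y, rfl⟩
      | succ m ih => rw [pow_succ, RingHom.coe_mul]; exact ih.comp hτs
    exact this _
  have hinj : Function.Injective ((⇑(Isoc.stdIsoc τ d (n + 1)))^[n + 1]) := by
    intro x x' hxx
    funext i
    have := congrFun hxx i
    rw [stdIsoc_iterate_self, stdIsoc_iterate_self] at this
    exact hτi (mul_left_cancel₀ (zpow_ne_zero d hp) this)
  have hsurj : Function.Surjective ((⇑(Isoc.stdIsoc τ d (n + 1)))^[n + 1]) := by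
    intro y
    have h1 : ∀ i, ∃ z, (τ ^ (n + 1)) z = (p : 𝕃) ^ (-d) * y i := fun i => hτs' _
    choose x hx using h1
    refine ⟨x, ?_⟩
    funext i
    rw [stdIsoc_iterate_self, hx, ← mul_assoc, ← zpow_add₀ hp, add_neg_cancel, zpow_zero, one_mul]
  constructor
  · rw [Function.iterate_succ] at hinj
    exact Function.Injective.of_comp hinj
  · rw [Function.iterate_succ'] at hsurj
    exact Function.Surjective.of_comp hsurj

end Std

end Groth.Agent.Lib.Helper25.Isoc
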