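import Mathlib
import Groth.Prelude.Def_Isoc
import Groth.Agent.Lib.Helper25.IsocLib
import Groth.Agent.Lib.Helper25.IsocLib2
import Groth.Agent.Lib.Helper25.IsocLib3
import Groth.Agent.Lib.Helper25.IsocLib4
import Groth.Agent.Lib.Helper25.IsocDM2
import Groth.Agent.S17153

/-!
# Dieudonné–Manin, part 3 (helper25): simple sub-isocrystals generated by a vector with
`F^s x = p^r x`, and complements in sums of simple stable subspaces.
-/

set_option autoImplicit false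

universe u v

open scoped Pointwise

namespace Groth.Agent.Lib.Helper25.Isoc

section Cyc

variable {p : ℕ} [Fact p.Prime] {k : Type u} [Field k] [CharP k p] [PerfectRing k p]
variable {N : Type v} [AddCommGroup N] [Module (WittVector p k) N]
  [Module (FractionRing (WittVector p k)) N]
  [IsScalarTower (WittVector p k) (FractionRing (WittVector p k)) N]
variable {τ : FractionRing (WittVector p k) →+* FractionRing (WittVector p k)}

local notation "𝕎" => WittVector p k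
local notation "𝕃" => FractionRing (WittVector p k)

/-- the map `L^s → N`, `y ↦ Σ y_i • F^i x` -/
noncomputable def cycMap (F : N →ₛₗ[τ] N) (x : N) (s : ℕ) :
    (Fin s → FractionRing (WittVector p k)) →ₗ[FractionRing (WittVector p k)] N :=
  Fintype.linearCombination (FractionRing (WittVector p k)) (fun i : Fin s => (⇑F)^[i] x)

theorem cycMap_apply (F : N →ₛₗ[τ] N) (x : N) (s : ℕ) (y : Fin s → 𝕃) :
    cycMap F x s y = ∑ i, y i • (⇑F)^[i] x := by
  unfold cycMap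
  rw [Fintype.linearCombination_apply]

theorem cycMap_std (F : N →ₛₗ[τ] N) (x : N) {s : ℕ} (r : ℤ)
    (hx : (⇑F)^[s] x = ((p : 𝕃) ^ r) • x) (y : Fin s → 𝕃) :
    F (cycMap F x s y) = cycMap F x s (Isoc.stdIsoc τ r s y) := by
  rcases Nat.eq_zero_or_pos s with h0 | hs
  · subst h0
    rw [cycMap_apply, cycMap_apply]
    simp
  obtain ⟨n, rfl⟩ : ∃ n, s = n + 1 := ⟨s - 1, by omega⟩
  rw [cycMap_apply, cycMap_apply, map_sum,
    ← Equiv.sum_comp (finRotate (n + 1)) (fun j => Isoc.stdIsoc τ r (n + 1) y j • (⇑F)^[j] x)]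
  apply Finset.sum_congr rfl
  intro i _
  rw [map_smulₛₗ, Isoc.stdIsoc_apply, Equiv.symm_apply_apply, coe_finRotate,
    ← Function.iterate_succ_apply' (⇑F)]
  by_cases hi : i = Fin.last n
  · rw [if_pos hi, if_pos rfl, Function.iterate_zero, id, mul_smul, smul_comm, ← hx, hi]
    rfl
  · rw [if_neg hi, if_neg (Nat.succ_ne_zero _), one_mul]

theorem cyc_stable (F : N →ₛₗ[τ] N) (x : N) {s : ℕ} (r : ℤ)
    (hx : (⇑F)^[s] x = ((p : 𝕃) ^ r) • x) :
    ∀ y ∈ LinearMap.range (cycMap F x s), F y ∈ LinearMap.range (cycMap F x s) := by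
  rintro _ ⟨y, rfl⟩
  exact ⟨_, (cycMap_std F x r hx y).symm⟩

theorem self_mem_cyc (F : N →ₛₗ[τ] N) (x : N) {s : ℕ} (hs : 0 < s) :
    x ∈ LinearMap.range (cycMap F x s) := by
  classical
  refine ⟨Pi.single ⟨0, hs⟩ 1, ?_⟩
  rw [cycMap_apply, Finset.sum_eq_single (⟨0, hs⟩ : Fin s)]
  · simp
  · intro b _ hb
    rw [Pi.single_eq_of_ne hb, zero_smul]
  · intro h; exact absurd (Finset.mem_univ _) h

theorem cyc_simple {a : ℤ} (F : N →ₛₗ[Isoc.frob p k a] N) (x : N) {s : ℕ} (hs : 0 < s) (r : ℤ)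
    (hgcd : Int.gcd r s = 1) (hx : (⇑F)^[s] x = ((p : 𝕃) ^ r) • x)
    (R : Submodule 𝕃 N) (hR : R ≤ LinearMap.range (cycMap F x s)) (hRs : ∀ y ∈ R, F y ∈ R) :
    R = ⊥ ∨ R = LinearMap.range (cycMap F x s) := by
  have hcomap : ∀ y ∈ R.comap (cycMap F x s),
      Isoc.stdIsoc (Isoc.frob p k a) r s y ∈ R.comap (cycMap F x s) := by
    intro y hy
    rw [Submodule.mem_comap] at hy ⊢
    rw [← cycMap_std F x r hx y]
    exact hRs _ hy
  rcases Groth.Agent.S17153.result p k a r s hs hgcd _ hcomap with h | h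
  · left
    rw [eq_bot_iff]
    intro z hz
    obtain ⟨y, rfl⟩ := hR hz
    have : y ∈ R.comap (cycMap F x s) := hz
    rw [h, Submodule.mem_bot] at this
    rw [this, map_zero]
    exact Submodule.zero_mem _
  · right
    apply le_antisymm hR
    rintro _ ⟨y, rfl⟩
    have : y ∈ R.comap (cycMap F x s) := by rw [h]; trivial
    exact this

theorem cycMap_injective {a : ℤ} (F : N →ₛₗ[Isoc.frob p k a] N) (x : N) (hx0 : x ≠ 0) {s : ℕ}
    (hs : 0 < s) (r : ℤ) (hgcd : Int.gcd r s = 1) (hx : (⇑F)^[s] x = ((p : 𝕃) ^ r) • x) :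
    Function.Injective (cycMap F x s) := by
  classical
  rw [← LinearMap.ker_eq_bot]
  have hker : ∀ y ∈ LinearMap.ker (cycMap F x s),
      Isoc.stdIsoc (Isoc.frob p k a) r s y ∈ LinearMap.ker (cycMap F x s) := by
    intro y hy
    rw [LinearMap.mem_ker] at hy ⊢
    rw [← cycMap_std F x r hx y, hy, map_zero]
  rcases Groth.Agent.S17153.result p k a r s hs hgcd _ hker with h | h
  · exact h
  · exfalso
    apply hx0
    obtain ⟨y, hy⟩ := self_mem_cyc F x hs
    have : y ∈ LinearMap.ker (cycMap F x s) := by rw [h]; trivial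
    rw [LinearMap.mem_ker] at this
    rw [← hy, this]

end Cyc

section Compl

variable {K : Type u} [Field K] {N : Type v} [AddCommGroup N] [Module K N] {σ : K →+* K}

theorem stable_sup (F : N →ₛₗ[σ] N) {A B : Submodule K N} (hA : ∀ x ∈ A, F x ∈ A)
    (hB : ∀ x ∈ B, F x ∈ B) : ∀ x ∈ A ⊔ B, F x ∈ A ⊔ B := by
  intro x hx
  obtain ⟨a, ha, b, hb, rfl⟩ := Submodule.mem_sup.1 hx
  rw [map_add]
  exact Submodule.add_mem_sup (hA a ha) (hB b hb)

theorem stable_inf (F : N →ₛₗ[σ] N) {A B : Submodule K N} (hA : ∀ x ∈ A, F x ∈ A)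
    (hB : ∀ x ∈ B, F x ∈ B) : ∀ x ∈ A ⊓ B, F x ∈ A ⊓ B := by
  intro x hx
  exact ⟨hA x hx.1, hB x hx.2⟩

/-- In a sum of simple stable subspaces, every stable subspace has a stable complement. -/
theorem exists_stable_compl [FiniteDimensional K N] (F : N →ₛₗ[σ] N)
    (𝒮 : Set (Submodule K N))
    (hsimple : ∀ S ∈ 𝒮, (∀ x ∈ S, F x ∈ S) ∧
      ∀ R : Submodule K N, R ≤ S → (∀ x ∈ R, F x ∈ R) → R = ⊥ ∨ R = S)
    (htop : sSup 𝒮 = ⊤) (P : Submodule K N) (hP : ∀ x ∈ P, F x ∈ P) :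
    ∃ Q : Submodule K N, (∀ x ∈ Q, F x ∈ Q) ∧ IsCompl P Q := by
  obtain ⟨𝒬, h𝒬⟩ : ∃ 𝒬 : Set (Submodule K N),
      𝒬 = {Q | (∀ x ∈ Q, F x ∈ Q) ∧ Disjoint P Q} := ⟨_, rfl⟩
  have hbot : (⊥ : Submodule K N) ∈ 𝒬 := by
    rw [h𝒬]
    refine ⟨?_, disjoint_bot_right⟩
    intro x hx
    rw [Submodule.mem_bot] at hx ⊢
    rw [hx, map_zero]
  obtain ⟨Q, hQ, hmax⟩ := (wellFounded_gt (α := Submodule K N)).has_min 𝒬 ⟨⊥, hbot⟩
  rw [h𝒬] at hQ
  obtain ⟨hQs, hPQ⟩ := hQ
  refine ⟨Q, hQs, hPQ, ?_⟩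
  rw [codisjoint_iff]
  by_contra hne
  have hex : ∃ S ∈ 𝒮, ¬ S ≤ P ⊔ Q := by
    by_contra hno
    push Not at hno
    apply hne
    rw [eq_top_iff, ← htop]
    exact sSup_le hno
  obtain ⟨S, hS, hSle⟩ := hex
  obtain ⟨hSs, hSsimple⟩ := hsimple S hS
  have hdisj : Disjoint (P ⊔ Q) S := by
    rw [disjoint_iff]
    rcases hSsimple ((P ⊔ Q) ⊓ S) inf_le_right
      (stable_inf F (stable_sup F hP hQs) hSs) with h | h
    · exact h
    · exfalso
      apply hSle
      rw [← h]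
      exact inf_le_left
  have hQ' : Q ⊔ S ∈ 𝒬 := by
    rw [h𝒬]
    exact ⟨stable_sup F hQs hSs, hPQ.disjoint_sup_right_of_disjoint_sup_left hdisj⟩
  apply hmax (Q ⊔ S) hQ'
  show Q < Q ⊔ S
  apply lt_of_le_of_ne le_sup_left
  intro heq
  apply hSle
  have : S ≤ Q := by rw [heq]; exact le_sup_right
  exact this.trans le_sup_right

end Compl

end Groth.Agent.Lib.Helper25.Isoc
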