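import Mathlib
import Groth.Prelude.Def_Isoc
import Groth.Agent.Lib.Helper25.IsocLib
import Groth.Agent.Lib.Helper25.IsocLib2
import Groth.Agent.Lib.Helper25.IsocLib4
import Groth.Agent.Lib.Helper25.IsocDet

/-!
# Helper library for the `Isoc` statements (helper25): index of lattices, Demazure's lemma

* `exists_ord_toMatrix_of_le` : for lattices `C ≤ D` the base change determinant has order `n ≥ 0`,
  and `n = 0` forces `D ≤ C`.
* `ord_toMatrix_le_of_le_pPow` : `C ≤ p⁻¹ A` gives index `≤ h`.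
* `accLat F M j = M + F M + ... + F^j M`.
* `exists_stable_of_le` : `F^{h+1} M ≤ p⁻¹ M` implies some `accLat F M j` is `F`-stable.
-/

set_option autoImplicit false

universe u v w

open scoped Pointwise

namespace Groth.Agent.Lib.Helper25.Isoc

section Index

variable {p : ℕ} [Fact p.Prime] {k : Type u} [Field k] [CharP k p] [PerfectRing k p]
variable {N : Type v} [AddCommGroup N] [Module (WittVector p k) N]
  [Module (FractionRing (WittVector p k)) N]
  [IsScalarTower (WittVector p k) (FractionRing (WittVector p k)) N]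

local notation "𝕎" => WittVector p k
local notation "𝕃" => FractionRing (WittVector p k)

theorem IsLatticeBasis.le_of_mem {h : ℕ} {e : Module.Basis (Fin h) 𝕃 N} {D C : Submodule 𝕎 N}
    (he : IsLatticeBasis e D) (hC : ∀ j, e j ∈ C) : D ≤ C := by
  intro x hx
  have hx2 := (he x).1 hx
  choose w hw using hx2
  have hx' : x = ∑ i, w i • e i := by
    conv_lhs => rw [← e.sum_repr x]
    apply Finset.sum_congr rfl
    intro i _
    rw [hw i, algebraMap_smul]
  rw [hx']
  exact Submodule.sum_mem _ (fun i _ => Submodule.smul_mem _ _ (hC i))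

/-- The base change matrix between lattice bases of `C ≤ p^r D` is `p^r` times an integral one. -/
theorem exists_intMatrix_toMatrix {h : ℕ} {eC eD : Module.Basis (Fin h) 𝕃 N}
    {C D : Submodule 𝕎 N} (hC : IsLatticeBasis eC C) (hD : IsLatticeBasis eD D) {r : ℤ}
    (hCD : C ≤ Isoc.pPow r D) :
    ∃ B : Matrix (Fin h) (Fin h) 𝕎, eD.toMatrix eC = ((p : 𝕃) ^ r) • B.map (algebraMap 𝕎 𝕃) := by
  have hp := pL_ne_zero p k
  have h1 : ∀ j i, ∃ w : 𝕎, eD.repr (((p : 𝕃) ^ (-r)) • eC j) i = algebraMap 𝕎 𝕃 w := fun j =>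
    (hD _).1 (mem_pPow_iff'.1 (hCD (hC.mem j)))
  choose B hB using h1
  refine ⟨Matrix.of fun i j => B j i, ?_⟩
  ext i j
  have := hB j i
  rw [map_smul, Finsupp.smul_apply, smul_eq_mul] at this
  rw [Matrix.smul_apply, Matrix.map_apply, Matrix.of_apply, ← this, smul_eq_mul, ← mul_assoc,
    ← zpow_add₀ hp, add_neg_cancel, zpow_zero, one_mul, Module.Basis.toMatrix_apply]

theorem exists_ord_toMatrix_of_le {h : ℕ} {eC eD : Module.Basis (Fin h) 𝕃 N}
    {C D : Submodule 𝕎 N} (hC : IsLatticeBasis eC C) (hD : IsLatticeBasis eD D) (hCD : C ≤ D) :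
    ∃ n : ℕ, Isoc.IsOrdP (eD.toMatrix eC).det (n : ℤ) ∧ (n = 0 → D ≤ C) := by
  classical
  have hCD' : C ≤ Isoc.pPow 0 D := by rw [pPow_zero]; exact hCD
  obtain ⟨B, hB⟩ := exists_intMatrix_toMatrix hC hD hCD'
  rw [zpow_zero, one_smul] at hB
  have hdet : (eD.toMatrix eC).det = algebraMap 𝕎 𝕃 B.det := by
    rw [hB, RingHom.map_det]; rfl
  have hinv : (eD.toMatrix eC).det * (eC.toMatrix eD).det = 1 := by
    rw [← Matrix.det_mul, Module.Basis.toMatrix_mul_toMatrix_flip, Matrix.det_one]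
  have hB0 : B.det ≠ 0 := by
    intro h0
    rw [hdet, h0, map_zero, zero_mul] at hinv
    exact zero_ne_one hinv
  obtain ⟨n, hn⟩ := isOrdP_algebraMap (p := p) (k := k) hB0
  refine ⟨n, by rw [hdet]; exact hn, fun hn0 => ?_⟩
  subst hn0
  obtain ⟨u, hu⟩ := hn
  rw [Nat.cast_zero, zpow_zero, one_mul] at hu
  have hu' : B.det = u := IsFractionRing.injective 𝕎 𝕃 hu
  have hBunit : IsUnit B := (Matrix.isUnit_iff_isUnit_det B).2 (by rw [hu']; exact u.isUnit)
  obtain ⟨U, hU⟩ := hBunit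
  have hBU : B * (↑U⁻¹ : Matrix (Fin h) (Fin h) 𝕎) = 1 := by rw [← hU]; exact U.mul_inv
  have hmap : eD.toMatrix eC * (↑U⁻¹ : Matrix (Fin h) (Fin h) 𝕎).map (algebraMap 𝕎 𝕃) = 1 := by
    rw [hB, ← Matrix.map_mul, hBU, Matrix.map_one _ (map_zero _) (map_one _)]
  have hflip : eC.toMatrix eD = (↑U⁻¹ : Matrix (Fin h) (Fin h) 𝕎).map (algebraMap 𝕎 𝕃) := by
    calc eC.toMatrix eD = eC.toMatrix eD * (eD.toMatrix eC *
          (↑U⁻¹ : Matrix (Fin h) (Fin h) 𝕎).map (algebraMap 𝕎 𝕃)) := by rw [hmap, Matrix.mul_one]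
      _ = (↑U⁻¹ : Matrix (Fin h) (Fin h) 𝕎).map (algebraMap 𝕎 𝕃) := by
        rw [← Matrix.mul_assoc, Module.Basis.toMatrix_mul_toMatrix_flip, Matrix.one_mul]
  apply hD.le_of_mem
  intro j
  rw [hC]
  intro i
  refine ⟨(↑U⁻¹ : Matrix (Fin h) (Fin h) 𝕎) i j, ?_⟩
  rw [← Module.Basis.toMatrix_apply, hflip, Matrix.map_apply]

theorem ord_toMatrix_le_of_le_pPow {h : ℕ} {eA eC : Module.Basis (Fin h) 𝕃 N}
    {A C : Submodule 𝕎 N} (hA : IsLatticeBasis eA A) (hC : IsLatticeBasis eC C)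
    (hCA : C ≤ Isoc.pPow (-1) A) {ν : ℤ} (hν : Isoc.IsOrdP (eC.toMatrix eA).det ν) : ν ≤ h := by
  classical
  obtain ⟨B, hB⟩ := exists_intMatrix_toMatrix hC hA hCA
  have hdet := det_of_intMatrix (p := p) (k := k) (eA.toMatrix eC) B (-1) hB
  have hinv : (eA.toMatrix eC).det * (eC.toMatrix eA).det = 1 := by
    rw [← Matrix.det_mul, Module.Basis.toMatrix_mul_toMatrix_flip, Matrix.det_one]
  have h2 : (eA.toMatrix eC).det = ((eC.toMatrix eA).det)⁻¹ := eq_inv_of_mul_eq_one_left hinv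
  have h3 : Isoc.IsOrdP (eA.toMatrix eC).det (-ν) := by rw [h2]; exact isOrdP_inv hν
  have h4 := isOrdP_le h3 hdet
  linarith

end Index

section Acc

variable {p : ℕ} [Fact p.Prime] {k : Type u} [Field k] [CharP k p] [PerfectRing k p]
variable {N : Type v} [AddCommGroup N] [Module (WittVector p k) N]
  [Module (FractionRing (WittVector p k)) N]
  [IsScalarTower (WittVector p k) (FractionRing (WittVector p k)) N]
variable {τ : FractionRing (WittVector p k) →+* FractionRing (WittVector p k)}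

local notation "𝕎" => WittVector p k
local notation "𝕃" => FractionRing (WittVector p k)

/-- `M + F M + ... + F^j M` -/
noncomputable def accLat (F : N →ₛₗ[τ] N) (M : Submodule (WittVector p k) N) :
    ℕ → Submodule (WittVector p k) N
  | 0 => M
  | (j + 1) => accLat F M j ⊔ Isoc.latImg F (j + 1) M

theorem accLat_zero (F : N →ₛₗ[τ] N) (M : Submodule 𝕎 N) : accLat F M 0 = M := rfl

theorem accLat_succ (F : N →ₛₗ[τ] N) (M : Submodule 𝕎 N) (j : ℕ) :
    accLat F M (j + 1) = accLat F M j ⊔ Isoc.latImg F (j + 1) M := rfl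

theorem accLat_le_succ (F : N →ₛₗ[τ] N) (M : Submodule 𝕎 N) (j : ℕ) :
    accLat F M j ≤ accLat F M (j + 1) := le_sup_left

theorem accLat_mono (F : N →ₛₗ[τ] N) (M : Submodule 𝕎 N) : Monotone (accLat F M) :=
  monotone_nat_of_le_succ (accLat_le_succ F M)

theorem latImg_le_accLat (F : N →ₛₗ[τ] N) (M : Submodule 𝕎 N) {i j : ℕ} (hij : i ≤ j) :
    Isoc.latImg F i M ≤ accLat F M j := by
  refine le_trans ?_ (accLat_mono F M hij)
  cases i with
  | zero => rw [latImg_zero]; exact le_rfl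
  | succ i => exact le_sup_right

theorem le_accLat (F : N →ₛₗ[τ] N) (M : Submodule 𝕎 N) (j : ℕ) : M ≤ accLat F M j :=
  accLat_mono F M (Nat.zero_le j)

theorem latImg_accLat_le (F : N →ₛₗ[τ] N) (hτ : Good τ) (M : Submodule 𝕎 N) (j : ℕ) :
    Isoc.latImg F 1 (accLat F M j) ≤ accLat F M (j + 1) := by
  induction j with
  | zero => exact le_sup_right
  | succ j ih =>
    rw [accLat_succ F M j, latImg_sup F hτ, ← latImg_add F hτ, add_comm 1 (j + 1)]
    exact sup_le (ih.trans (accLat_le_succ F M (j + 1))) le_sup_right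

theorem accLat_isLattice (F : N →ₛₗ[τ] N) (hτ : Good τ) (hF : Function.Surjective F)
    {M : Submodule 𝕎 N} (hM : M.IsLattice 𝕃) (j : ℕ) : (accLat F M j).IsLattice 𝕃 := by
  induction j with
  | zero => exact hM
  | succ j ih =>
    refine ⟨ih.fg.sup (latImg_isLattice F hτ hF (j + 1) hM).fg, ?_⟩
    rw [eq_top_iff, ← ih.span_eq_top]
    exact Submodule.span_mono (fun x hx => accLat_le_succ F M j hx)

theorem accLat_bound (F : N →ₛₗ[τ] N) (hτ : Good τ) {M : Submodule 𝕎 N} {h : ℕ}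
    (hFM : Isoc.latImg F (h + 1) M ≤ Isoc.pPow (-1) M) (j : ℕ) (hj : j ≤ h) :
    accLat F M (h + 1 + j) ≤ Isoc.pPow (-1) (accLat F M h) := by
  have hbase : accLat F M h ≤ Isoc.pPow (-1) (accLat F M h) := by
    have := pPow_anti (show (-1 : ℤ) ≤ 0 by omega) (accLat F M h)
    rwa [pPow_zero] at this
  have hstep : ∀ i, i ≤ h → Isoc.latImg F (h + 1 + i) M ≤ Isoc.pPow (-1) (accLat F M h) := by
    intro i hi
    rw [add_comm (h + 1) i, latImg_add F hτ]
    calc Isoc.latImg F i (Isoc.latImg F (h + 1) M)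
        ≤ Isoc.latImg F i (Isoc.pPow (-1) M) := latImg_mono F i hFM
      _ = Isoc.pPow (-1) (Isoc.latImg F i M) := latImg_pPow F hτ i _ M
      _ ≤ Isoc.pPow (-1) (accLat F M h) := pPow_mono (latImg_le_accLat F M hi)
  induction j with
  | zero =>
    rw [add_zero, accLat_succ]
    exact sup_le hbase (by simpa using hstep 0 (Nat.zero_le h))
  | succ j ih =>
    rw [← add_assoc, accLat_succ]
    exact sup_le (ih (by omega)) (by rw [add_assoc]; exact hstep (j + 1) hj)

/-- Demazure's lemma, lattice form. -/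
theorem exists_stable_of_le (F : N →ₛₗ[τ] N) (hτ : Good τ) (hF : Function.Surjective F)
    {h : ℕ} (b : Module.Basis (Fin h) 𝕃 N) {M : Submodule 𝕎 N} (hM : M.IsLattice 𝕃)
    (hFM : Isoc.latImg F (h + 1) M ≤ Isoc.pPow (-1) M) :
    ∃ j, accLat F M (j + 1) = accLat F M j := by
  classical
  by_contra hcon
  push Not at hcon
  have hlat := fun j => accLat_isLattice F hτ hF hM j
  choose e he using fun j => exists_latticeBasis b (hlat j)
  have key : ∀ i : ℕ, ∃ ν : ℤ, (i : ℤ) ≤ ν ∧ Isoc.IsOrdP ((e (h + i)).toMatrix (e h)).det ν := by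
    intro i
    induction i with
    | zero =>
      refine ⟨0, le_rfl, ?_⟩
      rw [add_zero, Module.Basis.toMatrix_self, Matrix.det_one]
      exact isOrdP_one
    | succ i ih =>
      obtain ⟨ν, hν, hord⟩ := ih
      obtain ⟨n, hn, hn0⟩ := exists_ord_toMatrix_of_le (he (h + i)) (he (h + i + 1))
        (accLat_le_succ F M (h + i))
      have hn1 : 1 ≤ n := by
        by_contra hlt
        have : n = 0 := by omega
        exact hcon (h + i) (le_antisymm (hn0 this) (accLat_le_succ F M (h + i)))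
      refine ⟨n + ν, by push_cast; omega, ?_⟩
      have hmul : (e (h + (i + 1))).toMatrix (e h) =
          (e (h + i + 1)).toMatrix (e (h + i)) * (e (h + i)).toMatrix (e h) := by
        rw [Module.Basis.toMatrix_mul_toMatrix]
        rfl
      rw [hmul, Matrix.det_mul]
      exact isOrdP_mul hn hord
  obtain ⟨ν, hν, hord⟩ := key (h + 1)
  have hle := ord_toMatrix_le_of_le_pPow (he h) (he (h + (h + 1)))
    (by
      have := accLat_bound F hτ hFM h le_rfl
      rwa [show h + 1 + h = h + (h + 1) by ring] at this) hord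
  push_cast at hν
  omega

end Acc

end Groth.Agent.Lib.Helper25.Isoc
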