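import Mathlib
import Groth.Prelude.Def_Isoc
import Groth.Agent.Lib.Helper25.IsocLib
import Groth.Agent.Lib.Helper25.IsocLib2
import Groth.Agent.Lib.Helper25.IsocLib4
import Groth.Agent.Lib.Helper25.IsocDet
import Groth.Agent.Lib.Helper25.IsocEff

/-!
# Helper library for the `Isoc` statements (helper25): twisted iterates `p^m F^n`

* `iter_twist`, `latImg_twist`, `twist_surjective`.
* `exists_lattice_of_slope_le` : if `r / s ≤ λ₁` there is a lattice with `F^s M ≤ p^r M`.
-/

set_option autoImplicit false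

universe u v w

open scoped Pointwise
open Filter Topology

namespace Groth.Agent.Lib.Helper25.Isoc

section Twist

variable {p : ℕ} [Fact p.Prime] {k : Type u} [Field k] [CharP k p] [PerfectRing k p]
variable {N : Type v} [AddCommGroup N] [Module (WittVector p k) N]
  [Module (FractionRing (WittVector p k)) N]
  [IsScalarTower (WittVector p k) (FractionRing (WittVector p k)) N]
variable {τ : FractionRing (WittVector p k) →+* FractionRing (WittVector p k)}

local notation "𝕎" => WittVector p k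
local notation "𝕃" => FractionRing (WittVector p k)

theorem iter_twist (F : N →ₛₗ[τ] N) (m : ℤ) (n j : ℕ) (x : N) :
    (⇑(((p : FractionRing (WittVector p k)) ^ m) • Isoc.iter F n))^[j] x =
      ((p : FractionRing (WittVector p k)) ^ (m * j)) • (⇑F)^[n * j] x := by
  have hp := pL_ne_zero p k
  induction j with
  | zero => simp
  | succ j ih =>
    rw [Function.iterate_succ_apply', ih, LinearMap.smul_apply, map_smulₛₗ, map_p_zpow,
      Isoc.iter_apply, ← Function.iterate_add_apply, smul_smul, ← zpow_add₀ hp]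
    congr 2
    · push_cast; ring
    · ring

theorem latImg_twist (F : N →ₛₗ[τ] N) (hτ : Good τ) (m : ℤ) (n j : ℕ) (M : Submodule 𝕎 N) :
    Isoc.latImg (((p : FractionRing (WittVector p k)) ^ m) • Isoc.iter F n) j M =
      Isoc.pPow (m * j) (Isoc.latImg F (n * j) M) := by
  ext y
  rw [mem_latImg _ (hτ.pow n), mem_pPow_iff]
  constructor
  · rintro ⟨x, hx, rfl⟩
    exact ⟨(⇑F)^[n * j] x, (mem_latImg F hτ).2 ⟨x, hx, rfl⟩, (iter_twist F m n j x).symm⟩
  · rintro ⟨z, hz, rfl⟩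
    obtain ⟨x, hx, rfl⟩ := (mem_latImg F hτ).1 hz
    exact ⟨x, hx, iter_twist F m n j x⟩

theorem twist_surjective (F : N →ₛₗ[τ] N) (hF : Function.Surjective F) (m : ℤ) (n : ℕ) :
    Function.Surjective (((p : FractionRing (WittVector p k)) ^ m) • Isoc.iter F n) := by
  have hp := pL_ne_zero p k
  intro y
  obtain ⟨x, hx⟩ := (hF.iterate n) (((p : 𝕃) ^ (-m)) • y)
  refine ⟨x, ?_⟩
  rw [LinearMap.smul_apply, Isoc.iter_apply, hx, smul_smul, ← zpow_add₀ hp, add_neg_cancel,
    zpow_zero, one_smul]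

/-- `latImg (p^m F^n) 1 M ≤ M` unfolds to `F^n M ≤ p^{-m} M`. -/
theorem latImg_twist_one_le_iff (F : N →ₛₗ[τ] N) (hτ : Good τ) (m : ℤ) (n : ℕ)
    (M : Submodule 𝕎 N) :
    Isoc.latImg (((p : FractionRing (WittVector p k)) ^ m) • Isoc.iter F n) 1 M ≤ M ↔
      Isoc.latImg F n M ≤ Isoc.pPow (-m) M := by
  rw [latImg_twist F hτ m n 1 M, Nat.cast_one, mul_one, mul_one, pPow_le_iff]

theorem exists_lattice_of_slope_le (F : N →ₛₗ[τ] N) (hτ : Good τ) (hF : Function.Surjective F)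
    {h : ℕ} (b : Module.Basis (Fin h) 𝕃 N) {lam : ℝ} (hlam : Isoc.IsFirstSlope F lam)
    (r : ℤ) (s : ℕ) (hs : 0 < s) (hrs : (r : ℝ) / s ≤ lam) :
    ∃ M : Submodule 𝕎 N, M.IsLattice 𝕃 ∧ Isoc.latImg F s M ≤ Isoc.pPow r M := by
  obtain ⟨M₀, hM₀, o, ho, hlim⟩ := hlam
  -- Step A
  obtain ⟨u, hu⟩ : ∃ u : ℕ, u = s * (h + 1) := ⟨_, rfl⟩
  have hu0 : 0 < u := by rw [hu]; positivity
  obtain ⟨e, he⟩ : ∃ e : ℤ, e = r * (h + 1) - 1 := ⟨_, rfl⟩
  have hlt : (e : ℝ) / u < lam := by
    refine lt_of_lt_of_le ?_ hrs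
    have hs' : (0 : ℝ) < s := by exact_mod_cast hs
    have hu' : (0 : ℝ) < u := by exact_mod_cast hu0
    rw [div_lt_div_iff₀ hu' hs', he, hu]
    push_cast
    nlinarith
  have hmul : Tendsto (fun m : ℕ => u * m) atTop atTop :=
    tendsto_atTop_mono (fun m => Nat.le_mul_of_pos_left m hu0) tendsto_id
  have hev := (hlim.comp hmul).eventually (lt_mem_nhds hlt)
  obtain ⟨m, hm, hm1⟩ := (hev.and (eventually_ge_atTop 1)).exists
  have hm' : e * m ≤ o (u * m) := by
    have hum : (0 : ℝ) < ((u * m : ℕ) : ℝ) := by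
      have : 0 < u * m := Nat.mul_pos hu0 hm1
      exact_mod_cast this
    simp only [Function.comp_apply] at hm
    rw [div_lt_div_iff₀ (by exact_mod_cast hu0) hum] at hm
    have hm2 : (e : ℝ) * m * u < (o (u * m) : ℝ) * u := by
      push_cast at hm
      nlinarith
    have hm3 : (e : ℝ) * m < (o (u * m) : ℝ) :=
      lt_of_mul_lt_mul_right hm2 (by exact_mod_cast hu0.le)
    have hm4 : e * m < o (u * m) := by exact_mod_cast hm3
    exact hm4.le
  have hA : Isoc.latImg F (u * m) M₀ ≤ Isoc.pPow (e * m) M₀ :=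
    (ho (u * m) (Nat.mul_pos hu0 hm1)).1.trans (pPow_anti hm' M₀)
  -- Step B
  obtain ⟨K, hK⟩ : ∃ K, K = ((p : FractionRing (WittVector p k)) ^ (-e)) • Isoc.iter F u :=
    ⟨_, rfl⟩
  have hKs : Function.Surjective K := by rw [hK]; exact twist_surjective F hF (-e) u
  have hτu := hτ.pow u
  obtain ⟨M', hM'⟩ : ∃ M', M' = accLat K M₀ (m - 1) := ⟨_, rfl⟩
  have hM'lat : M'.IsLattice 𝕃 := by rw [hM']; exact accLat_isLattice K hτu hKs hM₀ (m - 1)
  have hKm : Isoc.latImg K m M₀ ≤ M₀ := by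
    rw [hK, latImg_twist F hτ (-e) u m M₀, pPow_le_iff]
    convert hA using 2
    ring
  have hKM' : Isoc.latImg K 1 M' ≤ M' := by
    rw [hM']
    refine (latImg_accLat_le K hτu M₀ (m - 1)).trans ?_
    rw [accLat_succ]
    refine sup_le le_rfl ?_
    rw [show m - 1 + 1 = m by omega]
    exact hKm.trans (le_accLat K M₀ (m - 1))
  have hFM' : Isoc.latImg F u M' ≤ Isoc.pPow e M' := by
    rw [hK, latImg_twist_one_le_iff F hτ (-e) u M', neg_neg] at hKM'
    exact hKM'
  -- Step C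
  obtain ⟨G, hG⟩ : ∃ G, G = ((p : FractionRing (WittVector p k)) ^ (-r)) • Isoc.iter F s :=
    ⟨_, rfl⟩
  have hGs : Function.Surjective G := by rw [hG]; exact twist_surjective F hF (-r) s
  have hτs := hτ.pow s
  have hGM' : Isoc.latImg G (h + 1) M' ≤ Isoc.pPow (-1) M' := by
    rw [hG, latImg_twist F hτ (-r) s (h + 1) M', ← hu, pPow_le_iff]
    refine hFM'.trans (le_of_eq ?_)
    rw [← pPow_add]
    congr 1
    rw [he]
    push_cast
    ring
  obtain ⟨j, hj⟩ := exists_stable_of_le G hτs hGs b hM'lat hGM'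
  refine ⟨accLat G M' j, accLat_isLattice G hτs hGs hM'lat j, ?_⟩
  have h1 := latImg_accLat_le G hτs M' j
  rw [hj] at h1
  subst hG
  rw [latImg_twist_one_le_iff F hτ (-r) s, neg_neg] at h1
  exact h1

end Twist

end Groth.Agent.Lib.Helper25.Isoc
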