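import Mathlib
import Groth.Prelude.Def_Isoc
import Groth.Agent.Lib.Helper25.IsocLib
import Groth.Agent.Lib.Helper25.IsocLib2
import Groth.Agent.Lib.Helper25.IsocLib4
import Groth.Agent.Lib.Helper25.IsocDet
import Groth.Agent.Lib.Helper25.IsocEff
import Groth.Agent.Lib.Helper25.IsocTwist

/-!
# Helper library for the `Isoc` statements (helper25): rationality of the first slope

* `chain_stabilizes` : a chain of lattices `C 0 ≤ C 1 ≤ ... ≤ C (h+1) ≤ p⁻¹ C 0` has a repetition.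
* `latImg_le_pPow_one_of_le` : if `G M ≤ M` and `G^n M ≤ p M` then `G^h M ≤ p M` (nilpotent mod `p`).
* `latImg_mul_le`, `exists_lattice_of_le_twisted`.
-/

set_option autoImplicit false

universe u v w

open scoped Pointwise

namespace Groth.Agent.Lib.Helper25.Isoc

section Chain

variable {p : ℕ} [Fact p.Prime] {k : Type u} [Field k] [CharP k p] [PerfectRing k p]
variable {N : Type v} [AddCommGroup N] [Module (WittVector p k) N]
  [Module (FractionRing (WittVector p k)) N]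
  [IsScalarTower (WittVector p k) (FractionRing (WittVector p k)) N]
variable {τ : FractionRing (WittVector p k) →+* FractionRing (WittVector p k)}

local notation "𝕎" => WittVector p k
local notation "𝕃" => FractionRing (WittVector p k)

theorem chain_stabilizes {h : ℕ} (b : Module.Basis (Fin h) 𝕃 N) (C : ℕ → Submodule 𝕎 N)
    (hlat : ∀ j, (C j).IsLattice 𝕃) (hmono : ∀ j, C j ≤ C (j + 1))
    (hbound : C (h + 1) ≤ Isoc.pPow (-1) (C 0)) : ∃ j, j ≤ h ∧ C (j + 1) = C j := by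
  classical
  by_contra hcon
  push Not at hcon
  choose e he using fun j => exists_latticeBasis b (hlat j)
  have key : ∀ i : ℕ, i ≤ h + 1 →
      ∃ ν : ℤ, (i : ℤ) ≤ ν ∧ Isoc.IsOrdP ((e i).toMatrix (e 0)).det ν := by
    intro i
    induction i with
    | zero =>
      intro _
      refine ⟨0, le_rfl, ?_⟩
      rw [Module.Basis.toMatrix_self, Matrix.det_one]
      exact isOrdP_one
    | succ i ih =>
      intro hi
      obtain ⟨ν, hν, hord⟩ := ih (by omega)
      obtain ⟨n, hn, hn0⟩ := exists_ord_toMatrix_of_le (he i) (he (i + 1)) (hmono i)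
      have hn1 : 1 ≤ n := by
        by_contra hlt
        have : n = 0 := by omega
        exact hcon i (by omega) (le_antisymm (hn0 this) (hmono i))
      refine ⟨n + ν, by push_cast; omega, ?_⟩
      have hmul : (e (i + 1)).toMatrix (e 0) =
          (e (i + 1)).toMatrix (e i) * (e i).toMatrix (e 0) := by
        rw [Module.Basis.toMatrix_mul_toMatrix]
      rw [hmul, Matrix.det_mul]
      exact isOrdP_mul hn hord
  obtain ⟨ν, hν, hord⟩ := key (h + 1) le_rfl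
  have hle := ord_toMatrix_le_of_le_pPow (he 0) (he (h + 1)) hbound hord
  push_cast at hν
  omega

theorem latImg_mul_le (F : N →ₛₗ[τ] N) (hτ : Good τ) {M : Submodule 𝕎 N} {m : ℕ} {c : ℤ}
    (h : Isoc.latImg F m M ≤ Isoc.pPow c M) (n : ℕ) :
    Isoc.latImg F (m * n) M ≤ Isoc.pPow (c * n) M := by
  induction n with
  | zero => simp [pPow_zero, latImg_zero]
  | succ n ih =>
    rw [Nat.mul_succ, add_comm, latImg_add F hτ]
    calc Isoc.latImg F m (Isoc.latImg F (m * n) M)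
        ≤ Isoc.latImg F m (Isoc.pPow (c * n) M) := latImg_mono F m ih
      _ = Isoc.pPow (c * n) (Isoc.latImg F m M) := latImg_pPow F hτ m _ M
      _ ≤ Isoc.pPow (c * n) (Isoc.pPow c M) := pPow_mono h
      _ = Isoc.pPow (c * ((n + 1 : ℕ) : ℤ)) M := by
        rw [← pPow_add]; congr 1; push_cast; ring

/-- `{x ∈ M | G^i x ∈ p M}` -/
noncomputable def nilC (G : N →ₛₗ[τ] N) (hτ : Good τ) (M : Submodule 𝕎 N) (i : ℕ) :
    Submodule 𝕎 N where
  carrier := {x | x ∈ M ∧ (⇑G)^[i] x ∈ Isoc.pPow 1 M}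
  add_mem' := by
    rintro x y ⟨hx, hx'⟩ ⟨hy, hy'⟩
    refine ⟨M.add_mem hx hy, ?_⟩
    have : (⇑G)^[i] (x + y) = (⇑G)^[i] x + (⇑G)^[i] y := map_add (Isoc.iter G i) x y
    rw [this]
    exact Submodule.add_mem _ hx' hy'
  zero_mem' := by
    refine ⟨M.zero_mem, ?_⟩
    have : (⇑G)^[i] 0 = 0 := map_zero (Isoc.iter G i)
    rw [this]
    exact Submodule.zero_mem _
  smul_mem' := by
    rintro w x ⟨hx, hx'⟩
    refine ⟨M.smul_mem w hx, ?_⟩
    obtain ⟨w', hw'⟩ := (hτ.pow i).1 w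
    have : (⇑G)^[i] (w • x) = w' • (⇑G)^[i] x := smul_map (Isoc.iter G i) w x hw'
    rw [this]
    exact Submodule.smul_mem _ _ hx'

theorem mem_nilC {G : N →ₛₗ[τ] N} {hτ : Good τ} {M : Submodule 𝕎 N} {i : ℕ} {x : N} :
    x ∈ nilC G hτ M i ↔ x ∈ M ∧ (⇑G)^[i] x ∈ Isoc.pPow 1 M := Iff.rfl

theorem pPow_one_le (M : Submodule 𝕎 N) : Isoc.pPow 1 M ≤ M := by
  have := pPow_natCast_le (p := p) (k := k) 1 M
  simpa using this

theorem nilC_zero (G : N →ₛₗ[τ] N) (hτ : Good τ) (M : Submodule 𝕎 N) :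
    nilC G hτ M 0 = Isoc.pPow 1 M := by
  ext x
  rw [mem_nilC, Function.iterate_zero, id]
  exact ⟨fun h => h.2, fun h => ⟨pPow_one_le M h, h⟩⟩

theorem nilC_le (G : N →ₛₗ[τ] N) (hτ : Good τ) (M : Submodule 𝕎 N) (i : ℕ) :
    nilC G hτ M i ≤ M := fun _ hx => hx.1

theorem apply_mem_pPow_one (G : N →ₛₗ[τ] N) (hτ : Good τ) {M : Submodule 𝕎 N}
    (hGM : Isoc.latImg G 1 M ≤ M) {x : N} (hx : x ∈ Isoc.pPow 1 M) : G x ∈ Isoc.pPow 1 M := by
  have h1 : G x ∈ Isoc.latImg G 1 (Isoc.pPow 1 M) := (mem_latImg G hτ).2 ⟨x, hx, rfl⟩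
  rw [latImg_pPow G hτ] at h1
  exact pPow_mono hGM h1

theorem apply_mem (G : N →ₛₗ[τ] N) (hτ : Good τ) {M : Submodule 𝕎 N}
    (hGM : Isoc.latImg G 1 M ≤ M) {x : N} (hx : x ∈ M) : G x ∈ M :=
  hGM ((mem_latImg G hτ).2 ⟨x, hx, rfl⟩)

theorem nilC_mono (G : N →ₛₗ[τ] N) (hτ : Good τ) {M : Submodule 𝕎 N}
    (hGM : Isoc.latImg G 1 M ≤ M) (i : ℕ) : nilC G hτ M i ≤ nilC G hτ M (i + 1) := by
  rintro x ⟨hx, hx'⟩
  refine ⟨hx, ?_⟩
  rw [Function.iterate_succ_apply']
  exact apply_mem_pPow_one G hτ hGM hx'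

theorem nilC_isLattice (G : N →ₛₗ[τ] N) (hτ : Good τ) {M : Submodule 𝕎 N}
    (hM : M.IsLattice 𝕃) (hGM : Isoc.latImg G 1 M ≤ M) (i : ℕ) :
    (nilC G hτ M i).IsLattice 𝕃 := by
  refine ⟨Submodule.FG.of_le hM.fg (nilC_le G hτ M i), ?_⟩
  have h0 : Isoc.pPow 1 M ≤ nilC G hτ M i := by
    rw [← nilC_zero G hτ M]
    exact monotone_nat_of_le_succ (nilC_mono G hτ hGM) (Nat.zero_le i)
  rw [eq_top_iff, ← (pPow_isLattice (r := 1) hM).span_eq_top]
  exact Submodule.span_mono (fun x hx => h0 hx)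

theorem nilC_stable (G : N →ₛₗ[τ] N) (hτ : Good τ) {M : Submodule 𝕎 N}
    (hGM : Isoc.latImg G 1 M ≤ M) {i : ℕ} (hi : nilC G hτ M (i + 1) = nilC G hτ M i) :
    nilC G hτ M (i + 2) = nilC G hτ M (i + 1) := by
  apply le_antisymm
  · rintro x ⟨hx, hx'⟩
    refine ⟨hx, ?_⟩
    have h1 : G x ∈ nilC G hτ M (i + 1) := by
      refine ⟨apply_mem G hτ hGM hx, ?_⟩
      rw [← Function.iterate_succ_apply]
      exact hx'
    rw [hi] at h1
    rw [Function.iterate_succ_apply]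
    exact h1.2
  · exact nilC_mono G hτ hGM (i + 1)

theorem nilC_eq_of_stable (G : N →ₛₗ[τ] N) (hτ : Good τ) {M : Submodule 𝕎 N}
    (hGM : Isoc.latImg G 1 M ≤ M) {j : ℕ} (hj : nilC G hτ M (j + 1) = nilC G hτ M j) (n : ℕ) :
    nilC G hτ M (j + n) = nilC G hτ M j := by
  have hstep : ∀ n, nilC G hτ M (j + n + 1) = nilC G hτ M (j + n) := by
    intro n
    induction n with
    | zero => exact hj
    | succ n ih => exact nilC_stable G hτ hGM ih
  induction n with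
  | zero => rfl
  | succ n ih => rw [← add_assoc, hstep n, ih]

/-- nilpotent modulo `p` implies `h`-th power is zero modulo `p`. -/
theorem latImg_le_pPow_one_of_le (G : N →ₛₗ[τ] N) (hτ : Good τ) {h : ℕ}
    (b : Module.Basis (Fin h) 𝕃 N) {M : Submodule 𝕎 N} (hM : M.IsLattice 𝕃)
    (hGM : Isoc.latImg G 1 M ≤ M) {n : ℕ} (hn : Isoc.latImg G n M ≤ Isoc.pPow 1 M) :
    Isoc.latImg G h M ≤ Isoc.pPow 1 M := by
  have hmono := monotone_nat_of_le_succ (nilC_mono G hτ hGM)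
  have hCn : nilC G hτ M n = M := by
    apply le_antisymm (nilC_le G hτ M n)
    intro x hx
    exact ⟨hx, hn ((mem_latImg G hτ).2 ⟨x, hx, rfl⟩)⟩
  obtain ⟨j, hjh, hj⟩ := chain_stabilizes b (nilC G hτ M) (nilC_isLattice G hτ hM hGM)
    (nilC_mono G hτ hGM) (by
      rw [nilC_zero, ← pPow_add]
      simpa [pPow_zero] using nilC_le G hτ M (h + 1))
  have hCh : nilC G hτ M h = M := by
    apply le_antisymm (nilC_le G hτ M h)
    rcases le_total n h with hnh | hnh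
    · exact hCn.symm.le.trans (hmono hnh)
    · have hjn : j ≤ n := hjh.trans hnh
      obtain ⟨t, rfl⟩ := Nat.exists_eq_add_of_le hjn
      have h3 := nilC_eq_of_stable G hτ hGM hj t
      exact (hCn.symm.le.trans h3.le).trans (hmono hjh)
  unfold Isoc.latImg
  rw [Submodule.span_le]
  rintro y ⟨x, hx, rfl⟩
  have : x ∈ nilC G hτ M h := by rw [hCh]; exact hx
  exact this.2

/-- Step C of `exists_lattice_of_slope_le` as a separate lemma. -/
theorem exists_lattice_of_le_twisted (F : N →ₛₗ[τ] N) (hτ : Good τ) (hF : Function.Surjective F)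
    {h : ℕ} (b : Module.Basis (Fin h) 𝕃 N) (r : ℤ) (s : ℕ) {M' : Submodule 𝕎 N}
    (hM' : M'.IsLattice 𝕃)
    (hFM' : Isoc.latImg F (s * (h + 1)) M' ≤ Isoc.pPow (r * (h + 1) - 1) M') :
    ∃ M : Submodule 𝕎 N, M.IsLattice 𝕃 ∧ Isoc.latImg F s M ≤ Isoc.pPow r M := by
  obtain ⟨G, hG⟩ : ∃ G, G = ((p : FractionRing (WittVector p k)) ^ (-r)) • Isoc.iter F s :=
    ⟨_, rfl⟩
  have hGs : Function.Surjective G := by rw [hG]; exact twist_surjective F hF (-r) s
  have hτs := hτ.pow s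
  have hGM' : Isoc.latImg G (h + 1) M' ≤ Isoc.pPow (-1) M' := by
    rw [hG, latImg_twist F hτ (-r) s (h + 1) M', pPow_le_iff]
    refine hFM'.trans (le_of_eq ?_)
    rw [← pPow_add]
    congr 1
    push_cast
    ring
  obtain ⟨j, hj⟩ := exists_stable_of_le G hτs hGs b hM' hGM'
  refine ⟨accLat G M' j, accLat_isLattice G hτs hGs hM' j, ?_⟩
  have h1 := latImg_accLat_le G hτs M' j
  rw [hj] at h1
  subst hG
  rw [latImg_twist_one_le_iff F hτ (-r) s, neg_neg] at h1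
  exact h1

end Chain

end Groth.Agent.Lib.Helper25.Isoc
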