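import Mathlib
import Groth.Prelude.Def_Isoc
import Groth.Agent.Lib.Helper25.IsocLib
import Groth.Agent.Lib.Helper25.IsocLib2
import Groth.Agent.Lib.Helper25.IsocLib4
import Groth.Agent.Lib.Helper25.IsocDet
import Groth.Agent.Lib.Helper25.IsocEff
import Groth.Agent.Lib.Helper25.IsocRat

/-!
# Helper library for the `Isoc` statements (helper25): Fitting decomposition of a lattice

For an injective semilinear `G` with `G M ≤ M` on a lattice `M` over the complete ring `W(k)`: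
every `x ∈ M` is `a + b` with `a ∈ ⋂ G^n M` and `G^n b → 0`.
-/

set_option autoImplicit false

universe u v w

open scoped Pointwise

namespace Groth.Agent.Lib.Helper25.Isoc

section ChainDec

variable {p : ℕ} [Fact p.Prime] {k : Type u} [Field k] [CharP k p] [PerfectRing k p]
variable {N : Type v} [AddCommGroup N] [Module (WittVector p k) N]
  [Module (FractionRing (WittVector p k)) N]
  [IsScalarTower (WittVector p k) (FractionRing (WittVector p k)) N]
variable {τ : FractionRing (WittVector p k) →+* FractionRing (WittVector p k)}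

local notation "𝕎" => WittVector p k
local notation "𝕃" => FractionRing (WittVector p k)

theorem ord_toMatrix_le_of_le_pPow' {h : ℕ} {eA eC : Module.Basis (Fin h) 𝕃 N}
    {A C : Submodule 𝕎 N} (hA : IsLatticeBasis eA A) (hC : IsLatticeBasis eC C) (m : ℕ)
    (hCA : C ≤ Isoc.pPow (-(m : ℤ)) A) {ν : ℤ} (hν : Isoc.IsOrdP (eC.toMatrix eA).det ν) :
    ν ≤ m * h := by
  classical
  obtain ⟨B, hB⟩ := exists_intMatrix_toMatrix hC hA hCA
  have hdet := det_of_intMatrix (p := p) (k := k) (eA.toMatrix eC) B (-(m : ℤ)) hB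
  have hinv : (eA.toMatrix eC).det * (eC.toMatrix eA).det = 1 := by
    rw [← Matrix.det_mul, Module.Basis.toMatrix_mul_toMatrix_flip, Matrix.det_one]
  have h2 : (eA.toMatrix eC).det = ((eC.toMatrix eA).det)⁻¹ := eq_inv_of_mul_eq_one_left hinv
  have h3 : Isoc.IsOrdP (eA.toMatrix eC).det (-ν) := by rw [h2]; exact isOrdP_inv hν
  have h4 := isOrdP_le h3 hdet
  linarith

/-- A decreasing chain of lattices all containing `p^m D₀` has a repetition. -/
theorem chain_stabilizes_dec {h : ℕ} (b : Module.Basis (Fin h) 𝕃 N) (D : ℕ → Submodule 𝕎 N)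
    (hlat : ∀ j, (D j).IsLattice 𝕃) (hanti : ∀ j, D (j + 1) ≤ D j) (m : ℕ)
    (hbound : ∀ j, Isoc.pPow (m : ℤ) (D 0) ≤ D j) : ∃ j, D (j + 1) = D j := by
  classical
  by_contra hcon
  push Not at hcon
  choose e he using fun j => exists_latticeBasis b (hlat j)
  have key : ∀ i : ℕ, ∃ ν : ℤ, (i : ℤ) ≤ ν ∧ Isoc.IsOrdP ((e 0).toMatrix (e i)).det ν := by
    intro i
    induction i with
    | zero =>
      refine ⟨0, le_rfl, ?_⟩
      rw [Module.Basis.toMatrix_self, Matrix.det_one]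
      exact isOrdP_one
    | succ i ih =>
      obtain ⟨ν, hν, hord⟩ := ih
      obtain ⟨n, hn, hn0⟩ := exists_ord_toMatrix_of_le (he (i + 1)) (he i) (hanti i)
      have hn1 : 1 ≤ n := by
        by_contra hlt
        have : n = 0 := by omega
        exact hcon i (le_antisymm (hanti i) (hn0 this))
      refine ⟨ν + n, by push_cast; omega, ?_⟩
      have hmul : (e 0).toMatrix (e (i + 1)) =
          (e 0).toMatrix (e i) * (e i).toMatrix (e (i + 1)) := by
        rw [Module.Basis.toMatrix_mul_toMatrix]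
      rw [hmul, Matrix.det_mul]
      exact isOrdP_mul hord hn
  obtain ⟨ν, hν, hord⟩ := key (m * h + 1)
  have hle := ord_toMatrix_le_of_le_pPow' (he (m * h + 1)) (he 0) m
    (by rw [← pPow_le_iff]; exact hbound _) hord
  push_cast at hν
  omega

end ChainDec

section Fit

variable {p : ℕ} [Fact p.Prime] {k : Type u} [Field k] [CharP k p] [PerfectRing k p]
variable {N : Type v} [AddCommGroup N] [Module (WittVector p k) N]
  [Module (FractionRing (WittVector p k)) N]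
  [IsScalarTower (WittVector p k) (FractionRing (WittVector p k)) N]
variable {τ : FractionRing (WittVector p k) →+* FractionRing (WittVector p k)}

local notation "𝕎" => WittVector p k
local notation "𝕃" => FractionRing (WittVector p k)

theorem iterate_add_map (G : N →ₛₗ[τ] N) (n : ℕ) (x y : N) :
    (⇑G)^[n] (x + y) = (⇑G)^[n] x + (⇑G)^[n] y := map_add (Isoc.iter G n) x y

theorem iterate_sub_map (G : N →ₛₗ[τ] N) (n : ℕ) (x y : N) :
    (⇑G)^[n] (x - y) = (⇑G)^[n] x - (⇑G)^[n] y := map_sub (Isoc.iter G n) x y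

theorem iterate_zero_map (G : N →ₛₗ[τ] N) (n : ℕ) : (⇑G)^[n] (0 : N) = 0 :=
  map_zero (Isoc.iter G n)

theorem latImg_succ_le (G : N →ₛₗ[τ] N) (hτ : Good τ) {M : Submodule 𝕎 N}
    (hGM : Isoc.latImg G 1 M ≤ M) (n : ℕ) : Isoc.latImg G (n + 1) M ≤ Isoc.latImg G n M := by
  rw [latImg_add G hτ]
  exact latImg_mono G n hGM

theorem latImg_anti (G : N →ₛₗ[τ] N) (hτ : Good τ) {M : Submodule 𝕎 N}
    (hGM : Isoc.latImg G 1 M ≤ M) : Antitone (fun n => Isoc.latImg G n M) :=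
  antitone_nat_of_succ_le (latImg_succ_le G hτ hGM)

theorem latImg_le_self (G : N →ₛₗ[τ] N) (hτ : Good τ) {M : Submodule 𝕎 N}
    (hGM : Isoc.latImg G 1 M ≤ M) (n : ℕ) : Isoc.latImg G n M ≤ M := by
  have := latImg_anti G hτ hGM (Nat.zero_le n)
  simpa [latImg_zero] using this

theorem iterate_mem_pPow (G : N →ₛₗ[τ] N) (hτ : Good τ) {M : Submodule 𝕎 N}
    (hGM : Isoc.latImg G 1 M ≤ M) (m : ℤ) (n : ℕ) {x : N} (hx : x ∈ Isoc.pPow m M) :
    (⇑G)^[n] x ∈ Isoc.pPow m M := by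
  have h1 : (⇑G)^[n] x ∈ Isoc.latImg G n (Isoc.pPow m M) := (mem_latImg G hτ).2 ⟨x, hx, rfl⟩
  rw [latImg_pPow G hτ] at h1
  exact pPow_mono (latImg_le_self G hτ hGM n) h1

/-- `G^n M + p^m M` -/
noncomputable def fitD (G : N →ₛₗ[τ] N) (M : Submodule 𝕎 N) (m n : ℕ) : Submodule 𝕎 N :=
  Isoc.latImg G n M ⊔ Isoc.pPow (m : ℤ) M

theorem fitD_isLattice (G : N →ₛₗ[τ] N) (hτ : Good τ) {M : Submodule 𝕎 N}
    (hM : M.IsLattice 𝕃) (hGM : Isoc.latImg G 1 M ≤ M) (m n : ℕ) :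
    (fitD G M m n).IsLattice 𝕃 := by
  have hle : fitD G M m n ≤ M := sup_le (latImg_le_self G hτ hGM n) (pPow_natCast_le m M)
  refine ⟨Submodule.FG.of_le hM.fg hle, ?_⟩
  rw [eq_top_iff, ← (pPow_isLattice (r := (m : ℤ)) hM).span_eq_top]
  exact Submodule.span_mono (fun x hx => (le_sup_right : _ ≤ fitD G M m n) hx)

theorem fitD_succ (G : N →ₛₗ[τ] N) (hτ : Good τ) {M : Submodule 𝕎 N}
    (hGM : Isoc.latImg G 1 M ≤ M) (m n : ℕ) :
    fitD G M m (n + 1) = Isoc.latImg G 1 (fitD G M m n) ⊔ Isoc.pPow (m : ℤ) M := by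
  unfold fitD
  rw [latImg_sup G hτ, ← latImg_add G hτ, add_comm 1 n, latImg_pPow G hτ, sup_assoc]
  congr 1
  exact (sup_eq_right.2 (pPow_mono hGM)).symm

theorem fitD_anti (G : N →ₛₗ[τ] N) (hτ : Good τ) {M : Submodule 𝕎 N}
    (hGM : Isoc.latImg G 1 M ≤ M) (m n : ℕ) : fitD G M m (n + 1) ≤ fitD G M m n :=
  sup_le_sup_right (latImg_succ_le G hτ hGM n) _

theorem fitD_stable (G : N →ₛₗ[τ] N) (hτ : Good τ) {M : Submodule 𝕎 N}
    (hGM : Isoc.latImg G 1 M ≤ M) (m : ℕ) {j : ℕ} (hj : fitD G M m (j + 1) = fitD G M m j)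
    (n : ℕ) : fitD G M m (j + n) = fitD G M m j := by
  have hstep : ∀ n, fitD G M m (j + n + 1) = fitD G M m (j + n) := by
    intro n
    induction n with
    | zero => exact hj
    | succ n ih =>
      rw [fitD_succ G hτ hGM m (j + (n + 1)), ← add_assoc, ih, ← fitD_succ G hτ hGM m (j + n)]
      exact ih
  induction n with
  | zero => rfl
  | succ n ih => rw [← add_assoc, hstep n, ih]

theorem exists_fitD_stable (G : N →ₛₗ[τ] N) (hτ : Good τ) {h : ℕ}
    (b : Module.Basis (Fin h) 𝕃 N) {M : Submodule 𝕎 N}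
    (hM : M.IsLattice 𝕃) (hGM : Isoc.latImg G 1 M ≤ M) (m : ℕ) :
    ∃ j, ∀ n, j ≤ n → fitD G M m n = fitD G M m j := by
  obtain ⟨j, hj⟩ := chain_stabilizes_dec b (fitD G M m) (fitD_isLattice G hτ hM hGM m)
    (fitD_anti G hτ hGM m) m (by
      intro j
      have h0 : fitD G M m 0 = M := by
        unfold fitD
        rw [latImg_zero]
        exact sup_eq_left.2 (pPow_natCast_le m M)
      rw [h0]
      exact le_sup_right)
  refine ⟨j, fun n hn => ?_⟩
  obtain ⟨t, rfl⟩ := Nat.exists_eq_add_of_le hn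
  exact fitD_stable G hτ hGM m hj t

/-- `{x ∈ M | G^n x ∈ p^m M}` -/
noncomputable def fitK (G : N →ₛₗ[τ] N) (hτ : Good τ) (M : Submodule 𝕎 N) (m n : ℕ) :
    Submodule 𝕎 N where
  carrier := {x | x ∈ M ∧ (⇑G)^[n] x ∈ Isoc.pPow (m : ℤ) M}
  add_mem' := by
    rintro x y ⟨hx, hx'⟩ ⟨hy, hy'⟩
    refine ⟨M.add_mem hx hy, ?_⟩
    rw [iterate_add_map]
    exact Submodule.add_mem _ hx' hy'
  zero_mem' := by
    refine ⟨M.zero_mem, ?_⟩
    rw [iterate_zero_map]
    exact Submodule.zero_mem _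
  smul_mem' := by
    rintro w x ⟨hx, hx'⟩
    refine ⟨M.smul_mem w hx, ?_⟩
    obtain ⟨w', hw'⟩ := (hτ.pow n).1 w
    have : (⇑G)^[n] (w • x) = w' • (⇑G)^[n] x := smul_map (Isoc.iter G n) w x hw'
    rw [this]
    exact Submodule.smul_mem _ _ hx'

theorem mem_fitK {G : N →ₛₗ[τ] N} {hτ : Good τ} {M : Submodule 𝕎 N} {m n : ℕ} {x : N} :
    x ∈ fitK G hτ M m n ↔ x ∈ M ∧ (⇑G)^[n] x ∈ Isoc.pPow (m : ℤ) M := Iff.rfl

theorem fitK_le (G : N →ₛₗ[τ] N) (hτ : Good τ) (M : Submodule 𝕎 N) (m n : ℕ) :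
    fitK G hτ M m n ≤ M := fun _ hx => hx.1

theorem fitK_mono (G : N →ₛₗ[τ] N) (hτ : Good τ) {M : Submodule 𝕎 N}
    (hGM : Isoc.latImg G 1 M ≤ M) (m : ℕ) : Monotone (fitK G hτ M m) := by
  apply monotone_nat_of_le_succ
  rintro n x ⟨hx, hx'⟩
  refine ⟨hx, ?_⟩
  rw [Function.iterate_succ_apply']
  have := iterate_mem_pPow G hτ hGM (m : ℤ) 1 hx'
  simpa using this

theorem pPow_le_fitK (G : N →ₛₗ[τ] N) (hτ : Good τ) {M : Submodule 𝕎 N}
    (hGM : Isoc.latImg G 1 M ≤ M) (m n : ℕ) : Isoc.pPow (m : ℤ) M ≤ fitK G hτ M m n :=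
  fun _ hx => ⟨pPow_natCast_le m M hx, iterate_mem_pPow G hτ hGM (m : ℤ) n hx⟩

theorem exists_fitK_stable (G : N →ₛₗ[τ] N) (hτ : Good τ) {M : Submodule 𝕎 N}
    (hM : M.IsLattice 𝕃) (hGM : Isoc.latImg G 1 M ≤ M) (m : ℕ) :
    ∃ j, ∀ n, j ≤ n → fitK G hτ M m n = fitK G hτ M m j := by
  haveI : IsNoetherian 𝕎 ↥M := isNoetherian_of_fg_of_noetherian M hM.fg
  let f : ℕ →o Submodule 𝕎 ↥M :=
    ⟨fun n => Submodule.comap M.subtype (fitK G hτ M m n), fun a b hab =>
      Submodule.comap_mono (fitK_mono G hτ hGM m hab)⟩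
  obtain ⟨j, hj⟩ := monotone_stabilizes_iff_noetherian.2 inferInstance f
  refine ⟨j, fun n hn => ?_⟩
  have h1 : Submodule.comap M.subtype (fitK G hτ M m j) =
      Submodule.comap M.subtype (fitK G hτ M m n) := hj n hn
  have h2 := congrArg (Submodule.map M.subtype) h1
  rw [Submodule.map_comap_subtype, Submodule.map_comap_subtype,
    inf_eq_right.2 (fitK_le G hτ M m j), inf_eq_right.2 (fitK_le G hτ M m n)] at h2
  exact h2.symm

end Fit

section Complete

variable {p : ℕ} [Fact p.Prime] {k : Type u} [Field k] [CharP k p] [PerfectRing k p]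
variable {N : Type v} [AddCommGroup N] [Module (WittVector p k) N]
  [Module (FractionRing (WittVector p k)) N]
  [IsScalarTower (WittVector p k) (FractionRing (WittVector p k)) N]

local notation "𝕎" => WittVector p k
local notation "𝕃" => FractionRing (WittVector p k)

theorem exists_limit_W (c : ℕ → 𝕎) (hc : ∀ m, ∃ w, c (m + 1) - c m = (p : 𝕎) ^ m * w) :
    ∃ L : 𝕎, ∀ m, ∃ w, L - c m = (p : 𝕎) ^ m * w := by
  have hcomp : IsPrecomplete (Ideal.span {(p : 𝕎)}) 𝕎 := inferInstance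
  have hcauchy : AdicCompletion.IsAdicCauchy (Ideal.span {(p : 𝕎)}) 𝕎 c := by
    rw [AdicCompletion.isAdicCauchy_iff]
    intro n
    rw [SModEq.sub_mem, smul_eq_mul, Ideal.mul_top, Ideal.span_singleton_pow,
      Ideal.mem_span_singleton]
    obtain ⟨w, hw⟩ := hc n
    exact ⟨-w, by rw [mul_neg, ← hw]; ring⟩
  obtain ⟨L, hL⟩ := hcomp.prec hcauchy
  refine ⟨L, fun m => ?_⟩
  have := hL m
  rw [SModEq.sub_mem, smul_eq_mul, Ideal.mul_top, Ideal.span_singleton_pow,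
    Ideal.mem_span_singleton] at this
  obtain ⟨w, hw⟩ := this
  exact ⟨-w, by rw [mul_neg, ← hw]; ring⟩

/-- A lattice is `p`-adically complete. -/
theorem exists_limit_lattice {h : ℕ} (b : Module.Basis (Fin h) 𝕃 N) {M : Submodule 𝕎 N}
    (hM : M.IsLattice 𝕃) (a : ℕ → N) (ha : ∀ m, a m ∈ M)
    (hc : ∀ m : ℕ, a (m + 1) - a m ∈ Isoc.pPow (m : ℤ) M) :
    ∃ L ∈ M, ∀ m : ℕ, L - a m ∈ Isoc.pPow (m : ℤ) M := by
  have hp := pL_ne_zero p k
  obtain ⟨e, he⟩ := exists_latticeBasis b hM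
  have h1 : ∀ m i, ∃ w : 𝕎, e.repr (a m) i = algebraMap 𝕎 𝕃 w := fun m => (he _).1 (ha m)
  choose c hcoord using h1
  have hcau : ∀ i m, ∃ w, c (m + 1) i - c m i = (p : 𝕎) ^ m * w := by
    intro i m
    have h2 := (he _).1 (mem_pPow_iff'.1 (hc m)) i
    obtain ⟨w, hw⟩ := h2
    refine ⟨w, ?_⟩
    apply IsFractionRing.injective 𝕎 𝕃
    rw [map_smul, map_sub, Finsupp.smul_apply, Finsupp.sub_apply, hcoord, hcoord, smul_eq_mul,
      zpow_neg, zpow_natCast] at hw
    rw [map_sub, map_mul, map_pow, map_natCast, ← hw, ← mul_assoc,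
      mul_inv_cancel₀ (pow_ne_zero m hp), one_mul]
  have h3 : ∀ i, ∃ L : 𝕎, ∀ m, ∃ w, L - c m i = (p : 𝕎) ^ m * w := fun i =>
    exists_limit_W (fun m => c m i) (hcau i)
  choose Lc hLc using h3
  refine ⟨∑ i, algebraMap 𝕎 𝕃 (Lc i) • e i, (he _).2 (fun i => ⟨Lc i, ?_⟩), fun m => ?_⟩
  · rw [Module.Basis.repr_sum_self]
  · rw [mem_pPow_iff', he]
    intro i
    obtain ⟨w, hw⟩ := hLc i m
    refine ⟨w, ?_⟩
    rw [map_smul, map_sub, Finsupp.smul_apply, Finsupp.sub_apply, Module.Basis.repr_sum_self,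
      hcoord, smul_eq_mul, ← map_sub, hw, map_mul, map_pow, map_natCast, zpow_neg, zpow_natCast,
      ← mul_assoc, inv_mul_cancel₀ (pow_ne_zero m hp), one_mul]

end Complete

section FitMain

variable {p : ℕ} [Fact p.Prime] {k : Type u} [Field k] [CharP k p] [PerfectRing k p]
variable {N : Type v} [AddCommGroup N] [Module (WittVector p k) N]
  [Module (FractionRing (WittVector p k)) N]
  [IsScalarTower (WittVector p k) (FractionRing (WittVector p k)) N]
variable {τ : FractionRing (WittVector p k) →+* FractionRing (WittVector p k)}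

local notation "𝕎" => WittVector p k
local notation "𝕃" => FractionRing (WittVector p k)

theorem fit_level (G : N →ₛₗ[τ] N) (hτ : Good τ) {h : ℕ}
    (b : Module.Basis (Fin h) 𝕃 N) {M : Submodule 𝕎 N}
    (hM : M.IsLattice 𝕃) (hGM : Isoc.latImg G 1 M ≤ M) (m : ℕ) :
    ∃ n, (∀ n', n ≤ n' → fitD G M m n' = fitD G M m n) ∧
      (∀ n', n ≤ n' → fitK G hτ M m n' = fitK G hτ M m n) ∧
      M ≤ fitD G M m n ⊔ fitK G hτ M m n ∧
      fitD G M m n ⊓ fitK G hτ M m n ≤ Isoc.pPow (m : ℤ) M := by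
  obtain ⟨j₀, hj₀⟩ := exists_fitD_stable G hτ b hM hGM m
  obtain ⟨j₁, hj₁⟩ := exists_fitK_stable G hτ hM hGM m
  obtain ⟨n, hn⟩ : ∃ n, n = max j₀ j₁ := ⟨_, rfl⟩
  have hn0 : j₀ ≤ n := by rw [hn]; exact le_max_left _ _
  have hn1 : j₁ ≤ n := by rw [hn]; exact le_max_right _ _
  have hD : ∀ n', n ≤ n' → fitD G M m n' = fitD G M m n := fun n' hn' => by
    rw [hj₀ n' (le_trans hn0 hn'), hj₀ n hn0]
  have hK : ∀ n', n ≤ n' → fitK G hτ M m n' = fitK G hτ M m n := fun n' hn' => by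
    rw [hj₁ n' (le_trans hn1 hn'), hj₁ n hn1]
  refine ⟨n, hD, hK, ?_, ?_⟩
  · intro x hx
    have h1 : (⇑G)^[n] x ∈ fitD G M m (n + n) := by
      rw [hD (n + n) (Nat.le_add_right n n)]
      exact (le_sup_left : _ ≤ fitD G M m n) ((mem_latImg G hτ).2 ⟨x, hx, rfl⟩)
    obtain ⟨y, hy, u, hu, hyu⟩ := Submodule.mem_sup.1 h1
    obtain ⟨z, hz, rfl⟩ := (mem_latImg G hτ).1 hy
    have hzn : (⇑G)^[n] z ∈ Isoc.latImg G n M := (mem_latImg G hτ).2 ⟨z, hz, rfl⟩
    have ha : (⇑G)^[n] z ∈ fitD G M m n := (le_sup_left : _ ≤ fitD G M m n) hzn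
    have haM : (⇑G)^[n] z ∈ M := latImg_le_self G hτ hGM n hzn
    have hb : x - (⇑G)^[n] z ∈ fitK G hτ M m n := by
      refine ⟨M.sub_mem hx haM, ?_⟩
      rw [iterate_sub_map, ← Function.iterate_add_apply, ← hyu, add_sub_cancel_left]
      exact hu
    have hxe : x = (⇑G)^[n] z + (x - (⇑G)^[n] z) := by abel
    rw [hxe]
    exact Submodule.add_mem_sup ha hb
  · rintro a ⟨haD, haK⟩
    obtain ⟨y, hy, u, hu, rfl⟩ := Submodule.mem_sup.1 haD
    obtain ⟨z, hz, rfl⟩ := (mem_latImg G hτ).1 hy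
    have h2 := haK.2
    rw [iterate_add_map, ← Function.iterate_add_apply] at h2
    have h3 : (⇑G)^[n + n] z ∈ Isoc.pPow (m : ℤ) M := by
      have := Submodule.sub_mem _ h2 (iterate_mem_pPow G hτ hGM (m : ℤ) n hu)
      simpa using this
    have h4 : z ∈ fitK G hτ M m (n + n) := ⟨hz, h3⟩
    rw [hK (n + n) (Nat.le_add_right n n)] at h4
    exact Submodule.add_mem _ h4.2 hu

/-- Fitting decomposition of a lattice over the complete ring `W`. -/
theorem fitting_lattice (G : N →ₛₗ[τ] N) (hτ : Good τ) (hGs : Function.Surjective G) {h : ℕ}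
    (b : Module.Basis (Fin h) 𝕃 N) {M : Submodule 𝕎 N}
    (hM : M.IsLattice 𝕃) (hGM : Isoc.latImg G 1 M ≤ M) {x : N} (hx : x ∈ M) :
    ∃ a c : N, x = a + c ∧ (∀ n, a ∈ Isoc.latImg G n M) ∧ c ∈ M ∧
      ∀ m : ℕ, ∃ n, (⇑G)^[n] c ∈ Isoc.pPow (m : ℤ) M := by
  choose n hD hK hsup hinf using fit_level G hτ b hM hGM
  have hdec : ∀ m, ∃ a ∈ fitD G M m (n m), ∃ c ∈ fitK G hτ M m (n m), a + c = x := fun m =>
    Submodule.mem_sup.1 (hsup m hx)
  choose a ha cc hcc hac using hdec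
  have hDm : ∀ m, fitD G M (m + 1) (n (m + 1)) ≤ fitD G M m (n m) := by
    intro m
    rw [← hD (m + 1) (max (n m) (n (m + 1))) (le_max_right _ _),
      ← hD m (max (n m) (n (m + 1))) (le_max_left _ _)]
    exact sup_le_sup_left (pPow_anti (by push_cast; omega) M) _
  have hKm : ∀ m, fitK G hτ M (m + 1) (n (m + 1)) ≤ fitK G hτ M m (n m) := by
    intro m
    rw [← hK (m + 1) (max (n m) (n (m + 1))) (le_max_right _ _),
      ← hK m (max (n m) (n (m + 1))) (le_max_left _ _)]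
    rintro y ⟨hy, hy'⟩
    exact ⟨hy, pPow_anti (by push_cast; omega) M hy'⟩
  have hDM : ∀ m j, fitD G M m j ≤ M := fun m j =>
    sup_le (latImg_le_self G hτ hGM j) (pPow_natCast_le m M)
  have haM : ∀ m, a m ∈ M := fun m => hDM m (n m) (ha m)
  have hcau : ∀ m : ℕ, a (m + 1) - a m ∈ Isoc.pPow (m : ℤ) M := by
    intro m
    apply hinf m
    refine ⟨Submodule.sub_mem _ (hDm m (ha (m + 1))) (ha m), ?_⟩
    have e : a (m + 1) - a m = cc m - cc (m + 1) := by
      have h1 := hac m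
      have h2 := hac (m + 1)
      rw [sub_eq_sub_iff_add_eq_add, h2, add_comm, h1]
    rw [e]
    exact Submodule.sub_mem _ (hcc m) (hKm m (hcc (m + 1)))
  obtain ⟨L, hLM, hL⟩ := exists_limit_lattice b hM a haM hcau
  refine ⟨L, x - L, by abel, ?_, M.sub_mem hx hLM, ?_⟩
  · intro j
    obtain ⟨c, hc⟩ := exists_pPow_le (M := M) (M' := Isoc.latImg G j M) hM.fg
      (latImg_isLattice G hτ hGs j hM).span_eq_top
    have h1 : fitD G M c (n c) ≤ Isoc.latImg G j M := by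
      rw [← hD c (max (n c) j) (le_max_left _ _)]
      exact sup_le (latImg_anti G hτ hGM (le_max_right _ _)) hc
    have h2 : L - a c ∈ Isoc.latImg G j M := hc (hL c)
    have e : L = (L - a c) + a c := by abel
    rw [e]
    exact Submodule.add_mem _ h2 (h1 (ha c))
  · intro m
    have h1 : x - L ∈ fitK G hτ M m (n m) := by
      have e : x - L = cc m - (L - a m) := by rw [← hac m]; abel
      rw [e]
      exact Submodule.sub_mem _ (hcc m) (pPow_le_fitK G hτ hGM m (n m) (hL m))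
    exact ⟨n m, h1.2⟩

end FitMain

end Groth.Agent.Lib.Helper25.Isoc
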