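import Mathlib
import Groth.Prelude.Def_Isoc
import Groth.Agent.Lib.Helper25.IsocLib
import Groth.Agent.Lib.Helper25.IsocLib2
import Groth.Agent.Lib.Helper25.IsocLib4
import Groth.Agent.Lib.Helper25.IsocDet
import Groth.Agent.Lib.Helper25.IsocEff
import Groth.Agent.Lib.Helper25.IsocTwist
import Groth.Agent.Lib.Helper25.IsocRat

/-!
# Helper library for the `Isoc` statements (helper25): rationality of the first slope (core)
-/

set_option autoImplicit false

universe u v w

open scoped Pointwise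
open Filter Topology

namespace Groth.Agent.Lib.Helper25.Isoc

section Core

variable {p : ℕ} [Fact p.Prime] {k : Type u} [Field k] [CharP k p] [PerfectRing k p]
variable {N : Type v} [AddCommGroup N] [Module (WittVector p k) N]
  [Module (FractionRing (WittVector p k)) N]
  [IsScalarTower (WittVector p k) (FractionRing (WittVector p k)) N]
variable {τ : FractionRing (WittVector p k) →+* FractionRing (WittVector p k)}

local notation "𝕎" => WittVector p k
local notation "𝕃" => FractionRing (WittVector p k)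

theorem rational_slope_core (F : N →ₛₗ[τ] N) (hτ : Good τ) (hF : Function.Surjective F)
    {h : ℕ} (hh : 0 < h) (b : Module.Basis (Fin h) 𝕃 N) {lam : ℝ}
    (hlam : Isoc.IsFirstSlope F lam)
    (hindep : ∀ M : Submodule 𝕎 N, M.IsLattice 𝕃 → ∃ o : ℕ → ℤ,
      (∀ n, 1 ≤ n → Isoc.IsOrd M F n (o n)) ∧
        Tendsto (fun n : ℕ => (o n : ℝ) / n) atTop (𝓝 lam)) :
    ∃ (r : ℤ) (s : ℕ) (M : Submodule 𝕎 N), 0 < s ∧ s ≤ h ∧ lam = (r : ℝ) / s ∧
      M.IsLattice 𝕃 ∧ Isoc.IsOrd M F s r := by
  have hp := pL_ne_zero p k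
  obtain ⟨r, s', hs'pos, hs'le, habs⟩ := Real.exists_int_int_abs_mul_sub_le lam hh
  obtain ⟨s, rfl⟩ := Int.eq_ofNat_of_zero_le hs'pos.le
  have hs : 0 < s := by exact_mod_cast hs'pos
  have hsh : s ≤ h := by exact_mod_cast hs'le
  have hsR : (0 : ℝ) < s := by exact_mod_cast hs
  have hhR : (0 : ℝ) < h := by exact_mod_cast hh
  have hh1 : (0 : ℝ) < (h : ℝ) + 1 := by linarith
  rw [abs_le] at habs
  push_cast at habs
  obtain ⟨hlo, hhi⟩ := habs
  -- Step 2
  have hle : ((r * ((h : ℤ) + 1) - 1 : ℤ) : ℝ) / ((s * (h + 1) : ℕ) : ℝ) ≤ lam := by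
    push_cast
    rw [div_le_iff₀ (by positivity)]
    have h1 : -1 ≤ ((s : ℝ) * lam - r) * (h + 1) := by
      have := mul_le_mul_of_nonneg_right hlo hh1.le
      rw [neg_mul, one_div, inv_mul_cancel₀ hh1.ne'] at this
      linarith
    nlinarith
  obtain ⟨M₁, hM₁, hFM₁⟩ := exists_lattice_of_slope_le F hτ hF b hlam
    (r * ((h : ℤ) + 1) - 1) (s * (h + 1)) (by positivity) hle
  obtain ⟨M, hM, hFM⟩ := exists_lattice_of_le_twisted F hτ hF b r s hM₁ hFM₁
  obtain ⟨o', ho', hlim'⟩ := hindep M hM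
  -- Step 5
  have hnotQ : ∀ n : ℕ, 1 ≤ n → ¬ Isoc.latImg F (s * n) M ≤ Isoc.pPow (r * n + 1) M := by
    intro n hn hQ
    obtain ⟨G, hG⟩ : ∃ G, G = ((p : FractionRing (WittVector p k)) ^ (-r)) • Isoc.iter F s :=
      ⟨_, rfl⟩
    have hτs := hτ.pow s
    have hGM : Isoc.latImg G 1 M ≤ M := by
      rw [hG, latImg_twist_one_le_iff F hτ (-r) s, neg_neg]
      exact hFM
    have hGn : Isoc.latImg G n M ≤ Isoc.pPow 1 M := by
      rw [hG, latImg_twist F hτ (-r) s n M, pPow_le_iff]
      refine hQ.trans (le_of_eq ?_)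
      rw [← pPow_add]
      congr 1
      ring
    have hGh := latImg_le_pPow_one_of_le G hτs b hM hGM hGn
    have hFh : Isoc.latImg F (s * h) M ≤ Isoc.pPow (r * h + 1) M := by
      rw [hG, latImg_twist F hτ (-r) s h M, pPow_le_iff] at hGh
      refine hGh.trans (le_of_eq ?_)
      rw [← pPow_add]
      congr 1
      ring
    have hsh0 : 0 < s * h := Nat.mul_pos hs hh
    have hsub : Tendsto (fun m : ℕ => s * h * m) atTop atTop :=
      tendsto_atTop_mono (fun m => Nat.le_mul_of_pos_left m hsh0) tendsto_id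
    have hge : ((r : ℝ) * h + 1) / ((s : ℝ) * h) ≤ lam := by
      apply ge_of_tendsto (hlim'.comp hsub)
      rw [eventually_atTop]
      refine ⟨1, fun m hm => ?_⟩
      have hm0 : (0 : ℝ) < m := by
        have : 0 < m := hm
        exact_mod_cast this
      have h1 := latImg_mul_le F hτ hFh m
      have h2 := (isOrd_le_iff (ho' (s * h * m) (Nat.mul_pos hsh0 hm))).1 h1
      have h3 : ((r : ℝ) * h + 1) * m ≤ (o' (s * h * m) : ℝ) := by exact_mod_cast h2
      simp only [Function.comp_apply]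
      push_cast
      rw [div_le_div_iff₀ (by positivity) (by positivity)]
      nlinarith [mul_le_mul_of_nonneg_right h3 (by positivity : (0 : ℝ) ≤ (s : ℝ) * h)]
    -- contradiction
    have h4 : 1 / (h : ℝ) ≤ (s : ℝ) * lam - r := by
      rw [div_le_iff₀ (by positivity)] at hge
      rw [div_le_iff₀ hhR]
      nlinarith
    have h5 : 1 / ((h : ℝ) + 1) < 1 / (h : ℝ) := by
      apply one_div_lt_one_div_of_lt hhR
      linarith
    linarith
  -- Step 6
  have hord : ∀ n : ℕ, 1 ≤ n → Isoc.IsOrd M F (s * n) (r * n) := fun n hn =>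
    ⟨latImg_mul_le F hτ hFM n, hnotQ n hn⟩
  have ho'eq : ∀ n : ℕ, 1 ≤ n → o' (s * n) = r * n := fun n hn =>
    isOrd_unique (ho' (s * n) (Nat.mul_pos hs hn)) (hord n hn)
  have hsub : Tendsto (fun m : ℕ => s * m) atTop atTop :=
    tendsto_atTop_mono (fun m => Nat.le_mul_of_pos_left m hs) tendsto_id
  have hlam_eq : lam = (r : ℝ) / s := by
    apply tendsto_nhds_unique (hlim'.comp hsub)
    apply tendsto_const_nhds.congr'
    rw [EventuallyEq, eventually_atTop]
    refine ⟨1, fun m hm => ?_⟩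
    have hm0 : (m : ℝ) ≠ 0 := by
      have : 0 < m := hm
      exact_mod_cast this.ne'
    simp only [Function.comp_apply]
    rw [ho'eq m hm]
    push_cast
    field_simp
  refine ⟨r, s, M, hs, hsh, hlam_eq, hM, ?_⟩
  have := hord 1 le_rfl
  simpa using this

end Core

end Groth.Agent.Lib.Helper25.Isoc
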