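import Mathlib
import Groth.Prelude.Def_Isoc
import Groth.Agent.Lib.Helper25.IsocLib
import Groth.Agent.Lib.Helper25.IsocLib2
import Groth.Agent.Lib.Helper25.IsocLib3
import Groth.Agent.Lib.Helper25.IsocLib4
import Groth.Agent.Lib.Helper25.IsocDet
import Groth.Agent.Lib.Helper25.IsocDecomp2

/-!
# Helper library for the `Isoc` statements (helper25): independence of the slope parts

* `IsoclinicOn.of_le` : an `F`-stable subspace of an isoclinic subspace is isoclinic (ambient form).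
* `IsoclinicOn.slope_unique` : a non-zero `F`-stable subspace has at most one slope.
* `slopePart_isoclinicOn`, `iSupIndep_slopePart`.
-/

set_option autoImplicit false

universe u v w

open scoped Pointwise

namespace Groth.Agent.Lib.Helper25.Isoc

section Sub

variable {p : ℕ} [Fact p.Prime] {k : Type u} [Field k] [CharP k p] [PerfectRing k p]
variable {N : Type v} [AddCommGroup N] [Module (WittVector p k) N]
  [Module (FractionRing (WittVector p k)) N]
  [IsScalarTower (WittVector p k) (FractionRing (WittVector p k)) N]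
variable {τ : FractionRing (WittVector p k) →+* FractionRing (WittVector p k)}

local notation "𝕎" => WittVector p k
local notation "𝕃" => FractionRing (WittVector p k)

theorem iterate_mem_of_stable (F : N →ₛₗ[τ] N) {P : Submodule 𝕃 N} (hP : ∀ x ∈ P, F x ∈ P)
    (s : ℕ) {x : N} (hx : x ∈ P) : (⇑F)^[s] x ∈ P := by
  induction s with
  | zero => exact hx
  | succ s ih => rw [Function.iterate_succ_apply']; exact hP _ ih

theorem IsoclinicOn.of_le [RingHomSurjective τ] [IsArtinian 𝕃 N] {F : N →ₛₗ[τ] N} (hτ : Good τ)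
    (hF : Function.Injective F) {μ : ℚ} {P P' : Submodule 𝕃 N} (h : IsoclinicOn F μ P)
    (hle : P' ≤ P) (hP' : ∀ x ∈ P', F x ∈ P') : IsoclinicOn F μ P' := by
  have hp := pL_ne_zero p k
  obtain ⟨M, hM, hspan, r, s, hs, hrs, hFM⟩ := h
  refine ⟨M ⊓ P'.restrictScalars 𝕎, Submodule.FG.of_le hM inf_le_left, ?_, r, s, hs, hrs, ?_⟩
  · apply le_antisymm
    · apply Submodule.span_le.2
      intro y hy
      exact hy.2
    · intro x hx
      have hxP : x ∈ Submodule.span 𝕃 (M : Set N) := by rw [hspan]; exact hle hx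
      obtain ⟨c, hc⟩ := exists_pow_smul_mem M x hxP
      have h1 : ((p : 𝕃) ^ c) • x ∈ M ⊓ P'.restrictScalars 𝕎 := ⟨hc, P'.smul_mem _ hx⟩
      have h2 := Submodule.smul_mem (Submodule.span 𝕃
        ((M ⊓ P'.restrictScalars 𝕎 : Submodule 𝕎 N) : Set N)) (((p : 𝕃) ^ c)⁻¹)
        (Submodule.subset_span h1)
      rwa [smul_smul, inv_mul_cancel₀ (pow_ne_zero c hp), one_smul] at h2
  · ext y
    rw [mem_latImg F hτ, mem_pPow_iff']
    constructor
    · rintro ⟨x, ⟨hxM, hxP'⟩, rfl⟩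
      have h1 : (⇑F)^[s] x ∈ Isoc.pPow r M := by
        rw [← hFM]; exact (mem_latImg F hτ).2 ⟨x, hxM, rfl⟩
      exact ⟨mem_pPow_iff'.1 h1, P'.smul_mem _ (iterate_mem_of_stable F hP' s hxP')⟩
    · rintro ⟨hyM, hyP'⟩
      have hy1 : y ∈ Isoc.pPow r M := mem_pPow_iff'.2 hyM
      rw [← hFM] at hy1
      obtain ⟨x, hx, rfl⟩ := (mem_latImg F hτ).1 hy1
      have hyP : (⇑F)^[s] x ∈ P' := by
        have := P'.smul_mem ((p : 𝕃) ^ r) hyP'
        rwa [smul_smul, ← zpow_add₀ hp, add_neg_cancel, zpow_zero, one_smul] at this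
      exact ⟨x, ⟨hx, mem_of_iterate_mem F hF P' hP' s hyP⟩, rfl⟩

/-- orddet and the slope of an isoclinic lattice. -/
theorem exists_orddet_of_latImg_eq (F : N →ₛₗ[τ] N) (hτ : Good τ) {h : ℕ}
    (b : Module.Basis (Fin h) 𝕃 N) {M : Submodule 𝕎 N} (hM : M.IsLattice 𝕃) {r : ℤ} {s : ℕ}
    (hs : 0 < s) (hFM : Isoc.latImg F s M = Isoc.pPow r M) :
    ∃ d : ℤ, Isoc.IsOrdP (smat b F).det d ∧ r * h = s * d := by
  obtain ⟨e, he⟩ := exists_latticeBasis b hM
  have h3 := isOrdP_det_of_img_eq he (Isoc.iter F s) (hτ.pow s) (r := r) hFM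
  obtain ⟨s', rfl⟩ : ∃ s', s = s' + 1 := ⟨s - 1, by omega⟩
  have hne : (smat e F).det ≠ 0 := by
    have h4 := isOrdP_ne_zero h3
    rw [det_smat_comp e F (Isoc.iter F s') (Isoc.iter F (s' + 1)) (fun x => by
      rw [Isoc.iter_apply, Isoc.iter_apply, Function.iterate_succ_apply'])] at h4
    exact left_ne_zero_of_mul h4
  obtain ⟨d, hd⟩ := exists_isOrdP hne
  have h5 := isOrdP_det_iter e F hτ hd (s' + 1)
  exact ⟨d, isOrdP_det_basis_change e b F hτ hd, isOrdP_unique h3 h5⟩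

theorem IsoclinicOn.slope_unique [RingHomSurjective τ] [Module.Finite 𝕃 N] {F : N →ₛₗ[τ] N}
    (hτ : Good τ) {μ μ' : ℚ} {P : Submodule 𝕃 N}
    (hP : ∀ x ∈ P, F x ∈ P) (hP0 : P ≠ ⊥) (h : IsoclinicOn F μ P) (h' : IsoclinicOn F μ' P) :
    μ = μ' := by
  obtain ⟨M, hM, r, s, hs, hrs, hFM⟩ := restrict_of_isoclinicOn F hτ hP h
  obtain ⟨M', hM', r', s', hs', hrs', hFM'⟩ := restrict_of_isoclinicOn F hτ hP h'
  obtain ⟨d, hd, hrd⟩ := exists_orddet_of_latImg_eq (F.restrict hP) hτ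
    (Module.finBasis 𝕃 ↥P) hM hs hFM
  obtain ⟨d', hd', hrd'⟩ := exists_orddet_of_latImg_eq (F.restrict hP) hτ
    (Module.finBasis 𝕃 ↥P) hM' hs' hFM'
  have hdd : d = d' := isOrdP_unique hd hd'
  subst hdd
  have hh : (Module.finrank 𝕃 ↥P : ℤ) ≠ 0 := by
    intro h0
    have : Module.finrank 𝕃 ↥P = 0 := by exact_mod_cast h0
    exact hP0 (Submodule.finrank_eq_zero.1 this)
  have hcross : r * s' = r' * s := by
    have e1 : r * s' * (Module.finrank 𝕃 ↥P : ℤ) = r' * s * (Module.finrank 𝕃 ↥P : ℤ) := by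
      calc r * s' * (Module.finrank 𝕃 ↥P : ℤ) = (r * (Module.finrank 𝕃 ↥P : ℤ)) * s' := by ring
        _ = (s * d) * s' := by rw [hrd]
        _ = (s' * d) * s := by ring
        _ = (r' * (Module.finrank 𝕃 ↥P : ℤ)) * s := by rw [hrd']
        _ = r' * s * (Module.finrank 𝕃 ↥P : ℤ) := by ring
    exact mul_right_cancel₀ hh e1
  rw [← hrs, ← hrs']
  have h1 : (s : ℚ) ≠ 0 := by exact_mod_cast hs.ne'
  have h2 : (s' : ℚ) ≠ 0 := by exact_mod_cast hs'.ne'
  rw [div_eq_div_iff h1 h2]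
  exact_mod_cast hcross

theorem slopePart_isoclinic [Module.Finite 𝕃 N] (F : N →ₛₗ[τ] N) (hτ : Good τ) (μ : ℚ) :
    ∃ hP : ∀ x ∈ Isoc.slopePart F μ, F x ∈ Isoc.slopePart F μ,
      Isoc.IsIsoclinic (F.restrict hP) μ := by
  obtain ⟨S, hS⟩ : ∃ S : Set (Submodule 𝕃 N),
      S = {P | ∃ hP : ∀ x ∈ P, F x ∈ P, Isoc.IsIsoclinic (F.restrict hP) μ} := ⟨_, rfl⟩
  have hbot : ∀ x ∈ (⊥ : Submodule 𝕃 N), F x ∈ (⊥ : Submodule 𝕃 N) := by
    intro x hx
    rw [Submodule.mem_bot] at hx ⊢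
    rw [hx, map_zero]
  have hne : S.Nonempty := ⟨⊥, by
    rw [hS]
    exact ⟨hbot, restrict_of_isoclinicOn F hτ hbot (isoclinicOn_bot F μ)⟩⟩
  have hsup : SupClosed S := by
    intro P₁ h₁ P₂ h₂
    rw [hS] at h₁ h₂ ⊢
    obtain ⟨hP₁, hI₁⟩ := h₁
    obtain ⟨hP₂, hI₂⟩ := h₂
    have hP : ∀ x ∈ P₁ ⊔ P₂, F x ∈ P₁ ⊔ P₂ := by
      intro x hx
      obtain ⟨x₁, hx₁, x₂, hx₂, rfl⟩ := Submodule.mem_sup.1 hx
      rw [map_add]
      exact Submodule.add_mem_sup (hP₁ _ hx₁) (hP₂ _ hx₂)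
    exact ⟨hP, restrict_of_isoclinicOn F hτ hP
      ((isoclinicOn_of_restrict F hτ hP₁ hI₁).sup hτ (isoclinicOn_of_restrict F hτ hP₂ hI₂))⟩
  have key := (CompleteLattice.isSupClosedCompact_iff_wellFoundedGT
    (Submodule 𝕃 N)).2 inferInstance S hne hsup
  rw [hS] at key
  exact key

end Sub

section Indep

variable {p : ℕ} [Fact p.Prime] {k : Type u} [Field k] [CharP k p] [PerfectRing k p]
variable {N : Type v} [AddCommGroup N] [Module (WittVector p k) N]
  [Module (FractionRing (WittVector p k)) N]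
  [IsScalarTower (WittVector p k) (FractionRing (WittVector p k)) N]
variable {τ : FractionRing (WittVector p k) →+* FractionRing (WittVector p k)}

local notation "𝕎" => WittVector p k
local notation "𝕃" => FractionRing (WittVector p k)

theorem quot_injective [RingHomSurjective τ] [IsArtinian 𝕃 N] (F : N →ₛₗ[τ] N)
    (hF : Function.Injective F) (Q : Submodule 𝕃 N) (hQ : ∀ x ∈ Q, F x ∈ Q) :
    Function.Injective (Q.mapQ Q F (fun x hx => hQ x hx)) := by
  rw [injective_iff_map_eq_zero]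
  intro x hx
  induction x using Submodule.Quotient.induction_on with
  | H x =>
    rw [Submodule.mapQ_apply, Submodule.Quotient.mk_eq_zero] at hx
    rw [Submodule.Quotient.mk_eq_zero]
    exact mem_of_apply_mem F hF Q hQ hx

theorem stable_finset_sup [Module.Finite 𝕃 N] (F : N →ₛₗ[τ] N) (hτ : Good τ) (T : Finset ℚ) :
    ∀ x ∈ T.sup (fun ν => Isoc.slopePart F ν), F x ∈ T.sup (fun ν => Isoc.slopePart F ν) := by
  classical
  induction T using Finset.induction_on with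
  | empty =>
    intro x hx
    rw [Finset.sup_empty, Submodule.mem_bot] at hx ⊢
    rw [hx, map_zero]
  | insert ν T' _ ih =>
    intro x hx
    rw [Finset.sup_insert] at hx ⊢
    obtain ⟨y, hy, z, hz, rfl⟩ := Submodule.mem_sup.1 hx
    obtain ⟨hS, _⟩ := slopePart_isoclinic F hτ ν
    rw [map_add]
    exact Submodule.add_mem_sup (hS y hy) (ih z hz)

theorem disjoint_slopePart_finset_sup [RingHomSurjective τ] [Module.Finite 𝕃 N]
    (F : N →ₛₗ[τ] N) (hτ : Good τ) (hF : Function.Injective F) (T : Finset ℚ) :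
    ∀ μ ∉ T, Disjoint (Isoc.slopePart F μ) (T.sup (fun ν => Isoc.slopePart F ν)) := by
  classical
  induction T using Finset.induction_on with
  | empty =>
    intro μ _
    rw [Finset.sup_empty]
    exact disjoint_bot_right
  | insert ν T' _ ih =>
    intro μ hμ
    have hμν : μ ≠ ν := fun h => hμ (h ▸ Finset.mem_insert_self _ _)
    have hμT : μ ∉ T' := fun h => hμ (Finset.mem_insert_of_mem h)
    rw [Finset.sup_insert, disjoint_iff]
    obtain ⟨Q', hQ'def⟩ : ∃ Q', Q' = T'.sup (fun ν => Isoc.slopePart F ν) := ⟨_, rfl⟩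
    rw [← hQ'def]
    have hSQ' : ∀ x ∈ Q', F x ∈ Q' := by rw [hQ'def]; exact stable_finset_sup F hτ T'
    obtain ⟨hSμ, hIμ⟩ := slopePart_isoclinic F hτ μ
    obtain ⟨hSν, hIν⟩ := slopePart_isoclinic F hτ ν
    obtain ⟨P, hPdef⟩ : ∃ P, P = Isoc.slopePart F μ ⊓ (Isoc.slopePart F ν ⊔ Q') := ⟨_, rfl⟩
    rw [← hPdef]
    have hP : ∀ x ∈ P, F x ∈ P := by
      intro x hx
      rw [hPdef] at hx ⊢
      refine ⟨hSμ x hx.1, ?_⟩
      obtain ⟨y, hy, z, hz, hyz⟩ := Submodule.mem_sup.1 hx.2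
      rw [← hyz, map_add]
      exact Submodule.add_mem_sup (hSν y hy) (hSQ' z hz)
    have hPiso : IsoclinicOn F μ P :=
      (isoclinicOn_of_restrict F hτ hSμ hIμ).of_le hτ hF (by rw [hPdef]; exact inf_le_left) hP
    have h1 : IsoclinicOn (Q'.mapQ Q' F (fun x hx => hSQ' x hx)) μ (P.map Q'.mkQ) :=
      hPiso.map hτ Q'.mkQ (fun x => rfl)
    have h2 : IsoclinicOn (Q'.mapQ Q' F (fun x hx => hSQ' x hx)) ν
        ((Isoc.slopePart F ν).map Q'.mkQ) :=
      (isoclinicOn_of_restrict F hτ hSν hIν).map hτ Q'.mkQ (fun x => rfl)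
    have hle : P.map Q'.mkQ ≤ (Isoc.slopePart F ν).map Q'.mkQ := by
      rintro _ ⟨x, hx, rfl⟩
      rw [hPdef] at hx
      obtain ⟨y, hy, z, hz, hyz⟩ := Submodule.mem_sup.1 hx.2
      refine ⟨y, hy, ?_⟩
      rw [← hyz, map_add]
      have : Q'.mkQ z = 0 := (Submodule.Quotient.mk_eq_zero Q').2 hz
      rw [this, add_zero]
    have hstab : ∀ x ∈ P.map Q'.mkQ, (Q'.mapQ Q' F (fun x hx => hSQ' x hx)) x ∈ P.map Q'.mkQ := by
      rintro _ ⟨x, hx, rfl⟩
      exact ⟨F x, hP x hx, rfl⟩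
    have h3 : IsoclinicOn (Q'.mapQ Q' F (fun x hx => hSQ' x hx)) ν (P.map Q'.mkQ) :=
      h2.of_le hτ (quot_injective F hF Q' hSQ') hle hstab
    by_cases hPm : P.map Q'.mkQ = ⊥
    · have hPQ' : P ≤ Q' := by
        intro x hx
        have h4 : Q'.mkQ x ∈ P.map Q'.mkQ := ⟨x, hx, rfl⟩
        rw [hPm, Submodule.mem_bot] at h4
        exact (Submodule.Quotient.mk_eq_zero Q').1 h4
      have h5 := disjoint_iff.1 (ih μ hμT)
      rw [← hQ'def] at h5
      rw [eq_bot_iff, ← h5]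
      exact le_inf (by rw [hPdef]; exact inf_le_left) hPQ'
    · exact absurd (IsoclinicOn.slope_unique hτ hstab hPm h1 h3) hμν

theorem iSupIndep_slopePart [RingHomSurjective τ] [Module.Finite 𝕃 N]
    (F : N →ₛₗ[τ] N) (hτ : Good τ) (hF : Function.Injective F) :
    iSupIndep (fun μ : ℚ => Isoc.slopePart F μ) := by
  rw [iSupIndep_iff_supIndep]
  intro s t _ i _ hit
  exact disjoint_slopePart_finset_sup F hτ hF t i hit

end Indep

section ExLat

variable {p : ℕ} [Fact p.Prime] {k : Type u} [Field k] [CharP k p] [PerfectRing k p]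
variable {N : Type v} [AddCommGroup N] [Module (WittVector p k) N]
  [Module (FractionRing (WittVector p k)) N]
  [IsScalarTower (WittVector p k) (FractionRing (WittVector p k)) N]

local notation "𝕎" => WittVector p k
local notation "𝕃" => FractionRing (WittVector p k)

theorem exists_lattice [Module.Finite 𝕃 N] : ∃ M : Submodule 𝕎 N, M.IsLattice 𝕃 := by
  refine ⟨Submodule.span 𝕎 (Set.range (Module.finBasis 𝕃 N)),
    ⟨Submodule.fg_span (Set.finite_range _), ?_⟩⟩
  rw [Submodule.span_span_of_tower]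
  exact (Module.finBasis 𝕃 N).span_eq

end ExLat

end Groth.Agent.Lib.Helper25.Isoc
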