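import Mathlib
import Groth.Prelude.Def_Isoc
import Groth.Agent.Lib.Helper25.IsocLib
import Groth.Agent.Lib.Helper25.IsocLib2
import Groth.Agent.Lib.Helper25.IsocLib3
import Groth.Agent.Lib.Helper25.IsocLib4
import Groth.Agent.Lib.Helper25.IsocDecomp2
import Groth.Agent.Lib.Helper25.IsocIndep
import Groth.Agent.Lib.Helper25.IsocDM3
import Groth.Agent.S17152

/-!
# Dieudonné–Manin, part 4 (helper25): over an algebraically closed field an isocrystal is a sum
of simple sub-isocrystals generated by vectors `x` with `F^s x = p^r x`, `gcd (r, s) = 1`.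
-/

set_option autoImplicit false

universe u v

open scoped Pointwise

namespace Groth.Agent.Lib.Helper25.Isoc

section SumSimple

variable {p : ℕ} [Fact p.Prime] {k : Type u} [Field k] [CharP k p] [PerfectRing k p]
variable {N : Type v} [AddCommGroup N] [Module (WittVector p k) N]
  [Module (FractionRing (WittVector p k)) N]
  [IsScalarTower (WittVector p k) (FractionRing (WittVector p k)) N]

local notation "𝕎" => WittVector p k
local notation "𝕃" => FractionRing (WittVector p k)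

/-- the cyclic subspaces generated by vectors with `F^s x = p^r x`, `gcd (r, s) = 1` -/
def cycSet {a : ℤ} (F : N →ₛₗ[Isoc.frob p k a] N) :
    Set (Submodule (FractionRing (WittVector p k)) N) :=
  {S | ∃ (x : N) (r : ℤ) (s : ℕ), 0 < s ∧ Int.gcd r s = 1 ∧
    (⇑F)^[s] x = ((p : FractionRing (WittVector p k)) ^ r) • x ∧
    S = LinearMap.range (cycMap F x s)}

theorem cycSet_simple {a : ℤ} (F : N →ₛₗ[Isoc.frob p k a] N) :
    ∀ S ∈ cycSet F, (∀ x ∈ S, F x ∈ S) ∧
      ∀ R : Submodule 𝕃 N, R ≤ S → (∀ x ∈ R, F x ∈ R) → R = ⊥ ∨ R = S := by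
  rintro S ⟨x, r, s, hs, hgcd, hx, rfl⟩
  exact ⟨cyc_stable F x r hx, fun R hR hRs => cyc_simple F x hs r hgcd hx R hR hRs⟩

theorem exists_mul_of_div_eq {r' : ℤ} {s' : ℕ} (hs' : 0 < s') {μ : ℚ} (h : (r' : ℚ) / s' = μ) :
    ∃ c : ℕ, 0 < c ∧ s' = μ.den * c ∧ r' = μ.num * c := by
  have hs0 : (s' : ℚ) ≠ 0 := by exact_mod_cast hs'.ne'
  have hd0 : (μ.den : ℚ) ≠ 0 := by exact_mod_cast μ.den_ne_zero
  have hcross : r' * (μ.den : ℤ) = μ.num * (s' : ℤ) := by
    have h1 : (r' : ℚ) / s' = (μ.num : ℚ) / (μ.den : ℚ) := by rw [h, Rat.num_div_den]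
    rw [div_eq_div_iff hs0 hd0] at h1
    exact_mod_cast h1
  have hdvd : (μ.den : ℤ) ∣ (s' : ℤ) := by
    have h2 : (μ.den : ℤ) ∣ μ.num * (s' : ℤ) := ⟨r', by rw [← hcross]; ring⟩
    have hcop : IsCoprime (μ.den : ℤ) μ.num := by
      rw [Int.isCoprime_iff_gcd_eq_one]
      have := μ.reduced
      rw [Nat.Coprime] at this
      rw [Int.gcd_comm]
      simpa [Int.gcd] using this
    exact hcop.dvd_of_dvd_mul_left h2
  obtain ⟨c, hc⟩ := hdvd
  have hcpos : 0 < c := by
    have h3 : (0 : ℤ) < (s' : ℤ) := by exact_mod_cast hs'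
    have h4 : (0 : ℤ) < (μ.den : ℤ) := by exact_mod_cast μ.den_pos
    rw [hc] at h3
    exact (mul_pos_iff_of_pos_left h4).1 h3
  obtain ⟨c', rfl⟩ : ∃ c' : ℕ, c = (c' : ℤ) := ⟨c.toNat, by omega⟩
  refine ⟨c', by exact_mod_cast hcpos, by exact_mod_cast hc, ?_⟩
  have h4 : (μ.den : ℤ) ≠ 0 := by exact_mod_cast μ.den_ne_zero
  have : r' * (μ.den : ℤ) = (μ.num * c') * (μ.den : ℤ) := by rw [hcross, hc]; ring
  exact mul_right_cancel₀ h4 this

/-- slope-`μ` part is contained in the sum of the cyclic simple subspaces -/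
theorem slopePart_le_sSup_cycSet [IsAlgClosed k] {a : ℤ} (ha : a ≠ 0)
    (F : N →ₛₗ[Isoc.frob p k a] N) (hF : Isoc.IsIsoc F) (μ : ℚ) :
    Isoc.slopePart F μ ≤ sSup (cycSet F) := by
  classical
  have hτ : Good (Isoc.frob p k a) := good_frob a
  haveI := frob_ringHomSurjective p k a
  haveI := hF.finite
  have hInj := hF.bijective.injective
  obtain ⟨hS, M, hM, r', s', hs', hrs', hFM⟩ := slopePart_isoclinic F hτ μ
  obtain ⟨c, hc, hs'c, hr'c⟩ := exists_mul_of_div_eq hs' hrs'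
  have hbij := restrict_bijective F hInj hS
  rw [hs'c, hr'c] at hFM
  obtain ⟨M', hM', hFM'⟩ := exists_lattice_lowest (F.restrict hS) hτ hbij.surjective hM hc hFM
  have hfix := le_span_fixed ha (F.restrict hS) hbij.injective hM' μ.den_pos hFM'
  have hgcd : Int.gcd μ.num μ.den = 1 := by
    have := μ.reduced
    rw [Nat.Coprime] at this
    simpa [Int.gcd] using this
  -- the comap of the target
  obtain ⟨T', hT'⟩ : ∃ T' : Submodule 𝕃 ↥(Isoc.slopePart F μ),
      T' = (sSup (cycSet F)).comap (Isoc.slopePart F μ).subtype := ⟨_, rfl⟩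
  have hfixT : ∀ x : ↥(Isoc.slopePart F μ),
      (⇑(F.restrict hS))^[μ.den] x = ((p : 𝕃) ^ μ.num) • x → x ∈ T' := by
    intro x hx
    rw [hT', Submodule.mem_comap]
    have hx' : (⇑F)^[μ.den] (x : N) = ((p : 𝕃) ^ μ.num) • (x : N) := by
      rw [← restrict_iterate F hS μ.den x, hx]
      rfl
    have hmem : LinearMap.range (cycMap F (x : N) μ.den) ∈ cycSet F :=
      ⟨(x : N), μ.num, μ.den, μ.den_pos, hgcd, hx', rfl⟩
    exact (le_sSup hmem) (self_mem_cyc F (x : N) μ.den_pos)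
  have hM'T : ∀ m ∈ M', m ∈ T' := by
    intro m hm
    have h1 := hfix hm
    have h2 : Submodule.span 𝕎 {x | x ∈ M' ∧ (⇑(F.restrict hS))^[μ.den] x = ((p : 𝕃) ^ μ.num) • x}
        ≤ T'.restrictScalars 𝕎 := by
      apply Submodule.span_le.2
      intro x hx
      exact hfixT x hx.2
    exact h2 h1
  have htop : (⊤ : Submodule 𝕃 ↥(Isoc.slopePart F μ)) ≤ T' := by
    rw [← hM'.span_eq_top]
    exact Submodule.span_le.2 hM'T
  intro y hy
  have : (⟨y, hy⟩ : ↥(Isoc.slopePart F μ)) ∈ T' := htop trivial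
  rw [hT', Submodule.mem_comap] at this
  exact this

theorem sSup_cycSet_eq_top [IsAlgClosed k] {a : ℤ} (ha : a ≠ 0)
    (F : N →ₛₗ[Isoc.frob p k a] N) (hF : Isoc.IsIsoc F) : sSup (cycSet F) = ⊤ := by
  have hint : DirectSum.IsInternal (fun μ : ℚ => Isoc.slopePart F μ) :=
    Groth.Agent.S17152.result p k a N F hF
  rw [eq_top_iff, ← hint.submodule_iSup_eq_top]
  exact iSup_le (fun μ => slopePart_le_sSup_cycSet ha F hF μ)

/-- Semisimplicity of isocrystals over an algebraically closed field. -/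
theorem exists_stable_isCompl [IsAlgClosed k] {a : ℤ} (ha : a ≠ 0)
    (F : N →ₛₗ[Isoc.frob p k a] N) (hF : Isoc.IsIsoc F) (P : Submodule 𝕃 N)
    (hP : ∀ x ∈ P, F x ∈ P) :
    ∃ Q : Submodule 𝕃 N, (∀ x ∈ Q, F x ∈ Q) ∧ IsCompl P Q := by
  haveI := hF.finite
  exact exists_stable_compl F (cycSet F) (cycSet_simple F) (sSup_cycSet_eq_top ha F hF) P hP

end SumSimple

end Groth.Agent.Lib.Helper25.Isoc
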