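import Mathlib
import Groth.Prelude.Def_Isoc
import Groth.Agent.Lib.Helper25.IsocLib
import Groth.Agent.Lib.Helper25.IsocLib2
import Groth.Agent.Lib.Helper25.IsocLib3
import Groth.Agent.Lib.Helper25.IsocLib4
import Groth.Agent.Lib.Helper25.IsocDM4

/-!
# Dieudonné–Manin, part 5 (helper25): decomposition into cyclic simple sub-isocrystals
-/

set_option autoImplicit false

universe u v

open scoped Pointwise

namespace Groth.Agent.Lib.Helper25.Isoc

section Decomp

variable {p : ℕ} [Fact p.Prime] {k : Type u} [Field k] [CharP k p] [PerfectRing k p]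
variable {N : Type v} [AddCommGroup N] [Module (WittVector p k) N]
  [Module (FractionRing (WittVector p k)) N]
  [IsScalarTower (WittVector p k) (FractionRing (WittVector p k)) N]

local notation "𝕎" => WittVector p k
local notation "𝕃" => FractionRing (WittVector p k)

/-- a nonzero vector with `F^s x = p^r x`, `gcd (r, s) = 1`, `s > 0` -/
structure CycGen {a : ℤ} (F : N →ₛₗ[Isoc.frob p k a] N) where
  x : N
  r : ℤ
  s : ℕ
  hs : 0 < s
  hgcd : Int.gcd r s = 1
  hx : (⇑F)^[s] x = ((p : FractionRing (WittVector p k)) ^ r) • x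
  hx0 : x ≠ 0

variable {a : ℤ} {F : N →ₛₗ[Isoc.frob p k a] N}

/-- the subspace generated -/
noncomputable def CycGen.sub (c : CycGen F) : Submodule (FractionRing (WittVector p k)) N :=
  LinearMap.range (cycMap F c.x c.s)

theorem CycGen.sub_mem_cycSet (c : CycGen F) : c.sub ∈ cycSet F :=
  ⟨c.x, c.r, c.s, c.hs, c.hgcd, c.hx, rfl⟩

theorem CycGen.sub_stable (c : CycGen F) : ∀ y ∈ c.sub, F y ∈ c.sub :=
  cyc_stable F c.x c.r c.hx

/-- the sum of the subspaces of a list -/
noncomputable def listSup : List (CycGen F) → Submodule (FractionRing (WittVector p k)) N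
  | [] => ⊥
  | c :: L => c.sub ⊔ listSup L

/-- independence of a list -/
def ListIndep : List (CycGen F) → Prop
  | [] => True
  | c :: L => Disjoint c.sub (listSup L) ∧ ListIndep L

theorem listSup_stable (L : List (CycGen F)) : ∀ y ∈ listSup L, F y ∈ listSup L := by
  induction L with
  | nil =>
    intro y hy
    have hy' : y ∈ (⊥ : Submodule 𝕃 N) := hy
    rw [Submodule.mem_bot] at hy'
    rw [hy', map_zero]
    exact Submodule.zero_mem _
  | cons c L ih => exact stable_sup F c.sub_stable ih

theorem exists_list_aux [Module.Finite 𝕃 N] (htop : sSup (cycSet F) = ⊤) :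
    ∀ (A : Submodule 𝕃 N) (L : List (CycGen F)), ListIndep L → listSup L = A →
      ∃ L' : List (CycGen F), ListIndep L' ∧ listSup L' = ⊤ := by
  intro A
  induction A using (wellFounded_gt (α := Submodule 𝕃 N)).induction with
  | _ A ih =>
    intro L hL hLA
    by_cases hA : A = ⊤
    · exact ⟨L, hL, hLA.trans hA⟩
    have hex : ∃ S ∈ cycSet F, ¬ S ≤ A := by
      by_contra hno
      push Not at hno
      apply hA
      rw [eq_top_iff, ← htop]
      exact sSup_le hno
    obtain ⟨S, ⟨x, r, s, hs, hgcd, hx, rfl⟩, hSle⟩ := hex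
    have hx0 : x ≠ 0 := by
      rintro rfl
      apply hSle
      rintro _ ⟨y, rfl⟩
      rw [cycMap_apply]
      have : ∀ i : Fin s, y i • (⇑F)^[i] (0 : N) = 0 := by
        intro i
        rw [iterate_map_zero, smul_zero]
      rw [Finset.sum_congr rfl (fun i _ => this i), Finset.sum_const_zero]
      exact Submodule.zero_mem _
    let c : CycGen F := ⟨x, r, s, hs, hgcd, hx, hx0⟩
    have hAst : ∀ y ∈ A, F y ∈ A := by rw [← hLA]; exact listSup_stable L
    have hdisj : Disjoint c.sub A := by
      rw [disjoint_iff]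
      rcases (cycSet_simple F c.sub c.sub_mem_cycSet).2 (c.sub ⊓ A) inf_le_left
        (stable_inf F c.sub_stable hAst) with h | h
      · exact h
      · exfalso
        apply hSle
        have : c.sub ≤ A := by rw [← h]; exact inf_le_right
        exact this
    refine ih (c.sub ⊔ A) ?_ (c :: L) ⟨by rw [hLA]; exact hdisj, hL⟩ (by
      show c.sub ⊔ listSup L = c.sub ⊔ A
      rw [hLA])
    show A < c.sub ⊔ A
    apply lt_of_le_of_ne le_sup_right
    intro heq
    apply hSle
    have : c.sub ≤ A := by rw [heq]; exact le_sup_left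
    exact this

theorem exists_list [Module.Finite 𝕃 N] (htop : sSup (cycSet F) = ⊤) :
    ∃ L : List (CycGen F), ListIndep L ∧ listSup L = ⊤ :=
  exists_list_aux htop ⊥ [] trivial rfl

/-- the sum map `∏ L^{s_i} → N` -/
noncomputable def listMap (L : List (CycGen F)) :
    ((i : Fin L.length) → (Fin (L.get i).s → FractionRing (WittVector p k)))
      →ₗ[FractionRing (WittVector p k)] N :=
  ∑ i : Fin L.length, (cycMap F (L.get i).x (L.get i).s) ∘ₗ
    (LinearMap.proj (R := FractionRing (WittVector p k))
      (φ := fun i : Fin L.length => (Fin (L.get i).s → FractionRing (WittVector p k))) i)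

theorem listMap_apply (L : List (CycGen F))
    (y : (i : Fin L.length) → (Fin (L.get i).s → 𝕃)) :
    listMap L y = ∑ i : Fin L.length, cycMap F (L.get i).x (L.get i).s (y i) := by
  unfold listMap
  rw [LinearMap.sum_apply]
  rfl

theorem listMap_cons (c : CycGen F) (L : List (CycGen F))
    (y : (i : Fin (c :: L).length) → (Fin ((c :: L).get i).s → 𝕃)) :
    listMap (c :: L) y =
      cycMap F c.x c.s (y ⟨0, Nat.succ_pos _⟩) + listMap L (fun i => y i.succ) := by
  rw [listMap_apply, listMap_apply]
  exact Fin.sum_univ_succ (n := L.length)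
    (fun i : Fin (L.length + 1) => cycMap F ((c :: L).get i).x ((c :: L).get i).s (y i))

theorem listMap_mem (L : List (CycGen F))
    (y : (i : Fin L.length) → (Fin (L.get i).s → 𝕃)) : listMap L y ∈ listSup L := by
  induction L with
  | nil =>
    rw [listMap_apply]
    simp [listSup]
  | cons c L ih =>
    rw [listMap_cons]
    exact Submodule.add_mem_sup ⟨_, rfl⟩ (ih _)

theorem listMap_injective (L : List (CycGen F)) (hL : ListIndep L) :
    Function.Injective (listMap L) := by
  induction L with
  | nil =>
    intro y y' _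
    funext i
    exact i.elim0
  | cons c L ih =>
    rw [injective_iff_map_eq_zero]
    intro y hy
    rw [listMap_cons] at hy
    have h1 : cycMap F c.x c.s (y ⟨0, Nat.succ_pos _⟩) ∈ c.sub ⊓ listSup L := by
      refine ⟨⟨_, rfl⟩, ?_⟩
      rw [eq_neg_of_add_eq_zero_left hy]
      exact Submodule.neg_mem _ (listMap_mem L _)
    rw [hL.1.eq_bot, Submodule.mem_bot] at h1
    rw [h1, zero_add] at hy
    have h2 := (map_eq_zero_iff _ (cycMap_injective F c.x c.hx0 c.hs c.r c.hgcd c.hx)).1 h1
    have h3 := (map_eq_zero_iff _ (ih hL.2)).1 hy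
    funext i
    refine Fin.cases ?_ (fun j => ?_) i
    · exact h2
    · exact congrFun h3 j

theorem listMap_range (L : List (CycGen F)) : LinearMap.range (listMap L) = listSup L := by
  induction L with
  | nil =>
    show LinearMap.range (listMap ([] : List (CycGen F))) = ⊥
    rw [eq_bot_iff]
    rintro _ ⟨y, rfl⟩
    exact listMap_mem [] y
  | cons c L ih =>
    apply le_antisymm
    · rintro _ ⟨y, rfl⟩
      exact listMap_mem _ y
    · show c.sub ⊔ listSup L ≤ _
      rw [← ih]
      apply sup_le
      · rintro _ ⟨y₀, rfl⟩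
        refine ⟨fun i => Fin.cases y₀ (fun j => 0) i, ?_⟩
        rw [listMap_cons]
        have : listMap L (fun i => (Fin.cases y₀ (fun j => 0) i.succ :
            Fin ((c :: L).get i.succ).s → 𝕃)) = 0 := by
          have h0 : (fun i : Fin L.length => (Fin.cases y₀ (fun j => 0) i.succ :
            Fin ((c :: L).get i.succ).s → 𝕃)) = 0 := by
            funext i
            rfl
          rw [h0, map_zero]
        rw [this, add_zero]
        rfl
      · rintro _ ⟨y', rfl⟩
        refine ⟨fun i => Fin.cases 0 (fun j => y' j) i, ?_⟩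
        rw [listMap_cons]
        have h0 : cycMap F c.x c.s ((Fin.cases 0 (fun j => y' j) (⟨0, Nat.succ_pos _⟩ :
            Fin (c :: L).length) : Fin ((c :: L).get ⟨0, Nat.succ_pos _⟩).s → 𝕃)) = 0 := by
          have : (Fin.cases 0 (fun j => y' j) (⟨0, Nat.succ_pos _⟩ :
            Fin (c :: L).length) : Fin ((c :: L).get ⟨0, Nat.succ_pos _⟩).s → 𝕃) = 0 := rfl
          rw [this, map_zero]
        rw [h0, zero_add]
        rfl

end Decomp

end Groth.Agent.Lib.Helper25.Isoc
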