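import Mathlib
import Groth.Prelude.Def_Isoc
import Groth.Agent.Lib.Helper25.IsocLib
import Groth.Agent.Lib.Helper25.IsocLib2
import Groth.Agent.Lib.Helper25.IsocLib3
import Groth.Agent.Lib.Helper25.IsocLib4
import Groth.Agent.Lib.Helper25.IsocStd
import Groth.Agent.Lib.Helper25.IsocDM5
import Groth.Agent.S17152

/-!
# Dieudonné–Manin, part 6 (helper25): the classification theorem
-/

set_option autoImplicit false

universe u v

open scoped Pointwise

namespace Groth.Agent.Lib.Helper25.Isoc

section Classif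

variable {p : ℕ} [Fact p.Prime] {k : Type u} [Field k] [CharP k p] [PerfectRing k p]
variable {N : Type v} [AddCommGroup N] [Module (WittVector p k) N]
  [Module (FractionRing (WittVector p k)) N]
  [IsScalarTower (WittVector p k) (FractionRing (WittVector p k)) N]

local notation "𝕎" => WittVector p k
local notation "𝕃" => FractionRing (WittVector p k)

variable {a : ℤ} {F : N →ₛₗ[Isoc.frob p k a] N}

theorem CycGen.isoclinicOn (c : CycGen F) : IsoclinicOn F ((c.r : ℚ) / c.s) c.sub := by
  have hτ : Good (Isoc.frob p k a) := good_frob a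
  obtain ⟨x, r, s, hs, hgcd, hx, hx0⟩ := c
  obtain ⟨n, rfl⟩ : ∃ n, s = n + 1 := ⟨s - 1, by omega⟩
  refine ⟨mapL (cycMap F x (n + 1)) (stdLattice (n + 1)),
    mapL_fg (stdLattice_isLattice (n + 1)).fg, ?_, r, n + 1, hs, rfl, ?_⟩
  · have h1 : (mapL (cycMap F x (n + 1)) (stdLattice (p := p) (k := k) (n + 1)) : Set N) =
        (cycMap F x (n + 1)) '' (stdLattice (p := p) (k := k) (n + 1) : Set (Fin (n + 1) → 𝕃)) := by
      ext y
      simp only [SetLike.mem_coe, mem_mapL, Set.mem_image]
    rw [h1, ← Submodule.map_span, (stdLattice_isLattice (n + 1)).span_eq_top, Submodule.map_top]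
    rfl
  · rw [← mapL_latImg (cycMap F x (n + 1)) (Isoc.stdIsoc (Isoc.frob p k a) r (n + 1)) F hτ
      (fun y => (cycMap_std F x r hx y).symm), stdIsoc_latImg _ _ _ hτ, mapL_pPow]

theorem CycGen.sub_le_slopePart (c : CycGen F) :
    c.sub ≤ Isoc.slopePart F ((c.r : ℚ) / c.s) := by
  have hτ : Good (Isoc.frob p k a) := good_frob a
  exact le_sSup ⟨c.sub_stable, restrict_of_isoclinicOn F hτ c.sub_stable c.isoclinicOn⟩

theorem card_sigma_subtype (t : ℕ) (h : Fin t → ℕ) (P : Fin t → Prop) [DecidablePred P] :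
    Fintype.card {c : Σ i, Fin (h i) // P c.1} = ∑ i, if P i then h i else 0 := by
  rw [Fintype.card_subtype, Finset.card_filter, Fintype.sum_sigma]
  apply Finset.sum_congr rfl
  intro i _
  by_cases hi : P i
  · simp [hi]
  · simp [hi]

theorem sum_newtonMult (F : N →ₛₗ[Isoc.frob p k a] N) (hF : Isoc.IsIsoc F) (T : Finset ℚ)
    (hT : ∀ μ, μ ∈ T ↔ Isoc.slopePart F μ ≠ ⊥) :
    ∑ μ ∈ T, Isoc.newtonMult F μ = Module.finrank 𝕃 N := by
  classical
  have hτ : Good (Isoc.frob p k a) := good_frob a
  haveI := frob_ringHomSurjective p k a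
  haveI := hF.finite
  have hInj := hF.bijective.injective
  have hint : DirectSum.IsInternal (fun μ : ℚ => Isoc.slopePart F μ) :=
    Groth.Agent.S17152.result p k a N F hF
  have hindep := iSupIndep_slopePart F hτ hInj
  have hintT : DirectSum.IsInternal (fun μ : T => Isoc.slopePart F (μ : ℚ)) := by
    rw [DirectSum.isInternal_submodule_iff_iSupIndep_and_iSup_eq_top]
    refine ⟨hindep.comp Subtype.val_injective, ?_⟩
    rw [eq_top_iff, ← hint.submodule_iSup_eq_top]
    apply iSup_le
    intro μ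
    by_cases h0 : Isoc.slopePart F μ = ⊥
    · rw [h0]; exact bot_le
    · exact le_iSup (fun ν : T => Isoc.slopePart F (ν : ℚ)) ⟨μ, (hT μ).2 h0⟩
  let v : ∀ μ : T, Module.Basis (Fin (Module.finrank 𝕃 (Isoc.slopePart F (μ : ℚ)))) 𝕃
      (Isoc.slopePart F (μ : ℚ)) := fun μ => Module.finBasis 𝕃 (Isoc.slopePart F (μ : ℚ))
  rw [Module.finrank_eq_card_basis (hintT.collectedBasis v), Fintype.card_sigma,
    ← Finset.sum_coe_sort T]
  apply Finset.sum_congr rfl
  intro μ _
  rw [Fintype.card_fin]
  rfl

theorem listMap_single (L : List (CycGen F)) (i : Fin L.length) (z : Fin (L.get i).s → 𝕃) :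
    listMap L (Pi.single i z) = cycMap F (L.get i).x (L.get i).s z := by
  classical
  rw [listMap_apply, Finset.sum_eq_single i]
  · rw [Pi.single_eq_same]
  · intro j _ hj
    rw [Pi.single_eq_of_ne hj, map_zero]
  · intro h
    exact absurd (Finset.mem_univ _) h

/-- **Dieudonné–Manin**: over an algebraically closed field, a `σ^a`-isocrystal (`a ≠ 0`) is
isomorphic to a direct sum of standard isocrystals, with the multiplicities given by the Newton
slopes. -/
theorem dieudonne_manin [IsAlgClosed k] (ha : a ≠ 0) (F : N →ₛₗ[Isoc.frob p k a] N)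
    (hF : Isoc.IsIsoc F) :
    ∃ (t : ℕ) (d : Fin t → ℤ) (h : Fin t → ℕ)
      (e : N ≃ₗ[𝕃] ((i : Fin t) → (Fin (h i) → 𝕃))),
      (∀ i, 0 < h i ∧ Int.gcd (d i) (h i) = 1) ∧
      (∀ (x : N) (i : Fin t),
        e (F x) i = Isoc.stdIsoc (Isoc.frob p k a) (d i) (h i) (e x i)) ∧
      ∀ μ : ℚ, Isoc.newtonMult F μ =
        ∑ i : Fin t, (if ((d i : ℚ) / (h i : ℚ)) = μ then h i else 0) := by
  classical
  have hτ : Good (Isoc.frob p k a) := good_frob a
  haveI := frob_ringHomSurjective p k a
  haveI := hF.finite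
  have hInj := hF.bijective.injective
  obtain ⟨L, hL, hLtop⟩ := exists_list (sSup_cycSet_eq_top ha F hF)
  have hbij : Function.Bijective (listMap L) := ⟨listMap_injective L hL, by
    rw [← LinearMap.range_eq_top, listMap_range, hLtop]⟩
  obtain ⟨E, hE⟩ : ∃ E : ((i : Fin L.length) → (Fin (L.get i).s → 𝕃)) ≃ₗ[𝕃] N,
      ∀ y, E y = listMap L y := ⟨LinearEquiv.ofBijective (listMap L) hbij, fun _ => rfl⟩
  refine ⟨L.length, fun i => (L.get i).r, fun i => (L.get i).s, E.symm,
    fun i => ⟨(L.get i).hs, (L.get i).hgcd⟩, ?_, ?_⟩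
  · intro x i
    have hx : listMap L (E.symm x) = x := by rw [← hE]; exact E.apply_symm_apply x
    have hF' : F x = E (fun i => Isoc.stdIsoc (Isoc.frob p k a) (L.get i).r (L.get i).s
        (E.symm x i)) := by
      conv_lhs => rw [← hx]
      rw [hE, listMap_apply, listMap_apply, map_sum]
      apply Finset.sum_congr rfl
      intro i _
      exact cycMap_std F (L.get i).x (L.get i).r (L.get i).hx (E.symm x i)
    rw [hF', E.symm_apply_apply]
  · -- multiplicities
    have hindep := iSupIndep_slopePart F hτ hInj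
    have hfin : {μ : ℚ | Isoc.slopePart F μ ≠ ⊥}.Finite :=
      WellFoundedGT.finite_ne_bot_of_iSupIndep hindep
    obtain ⟨T, hT⟩ : ∃ T : Finset ℚ, ∀ μ, μ ∈ T ↔ Isoc.slopePart F μ ≠ ⊥ :=
      ⟨hfin.toFinset, fun μ => hfin.mem_toFinset⟩
    have hsumN := sum_newtonMult F hF T hT
    obtain ⟨lam, hlam⟩ : ∃ lam : Fin L.length → ℚ,
        ∀ i, lam i = ((L.get i).r : ℚ) / ((L.get i).s : ℚ) := ⟨_, fun _ => rfl⟩
    have hfinrank : Module.finrank 𝕃 N = ∑ i : Fin L.length, (L.get i).s := by
      rw [← LinearEquiv.finrank_eq E, Module.finrank_pi_fintype]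
      apply Finset.sum_congr rfl
      intro i _
      rw [Module.finrank_fin_fun]
    -- the basis
    let bN : Module.Basis (Σ i : Fin L.length, Fin (L.get i).s) 𝕃 N :=
      (Pi.basis (fun i : Fin L.length => Pi.basisFun 𝕃 (Fin (L.get i).s))).map E
    have hbN : ∀ c : Σ i : Fin L.length, Fin (L.get i).s, bN c ∈ (L.get c.1).sub := by
      intro c
      show E ((Pi.basis (fun i : Fin L.length => Pi.basisFun 𝕃 (Fin (L.get i).s))) c) ∈ _
      rw [Pi.basis_apply, hE, listMap_single]
      exact ⟨_, rfl⟩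
    have hle : ∀ μ : ℚ, (∑ i : Fin L.length, if lam i = μ then (L.get i).s else 0) ≤
        Isoc.newtonMult F μ := by
      intro μ
      have hmem : ∀ c : {c : Σ i : Fin L.length, Fin (L.get i).s // lam c.1 = μ},
          bN c.1 ∈ Isoc.slopePart F μ := by
        intro c
        have h1 := (L.get c.1.1).sub_le_slopePart (hbN c.1)
        rw [← hlam, c.2] at h1
        exact h1
      let v : {c : Σ i : Fin L.length, Fin (L.get i).s // lam c.1 = μ} →
          ↥(Isoc.slopePart F μ) := fun c => ⟨bN c.1, hmem c⟩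
      have hv : LinearIndependent 𝕃 v := by
        apply LinearIndependent.of_comp (Isoc.slopePart F μ).subtype
        exact bN.linearIndependent.comp Subtype.val Subtype.val_injective
      have h2 := hv.fintype_card_le_finrank
      rw [card_sigma_subtype L.length (fun i => (L.get i).s) (fun i => lam i = μ)] at h2
      exact h2
    have hlamT : ∀ i, lam i ∈ T := by
      intro i
      rw [hT]
      intro hbot
      have h1 := (L.get i).sub_le_slopePart (self_mem_cyc F (L.get i).x (L.get i).hs)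
      rw [← hlam, hbot, Submodule.mem_bot] at h1
      exact (L.get i).hx0 h1
    have hsumg : ∑ μ ∈ T, (∑ i : Fin L.length, if lam i = μ then (L.get i).s else 0) =
        ∑ μ ∈ T, Isoc.newtonMult F μ := by
      rw [hsumN, hfinrank, Finset.sum_comm]
      apply Finset.sum_congr rfl
      intro i _
      rw [Finset.sum_ite_eq T (lam i) (fun _ => (L.get i).s), if_pos (hlamT i)]
    have hall := (Finset.sum_eq_sum_iff_of_le (fun μ _ => hle μ)).1 hsumg
    intro μ
    simp only [← hlam]
    by_cases hμ : μ ∈ T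
    · exact (hall μ hμ).symm
    · have h0 : Isoc.slopePart F μ = ⊥ := by
        by_contra h; exact hμ ((hT μ).2 h)
      have h1 : Isoc.newtonMult F μ = 0 := by
        unfold Isoc.newtonMult
        rw [h0]
        exact finrank_bot _ _
      have h2 := hle μ
      rw [h1] at h2 ⊢
      exact (Nat.le_zero.1 h2).symm

end Classif

end Groth.Agent.Lib.Helper25.Isoc
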