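import Mathlib
import Groth.Prelude.Def_Isoc
import Groth.Agent.Lib.Helper25.IsocLib
import Groth.Agent.Lib.Helper25.IsocLib2
import Groth.Agent.Lib.Helper25.IsocLib4
import Groth.Agent.Lib.Helper25.IsocDet
import Groth.Agent.Lib.Helper25.IsocEff
import Groth.Agent.Lib.Helper25.IsocTwist
import Groth.Agent.Lib.Helper25.IsocRat
import Groth.Agent.Lib.Helper25.IsocFit

/-!
# Helper library for the `Isoc` statements (helper25): splitting off the first slope part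

From a lattice `M` with `G M ≤ M`, `G = p^{-r} F^s`, `G` not nilpotent modulo `p`, we get
`F`-stable subspaces `N₁` (isoclinic of slope `r/s`) and `N₂ ≠ ⊤` with `N₁ ⊔ N₂ = ⊤`.
-/

set_option autoImplicit false

universe u v w

open scoped Pointwise

namespace Groth.Agent.Lib.Helper25.Isoc

section Split

variable {p : ℕ} [Fact p.Prime] {k : Type u} [Field k] [CharP k p] [PerfectRing k p]
variable {N : Type v} [AddCommGroup N] [Module (WittVector p k) N]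
  [Module (FractionRing (WittVector p k)) N]
  [IsScalarTower (WittVector p k) (FractionRing (WittVector p k)) N]
variable {τ : FractionRing (WittVector p k) →+* FractionRing (WittVector p k)}

local notation "𝕎" => WittVector p k
local notation "𝕃" => FractionRing (WittVector p k)

/-- `⋂ G^n M` -/
noncomputable def fitM1 (G : N →ₛₗ[τ] N) (M : Submodule 𝕎 N) : Submodule 𝕎 N :=
  ⨅ n : ℕ, Isoc.latImg G n M

theorem mem_fitM1 {G : N →ₛₗ[τ] N} {M : Submodule 𝕎 N} {x : N} :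
    x ∈ fitM1 G M ↔ ∀ n, x ∈ Isoc.latImg G n M := by
  unfold fitM1
  rw [Submodule.mem_iInf]

theorem fitM1_le (G : N →ₛₗ[τ] N) (M : Submodule 𝕎 N) : fitM1 G M ≤ M := by
  intro x hx
  have := mem_fitM1.1 hx 0
  rwa [latImg_zero] at this

theorem latImg_fitM1 (G : N →ₛₗ[τ] N) (hτ : Good τ) (hGi : Function.Injective G)
    {M : Submodule 𝕎 N} (hGM : Isoc.latImg G 1 M ≤ M) :
    Isoc.latImg G 1 (fitM1 G M) = fitM1 G M := by
  apply le_antisymm
  · intro y hy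
    obtain ⟨x, hx, rfl⟩ := (mem_latImg G hτ).1 hy
    rw [mem_fitM1]
    intro n
    have h1 : (⇑G)^[1] x ∈ Isoc.latImg G 1 (Isoc.latImg G n M) :=
      (mem_latImg G hτ).2 ⟨x, mem_fitM1.1 hx n, rfl⟩
    rw [← latImg_add G hτ, add_comm] at h1
    exact latImg_succ_le G hτ hGM n h1
  · intro y hy
    rw [mem_latImg G hτ]
    have h0 := mem_fitM1.1 hy 1
    obtain ⟨w, hw, hwy⟩ := (mem_latImg G hτ).1 h0
    refine ⟨w, ?_, hwy⟩
    rw [mem_fitM1]
    intro n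
    have h1 := mem_fitM1.1 hy (n + 1)
    rw [add_comm, latImg_add G hτ] at h1
    obtain ⟨w', hw', hw'y⟩ := (mem_latImg G hτ).1 h1
    have : w' = w := by
      apply hGi
      have e1 : (⇑G)^[1] w' = G w' := rfl
      have e2 : (⇑G)^[1] w = G w := rfl
      rw [← e1, ← e2, hw'y, hwy]
    rw [← this]
    exact hw'

/-- `{y ∈ M | G^n y → 0}` -/
noncomputable def fitM2 (G : N →ₛₗ[τ] N) (hτ : Good τ) (M : Submodule 𝕎 N)
    (hGM : Isoc.latImg G 1 M ≤ M) : Submodule 𝕎 N where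
  carrier := {y | y ∈ M ∧ ∀ m : ℕ, ∃ n, (⇑G)^[n] y ∈ Isoc.pPow (m : ℤ) M}
  add_mem' := by
    rintro x y ⟨hx, hx'⟩ ⟨hy, hy'⟩
    refine ⟨M.add_mem hx hy, fun m => ?_⟩
    obtain ⟨n₁, h₁⟩ := hx' m
    obtain ⟨n₂, h₂⟩ := hy' m
    refine ⟨n₁ + n₂, ?_⟩
    rw [iterate_add_map]
    refine Submodule.add_mem _ ?_ ?_
    · rw [add_comm, Function.iterate_add_apply]
      exact iterate_mem_pPow G hτ hGM (m : ℤ) n₂ h₁
    · rw [Function.iterate_add_apply]
      exact iterate_mem_pPow G hτ hGM (m : ℤ) n₁ h₂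
  zero_mem' := by
    refine ⟨M.zero_mem, fun m => ⟨0, ?_⟩⟩
    rw [iterate_zero_map]
    exact Submodule.zero_mem _
  smul_mem' := by
    rintro w x ⟨hx, hx'⟩
    refine ⟨M.smul_mem w hx, fun m => ?_⟩
    obtain ⟨n, hn⟩ := hx' m
    refine ⟨n, ?_⟩
    obtain ⟨w', hw'⟩ := (hτ.pow n).1 w
    have : (⇑G)^[n] (w • x) = w' • (⇑G)^[n] x := smul_map (Isoc.iter G n) w x hw'
    rw [this]
    exact Submodule.smul_mem _ _ hn

theorem mem_fitM2 {G : N →ₛₗ[τ] N} {hτ : Good τ} {M : Submodule 𝕎 N}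
    {hGM : Isoc.latImg G 1 M ≤ M} {y : N} :
    y ∈ fitM2 G hτ M hGM ↔ y ∈ M ∧ ∀ m : ℕ, ∃ n, (⇑G)^[n] y ∈ Isoc.pPow (m : ℤ) M := Iff.rfl

theorem fitM2_le (G : N →ₛₗ[τ] N) (hτ : Good τ) (M : Submodule 𝕎 N)
    (hGM : Isoc.latImg G 1 M ≤ M) : fitM2 G hτ M hGM ≤ M := fun _ hx => hx.1

/-- `N = L M₁ + L M₂`. -/
theorem span_fitM1_sup_span_fitM2 (G : N →ₛₗ[τ] N) (hτ : Good τ) (hGs : Function.Surjective G)
    {h : ℕ} (b : Module.Basis (Fin h) 𝕃 N) {M : Submodule 𝕎 N}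
    (hM : M.IsLattice 𝕃) (hGM : Isoc.latImg G 1 M ≤ M) :
    Submodule.span 𝕃 (fitM1 G M : Set N) ⊔ Submodule.span 𝕃 (fitM2 G hτ M hGM : Set N) = ⊤ := by
  have hp := pL_ne_zero p k
  rw [eq_top_iff]
  intro x _
  obtain ⟨c, hc⟩ := exists_pow_smul_mem M x (by rw [hM.span_eq_top]; trivial)
  obtain ⟨a, d, had, ha, hdM, hd⟩ := fitting_lattice G hτ hGs b hM hGM hc
  have hx : x = ((p : 𝕃) ^ c)⁻¹ • a + ((p : 𝕃) ^ c)⁻¹ • d := by
    rw [← smul_add, ← had, smul_smul, inv_mul_cancel₀ (pow_ne_zero c hp), one_smul]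
  rw [hx]
  refine Submodule.add_mem_sup (Submodule.smul_mem _ _ (Submodule.subset_span ?_))
    (Submodule.smul_mem _ _ (Submodule.subset_span ?_))
  · exact mem_fitM1.2 ha
  · exact ⟨hdM, hd⟩

/-- If `L M₂ = N` then `G` is nilpotent modulo `p`. -/
theorem exists_latImg_le_of_span_fitM2 (G : N →ₛₗ[τ] N) (hτ : Good τ)
    {M : Submodule 𝕎 N} (hM : M.IsLattice 𝕃) (hGM : Isoc.latImg G 1 M ≤ M)
    (htop : Submodule.span 𝕃 (fitM2 G hτ M hGM : Set N) = ⊤) :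
    ∃ n, 1 ≤ n ∧ Isoc.latImg G n M ≤ Isoc.pPow 1 M := by
  obtain ⟨c, hc⟩ := exists_pPow_le (M := M) (M' := fitM2 G hτ M hGM) hM.fg htop
  have hM' : (Isoc.pPow (c : ℤ) M).IsLattice 𝕃 := pPow_isLattice hM
  have hGM' : Isoc.latImg G 1 (Isoc.pPow (c : ℤ) M) ≤ Isoc.pPow (c : ℤ) M := by
    rw [latImg_pPow G hτ]
    exact pPow_mono hGM
  obtain ⟨j, hj⟩ := exists_fitK_stable G hτ hM' hGM' 1
  have hall : ∀ y ∈ Isoc.pPow (c : ℤ) M, (⇑G)^[j + 1] y ∈ Isoc.pPow (1 : ℤ) (Isoc.pPow (c : ℤ) M) := by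
    intro y hy
    obtain ⟨n, hn⟩ := (hc hy).2 (c + 1)
    have h1 : y ∈ fitK G hτ (Isoc.pPow (c : ℤ) M) 1 n := by
      refine ⟨hy, ?_⟩
      rw [Nat.cast_one, ← pPow_add, add_comm]
      exact_mod_cast hn
    have h2 : y ∈ fitK G hτ (Isoc.pPow (c : ℤ) M) 1 (max n (j + 1)) :=
      fitK_mono G hτ hGM' 1 (le_max_left _ _) h1
    rw [hj _ (le_trans (Nat.le_succ j) (le_max_right _ _)), ← hj (j + 1) (Nat.le_succ j)] at h2
    have := h2.2
    exact_mod_cast this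
  refine ⟨j + 1, Nat.succ_pos j, ?_⟩
  have h3 : Isoc.latImg G (j + 1) (Isoc.pPow (c : ℤ) M) ≤
      Isoc.pPow (1 : ℤ) (Isoc.pPow (c : ℤ) M) := by
    unfold Isoc.latImg
    rw [Submodule.span_le]
    rintro y ⟨x, hx, rfl⟩
    exact hall x hx
  have e : Isoc.pPow (1 : ℤ) (Isoc.pPow (c : ℤ) M) = Isoc.pPow (c : ℤ) (Isoc.pPow (1 : ℤ) M) := by
    rw [← pPow_add, ← pPow_add, add_comm]
  rw [latImg_pPow G hτ, e, pPow_le_pPow_iff] at h3
  exact h3

end Split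

section Stable

variable {p : ℕ} [Fact p.Prime] {k : Type u} [Field k] [CharP k p] [PerfectRing k p]
variable {N : Type v} [AddCommGroup N] [Module (WittVector p k) N]
  [Module (FractionRing (WittVector p k)) N]
  [IsScalarTower (WittVector p k) (FractionRing (WittVector p k)) N]
variable {τ σ : FractionRing (WittVector p k) →+* FractionRing (WittVector p k)}

local notation "𝕎" => WittVector p k
local notation "𝕃" => FractionRing (WittVector p k)

theorem iterate_smul_p (G : N →ₛₗ[σ] N) (n : ℕ) (c : ℤ) (y : N) :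
    (⇑G)^[n] (((p : 𝕃) ^ c) • y) = ((p : 𝕃) ^ c) • (⇑G)^[n] y := by
  have := map_smulₛₗ (Isoc.iter G n) ((p : 𝕃) ^ c) y
  rw [map_p_zpow] at this
  exact this

theorem iterate_comm (F : N →ₛₗ[τ] N) (G : N →ₛₗ[σ] N) (hcomm : ∀ x, F (G x) = G (F x))
    (n : ℕ) (x : N) : F ((⇑G)^[n] x) = (⇑G)^[n] (F x) :=
  (Function.Commute.iterate_right (f := ⇑F) (g := ⇑G) hcomm n) x

theorem span_stable_of_key (F : N →ₛₗ[τ] N) (X : Submodule 𝕎 N) (c : ℤ)
    (key : ∀ y ∈ X, ((p : 𝕃) ^ c) • F y ∈ X) :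
    ∀ x ∈ Submodule.span 𝕃 (X : Set N), F x ∈ Submodule.span 𝕃 (X : Set N) := by
  have hp := pL_ne_zero p k
  intro x hx
  induction hx using Submodule.span_induction with
  | mem y hy =>
    have h1 := Submodule.smul_mem (Submodule.span 𝕃 (X : Set N)) ((p : 𝕃) ^ (-c))
      (Submodule.subset_span (key y hy))
    rwa [smul_smul, ← zpow_add₀ hp, neg_add_cancel, zpow_zero, one_smul] at h1
  | zero => rw [map_zero]; exact Submodule.zero_mem _
  | add x y _ _ hx hy => rw [map_add]; exact Submodule.add_mem _ hx hy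
  | smul l x _ hx => rw [map_smulₛₗ]; exact Submodule.smul_mem _ _ hx

theorem fitM1_stable (F : N →ₛₗ[τ] N) (hτ : Good τ) (hFs : Function.Surjective F)
    (G : N →ₛₗ[σ] N) (hσ : Good σ) (hcomm : ∀ x, F (G x) = G (F x))
    {M : Submodule 𝕎 N} (hM : M.IsLattice 𝕃) :
    ∀ x ∈ Submodule.span 𝕃 (fitM1 G M : Set N), F x ∈ Submodule.span 𝕃 (fitM1 G M : Set N) := by
  obtain ⟨c, hc⟩ := exists_pPow_le (latImg_isLattice F hτ hFs 1 hM).fg hM.span_eq_top
  apply span_stable_of_key F (fitM1 G M) (c : ℤ)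
  intro y hy
  rw [mem_fitM1]
  intro n
  obtain ⟨z, hz, rfl⟩ := (mem_latImg G hσ).1 (mem_fitM1.1 hy n)
  rw [mem_latImg G hσ]
  refine ⟨((p : 𝕃) ^ (c : ℤ)) • F z,
    hc (smul_mem_pPow ((mem_latImg F hτ).2 ⟨z, hz, rfl⟩)), ?_⟩
  rw [iterate_smul_p, iterate_comm F G hcomm]

theorem fitM2_stable (F : N →ₛₗ[τ] N) (hτ : Good τ) (hFs : Function.Surjective F)
    (G : N →ₛₗ[σ] N) (hσ : Good σ) (hcomm : ∀ x, F (G x) = G (F x))
    {M : Submodule 𝕎 N} (hM : M.IsLattice 𝕃) (hGM : Isoc.latImg G 1 M ≤ M) :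
    ∀ x ∈ Submodule.span 𝕃 (fitM2 G hσ M hGM : Set N),
      F x ∈ Submodule.span 𝕃 (fitM2 G hσ M hGM : Set N) := by
  obtain ⟨c, hc⟩ := exists_pPow_le (latImg_isLattice F hτ hFs 1 hM).fg hM.span_eq_top
  have hFM : ∀ z ∈ M, ((p : 𝕃) ^ (c : ℤ)) • F z ∈ M := fun z hz =>
    hc (smul_mem_pPow ((mem_latImg F hτ).2 ⟨z, hz, rfl⟩))
  apply span_stable_of_key F (fitM2 G hσ M hGM) (c : ℤ)
  rintro y ⟨hy, hy'⟩
  refine ⟨hFM y hy, fun m => ?_⟩
  obtain ⟨n, hn⟩ := hy' m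
  refine ⟨n, ?_⟩
  obtain ⟨z, hz, hzy⟩ := mem_pPow_iff.1 hn
  rw [iterate_smul_p, ← iterate_comm F G hcomm, ← hzy, map_smulₛₗ, map_p_zpow, smul_comm]
  exact smul_mem_pPow (hFM z hz)

end Stable

section Main

variable {p : ℕ} [Fact p.Prime] {k : Type u} [Field k] [CharP k p] [PerfectRing k p]
variable {N : Type v} [AddCommGroup N] [Module (WittVector p k) N]
  [Module (FractionRing (WittVector p k)) N]
  [IsScalarTower (WittVector p k) (FractionRing (WittVector p k)) N]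
variable {τ : FractionRing (WittVector p k) →+* FractionRing (WittVector p k)}

local notation "𝕎" => WittVector p k
local notation "𝕃" => FractionRing (WittVector p k)

theorem twist_comm (F : N →ₛₗ[τ] N) (r : ℤ) (s : ℕ) (x : N) :
    F ((((p : FractionRing (WittVector p k)) ^ r) • Isoc.iter F s) x) =
      (((p : FractionRing (WittVector p k)) ^ r) • Isoc.iter F s) (F x) := by
  rw [LinearMap.smul_apply, LinearMap.smul_apply, map_smulₛₗ, map_p_zpow, Isoc.iter_apply,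
    Isoc.iter_apply, ← Function.iterate_succ_apply' (⇑F) s x, Function.iterate_succ_apply]

theorem twist_injective (F : N →ₛₗ[τ] N) (hF : Function.Injective F) (r : ℤ) (s : ℕ) :
    Function.Injective (((p : FractionRing (WittVector p k)) ^ r) • Isoc.iter F s) := by
  have hp := pL_ne_zero p k
  intro x y hxy
  rw [LinearMap.smul_apply, LinearMap.smul_apply] at hxy
  have h1 := smul_right_injective N (zpow_ne_zero r hp) hxy
  exact (hF.iterate s) h1

/-- Splitting off the slope `r/s` part. -/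
theorem exists_split (F : N →ₛₗ[τ] N) (hτ : Good τ) (hF : Function.Bijective F) {h : ℕ}
    (b : Module.Basis (Fin h) 𝕃 N) (r : ℤ) (s : ℕ) (hs : 0 < s) {M : Submodule 𝕎 N}
    (hM : M.IsLattice 𝕃) (hFM : Isoc.latImg F s M ≤ Isoc.pPow r M)
    (hnQ : ∀ n : ℕ, 1 ≤ n → ¬ Isoc.latImg F (s * n) M ≤ Isoc.pPow (r * n + 1) M) :
    ∃ N₁ N₂ : Submodule 𝕃 N, (∀ x ∈ N₁, F x ∈ N₁) ∧ (∀ x ∈ N₂, F x ∈ N₂) ∧
      IsoclinicOn F ((r : ℚ) / s) N₁ ∧ N₂ ≠ ⊤ ∧ N₁ ⊔ N₂ = ⊤ := by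
  obtain ⟨G, hG⟩ : ∃ G, G = ((p : FractionRing (WittVector p k)) ^ (-r)) • Isoc.iter F s :=
    ⟨_, rfl⟩
  have hσ := hτ.pow s
  have hGs : Function.Surjective G := by rw [hG]; exact twist_surjective F hF.surjective (-r) s
  have hGi : Function.Injective G := by rw [hG]; exact twist_injective F hF.injective (-r) s
  have hcomm : ∀ x, F (G x) = G (F x) := by rw [hG]; exact twist_comm F (-r) s
  have hGM : Isoc.latImg G 1 M ≤ M := by
    rw [hG, latImg_twist_one_le_iff F hτ (-r) s, neg_neg]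
    exact hFM
  refine ⟨Submodule.span 𝕃 (fitM1 G M : Set N), Submodule.span 𝕃 (fitM2 G hσ M hGM : Set N),
    fitM1_stable F hτ hF.surjective G hσ hcomm hM,
    fitM2_stable F hτ hF.surjective G hσ hcomm hM hGM, ?_, ?_,
    span_fitM1_sup_span_fitM2 G hσ hGs b hM hGM⟩
  · refine ⟨fitM1 G M, Submodule.FG.of_le hM.fg (fitM1_le G M), rfl, r, s, hs, rfl, ?_⟩
    have h1 := latImg_fitM1 G hσ hGi hGM
    rw [hG, latImg_twist F hτ (-r) s 1 (fitM1 _ M), Nat.cast_one, mul_one, mul_one] at h1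
    rw [← hG] at h1
    have h2 := congrArg (Isoc.pPow r) h1
    rwa [← pPow_add, add_neg_cancel, pPow_zero] at h2
  · intro htop
    obtain ⟨n, hn1, hn⟩ := exists_latImg_le_of_span_fitM2 G hσ hM hGM htop
    apply hnQ n hn1
    rw [hG, latImg_twist F hτ (-r) s n M, pPow_le_iff] at hn
    refine hn.trans (le_of_eq ?_)
    rw [← pPow_add]
    congr 1
    ring

end Main

end Groth.Agent.Lib.Helper25.Isoc
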