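import Mathlib
import Groth.Prelude.Def_Isoc
import Groth.Agent.Lib.Helper25.IsocLib
import Groth.Agent.Lib.Helper25.IsocLib2
import Groth.Agent.Lib.Helper25.IsocDet

/-!
# Helper library for the `Isoc` statements (helper25): determinants, part 2

* `pPow_le_img_of_isUnit_det` : if the matrix of `G` is `p^r B` with `det B` a unit then
  `p^r M ≤ G M`.
* `img_eq_of_isOrdP_det` : `G M ≤ p^r M` and `ord det G = r h` imply `G M = p^r M`.
-/

set_option autoImplicit false

universe u v w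

open scoped Pointwise

namespace Groth.Agent.Lib.Helper25.Isoc

section A

variable {p : ℕ} [Fact p.Prime] {k : Type u} [Field k] [CharP k p] [PerfectRing k p]
variable {N : Type v} [AddCommGroup N] [Module (WittVector p k) N]
  [Module (FractionRing (WittVector p k)) N]
  [IsScalarTower (WittVector p k) (FractionRing (WittVector p k)) N]
variable {σ : FractionRing (WittVector p k) →+* FractionRing (WittVector p k)}

local notation "𝕎" => WittVector p k
local notation "𝕃" => FractionRing (WittVector p k)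

theorem pPow_le_img_of_isUnit_det {h : ℕ} {e : Module.Basis (Fin h) 𝕃 N} {M : Submodule 𝕎 N}
    (he : IsLatticeBasis e M) (G : N →ₛₗ[σ] N) (hσ : Good σ) {r : ℤ}
    (B : Matrix (Fin h) (Fin h) 𝕎)
    (hB : smat e G = ((p : 𝕃) ^ r) • B.map (algebraMap 𝕎 𝕃)) (hu : IsUnit B.det) :
    Isoc.pPow r M ≤ img G M := by
  classical
  have hp := pL_ne_zero p k
  obtain ⟨U, hU⟩ := (Matrix.isUnit_iff_isUnit_det B).2 hu
  have hBU : B * (↑U⁻¹ : Matrix (Fin h) (Fin h) 𝕎) = 1 := by rw [← hU]; exact U.mul_inv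
  intro y hy
  have hy' := (he _).1 (mem_pPow_iff'.1 hy)
  choose w hw using hy'
  obtain ⟨v, hv⟩ : ∃ v : Fin h → 𝕎, v = (↑U⁻¹ : Matrix (Fin h) (Fin h) 𝕎).mulVec w := ⟨_, rfl⟩
  have hBv : B.mulVec v = w := by
    rw [hv, Matrix.mulVec_mulVec, hBU, Matrix.one_mulVec]
  have h1 : ∀ j, ∃ x : 𝕎, σ (algebraMap 𝕎 𝕃 x) = algebraMap 𝕎 𝕃 (v j) := fun j => hσ.2 (v j)
  choose x hx using h1
  rw [mem_img G hσ]
  refine ⟨∑ j, algebraMap 𝕎 𝕃 (x j) • e j, (he _).2 (fun i => ⟨x i, ?_⟩), ?_⟩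
  · rw [Module.Basis.repr_sum_self]
  · apply e.repr.injective
    ext i
    rw [repr_apply_eq]
    have h5 : ∀ j, smat e G i j * σ (e.repr (∑ j, algebraMap 𝕎 𝕃 (x j) • e j) j) =
        (p : 𝕃) ^ r * (algebraMap 𝕎 𝕃 (B i j) * algebraMap 𝕎 𝕃 (v j)) := by
      intro j
      rw [Module.Basis.repr_sum_self, hx, hB, Matrix.smul_apply, Matrix.map_apply, smul_eq_mul,
        mul_assoc]
    rw [Finset.sum_congr rfl (fun j _ => h5 j), ← Finset.mul_sum]
    have h6 : ∑ j, algebraMap 𝕎 𝕃 (B i j) * algebraMap 𝕎 𝕃 (v j) = algebraMap 𝕎 𝕃 (w i) := by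
      rw [← hBv]
      simp only [Matrix.mulVec, dotProduct, map_sum, map_mul]
    rw [h6, ← hw i, map_smul, Finsupp.smul_apply, smul_eq_mul, ← mul_assoc, ← zpow_add₀ hp,
      add_neg_cancel, zpow_zero, one_mul]

theorem img_eq_of_isOrdP_det {h : ℕ} {e : Module.Basis (Fin h) 𝕃 N} {M : Submodule 𝕎 N}
    (he : IsLatticeBasis e M) (G : N →ₛₗ[σ] N) (hσ : Good σ) {r : ℤ}
    (hG : img G M ≤ Isoc.pPow r M) (hdet : Isoc.IsOrdP (smat e G).det (r * h)) :
    img G M = Isoc.pPow r M := by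
  have hp := pL_ne_zero p k
  obtain ⟨B, hB⟩ := exists_intMatrix_of_img_le he G hG
  have hd := det_of_intMatrix (p := p) (k := k) (smat e G) B r hB
  obtain ⟨u, hu⟩ := hdet
  rw [hd] at hu
  have h2 := mul_left_cancel₀ (zpow_ne_zero (r * h) hp) hu
  have h3 : B.det = u := IsFractionRing.injective 𝕎 𝕃 h2
  exact le_antisymm hG (pPow_le_img_of_isUnit_det he G hσ B hB (by rw [h3]; exact u.isUnit))

end A

end Groth.Agent.Lib.Helper25.Isoc
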