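import Mathlib
import Groth.Prelude.Def_Isoc
import Groth.Agent.Lib.Helper25.IsocLib
import Groth.Agent.Lib.Helper25.IsocLib2
import Groth.Agent.Lib.Helper25.IsocDet
import Groth.Agent.Lib.Helper25.IsocIndep

/-!
# Helper library for the `Isoc` statements (helper25): determinant over an internal direct sum

* `det_smat_collected` : the determinant of a semilinear map preserving the summands of an internal
  direct sum is the product of the determinants on the summands.
* `isOrdP_prod`.
-/

set_option autoImplicit false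

universe u v w

open scoped Pointwise

namespace Groth.Agent.Lib.Helper25.Isoc

section Block

variable {K : Type u} [CommRing K] {N : Type v} [AddCommGroup N] [Module K N]
variable {σ : K →+* K}

theorem smat_reindex {ι : Type w} [Fintype ι] [DecidableEq ι] {n : ℕ}
    (cb : Module.Basis ι K N) (e : ι ≃ Fin n) (G : N →ₛₗ[σ] N) :
    smat (cb.reindex e) G =
      Matrix.reindex e e (Matrix.of fun a c : ι => cb.repr (G (cb c)) a) := by
  ext i j
  rw [smat_apply, Module.Basis.repr_reindex_apply, Module.Basis.reindex_apply]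
  rfl

theorem det_smat_collected {ι : Type w} [Fintype ι] [DecidableEq ι] [LinearOrder ι]
    (A : ι → Submodule K N) (hA : DirectSum.IsInternal A) (hn : ι → ℕ)
    (v : ∀ i, Module.Basis (Fin (hn i)) K (A i)) (G : N →ₛₗ[σ] N)
    (hG : ∀ i, ∀ x ∈ A i, G x ∈ A i) {n : ℕ} (e : (Σ i, Fin (hn i)) ≃ Fin n) :
    (smat ((hA.collectedBasis v).reindex e) G).det =
      ∏ i, (smat (v i) (G.restrict (hG i))).det := by
  classical
  rw [smat_reindex (hA.collectedBasis v) e G, Matrix.det_reindex_self]
  have hcoe : ∀ c : Σ i, Fin (hn i), hA.collectedBasis v c = ((v c.1 c.2 : A c.1) : N) := by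
    intro c
    rw [DirectSum.IsInternal.collectedBasis_coe]
  have hmem : ∀ c : Σ i, Fin (hn i), G (hA.collectedBasis v c) ∈ A c.1 := by
    intro c
    rw [hcoe]
    exact hG c.1 _ (v c.1 c.2).2
  have hBT : Matrix.BlockTriangular
      (Matrix.of fun a c : Σ i, Fin (hn i) =>
        (hA.collectedBasis v).repr (G (hA.collectedBasis v c)) a) Sigma.fst := by
    intro a c hlt
    rw [Matrix.of_apply]
    obtain ⟨i, x⟩ := a
    exact DirectSum.IsInternal.collectedBasis_repr_of_mem_ne hA v (ne_of_lt hlt) (hmem c)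
  rw [hBT.det_fintype]
  apply Finset.prod_congr rfl
  intro i _
  rw [← Matrix.det_submatrix_equiv_self
    (Equiv.sigmaSubtype (β := fun j : ι => Fin (hn j)) i).symm]
  congr 1
  ext x y
  rw [Matrix.submatrix_apply, Matrix.toSquareBlock_def, Matrix.of_apply, Matrix.of_apply,
    smat_apply]
  have e1 : (((Equiv.sigmaSubtype (β := fun j : ι => Fin (hn j)) i).symm x :
      {s : Σ j, Fin (hn j) // s.1 = i}) : Σ j, Fin (hn j)) = ⟨i, x⟩ := rfl
  have e2 : (((Equiv.sigmaSubtype (β := fun j : ι => Fin (hn j)) i).symm y :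
      {s : Σ j, Fin (hn j) // s.1 = i}) : Σ j, Fin (hn j)) = ⟨i, y⟩ := rfl
  rw [e1, e2, DirectSum.IsInternal.collectedBasis_repr_of_mem hA v (hmem ⟨i, y⟩)]
  congr 2
  apply Subtype.ext
  show G (hA.collectedBasis v ⟨i, y⟩) = G ((v i y : A i) : N)
  exact congrArg G (hcoe ⟨i, y⟩)

end Block

section OrdProd

variable {p : ℕ} [Fact p.Prime] {k : Type u} [Field k] [CharP k p] [PerfectRing k p]

local notation "𝕎" => WittVector p k
local notation "𝕃" => FractionRing (WittVector p k)

theorem isOrdP_prod {ι : Type w} (s : Finset ι) (c : ι → FractionRing (WittVector p k))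
    (d : ι → ℤ) (h : ∀ i ∈ s, Isoc.IsOrdP (c i) (d i)) :
    Isoc.IsOrdP (∏ i ∈ s, c i) (∑ i ∈ s, d i) := by
  classical
  induction s using Finset.induction_on with
  | empty => simpa using isOrdP_one (p := p) (k := k)
  | insert a s ha ih =>
    rw [Finset.prod_insert ha, Finset.sum_insert ha]
    exact isOrdP_mul (h a (Finset.mem_insert_self a s))
      (ih (fun i hi => h i (Finset.mem_insert_of_mem hi)))

end OrdProd

end Groth.Agent.Lib.Helper25.Isoc
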