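import Mathlib
import Groth.Prelude.Def_Isoc
import Groth.Agent.Lib.Helper25.IsocLib
import Groth.Agent.Lib.Helper25.IsocLib2
import Groth.Agent.Lib.Helper25.IsocLib3
import Groth.Agent.Lib.Helper25.IsocDet
import Groth.Agent.Lib.Helper25.IsocIndep

/-!
# Helper library for the `Isoc` statements (helper25): roots of the characteristic polynomial
of a linear power of Frobenius on an isoclinic isocrystal.
-/

set_option autoImplicit false

universe u v w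

open scoped Pointwise

namespace Groth.Agent.Lib.Helper25.Isoc

section Block

variable {K : Type u} [CommRing K] [Nontrivial K] {N : Type v} [AddCommGroup N] [Module K N]

theorem charpoly_collected {ι : Type w} [Fintype ι] [DecidableEq ι] [LinearOrder ι]
    (A : ι → Submodule K N) (hA : DirectSum.IsInternal A) (hn : ι → ℕ)
    (v : ∀ i, Module.Basis (Fin (hn i)) K (A i)) (f : N →ₗ[K] N)
    (hf : ∀ i, Set.MapsTo f (A i) (A i)) :
    haveI : Module.Free K N := Module.Free.of_basis (hA.collectedBasis v)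
    haveI : Module.Finite K N := Module.Finite.of_basis (hA.collectedBasis v)
    haveI : ∀ i, Module.Free K (A i) := fun i => Module.Free.of_basis (v i)
    haveI : ∀ i, Module.Finite K (A i) := fun i => Module.Finite.of_basis (v i)
    f.charpoly = ∏ i, (f.restrict (hf i)).charpoly := by
  classical
  haveI : Module.Free K N := Module.Free.of_basis (hA.collectedBasis v)
  haveI : Module.Finite K N := Module.Finite.of_basis (hA.collectedBasis v)
  haveI : ∀ i, Module.Free K (A i) := fun i => Module.Free.of_basis (v i)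
  haveI : ∀ i, Module.Finite K (A i) := fun i => Module.Finite.of_basis (v i)
  show f.charpoly = ∏ i, (f.restrict (hf i)).charpoly
  rw [← LinearMap.charpoly_toMatrix f (hA.collectedBasis v),
    LinearMap.toMatrix_directSum_collectedBasis_eq_blockDiagonal' hA hA v v hf]
  have hBT := Matrix.blockTriangular_blockDiagonal'
    (fun i => LinearMap.toMatrix (v i) (v i) (f.restrict (hf i)))
  rw [Matrix.charpoly, hBT.charmatrix.det_fintype]
  apply Finset.prod_congr rfl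
  intro i _
  rw [← LinearMap.charpoly_toMatrix (f.restrict (hf i)) (v i), Matrix.charpoly,
    ← Matrix.charmatrix_toSquareBlock,
    ← Matrix.det_submatrix_equiv_self
      (Equiv.sigmaSubtype (β := fun j : ι => Fin (hn j)) i).symm]
  congr 1
  ext x y : 1
  rw [Matrix.submatrix_apply]
  have e1 : (((Equiv.sigmaSubtype (β := fun j : ι => Fin (hn j)) i).symm x :
      {s : Σ j, Fin (hn j) // s.1 = i}) : Σ j, Fin (hn j)) = ⟨i, x⟩ := rfl
  have e2 : (((Equiv.sigmaSubtype (β := fun j : ι => Fin (hn j)) i).symm y :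
      {s : Σ j, Fin (hn j) // s.1 = i}) : Σ j, Fin (hn j)) = ⟨i, y⟩ := rfl
  rw [Matrix.charmatrix_apply, Matrix.charmatrix_apply, Matrix.toSquareBlock_def,
    Matrix.of_apply, e1, e2, Matrix.blockDiagonal'_apply_eq]
  congr 1
  simp only [Matrix.diagonal_apply]
  by_cases hxy : x = y
  · subst hxy; simp
  · rw [if_neg hxy, if_neg]
    intro h
    apply hxy
    exact (Equiv.sigmaSubtype (β := fun j : ι => Fin (hn j)) i).symm.injective h

end Block

section Integral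

variable {R : Type u} [CommRing R] {Ω : Type w} [Field Ω] [Algebra R Ω]

theorem isIntegral_of_mulVec_eq {n : ℕ} (B : Matrix (Fin n) (Fin n) R) (v : Fin n → Ω)
    (hv : v ≠ 0) (β : Ω) (h : (B.map (algebraMap R Ω)).mulVec v = β • v) : IsIntegral R β := by
  have hev : Module.End.HasEigenvalue (Matrix.toLin' (B.map (algebraMap R Ω))) β := by
    apply Module.End.hasEigenvalue_of_hasEigenvector (x := v)
    refine ⟨?_, hv⟩
    rw [Module.End.mem_eigenspace_iff, Matrix.toLin'_apply, h]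
  rw [Module.End.hasEigenvalue_iff_isRoot_charpoly, Matrix.charpoly_toLin',
    Matrix.charpoly_map] at hev
  refine ⟨B.charpoly, Matrix.charpoly_monic B, ?_⟩
  rw [← Polynomial.eval_map]
  exact hev

end Integral

section Roots

variable {p : ℕ} [Fact p.Prime] {k : Type u} [Field k] [CharP k p] [PerfectRing k p]
variable {N : Type v} [AddCommGroup N] [Module (WittVector p k) N]
  [Module (FractionRing (WittVector p k)) N]
  [IsScalarTower (WittVector p k) (FractionRing (WittVector p k)) N]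
variable {τ : FractionRing (WittVector p k) →+* FractionRing (WittVector p k)}
variable {Ω : Type w} [Field Ω] [Algebra (WittVector p k) Ω]
  [Algebra (FractionRing (WittVector p k)) Ω]
  [IsScalarTower (WittVector p k) (FractionRing (WittVector p k)) Ω]

local notation "𝕎" => WittVector p k
local notation "𝕃" => FractionRing (WittVector p k)

theorem mulVec_pow_eigen {n : ℕ} (A : Matrix (Fin n) (Fin n) Ω) (v : Fin n → Ω) (α : Ω)
    (h : A.mulVec v = α • v) (s : ℕ) : (A ^ s).mulVec v = α ^ s • v := by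
  induction s with
  | zero => simp
  | succ s ih =>
    rw [pow_succ, ← Matrix.mulVec_mulVec, h, Matrix.mulVec_smul, ih, smul_smul, pow_succ,
      mul_comm]

theorem roots_isoclinic [Module.Finite 𝕃 N] (F : N →ₛₗ[τ] N) (hτ : Good τ) (ψ : N →ₗ[𝕃] N)
    (m : ℕ) (hψ : ∀ x, ψ x = (⇑F)^[m] x) {M : Submodule 𝕎 N} (hM : M.IsLattice 𝕃) {r : ℤ}
    {s : ℕ} (hs : 0 < s) (hFM : Isoc.latImg F s M = Isoc.pPow r M) (α : Ω)
    (hα : α ∈ (ψ.charpoly.map (algebraMap 𝕃 Ω)).roots) :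
    α ≠ 0 ∧ IsIntegral 𝕎 (α ^ s * (algebraMap 𝕃 Ω (p : 𝕃)) ^ (-(r * (m : ℤ)))) ∧
      IsIntegral 𝕎 (α ^ s * (algebraMap 𝕃 Ω (p : 𝕃)) ^ (-(r * (m : ℤ))))⁻¹ := by
  classical
  have hp := pL_ne_zero p k
  obtain ⟨n, hn⟩ : ∃ n, n = Module.finrank 𝕃 N := ⟨_, rfl⟩
  let b : Module.Basis (Fin n) 𝕃 N := (Module.finBasis 𝕃 N).reindex (finCongr hn.symm)
  obtain ⟨e, he⟩ := exists_latticeBasis b hM
  let G : N →ₛₗ[RingHom.id 𝕃] N := ψ ^ s
  have hGx : ∀ x, G x = (⇑F)^[s * m] x := by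
    intro x
    show (ψ ^ s) x = _
    rw [Module.End.pow_apply]
    have : (⇑ψ) = (⇑F)^[m] := funext hψ
    rw [this, ← Function.iterate_mul, mul_comm]
  have hG : img G M = Isoc.pPow (r * m) M := by
    rw [← latImg_mul_eq F hτ hFM m]
    show Submodule.span _ _ = Submodule.span _ _
    congr 1
    exact Set.image_congr (fun x _ => hGx x)
  have hgood : Good (RingHom.id 𝕃) := good_one
  obtain ⟨B, hB⟩ := exists_intMatrix_of_img_le he G hG.le
  have hu := isUnit_det_of_img_eq he G hgood hG B hB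
  obtain ⟨A, hAdef⟩ : ∃ A, A = LinearMap.toMatrix e e ψ := ⟨_, rfl⟩
  have hA : A ^ s = ((p : 𝕃) ^ (r * m)) • B.map (algebraMap 𝕎 𝕃) := by
    rw [← hB, hAdef, LinearMap.toMatrix_pow]
    ext i j
    rw [LinearMap.toMatrix_apply, smat_apply]
  -- over Ω
  have hcp : ψ.charpoly.map (algebraMap 𝕃 Ω) = (A.map (algebraMap 𝕃 Ω)).charpoly := by
    rw [Matrix.charpoly_map, hAdef, LinearMap.charpoly_toMatrix]
  rw [hcp, Polynomial.mem_roots (Matrix.charpoly_monic _).ne_zero,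
    ← Matrix.charpoly_toLin', ← Module.End.hasEigenvalue_iff_isRoot_charpoly] at hα
  obtain ⟨v, hv⟩ := hα.exists_hasEigenvector
  have hv0 : v ≠ 0 := hv.2
  have hAv : (A.map (algebraMap 𝕃 Ω)).mulVec v = α • v := by
    have := hv.apply_eq_smul
    rwa [Matrix.toLin'_apply] at this
  have hAs := mulVec_pow_eigen _ v α hAv s
  have hmap : (A.map (algebraMap 𝕃 Ω)) ^ s =
      (algebraMap 𝕃 Ω ((p : 𝕃) ^ (r * m))) • B.map (algebraMap 𝕎 Ω) := by
    have h1 : (A.map (algebraMap 𝕃 Ω)) ^ s = (A ^ s).map (algebraMap 𝕃 Ω) := by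
      have := map_pow (algebraMap 𝕃 Ω).mapMatrix A s
      simpa [RingHom.mapMatrix_apply] using this.symm
    rw [h1, hA]
    ext i j
    simp only [Matrix.map_apply, Matrix.smul_apply, smul_eq_mul, map_mul]
    rw [← IsScalarTower.algebraMap_apply]
  set c : Ω := algebraMap 𝕃 Ω ((p : 𝕃) ^ (r * m)) with hc
  have hc0 : c ≠ 0 := by
    rw [hc]
    exact (map_ne_zero _).2 (zpow_ne_zero _ hp)
  have hcinv : c⁻¹ = (algebraMap 𝕃 Ω (p : 𝕃)) ^ (-(r * (m : ℤ))) := by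
    rw [hc, map_zpow₀, zpow_neg]
  set β : Ω := α ^ s * (algebraMap 𝕃 Ω (p : 𝕃)) ^ (-(r * (m : ℤ))) with hβ
  have hBv : (B.map (algebraMap 𝕎 Ω)).mulVec v = β • v := by
    rw [hmap, Matrix.smul_mulVec] at hAs
    have h2 : c⁻¹ • (c • (B.map (algebraMap 𝕎 Ω)).mulVec v) = c⁻¹ • (α ^ s • v) := by rw [hAs]
    rw [smul_smul, inv_mul_cancel₀ hc0, one_smul, smul_smul, hcinv, mul_comm] at h2
    exact h2
  have hinv : (B⁻¹ * B) = 1 := Matrix.nonsing_inv_mul B hu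
  have hinv' : (B⁻¹.map (algebraMap 𝕎 Ω)) * (B.map (algebraMap 𝕎 Ω)) = 1 := by
    rw [← Matrix.map_mul, hinv, Matrix.map_one _ (map_zero _) (map_one _)]
  have hv' : v = β • (B⁻¹.map (algebraMap 𝕎 Ω)).mulVec v := by
    have h3 : ((B⁻¹.map (algebraMap 𝕎 Ω)) * (B.map (algebraMap 𝕎 Ω))).mulVec v = v := by
      rw [hinv', Matrix.one_mulVec]
    rw [← Matrix.mulVec_mulVec, hBv, Matrix.mulVec_smul] at h3
    exact h3.symm
  have hβ0 : β ≠ 0 := by
    intro h0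
    rw [h0, zero_smul] at hv'
    exact hv0 hv'
  have hB'v : (B⁻¹.map (algebraMap 𝕎 Ω)).mulVec v = β⁻¹ • v := by
    conv_rhs => rw [hv']
    rw [smul_smul, inv_mul_cancel₀ hβ0, one_smul]
  refine ⟨?_, isIntegral_of_mulVec_eq B v hv0 β hBv, isIntegral_of_mulVec_eq B⁻¹ v hv0 β⁻¹ hB'v⟩
  rintro rfl
  apply hβ0
  rw [hβ, zero_pow hs.ne', zero_mul]

theorem nonneg_of_isIntegral_zpow (E : ℤ)
    (h : IsIntegral 𝕎 ((algebraMap 𝕃 Ω (p : 𝕃)) ^ E)) : 0 ≤ E := by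
  rw [← map_zpow₀] at h
  have h1 : IsIntegral 𝕎 ((p : 𝕃) ^ E) :=
    (isIntegral_algebraMap_iff (algebraMap 𝕃 Ω).injective).1 h
  obtain ⟨w, hw⟩ := IsIntegrallyClosed.isIntegral_iff.1 h1
  exact isOrdP_le (p := p) (k := k) (isOrdP_p_zpow E) (m := 0) (w := w)
    (by rw [zpow_zero, one_mul, hw])

theorem pΩ_ne_zero : algebraMap 𝕃 Ω (p : 𝕃) ≠ 0 :=
  (map_ne_zero _).2 (pL_ne_zero p k)

/-- the key exponent computation -/
theorem zpow_combine {α P : Ω} (hα : α ≠ 0) (hP : P ≠ 0) (d d' : ℕ) (e e' : ℤ) :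
    (α ^ d * P ^ e) ^ d' * ((α ^ d' * P ^ e')⁻¹) ^ d = P ^ (e * d' - e' * d) := by
  have h1 : (α ^ d * P ^ e) ^ d' = α ^ (d * d') * P ^ (e * d') := by
    rw [mul_pow, ← pow_mul, ← zpow_natCast (P ^ e) d', ← zpow_mul]
  have h2 : ((α ^ d' * P ^ e')⁻¹) ^ d = (α ^ (d * d'))⁻¹ * P ^ (-(e' * d)) := by
    rw [inv_pow, mul_pow, ← pow_mul, mul_comm d' d, mul_inv, ← zpow_natCast (P ^ e') d,
      ← zpow_mul, ← zpow_neg]
  rw [h1, h2]
  have h3 : α ^ (d * d') ≠ 0 := pow_ne_zero _ hα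
  rw [sub_eq_add_neg, zpow_add₀ hP]
  field_simp

theorem slope_le_of_integral {m : ℕ} {α : Ω} (hα : α ≠ 0) {ν ν' : ℚ}
    (h : IsIntegral 𝕎 (α ^ ν.den * (algebraMap 𝕃 Ω (p : 𝕃)) ^ (-(ν.num * (m : ℤ)))))
    (h' : IsIntegral 𝕎 (α ^ ν'.den * (algebraMap 𝕃 Ω (p : 𝕃)) ^ (-(ν'.num * (m : ℤ))))⁻¹) :
    0 ≤ (m : ℤ) * (ν'.num * ν.den - ν.num * ν'.den) := by
  have hP : algebraMap 𝕃 Ω (p : 𝕃) ≠ 0 := pΩ_ne_zero
  have hcomb := zpow_combine hα hP ν.den ν'.den (-(ν.num * (m : ℤ))) (-(ν'.num * (m : ℤ)))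
  have hint : IsIntegral 𝕎 ((algebraMap 𝕃 Ω (p : 𝕃)) ^
      (-(ν.num * (m : ℤ)) * ν'.den - -(ν'.num * (m : ℤ)) * ν.den)) := by
    rw [← hcomb]
    exact (h.pow _).mul (h'.pow _)
  have := nonneg_of_isIntegral_zpow _ hint
  linarith

theorem slope_unique_of_integral {m : ℕ} (hm : m ≠ 0) {α : Ω} (hα : α ≠ 0) {ν ν' : ℚ}
    (h1 : IsIntegral 𝕎 (α ^ ν.den * (algebraMap 𝕃 Ω (p : 𝕃)) ^ (-(ν.num * (m : ℤ)))))
    (h2 : IsIntegral 𝕎 (α ^ ν.den * (algebraMap 𝕃 Ω (p : 𝕃)) ^ (-(ν.num * (m : ℤ))))⁻¹)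
    (h1' : IsIntegral 𝕎 (α ^ ν'.den * (algebraMap 𝕃 Ω (p : 𝕃)) ^ (-(ν'.num * (m : ℤ)))))
    (h2' : IsIntegral 𝕎 (α ^ ν'.den * (algebraMap 𝕃 Ω (p : 𝕃)) ^ (-(ν'.num * (m : ℤ))))⁻¹) :
    ν = ν' := by
  have ha := slope_le_of_integral hα h1 h2'
  have hb := slope_le_of_integral hα h1' h2
  have hm' : (0 : ℤ) < m := by exact_mod_cast Nat.pos_of_ne_zero hm
  have hE : ν'.num * ν.den - ν.num * ν'.den = 0 := by
    have h3 : 0 ≤ ν'.num * ν.den - ν.num * ν'.den := nonneg_of_mul_nonneg_right ha hm'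
    have h4 : 0 ≤ ν.num * ν'.den - ν'.num * ν.den := nonneg_of_mul_nonneg_right hb hm'
    linarith
  rw [Rat.eq_iff_mul_eq_mul]
  linarith

theorem pred_of_roots_isoclinic [Module.Finite 𝕃 N] (F : N →ₛₗ[τ] N) (hτ : Good τ)
    (ψ : N →ₗ[𝕃] N)
    (m : ℕ) (hψ : ∀ x, ψ x = (⇑F)^[m] x) {M : Submodule 𝕎 N} (hM : M.IsLattice 𝕃) {r : ℤ}
    {s : ℕ} (hs : 0 < s) (hFM : Isoc.latImg F s M = Isoc.pPow r M) {ν : ℚ}
    (hrs : (r : ℚ) / s = ν) (α : Ω)
    (hα : α ∈ (ψ.charpoly.map (algebraMap 𝕃 Ω)).roots) :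
    α ≠ 0 ∧ IsIntegral 𝕎 (α ^ ν.den * (algebraMap 𝕃 Ω (p : 𝕃)) ^ (-(ν.num * (m : ℤ)))) ∧
      IsIntegral 𝕎 (α ^ ν.den * (algebraMap 𝕃 Ω (p : 𝕃)) ^ (-(ν.num * (m : ℤ))))⁻¹ := by
  obtain ⟨hα0, hy, hy'⟩ := roots_isoclinic F hτ ψ m hψ hM hs hFM α hα
  have hP : algebraMap 𝕃 Ω (p : 𝕃) ≠ 0 := pΩ_ne_zero
  have hcross : r * ν.den = ν.num * s := by
    have hs' : (s : ℚ) ≠ 0 := by exact_mod_cast hs.ne'
    have hd : (ν.den : ℚ) ≠ 0 := by exact_mod_cast ν.den_ne_zero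
    have h1 : (r : ℚ) / s = (ν.num : ℚ) / (ν.den : ℚ) := by rw [hrs, Rat.num_div_den]
    rw [div_eq_div_iff hs' hd] at h1
    exact_mod_cast h1
  have hpow : (α ^ ν.den * (algebraMap 𝕃 Ω (p : 𝕃)) ^ (-(ν.num * (m : ℤ)))) ^ s =
      (α ^ s * (algebraMap 𝕃 Ω (p : 𝕃)) ^ (-(r * (m : ℤ)))) ^ ν.den := by
    rw [mul_pow, mul_pow, ← pow_mul, ← pow_mul, mul_comm ν.den s,
      ← zpow_natCast (_ ^ (-(ν.num * (m : ℤ)))) s, ← zpow_natCast (_ ^ (-(r * (m : ℤ)))) ν.den,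
      ← zpow_mul, ← zpow_mul]
    congr 2
    have : -(ν.num * (m : ℤ)) * s = -(ν.num * s) * m := by ring
    rw [this, ← hcross]
    ring
  refine ⟨hα0, ?_, ?_⟩
  · apply IsIntegral.of_pow hs
    rw [hpow]
    exact hy.pow _
  · apply IsIntegral.of_pow hs
    rw [inv_pow, hpow, ← inv_pow]
    exact hy'.pow _

end Roots

end Groth.Agent.Lib.Helper25.Isoc
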