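import Mathlib
import Groth.Prelude.Def_Isoc
import Groth.Agent.Lib.Helper25.IsocLib
import Groth.Agent.Lib.Helper25.IsocLib2

/-!
# Helper library for the `Isoc` statements (helper25): first slope of an isoclinic lattice
-/

set_option autoImplicit false

universe u v w

open scoped Pointwise
open Filter Topology

namespace Groth.Agent.Lib.Helper25.Isoc

section A

variable {p : ℕ} [Fact p.Prime] {k : Type u} [Field k] [CharP k p] [PerfectRing k p]
variable {N : Type v} [AddCommGroup N] [Module (WittVector p k) N]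
  [Module (FractionRing (WittVector p k)) N]
  [IsScalarTower (WittVector p k) (FractionRing (WittVector p k)) N]
variable {τ : FractionRing (WittVector p k) →+* FractionRing (WittVector p k)}

theorem isOrd_of_latImg_eq (F : N →ₛₗ[τ] N) (hτ : Good τ) {M : Submodule (WittVector p k) N}
    {r : ℤ} {s : ℕ} (hFM : Isoc.latImg F s M = Isoc.pPow r M) {t : ℕ} {c : ℤ}
    (hc : Isoc.IsOrd M F t c) (q : ℕ) : Isoc.IsOrd M F (s * q + t) (r * q + c) := by
  have e1 : Isoc.latImg F (s * q + t) M = Isoc.pPow (r * q) (Isoc.latImg F t M) := by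
    rw [add_comm, latImg_add F hτ t (s * q), latImg_mul_eq F hτ hFM q, latImg_pPow F hτ]
  constructor
  · rw [e1, pPow_add]
    exact pPow_mono hc.1
  · rw [e1, show r * q + c + 1 = r * q + (c + 1) by ring, pPow_add, pPow_le_pPow_iff]
    exact hc.2

theorem tendsto_of_periodic (o : ℕ → ℤ) (r : ℤ) (s : ℕ) (hs : 0 < s)
    (ho : ∀ q t : ℕ, o (s * q + t) = r * q + o t) :
    Tendsto (fun n : ℕ => (o n : ℝ) / n) atTop (𝓝 ((r : ℝ) / s)) := by
  have hs' : (s : ℝ) ≠ 0 := by exact_mod_cast hs.ne'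
  obtain ⟨g, hg⟩ : ∃ g : ℕ → ℝ, ∀ n, g n = (o (n % s) : ℝ) - r * ((n % s : ℕ) : ℝ) / s :=
    ⟨_, fun n => rfl⟩
  obtain ⟨C, hC⟩ : ∃ C : ℝ, ∀ n, |g n| ≤ C := by
    refine ⟨∑ t ∈ Finset.range s, |(o t : ℝ) - r * (t : ℝ) / s|, fun n => ?_⟩
    rw [hg]
    exact Finset.single_le_sum (f := fun t => |(o t : ℝ) - r * (t : ℝ) / s|)
      (fun i _ => abs_nonneg _) (Finset.mem_range.2 (Nat.mod_lt n hs))
  have h1 : Tendsto (fun n : ℕ => g n / n) atTop (𝓝 0) := by
    apply squeeze_zero_norm (a := fun n : ℕ => C / n)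
    · intro n
      rw [Real.norm_eq_abs, abs_div, Nat.abs_cast]
      exact div_le_div_of_nonneg_right (hC n) (Nat.cast_nonneg n)
    · exact tendsto_const_div_atTop_nhds_zero_nat C
  have h2 : Tendsto (fun n : ℕ => (r : ℝ) / s + g n / n) atTop (𝓝 ((r : ℝ) / s + 0)) :=
    tendsto_const_nhds.add h1
  rw [add_zero] at h2
  refine h2.congr' ?_
  filter_upwards [eventually_ge_atTop 1] with n hn
  have hn' : (n : ℝ) ≠ 0 := by
    have : 0 < n := hn
    exact_mod_cast this.ne'
  have h3 : o n = r * ((n / s : ℕ) : ℤ) + o (n % s) := by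
    conv_lhs => rw [← Nat.div_add_mod n s]
    exact ho _ _
  have h4 : (n : ℝ) = s * ((n / s : ℕ) : ℝ) + ((n % s : ℕ) : ℝ) := by
    exact_mod_cast (Nat.div_add_mod n s).symm
  rw [hg, h3]
  generalize n / s = Q at h4 ⊢
  generalize n % s = m at h4 ⊢
  push_cast
  field_simp
  rw [h4]
  ring

theorem isFirstSlope_of_latImg_eq [Nontrivial N] (F : N →ₛₗ[τ] N) (hτ : Good τ)
    (hF : Function.Surjective F) {M : Submodule (WittVector p k) N}
    (hM : M.IsLattice (FractionRing (WittVector p k))) {r : ℤ} {s : ℕ} (hs : 0 < s)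
    (hFM : Isoc.latImg F s M = Isoc.pPow r M) : Isoc.IsFirstSlope F ((r : ℝ) / s) := by
  have hM0 : M ≠ ⊥ := ne_bot_of_isLattice hM
  choose o ho using fun n => exists_isOrd F hτ hF hM hM0 n
  refine ⟨M, hM, o, fun n _ => ho n, ?_⟩
  apply tendsto_of_periodic o r s hs
  intro q t
  exact isOrd_unique (ho _) (isOrd_of_latImg_eq F hτ hFM (ho t) q)

end A

end Groth.Agent.Lib.Helper25.Isoc
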