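import Mathlib
import Groth.Prelude.Def_Found
import Groth.Agent.Lib.Helper25.Kaplansky

/-!
# Kaplansky: projective modules over local rings are free
-/

namespace Groth.Agent.Lib.Helper25.KaplanskyLocal

open Groth.Agent.Lib.Helper25

universe u

section Reduce

variable {R : Type*} [CommRing R] {E : Type*} [AddCommGroup E] [Module R E]

open Module in
theorem reduce {ι : Type*} [DecidableEq ι] (b : Basis ι R E) (v : E) (j : ι) (hj : j ∈ (b.repr v).support)
    (c : ι → R)
    (hc : b.repr v j = ∑ i ∈ (b.repr v).support.erase j, c i * b.repr v i) :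
    ∃ b' : Basis ι R E, (b'.repr v).support.card < (b.repr v).support.card := by
  classical
  let φ : E →ₗ[R] R := ∑ i ∈ (b.repr v).support.erase j, c i • b.coord i
  have hφ : ∀ z, φ z = ∑ i ∈ (b.repr v).support.erase j, c i * b.repr z i := by
    intro z
    simp [φ, LinearMap.sum_apply, Basis.coord_apply]
  have hφj : φ (b j) = 0 := by
    rw [hφ]
    refine Finset.sum_eq_zero fun i hi => ?_
    rw [b.repr_self, Finsupp.single_apply, if_neg (Finset.ne_of_mem_erase hi).symm, mul_zero]
  let N : E →ₗ[R] E := (LinearMap.toSpanSingleton R E (b j)) ∘ₗ φ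
  have hN : ∀ z, N z = φ z • b j := fun z => rfl
  have hNN : ∀ z, N (N z) = 0 := by
    intro z
    rw [hN, hN, map_smul, hφj, smul_zero, zero_smul]
  let T : E ≃ₗ[R] E := LinearEquiv.ofLinearMap (LinearMap.id + N) (LinearMap.id - N)
    (LinearMap.ext fun z => by
      simp only [LinearMap.comp_apply, LinearMap.add_apply, LinearMap.sub_apply,
        LinearMap.id_apply, map_sub, hNN, sub_zero]
      abel)
    (LinearMap.ext fun z => by
      simp only [LinearMap.comp_apply, LinearMap.add_apply, LinearMap.sub_apply,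
        LinearMap.id_apply, map_add, hNN, add_zero]
      abel)
  refine ⟨b.map T, ?_⟩
  let w : E := v - b.repr v j • b j
  have hw : b.repr w = (b.repr v).erase j := by
    simp only [w, map_sub, map_smul, b.repr_self]
    rw [Finsupp.erase_eq_sub_single, Finsupp.smul_single, smul_eq_mul, mul_one]
  have hφw : φ w = b.repr v j := by
    rw [hφ, hc, hw]
    refine Finset.sum_congr rfl fun i hi => ?_
    rw [Finsupp.erase_ne (Finset.ne_of_mem_erase hi)]
  have hTw : T w = v := by
    show w + N w = v
    rw [hN, hφw]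
    simp [w]
  have hrepr : (b.map T).repr v = (b.repr v).erase j := by
    calc (b.map T).repr v = (b.map T).repr (T w) := by rw [hTw]
      _ = b.repr w := by simp [Basis.map_repr]
      _ = _ := hw
  rw [hrepr, Finsupp.support_erase]
  exact Finset.card_erase_lt_of_mem hj

end Reduce

section Core

variable {R : Type*} [CommRing R] [IsLocalRing R] {E : Type*} [AddCommGroup E] [Module R E]
variable {P : Type*} [AddCommGroup P] [Module R P]

open Module in
theorem core {ι : Type*} [DecidableEq ι] (b : Basis ι R E) (s : P →ₗ[R] E) (p : E →ₗ[R] P)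
    (hps : ∀ z, p (s z) = z) (x : P) (a : ι →₀ R) (ha : b.repr (s x) = a)
    (hmin : ∀ j ∈ a.support, ∀ c : ι → R, a j ≠ ∑ i ∈ a.support.erase j, c i * a i) :
    ∃ F C : Submodule R P, IsCompl F C ∧ x ∈ F ∧ Module.Free R F := by
  classical
  have hv : s x = ∑ i ∈ a.support, a i • b i := by
    have := b.linearCombination_repr (s x)
    rw [ha, Finsupp.linearCombination_apply] at this
    exact this.symm
  have hx : x = ∑ i ∈ a.support, a i • p (b i) := by
    have := congrArg p hv
    rw [hps, map_sum] at this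
    simpa only [map_smul] using this
  let Bf : ι → ι → R := fun i j => b.repr (s (p (b i))) j
  have hI : ∀ j, a j = ∑ i ∈ a.support, a i * Bf i j := by
    intro j
    calc a j = b.repr (s x) j := by rw [ha]
      _ = b.repr (s (∑ i ∈ a.support, a i • p (b i))) j := by rw [← hx]
      _ = ∑ i ∈ a.support, a i * Bf i j := by
        simp only [map_sum, map_smul, Finsupp.coe_finsetSum, Finsupp.coe_smul,
          Finset.sum_apply, Pi.smul_apply, smul_eq_mul, Bf]
  have hD : ∀ i₀ ∈ a.support, ∀ j₀ ∈ a.support,
      ¬ IsUnit ((if i₀ = j₀ then (1 : R) else 0) - Bf i₀ j₀) := by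
    intro i₀ hi₀ j₀ hj₀ hu
    obtain ⟨u, hu⟩ := hu
    have h0 : ∑ i ∈ a.support, a i * ((if i = j₀ then (1 : R) else 0) - Bf i j₀) = 0 := by
      simp only [mul_sub, Finset.sum_sub_distrib, mul_ite, mul_one, mul_zero]
      rw [Finset.sum_ite_eq' a.support j₀, if_pos hj₀, ← hI j₀, sub_self]
    rw [← Finset.add_sum_erase _ _ hi₀, ← hu] at h0
    refine hmin i₀ hi₀ (fun i => - (((if i = j₀ then (1 : R) else 0) - Bf i j₀) * ↑u⁻¹)) ?_
    have h1 : a i₀ = - (∑ i ∈ a.support.erase i₀,
        a i * ((if i = j₀ then (1 : R) else 0) - Bf i j₀)) * ↑u⁻¹ := by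
      have := eq_neg_of_add_eq_zero_left h0
      rw [← this, mul_assoc, Units.mul_inv, mul_one]
    conv_lhs => rw [h1]
    rw [neg_mul, Finset.sum_mul, ← Finset.sum_neg_distrib]
    refine Finset.sum_congr rfl fun i _ => by ring
  let B : Matrix a.support a.support R := fun i j => Bf i j
  have hBres : B.map (IsLocalRing.residue R) = 1 := by
    apply Matrix.ext
    intro i j
    have h := hD i i.2 j j.2
    have h' : IsLocalRing.residue R ((if (i : ι) = j then (1 : R) else 0) - Bf i j) = 0 :=
      (IsLocalRing.residue_eq_zero_iff _).2 ((IsLocalRing.mem_maximalIdeal _).2 h)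
    rw [map_sub, sub_eq_zero] at h'
    rw [Matrix.map_apply, Matrix.one_apply]
    show IsLocalRing.residue R (Bf i j) = _
    rw [← h']
    by_cases hij : i = j
    · rw [if_pos hij, if_pos (congrArg Subtype.val hij), map_one]
    · rw [if_neg hij, if_neg (fun h => hij (Subtype.ext h)), map_zero]
  have hdet : IsUnit B.det := by
    have h1 : IsLocalRing.residue R B.det = 1 := by
      rw [RingHom.map_det, RingHom.mapMatrix_apply, hBres, Matrix.det_one]
    apply isUnit_of_map_unit (IsLocalRing.residue R)
    rw [h1]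
    exact isUnit_one
  let lam : (a.support → R) →ₗ[R] P := Fintype.linearCombination R (fun i : a.support => p (b i))
  let rho0 : P →ₗ[R] (a.support → R) := LinearMap.pi fun j => (b.coord j) ∘ₗ s
  have h_rl : ∀ c, rho0 (lam c) = Matrix.vecMul c B := by
    intro c
    ext j
    simp only [rho0, lam, LinearMap.pi_apply, LinearMap.comp_apply, Basis.coord_apply,
      Fintype.linearCombination_apply, map_sum, map_smul, Finsupp.coe_finsetSum,
      Finset.sum_apply, Finsupp.coe_smul, Pi.smul_apply, smul_eq_mul, Matrix.vecMul,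
      dotProduct, B, Bf]
  let rho : P →ₗ[R] (a.support → R) := (Matrix.vecMulLinear B⁻¹) ∘ₗ rho0
  have h_id : ∀ c, rho (lam c) = c := by
    intro c
    show Matrix.vecMul (rho0 (lam c)) B⁻¹ = c
    rw [h_rl, Matrix.vecMul_vecMul, Matrix.mul_nonsing_inv _ hdet, Matrix.vecMul_one]
  refine ⟨LinearMap.range lam, LinearMap.ker rho, ⟨?_, ?_⟩, ?_, ?_⟩
  · rw [Submodule.disjoint_def]
    rintro _ ⟨c, rfl⟩ hz
    have : c = 0 := by rw [← h_id c, LinearMap.mem_ker.1 hz]
    rw [this, map_zero]
  · rw [codisjoint_iff, eq_top_iff]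
    intro z _
    have : z = lam (rho z) + (z - lam (rho z)) := by abel
    rw [this]
    refine Submodule.add_mem_sup ⟨_, rfl⟩ ?_
    rw [LinearMap.mem_ker, map_sub, h_id, sub_self]
  · refine ⟨fun i => a i, ?_⟩
    conv_rhs => rw [hx]
    simp only [lam, Fintype.linearCombination_apply]
    exact Finset.sum_coe_sort a.support (fun i => a i • p (b i))
  · have hinj : Function.Injective lam := Function.LeftInverse.injective h_id
    exact Module.Free.of_equiv (LinearEquiv.ofInjective lam hinj)

theorem exists_free_summand_mem [Module.Projective R P] (x : P) :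
    ∃ F C : Submodule R P, IsCompl F C ∧ x ∈ F ∧ Module.Free R F := by
  classical
  obtain ⟨s, hs⟩ := Module.projective_def'.1 (inferInstance : Module.Projective R P)
  let p : (P →₀ R) →ₗ[R] P := Finsupp.linearCombination R id
  have hps : ∀ z, p (s z) = z := fun z => LinearMap.congr_fun hs z
  suffices H : ∀ n, ∀ b : Module.Basis P R (P →₀ R), (b.repr (s x)).support.card = n →
      ∃ F C : Submodule R P, IsCompl F C ∧ x ∈ F ∧ Module.Free R F from
    H _ (Finsupp.basisSingleOne) rfl
  intro n
  induction n using Nat.strong_induction_on with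
  | _ n ih =>
    intro b hb
    by_cases hmin : ∀ j ∈ (b.repr (s x)).support, ∀ c : P → R,
        (b.repr (s x)) j ≠ ∑ i ∈ (b.repr (s x)).support.erase j, c i * (b.repr (s x)) i
    · exact core b s p hps x _ rfl hmin
    · push Not at hmin
      obtain ⟨j, hj, c, hc⟩ := hmin
      obtain ⟨b', hb'⟩ := reduce b (s x) j hj c hc
      exact ih _ (hb ▸ hb') b' rfl

theorem step [Module.Projective R P] (G C : Submodule R P) (h : IsCompl G C) (x : P) :
    ∃ F C' : Submodule R P, F ≤ C ∧ C' ≤ C ∧ Disjoint F C' ∧ F ⊔ C' = C ∧ x ∈ G ⊔ F ∧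
      Module.Free R F := by
  haveI : Module.Projective R C := Module.Projective.of_split C.subtype
    (C.projectionOnto G h.symm) (Submodule.projectionOnto_comp_subtype h.symm)
  obtain ⟨F'', C'', hc, hmem, hfree⟩ :=
    exists_free_summand_mem (R := R) (C.projectionOnto G h.symm x)
  refine ⟨F''.map C.subtype, C''.map C.subtype, Submodule.map_subtype_le _ _,
    Submodule.map_subtype_le _ _, ?_, ?_, ?_, ?_⟩
  · rw [disjoint_iff, ← Submodule.map_inf _ (Submodule.injective_subtype C),
      disjoint_iff.1 hc.disjoint, Submodule.map_bot]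
  · rw [← Submodule.map_sup, hc.sup_eq_top, Submodule.map_subtype_top]
  · rw [← Submodule.projection_add_projection_eq_self h x]
    exact Submodule.add_mem_sup (Submodule.projection_apply_mem h x)
      (Submodule.mem_map_of_mem hmem)
  · exact Module.Free.of_equiv
      (Submodule.equivMapOfInjective C.subtype (Submodule.injective_subtype C) F'')

/-- states of the recursion -/
abbrev St (R : Type*) [CommRing R] (P : Type*) [AddCommGroup P] [Module R P] :=
  {GC : Submodule R P × Submodule R P // IsCompl GC.1 GC.2}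

theorem free_of_countable [Module.Projective R P] (x : ℕ → P)
    (hx : Submodule.span R (Set.range x) = ⊤) : Module.Free R P := by
  classical
  choose F C' hF hC' hdisj hsup hmem hfree using
    (fun (σ : St R P) (y : P) => step σ.1.1 σ.1.2 σ.2 y)
  have hnext : ∀ (σ : St R P) (y : P), IsCompl (σ.1.1 ⊔ F σ y) (C' σ y) := by
    intro σ y
    refine ⟨?_, codisjoint_iff.2 ?_⟩
    · refine Disjoint.disjoint_sup_left_of_disjoint_sup_right (hdisj σ y) ?_
      rw [hsup σ y]
      exact σ.2.disjoint
    · rw [sup_assoc, hsup σ y, σ.2.sup_eq_top]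
  let next : St R P → P → St R P := fun σ y => ⟨(σ.1.1 ⊔ F σ y, C' σ y), hnext σ y⟩
  let seq : ℕ → St R P := fun n =>
    Nat.rec (motive := fun _ => St R P) ⟨(⊥, ⊤), isCompl_bot_top⟩ (fun n σ => next σ (x n)) n
  let Gn : ℕ → Submodule R P := fun n => (seq n).1.1
  let Cn : ℕ → Submodule R P := fun n => (seq n).1.2
  let Fn : ℕ → Submodule R P := fun n => F (seq n) (x n)
  have hG0 : Gn 0 = ⊥ := rfl
  have hGs : ∀ n, Gn (n+1) = Gn n ⊔ Fn n := fun n => rfl
  have hFC : ∀ n, Fn n ≤ Cn n := fun n => hF (seq n) (x n)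
  have hCC : ∀ n, Cn (n+1) ≤ Cn n := fun n => hC' (seq n) (x n)
  have hcompl : ∀ n, IsCompl (Gn n) (Cn n) := fun n => (seq n).2
  have hGmono : Monotone Gn := monotone_nat_of_le_succ fun n => by
    rw [hGs]; exact le_sup_left
  have hCanti : Antitone Cn := antitone_nat_of_succ_le hCC
  have hxG : ∀ n, x n ∈ Gn (n+1) := fun n => hmem (seq n) (x n)
  have hGle : ∀ n, Gn n ≤ ⨆ j, Fn j := by
    intro n
    induction n with
    | zero => rw [hG0]; exact bot_le
    | succ n ih => rw [hGs]; exact sup_le ih (le_iSup Fn n)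
  have hsupF : ⨆ j, Fn j = ⊤ := by
    rw [eq_top_iff, ← hx, Submodule.span_le]
    rintro _ ⟨n, rfl⟩
    exact hGle (n+1) (hxG n)
  have hindF : iSupIndep Fn := by
    intro n
    have h1 : Disjoint (Fn n) (Gn n) := ((hcompl n).disjoint.mono_right (hFC n)).symm
    have h2 : Disjoint (Fn n ⊔ Gn n) (Cn (n+1)) := by
      rw [sup_comm, ← hGs]
      exact (hcompl (n+1)).disjoint
    have h3 := h1.disjoint_sup_right_of_disjoint_sup_left h2
    refine h3.mono_right ?_
    refine iSup₂_le fun j hj => ?_
    rcases lt_or_gt_of_ne hj with hlt | hgt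
    · exact le_sup_of_le_left
        ((le_sup_right.trans (hGs j).ge).trans (hGmono (Nat.succ_le_of_lt hlt)))
    · exact le_sup_of_le_right ((hFC j).trans (hCanti (Nat.succ_le_of_lt hgt)))
  have hint := DirectSum.isInternal_submodule_of_iSupIndep_of_iSup_eq_top hindF hsupF
  haveI : ∀ n, Module.Free R (Fn n) := fun n => hfree (seq n) (x n)
  exact Module.Free.of_basis (hint.collectedBasis fun n => Module.Free.chooseBasis R (Fn n))

end Core

end Groth.Agent.Lib.Helper25.KaplanskyLocal
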