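import Mathlib
import Groth.Prelude.Def_Found
import Groth.Agent.Lib.Helper25.Kaplansky
import Groth.Agent.Lib.Helper25.KaplanskyLocal

namespace Groth.Agent.Lib.Helper25.KaplanskyLocal

open Groth.Agent.Lib.Helper25

universe u
variable {R : Type u} [CommRing R] [IsLocalRing R]

theorem free_of_countablyGenerated (P : Type u) [AddCommGroup P] [Module R P]
    [Module.Projective R P] (h : CAlg.IsCountablyGenerated R P) : Module.Free R P := by
  obtain ⟨s, hs, hspan⟩ := h
  have hs' : (insert 0 s).Countable := hs.insert 0
  obtain ⟨x, hx⟩ := hs'.exists_eq_range (Set.insert_nonempty 0 s)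
  apply free_of_countable x
  rw [← hx, eq_top_iff, ← hspan]
  exact Submodule.span_mono (Set.subset_insert 0 s)

theorem free_of_internal_of_cg {M : Type u} [AddCommGroup M] [Module R M] [Module.Projective R M]
    {κ : Type u} [DecidableEq κ] (L : κ → Submodule R M) (hint : DirectSum.IsInternal L)
    (hcg : ∀ k, CAlg.IsCountablyGenerated R (L k)) : Module.Free R M := by
  have hI := hint.submodule_iSupIndep
  have hT := hint.submodule_iSup_eq_top
  have hfree : ∀ k, Module.Free R (L k) := by
    intro k
    have hcompl : IsCompl (L k) (⨆ (j : κ) (_ : j ≠ k), L j) :=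
      ⟨hI k, codisjoint_iff.2 (by rw [← iSup_split_single L k, hT])⟩
    haveI : Module.Projective R (L k) :=
      Module.Projective.of_split (L k).subtype ((L k).projectionOnto _ hcompl)
        (Submodule.projectionOnto_comp_subtype hcompl)
    exact free_of_countablyGenerated _ (hcg k)
  have hb : ∀ k, Nonempty (Σ I : Type u, Module.Basis I R (L k)) := fun k =>
    haveI := hfree k
    Module.Free.exists_basis (R := R) (M := L k)
  exact Module.Free.of_basis (hint.collectedBasis fun k => (hb k).some.2)

theorem free_of_summand {E : Type u} [AddCommGroup E] [Module R E] {ι : Type u}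
    (N : ι → Submodule R E) (hind : iSupIndep N) (hsup : ⨆ i, N i = ⊤)
    (hc : ∀ i, Kaplansky.CG (N i)) (π : E →ₗ[R] E) (Q : Submodule R E) (hπQ : ∀ x, π x ∈ Q)
    (hπid : ∀ x ∈ Q, π x = x) [Module.Projective R Q] : Module.Free R Q := by
  classical
  obtain ⟨𝓛, hcg, hLind, hLsup⟩ := Kaplansky.main π Q N hπQ hπid hind hsup hc
  obtain ⟨hI, hT⟩ := Kaplansky.internal_of_sSupIndep hLind hLsup
  have hint : DirectSum.IsInternal (fun k : 𝓛 => Submodule.comap Q.subtype k.1) :=
    DirectSum.isInternal_submodule_of_iSupIndep_of_iSup_eq_top hI hT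
  exact free_of_internal_of_cg _ hint (fun k : 𝓛 =>
    (hcg k.1 k.2).isCountablyGenerated_comap (hLsup ▸ le_sSup k.2))

theorem free_of_split {E : Type u} [AddCommGroup E] [Module R E] {ι : Type u}
    (b : Module.Basis ι R E) (P : Type u) [AddCommGroup P] [Module R P]
    (s : P →ₗ[R] E) (p : E →ₗ[R] P) (hps : ∀ z, p (s z) = z) : Module.Free R P := by
  haveI : Module.Free R E := Module.Free.of_basis b
  haveI : Module.Projective R P := Module.Projective.of_split s p (LinearMap.ext hps)
  have hsinj : Function.Injective s := Function.LeftInverse.injective hps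
  let e : P ≃ₗ[R] LinearMap.range s := LinearEquiv.ofInjective s hsinj
  haveI : Module.Projective R (LinearMap.range s) := Module.Projective.of_equiv e
  have hfr : Module.Free R (LinearMap.range s) :=
    free_of_summand (fun i => R ∙ b i) b.linearIndependent.iSupIndep_span_singleton
      (by rw [← Submodule.span_range_eq_iSup, b.span_eq])
      (fun i => ⟨{b i}, Set.countable_singleton _, rfl⟩) (s ∘ₗ p) (LinearMap.range s)
      (fun z => ⟨_, rfl⟩) (by rintro _ ⟨y, rfl⟩; simp [hps])
  exact Module.Free.of_equiv e.symm

theorem projective_local_free (P : Type u) [AddCommGroup P] [Module R P]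
    [Module.Projective R P] : Module.Free R P := by
  obtain ⟨s, hs⟩ := Module.projective_def'.1 (inferInstance : Module.Projective R P)
  exact free_of_split (Finsupp.basisSingleOne (R := R) (ι := P)) P s
    (Finsupp.linearCombination R id) (fun z => LinearMap.congr_fun hs z)

end Groth.Agent.Lib.Helper25.KaplanskyLocal
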