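import Mathlib

/-!
# Exactness of the Koszul complex (exterior-algebra model) of a weakly regular sequence

Ring level: `M` with spanning vectors `b` and dual functionals `ψ`, `φ : M → R` a linear form
with `φ (b k)` satisfying the regular-sequence condition; then the contraction by `φ` is exact on
the exterior powers in positive degrees.
-/

set_option autoImplicit false
open ExteriorAlgebra

namespace Groth.Agent.Lib.Helper25.KoszExt

variable {R : Type*} [CommRing R] {M : Type*} [AddCommGroup M] [Module R M]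

/-- contraction by a linear form -/
noncomputable def dd (φ : M →ₗ[R] R) : ExteriorAlgebra R M →ₗ[R] ExteriorAlgebra R M :=
  CliffordAlgebra.contractLeft (Q := (0 : QuadraticForm R M)) φ

theorem dd_ι_mul (φ : M →ₗ[R] R) (m : M) (ω : ExteriorAlgebra R M) :
    dd φ (ι R m * ω) = φ m • ω - ι R m * dd φ ω :=
  CliffordAlgebra.contractLeft_ι_mul (Q := (0 : QuadraticForm R M)) (d := φ) m ω

theorem dd_algebraMap (φ : M →ₗ[R] R) (r : R) :
    dd φ (algebraMap R (ExteriorAlgebra R M) r) = 0 :=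
  CliffordAlgebra.contractLeft_algebraMap (Q := (0 : QuadraticForm R M)) (d := φ) r

theorem dd_one (φ : M →ₗ[R] R) : dd φ (1 : ExteriorAlgebra R M) = 0 :=
  CliffordAlgebra.contractLeft_one (Q := (0 : QuadraticForm R M)) (d := φ)

theorem dd_ι (φ : M →ₗ[R] R) (m : M) : dd φ (ι R m) = algebraMap R _ (φ m) :=
  CliffordAlgebra.contractLeft_ι (Q := (0 : QuadraticForm R M)) (d := φ) m

/-- the image of a submodule in the exterior algebra -/
noncomputable def SS (N : Submodule R M) : Submodule R (ExteriorAlgebra R M) := N.map (ι R)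

theorem mem_SS {N : Submodule R M} {x : ExteriorAlgebra R M} :
    x ∈ SS N ↔ ∃ m ∈ N, ι R m = x := Submodule.mem_map

theorem SS_mono {N N' : Submodule R M} (h : N ≤ N') : SS N ≤ SS N' := Submodule.map_mono h

theorem SS_pow_mono {N N' : Submodule R M} (h : N ≤ N') (q : ℕ) : SS N ^ q ≤ SS N' ^ q := by
  induction q with
  | zero => simp
  | succ q ih =>
    rw [pow_succ, pow_succ]
    exact mul_le_mul' ih (SS_mono h)

theorem dd_pow_zero (φ : M →ₗ[R] R) (N : Submodule R M) {ω : ExteriorAlgebra R M}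
    (h : ω ∈ SS N ^ 0) : dd φ ω = 0 := by
  rw [pow_zero, Submodule.mem_one] at h
  obtain ⟨r, rfl⟩ := h
  exact dd_algebraMap φ r

theorem dd_mem_pow (φ : M →ₗ[R] R) (N : Submodule R M) :
    ∀ (q : ℕ) {ω : ExteriorAlgebra R M}, ω ∈ SS N ^ (q + 1) → dd φ ω ∈ SS N ^ q := by
  intro q
  induction q with
  | zero =>
    intro ω h
    rw [zero_add, pow_one] at h
    obtain ⟨m, hm, rfl⟩ := mem_SS.1 h
    rw [dd_ι, pow_zero]
    exact Submodule.mem_one.2 ⟨_, rfl⟩
  | succ q ih =>
    intro ω h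
    rw [pow_succ'] at h
    refine Submodule.mul_induction_on h ?_ ?_
    · intro a ha ω' hω'
      obtain ⟨m, hm, rfl⟩ := mem_SS.1 ha
      rw [dd_ι_mul]
      refine Submodule.sub_mem _ (Submodule.smul_mem _ _ hω') ?_
      rw [pow_succ']
      exact Submodule.mul_mem_mul ha (ih hω')
    · intro x y hx hy
      rw [map_add]
      exact Submodule.add_mem _ hx hy

theorem dd_eq_zero_of_vanish (ψ : M →ₗ[R] R) (N : Submodule R M) (hψ : ∀ m ∈ N, ψ m = 0) :
    ∀ (q : ℕ) {ω : ExteriorAlgebra R M}, ω ∈ SS N ^ q → dd ψ ω = 0 := by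
  intro q
  induction q with
  | zero =>
    intro ω h
    exact dd_pow_zero ψ N h
  | succ q ih =>
    intro ω h
    rw [pow_succ'] at h
    refine Submodule.mul_induction_on h ?_ ?_
    · intro a ha ω' hω'
      obtain ⟨m, hm, rfl⟩ := mem_SS.1 ha
      rw [dd_ι_mul, hψ m hm, zero_smul, ih hω', mul_zero, sub_zero]
    · intro x y hx hy
      rw [map_add, hx, hy, add_zero]

theorem decomp (N : Submodule R M) (e0 : M) :
    ∀ (q : ℕ) {ω : ExteriorAlgebra R M}, ω ∈ SS (N ⊔ Submodule.span R {e0}) ^ (q + 1) →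
      ∃ α ∈ SS N ^ (q + 1), ∃ β ∈ SS N ^ q, ω = α + ι R e0 * β := by
  intro q
  induction q with
  | zero =>
    intro ω h
    rw [zero_add, pow_one] at h
    obtain ⟨y, hy, rfl⟩ := mem_SS.1 h
    obtain ⟨m, hm, z, hz, rfl⟩ := Submodule.mem_sup.1 hy
    obtain ⟨c, rfl⟩ := Submodule.mem_span_singleton.1 hz
    refine ⟨ι R m, ?_, algebraMap R _ c, ?_, ?_⟩
    · rw [zero_add, pow_one]
      exact mem_SS.2 ⟨m, hm, rfl⟩
    · rw [pow_zero]
      exact Submodule.mem_one.2 ⟨c, rfl⟩
    · rw [map_add, map_smul, Algebra.algebraMap_eq_smul_one, mul_smul_comm, mul_one]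
  | succ q ih =>
    intro ω h
    rw [pow_succ'] at h
    refine Submodule.mul_induction_on h ?_ ?_
    · intro a ha ω' hω'
      obtain ⟨y, hy, rfl⟩ := mem_SS.1 ha
      obtain ⟨m, hm, z, hz, rfl⟩ := Submodule.mem_sup.1 hy
      obtain ⟨c, rfl⟩ := Submodule.mem_span_singleton.1 hz
      obtain ⟨α', hα', β', hβ', rfl⟩ := ih hω'
      refine ⟨ι R m * α', ?_, c • α' - ι R m * β', ?_, ?_⟩
      · rw [pow_succ']
        exact Submodule.mul_mem_mul (mem_SS.2 ⟨m, hm, rfl⟩) hα'
      · refine Submodule.sub_mem _ (Submodule.smul_mem _ _ hα') ?_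
        rw [pow_succ']
        exact Submodule.mul_mem_mul (mem_SS.2 ⟨m, hm, rfl⟩) hβ'
      · have h1 : ι R m * ι R e0 = - (ι R e0 * ι R m) :=
          eq_neg_of_add_eq_zero_left (ι_add_mul_swap m e0)
        have h2 : ι R e0 * ι R e0 = 0 := ι_sq_zero e0
        rw [map_add, map_smul]
        calc (ι R m + c • ι R e0) * (α' + ι R e0 * β')
            = ι R m * α' + (ι R m * ι R e0) * β' + c • (ι R e0 * α')
                + c • ((ι R e0 * ι R e0) * β') := by
              simp only [add_mul, mul_add, smul_mul_assoc, mul_assoc]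
              abel
          _ = ι R m * α' + ι R e0 * (c • α' - ι R m * β') := by
              rw [h1, h2, zero_mul, smul_zero, add_zero, neg_mul, mul_sub, mul_smul_comm,
                mul_assoc]
              abel
    · rintro x y ⟨α1, hα1, β1, hβ1, rfl⟩ ⟨α2, hα2, β2, hβ2, rfl⟩
      refine ⟨α1 + α2, Submodule.add_mem _ hα1 hα2, β1 + β2, Submodule.add_mem _ hβ1 hβ2, ?_⟩
      rw [mul_add]
      abel

theorem direct (ψ : M →ₗ[R] R) (N : Submodule R M) (e0 : M) (hψ : ∀ m ∈ N, ψ m = 0)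
    (he : ψ e0 = 1) {a b : ℕ} {α β : ExteriorAlgebra R M}
    (hα : α ∈ SS N ^ a) (hβ : β ∈ SS N ^ b) (h : α + ι R e0 * β = 0) : β = 0 := by
  have h' := congrArg (dd ψ) h
  rw [map_add, dd_ι_mul, he, one_smul, dd_eq_zero_of_vanish ψ N hψ a hα,
    dd_eq_zero_of_vanish ψ N hψ b hβ, mul_zero, sub_zero, zero_add, map_zero] at h'
  exact h'

variable {n : ℕ} (b : Fin n → M)

/-- span of the first `k` vectors -/
def Nk (k : ℕ) : Submodule R M := Submodule.span R (b '' {j | (j : ℕ) < k})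

theorem Nk_zero : Nk (R := R) b 0 = ⊥ := by
  unfold Nk
  simp

theorem Nk_succ (k : ℕ) (hk : k < n) :
    Nk (R := R) b (k + 1) = Nk b k ⊔ Submodule.span R {b ⟨k, hk⟩} := by
  unfold Nk
  rw [← Submodule.span_union]
  congr 1
  ext m
  constructor
  · rintro ⟨j, hj, rfl⟩
    rcases Nat.lt_succ_iff_lt_or_eq.1 hj with h | h
    · exact Or.inl ⟨j, h, rfl⟩
    · right
      have hj' : j = ⟨k, hk⟩ := Fin.ext h
      rw [hj']
      rfl
  · rintro (⟨j, hj, rfl⟩ | h)
    · exact ⟨j, Nat.lt_succ_of_lt hj, rfl⟩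
    · rw [Set.mem_singleton_iff] at h
      subst h
      exact ⟨⟨k, hk⟩, Nat.lt_succ_self k, rfl⟩

theorem Nk_top (hspan : Submodule.span R (Set.range b) = ⊤) : Nk (R := R) b n = ⊤ := by
  unfold Nk
  rw [← hspan]
  congr 1
  ext m
  constructor
  · rintro ⟨j, _, rfl⟩
    exact ⟨j, rfl⟩
  · rintro ⟨j, rfl⟩
    exact ⟨j, j.2, rfl⟩

theorem exact_aux (ψ : Fin n → M →ₗ[R] R) (hψ : ∀ k j, ψ k (b j) = if j = k then 1 else 0)
    (φ : M →ₗ[R] R)
    (hreg : ∀ (k : Fin n) (r : R), φ (b k) * r ∈ (Nk b k).map φ → r ∈ (Nk b k).map φ) :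
    ∀ k, k ≤ n → ∀ (q : ℕ) (ω : ExteriorAlgebra R M), ω ∈ SS (Nk b k) ^ (q + 1) → dd φ ω = 0 →
      ∃ η ∈ SS (Nk b k) ^ (q + 2), dd φ η = ω := by
  intro k
  induction k with
  | zero =>
    intro _ q ω hω _
    have hbot : SS (Nk (R := R) b 0) = ⊥ := by
      rw [Nk_zero]
      exact Submodule.map_bot _
    rw [hbot, pow_succ, Submodule.mul_bot, Submodule.mem_bot] at hω
    subst hω
    exact ⟨0, Submodule.zero_mem _, map_zero _⟩
  | succ k IH =>
    intro hk q ω hω hdω
    have hk' : k < n := hk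
    have IH' := IH (Nat.le_of_lt hk')
    have hvan : ∀ m ∈ Nk (R := R) b k, ψ ⟨k, hk'⟩ m = 0 := by
      intro m hm
      have hle : Nk (R := R) b k ≤ LinearMap.ker (ψ ⟨k, hk'⟩) := by
        unfold Nk
        rw [Submodule.span_le]
        rintro _ ⟨j, hj, rfl⟩
        rw [SetLike.mem_coe, LinearMap.mem_ker, hψ, if_neg]
        intro h
        rw [h] at hj
        exact lt_irrefl k hj
      exact hle hm
    have hone : ψ ⟨k, hk'⟩ (b ⟨k, hk'⟩) = 1 := by rw [hψ, if_pos rfl]
    rw [Nk_succ b k hk'] at hω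
    obtain ⟨α, hα, β, hβ, rfl⟩ := decomp (Nk b k) (b ⟨k, hk'⟩) q hω
    have h1 : (dd φ α + φ (b ⟨k, hk'⟩) • β) + ι R (b ⟨k, hk'⟩) * (-dd φ β) = 0 := by
      rw [← hdω, map_add, dd_ι_mul, mul_neg]
      abel
    have hdβ : dd φ β = 0 := by
      cases q with
      | zero => exact dd_pow_zero φ _ hβ
      | succ q' =>
        have hm1 : dd φ α + φ (b ⟨k, hk'⟩) • β ∈ SS (Nk b k) ^ (q' + 1) :=
          Submodule.add_mem _ (dd_mem_pow φ _ (q' + 1) hα) (Submodule.smul_mem _ _ hβ)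
        have hm2 : -dd φ β ∈ SS (Nk b k) ^ q' := Submodule.neg_mem _ (dd_mem_pow φ _ q' hβ)
        have h3 := direct (ψ ⟨k, hk'⟩) (Nk b k) (b ⟨k, hk'⟩) hvan hone hm1 hm2 h1
        exact neg_eq_zero.1 h3
    have h2 : dd φ α + φ (b ⟨k, hk'⟩) • β = 0 := by
      rw [hdβ, neg_zero, mul_zero, add_zero] at h1
      exact h1
    obtain ⟨γ, hγ, hdγ⟩ : ∃ γ ∈ SS (Nk b k) ^ (q + 1), dd φ γ = β := by
      cases q with
      | zero =>
        rw [pow_zero, Submodule.mem_one] at hβ
        obtain ⟨r, rfl⟩ := hβ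
        rw [zero_add, pow_one] at hα
        obtain ⟨m, hm, rfl⟩ := mem_SS.1 hα
        rw [dd_ι, Algebra.smul_def, ← map_mul, ← map_add,
          ExteriorAlgebra.algebraMap_eq_zero_iff] at h2
        have hmem : φ (b ⟨k, hk'⟩) * r ∈ (Nk b k).map φ := by
          have h4 : φ (b ⟨k, hk'⟩) * r = φ (-m) := by
            rw [map_neg]
            linear_combination h2
          rw [h4]
          exact Submodule.mem_map_of_mem (Submodule.neg_mem _ hm)
        obtain ⟨m', hm', hr⟩ := Submodule.mem_map.1 (hreg ⟨k, hk'⟩ r hmem)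
        refine ⟨ι R m', ?_, ?_⟩
        · rw [zero_add, pow_one]
          exact mem_SS.2 ⟨m', hm', rfl⟩
        · rw [dd_ι, hr]
      | succ q' => exact IH' q' β hβ hdβ
    have hα' : α + φ (b ⟨k, hk'⟩) • γ ∈ SS (Nk b k) ^ (q + 1) :=
      Submodule.add_mem _ hα (Submodule.smul_mem _ _ hγ)
    have hdα' : dd φ (α + φ (b ⟨k, hk'⟩) • γ) = 0 := by
      rw [map_add, map_smul, hdγ]
      exact h2
    obtain ⟨δ, hδ, hdδ⟩ := IH' q _ hα' hdα'
    refine ⟨δ - ι R (b ⟨k, hk'⟩) * γ, ?_, ?_⟩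
    · rw [Nk_succ b k hk']
      refine Submodule.sub_mem _ (SS_pow_mono le_sup_left _ hδ) ?_
      rw [pow_succ' _ (q + 1)]
      refine Submodule.mul_mem_mul (mem_SS.2 ⟨b ⟨k, hk'⟩, ?_, rfl⟩)
        (SS_pow_mono le_sup_left _ hγ)
      exact Submodule.mem_sup_right (Submodule.mem_span_singleton_self _)
    · rw [map_sub, hdδ, dd_ι_mul, hdγ]
      abel

/-- **Exactness of the Koszul complex in positive degrees** (exterior algebra model). -/
theorem koszul_exact (hspan : Submodule.span R (Set.range b) = ⊤)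
    (ψ : Fin n → M →ₗ[R] R) (hψ : ∀ k j, ψ k (b j) = if j = k then 1 else 0)
    (φ : M →ₗ[R] R)
    (hreg : ∀ (k : Fin n) (r : R), φ (b k) * r ∈ (Nk b k).map φ → r ∈ (Nk b k).map φ)
    (q : ℕ) (ω : ExteriorAlgebra R M) (hω : ω ∈ ⋀[R]^(q + 1) M) (hd : dd φ ω = 0) :
    ∃ η ∈ ⋀[R]^(q + 2) M, dd φ η = ω := by
  have htop : SS (Nk (R := R) b n) = LinearMap.range (ι R) := by
    rw [Nk_top b hspan]
    exact Submodule.map_top _
  have h := exact_aux b ψ hψ φ hreg n le_rfl q ω (by rw [htop]; exact hω) hd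
  rw [htop] at h
  exact h

/-- the contraction of a decomposable element -/
theorem dd_ιMulti (φ : M →ₗ[R] R) : ∀ (p : ℕ) (v : Fin (p + 1) → M),
    dd φ (ExteriorAlgebra.ιMulti R (p + 1) v) =
      ∑ i : Fin (p + 1), ((-1 : R) ^ (i : ℕ) * φ (v i)) •
        ExteriorAlgebra.ιMulti R p (fun j => v (i.succAbove j)) := by
  intro p
  induction p with
  | zero =>
    intro v
    rw [ιMulti_succ_apply, ιMulti_zero_apply, dd_ι_mul, dd_one, mul_zero, sub_zero,
      Fin.sum_univ_one, ιMulti_zero_apply]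
    simp
  | succ p ih =>
    intro v
    have h0 : (fun j => v ((0 : Fin (p + 2)).succAbove j)) = Matrix.vecTail v := by
      funext j
      simp [Matrix.vecTail]
    have hs : ∀ i : Fin (p + 1),
        ExteriorAlgebra.ιMulti R (p + 1) (fun j => v (i.succ.succAbove j)) =
        ι R (v 0) * ExteriorAlgebra.ιMulti R p (fun j => Matrix.vecTail v (i.succAbove j)) := by
      intro i
      rw [ιMulti_succ_apply]
      have e1 : v (i.succ.succAbove 0) = v 0 := by simp
      have e2 : Matrix.vecTail (fun j => v (i.succ.succAbove j)) =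
          fun j => Matrix.vecTail v (i.succAbove j) := by
        funext j
        simp [Matrix.vecTail]
      rw [e1, e2]
    rw [ιMulti_succ_apply, dd_ι_mul, ih]
    conv_rhs => rw [Fin.sum_univ_succ]
    rw [h0, Finset.mul_sum]
    simp only [hs, Fin.val_succ, Fin.val_zero, pow_zero, one_mul, pow_succ]
    rw [sub_eq_add_neg, ← Finset.sum_neg_distrib]
    congr 1
    refine Finset.sum_congr rfl (fun i _ => ?_)
    have e3 : Matrix.vecTail v i = v i.succ := rfl
    rw [mul_smul_comm, e3, ← neg_smul]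
    congr 1
    ring

/-- the regularity condition used by `koszul_exact`, from weak regularity -/
theorem hreg_of_isWeaklyRegular {n : ℕ} (b : Fin n → M) (φ : M →ₗ[R] R)
    (h : RingTheory.Sequence.IsWeaklyRegular R (List.ofFn fun k => φ (b k))) :
    ∀ (k : Fin n) (r : R), φ (b k) * r ∈ (Nk b k).map φ → r ∈ (Nk b k).map φ := by
  intro k r hr
  have hlen : (k : ℕ) < (List.ofFn fun k => φ (b k)).length := by
    rw [List.length_ofFn]
    exact k.2
  have h1 := (RingTheory.Sequence.isWeaklyRegular_iff R _).1 h k hlen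
  have hget : (List.ofFn fun k => φ (b k))[(k : ℕ)] = φ (b k) := by
    rw [List.getElem_ofFn]
  rw [hget] at h1
  have hI : (Ideal.ofList ((List.ofFn fun j => φ (b j)).take k) • (⊤ : Submodule R R)) =
      (Nk b k).map φ := by
    rw [Ideal.smul_eq_mul, Ideal.mul_top]
    unfold Nk Ideal.ofList
    rw [Submodule.map_span]
    congr 1
    ext x
    simp only [Set.mem_setOf_eq, List.mem_take_iff_getElem, List.length_ofFn, List.getElem_ofFn,
      Set.mem_image]
    constructor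
    · rintro ⟨i, hi, rfl⟩
      have hi' := lt_min_iff.1 hi
      exact ⟨b ⟨i, hi'.2⟩, ⟨⟨i, hi'.2⟩, hi'.1, rfl⟩, rfl⟩
    · rintro ⟨_, ⟨j, hj, rfl⟩, rfl⟩
      exact ⟨j, lt_min_iff.2 ⟨hj, j.2⟩, rfl⟩
  have h2 : (Submodule.Quotient.mk r :
      R ⧸ (Ideal.ofList ((List.ofFn fun j => φ (b j)).take k) • (⊤ : Submodule R R))) = 0 := by
    apply h1
    show φ (b k) • Submodule.Quotient.mk r = φ (b k) • 0
    rw [smul_zero, ← Submodule.Quotient.mk_smul, Submodule.Quotient.mk_eq_zero, hI]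
    exact hr
  rw [Submodule.Quotient.mk_eq_zero, hI] at h2
  exact h2

end Groth.Agent.Lib.Helper25.KoszExt
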