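import Groth.Prelude.Def_W4c4lgringredgrpLG
import Mathlib.Algebra.MvPolynomial.Rename
import Mathlib.RingTheory.Ideal.Quotient.Basic

/-!
Helper lemmas on LG-rings: the defining property for arbitrary finite index types.
-/

set_option autoImplicit false
universe u

namespace Groth.Agent.Lib.Helper25

open LGRing

/-- The LG property for a polynomial in variables indexed by any finite type. -/
theorem representsUnit_of_finite {R : Type u} [CommRing R] (hR : IsLGRing R)
    {σ : Type} [Finite σ] (f : MvPolynomial σ R)
    (h : ∀ (m : Ideal R) [m.IsMaximal], RepresentsUnit f (R ⧸ m)) : RepresentsUnit f R := by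
  classical
  obtain ⟨n, ⟨e⟩⟩ := Finite.exists_equiv_fin σ
  have key : ∀ (S : Type u) [CommRing S] [Algebra R S],
      RepresentsUnit f S ↔ RepresentsUnit (MvPolynomial.rename e f) S := by
    intro S _ _
    constructor
    · rintro ⟨s, hs⟩
      refine ⟨s ∘ e.symm, ?_⟩
      rw [MvPolynomial.aeval_rename]
      have : (s ∘ e.symm) ∘ e = s := by
        funext i; simp
      rwa [this]
    · rintro ⟨s, hs⟩
      refine ⟨s ∘ e, ?_⟩
      rwa [MvPolynomial.aeval_rename] at hs
  rw [key]
  apply hR
  intro m _
  rw [← key]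
  exact h m

/-- Eval form of the LG property: if for every maximal ideal `m` some tuple over `R ⧸ m` makes `f`
nonzero, then some tuple over `R` makes `f` a unit. -/
theorem exists_isUnit_eval_of_finite {R : Type u} [CommRing R] (hR : IsLGRing R)
    {σ : Type} [Finite σ] (f : MvPolynomial σ R)
    (h : ∀ (m : Ideal R) [m.IsMaximal], ∃ s : σ → R ⧸ m,
      MvPolynomial.eval₂ (Ideal.Quotient.mk m) s f ≠ 0) :
    ∃ s : σ → R, IsUnit (MvPolynomial.eval s f) := by
  have := representsUnit_of_finite hR f (fun m _ => by
    obtain ⟨s, hs⟩ := h m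
    let _ : Field (R ⧸ m) := Ideal.Quotient.field m
    refine ⟨s, ?_⟩
    rw [MvPolynomial.aeval_def]
    exact isUnit_iff_ne_zero.mpr hs)
  obtain ⟨s, hs⟩ := this
  refine ⟨s, ?_⟩
  rw [MvPolynomial.aeval_def, Algebra.algebraMap_self] at hs
  exact hs
end Groth.Agent.Lib.Helper25
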