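import Groth.Agent.Lib.Helper25.LG
import Mathlib.RingTheory.Spectrum.Prime.Basic

/-!
Points of quasi-compact opens over LG-rings, in algebraic form.
-/

set_option autoImplicit false
universe u

namespace Groth.Agent.Lib.Helper25

open LGRing MvPolynomial

/-- Algebraic form of "a quasi-compact open of affine space with points in all residue fields
has a point": if for every maximal ideal some tuple makes one of the `g i` nonzero mod `m`, then
some tuple over `R` makes the `g i` generate the unit ideal. -/
theorem exists_forall_prime_exists_eval_notMem {R : Type u} [CommRing R] (hR : IsLGRing R)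
    {σ : Type} [Finite σ] {k : ℕ} (g : Fin k → MvPolynomial σ R)
    (h : ∀ (m : Ideal R) [m.IsMaximal], ∃ (x : σ → R ⧸ m) (i : Fin k),
      eval₂ (Ideal.Quotient.mk m) x (g i) ≠ 0) :
    ∃ x : σ → R, ∀ p : PrimeSpectrum R, ∃ i, eval x (g i) ∉ p.asIdeal := by
  classical
  let F : MvPolynomial (σ ⊕ Fin k) R :=
    ∑ j : Fin k, X (Sum.inr j) * rename Sum.inl (g j)
  have hF : ∀ (m : Ideal R) [m.IsMaximal], ∃ s : σ ⊕ Fin k → R ⧸ m,
      eval₂ (Ideal.Quotient.mk m) s F ≠ 0 := by
    intro m _
    obtain ⟨x, i, hne⟩ := h m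
    refine ⟨Sum.elim x (Pi.single i 1), ?_⟩
    have : eval₂ (Ideal.Quotient.mk m) (Sum.elim x (Pi.single i 1)) F
        = eval₂ (Ideal.Quotient.mk m) x (g i) := by
      simp only [F, eval₂_sum, eval₂_mul, eval₂_X, Sum.elim_inr, eval₂_rename]
      rw [Finset.sum_eq_single i]
      · simp [Function.comp_def]
      · intro j _ hji
        simp [Pi.single_eq_of_ne hji]
      · intro hi
        exact absurd (Finset.mem_univ i) hi
    rw [this]
    exact hne
  obtain ⟨s, hs⟩ := exists_isUnit_eval_of_finite hR F hF
  refine ⟨s ∘ Sum.inl, ?_⟩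
  intro p
  by_contra hcon
  push Not at hcon
  have hFp : eval s F ∈ p.asIdeal := by
    simp only [F, map_sum, map_mul, eval_X, eval_rename]
    exact sum_mem fun j _ => Ideal.mul_mem_left _ _ (hcon j)
  exact p.2.ne_top (Ideal.eq_top_of_isUnit_mem _ hFp hs)

end Groth.Agent.Lib.Helper25
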