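import Mathlib

/-!
# A Laplace-type identity summed over all column permutations (helper25)

* `sum_sign_blocks`: for a square matrix `X` indexed by `α ⊕ β`,
  `∑ π, sign π * det (X[inl, π inl]) * det (X[inr, π inr]) = |α|! |β|! det X`.
* `sum_sign_blocks_fin`: the same on `Fin (p + r)`.
-/

set_option autoImplicit false

namespace Groth.Agent.Helper25.LaplaceSum

open Equiv Finset

variable {R : Type*} [CommRing R]

theorem det_eq_sum_col {n : Type*} [DecidableEq n] [Fintype n] (N : Matrix n n R) :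
    N.det = ∑ σ : Perm n, (((Perm.sign σ : ℤˣ) : ℤ) : R) * ∏ i, N i (σ i) := by
  rw [← Matrix.det_transpose, Matrix.det_apply']
  rfl

theorem sum_sign_blocks {α β : Type*} [DecidableEq α] [DecidableEq β] [Fintype α] [Fintype β]
    (X : Matrix (α ⊕ β) (α ⊕ β) R) :
    ∑ π : Perm (α ⊕ β), (((Perm.sign π : ℤˣ) : ℤ) : R) *
      (Matrix.of fun i j : α => X (Sum.inl i) (π (Sum.inl j))).det *
      (Matrix.of fun i j : β => X (Sum.inr i) (π (Sum.inr j))).det =
    (((Fintype.card α).factorial * (Fintype.card β).factorial : ℕ) : R) * X.det := by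
  classical
  have h1 : ∀ π : Perm (α ⊕ β), (((Perm.sign π : ℤˣ) : ℤ) : R) *
      (Matrix.of fun i j : α => X (Sum.inl i) (π (Sum.inl j))).det *
      (Matrix.of fun i j : β => X (Sum.inr i) (π (Sum.inr j))).det =
      ∑ σ : Perm α, ∑ τ : Perm β, (((Perm.sign (π * sumCongr σ τ) : ℤˣ) : ℤ) : R) *
        ∏ s, X s ((π * sumCongr σ τ) s) := by
    intro π
    rw [det_eq_sum_col, det_eq_sum_col, mul_assoc, Finset.sum_mul_sum, Finset.mul_sum]
    apply Finset.sum_congr rfl; intro σ _
    rw [Finset.mul_sum]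
    apply Finset.sum_congr rfl; intro τ _
    rw [Fintype.prod_sum_type, Perm.sign_mul, Perm.sign_sumCongr]
    simp only [Matrix.of_apply, Perm.coe_mul, Function.comp_apply, Perm.sumCongr_apply,
      Sum.map_inl, Sum.map_inr, Units.val_mul, Int.cast_mul]
    ring
  simp_rw [h1]
  rw [Finset.sum_comm]
  have h2 : ∀ σ : Perm α, ∑ π : Perm (α ⊕ β), ∑ τ : Perm β,
      (((Perm.sign (π * sumCongr σ τ) : ℤˣ) : ℤ) : R) * ∏ s, X s ((π * sumCongr σ τ) s) =
      ((Fintype.card β).factorial : R) * X.det := by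
    intro σ
    rw [Finset.sum_comm]
    have h3 : ∀ τ : Perm β, ∑ π : Perm (α ⊕ β),
        (((Perm.sign (π * sumCongr σ τ) : ℤˣ) : ℤ) : R) * ∏ s, X s ((π * sumCongr σ τ) s) =
        X.det := by
      intro τ
      rw [det_eq_sum_col]
      exact Fintype.sum_equiv (Equiv.mulRight (sumCongr σ τ)) _ _ (fun _ => rfl)
    simp_rw [h3]
    rw [Finset.sum_const, Finset.card_univ, Fintype.card_perm, nsmul_eq_mul]
  simp_rw [h2]
  rw [Finset.sum_const, Finset.card_univ, Fintype.card_perm, nsmul_eq_mul]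
  push_cast
  ring

theorem sum_sign_blocks_fin (p r : ℕ) (X : Matrix (Fin (p + r)) (Fin (p + r)) R) :
    ∑ π : Perm (Fin (p + r)), (((Perm.sign π : ℤˣ) : ℤ) : R) *
      (Matrix.of fun i j : Fin p => X (Fin.castAdd r i) (π (Fin.castAdd r j))).det *
      (Matrix.of fun i j : Fin r => X (Fin.natAdd p i) (π (Fin.natAdd p j))).det =
    ((p.factorial * r.factorial : ℕ) : R) * X.det := by
  have := sum_sign_blocks (X.submatrix (finSumFinEquiv (m := p) (n := r))
    (finSumFinEquiv (m := p) (n := r)))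
  rw [Matrix.det_submatrix_equiv_self, Fintype.card_fin, Fintype.card_fin] at this
  rw [← this]
  rw [← Equiv.sum_comp ((finSumFinEquiv (m := p) (n := r)).permCongr)]
  apply Finset.sum_congr rfl
  intro π _
  rw [Equiv.Perm.sign_permCongr]
  congr 2
  · congr 1
    ext i j
    simp [Equiv.permCongr_apply]
  · ext i j
    simp [Equiv.permCongr_apply]

end Groth.Agent.Helper25.LaplaceSum
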