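import Groth.Agent.Lib.Helper4.CM
import Groth.Agent.Lib.Helper22.CMGlue
import Groth.Agent.Lib.Helper22.CMReg
import Groth.Agent.Lib.Helper22.Liaison1

/-!
# Quotients of regular rings by regular sequences are Cohen–Macaulay; unmixedness
-/

set_option autoImplicit false
set_option linter.style.haveILetI false
universe u
open RingTheory.Sequence

namespace Groth.Agent.Lib.Helper25.LciCM

open Groth.Agent.Lib.Helper4 Groth.Agent.Lib.Helper22.CMG

theorem cm_quotient_of_isWeaklyRegular (S : Type u) [CommRing S] [IsRegularRing S] (rs : List S)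
    (hreg : IsWeaklyRegular S rs) : LocCoh.IsCohenMacaulayRing (S ⧸ Ideal.ofList rs) := by
  refine isCMRing_quotient_of_forall _ (fun P _ hP => ?_)
  haveI := isCMLocalRing_of_isRegularRing P
  have hM : LocCoh.IsCohenMacaulayModule (Localization.AtPrime P) (Localization.AtPrime P) :=
    LocCoh.IsCohenMacaulayLocalRing.supportDim_eq_depth
  have hw : IsWeaklyRegular (Localization.AtPrime P)
      (rs.map (algebraMap S (Localization.AtPrime P))) :=
    IsWeaklyRegular.of_isLocalization (Localization.AtPrime P) P.primeCompl hreg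
  have hxs : ∀ y ∈ rs.map (algebraMap S (Localization.AtPrime P)),
      y ∈ IsLocalRing.maximalIdeal (Localization.AtPrime P) := by
    intro y hy
    obtain ⟨r, hr, rfl⟩ := List.mem_map.1 hy
    exact (IsLocalization.AtPrime.to_map_mem_maximal_iff (Localization.AtPrime P) P r).mpr
      (hP (Ideal.subset_span hr))
  have hCM := cm_quot_ofList hM _ hxs hw
  have hsm : (Ideal.ofList (rs.map (algebraMap S (Localization.AtPrime P))) •
      (⊤ : Submodule (Localization.AtPrime P) (Localization.AtPrime P))) =
      (Ideal.ofList rs).map (algebraMap S (Localization.AtPrime P)) := by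
    rw [smul_eq_mul, Ideal.mul_top, Ideal.map_ofList]
  have e := Submodule.quotEquivOfEq _ _ hsm
  unfold CMat
  exact (cm_congr e).1 hCM

theorem mem_of_mul_mem (S : Type u) [CommRing S] [IsRegularRing S] (rs : List S)
    (hreg : IsWeaklyRegular S rs) (x r : S) (hxr : x * r ∈ Ideal.ofList rs)
    (hmin : ∀ 𝔭 ∈ (Ideal.ofList rs).minimalPrimes, x ∉ 𝔭) : r ∈ Ideal.ofList rs := by
  by_contra hr
  haveI := cm_quotient_of_isWeaklyRegular S rs hreg
  have hne : (Ideal.Quotient.mk (Ideal.ofList rs) r : S ⧸ Ideal.ofList rs) ≠ 0 := by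
    rw [Ne, Ideal.Quotient.eq_zero_iff_mem]
    exact hr
  obtain ⟨P, hP, hle⟩ := exists_le_isAssociatedPrime_of_isNoetherianRing S
    (Ideal.Quotient.mk (Ideal.ofList rs) r) hne
  have hPmin : P ∈ (Ideal.ofList rs).minimalPrimes :=
    Groth.Agent.Lib.Helper22.Liaison.ass_subset_minimalPrimes_quot (Ideal.ofList rs) hP
  apply hmin P hPmin
  apply hle
  rw [Submodule.mem_colon_singleton, Submodule.mem_bot, ← Ideal.Quotient.mk_eq_mk,
    ← Submodule.Quotient.mk_smul, Submodule.Quotient.mk_eq_zero, smul_eq_mul]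
  exact hxr

end Groth.Agent.Lib.Helper25.LciCM
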