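import Groth.Agent.Lib.Helper25.LciChartAlg
import Groth.Agent.Lib.Helper25.KoszExact
import Groth.Agent.Lib.Helper5.StalkKer
import Groth.Agent.Lib.Helper12.SchemeDimFT4
import Groth.Agent.Lib.Helper17.LocFreeRank
import Groth.Agent.Lib.Helper3.FreeBasis
import Groth.Agent.Lib.Helper3.NormAlg

/-!
# Local complete intersections in Cohen–Macaulay schemes: regular sequences on affine charts and
# the Koszul resolution
-/

set_option autoImplicit false
set_option linter.style.haveILetI false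
universe u
open CategoryTheory CategoryTheory.Limits AlgebraicGeometry TopologicalSpace Opposite
open Scheme.Modules RingTheory.Sequence

namespace Groth.Agent.Lib.Helper25.LciChart

open Groth.Agent.Lib.Helper3 Groth.Agent.Lib.Helper3.QCSec Groth.Agent.Lib.Helper25.LciChartAlg
  Groth.Agent.Lib.Helper5 Groth.Agent.Lib.Helper12 Groth.Agent.Lib.Helper17

theorem exists_chart {X Y : Scheme.{u}} [IsLocallyNoetherian X]
    (hCM : ∀ x : X, LocCoh.IsCohenMacaulayLocalRing (X.presheaf.stalk x))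
    (i : Y ⟶ X) [IsClosedImmersion i] (c : ℕ) (y : Y) (U : X.affineOpens)
    (hyU : i.base y ∈ U.1) (g : Fin c → Γ(X, U.1))
    (hg : i.ker.ideal U = Ideal.span (Set.range g))
    (hht : (c : ℕ∞) ≤ (RingHom.ker (i.stalkMap y).hom).height) :
    ∃ h : Γ(X, U.1), i.base y ∈ X.basicOpen h ∧
      i.ker.ideal (X.affineBasicOpen h) = Ideal.span (Set.range fun k =>
        (X.presheaf.map (homOfLE (X.basicOpen_le h)).op).hom (g k)) ∧
      IsWeaklyRegular Γ(X, X.basicOpen h) (List.ofFn fun k =>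
        (X.presheaf.map (homOfLE (X.basicOpen_le h)).op).hom (g k)) := by
  classical
  haveI : IsNoetherianRing Γ(X, U.1) := IsLocallyNoetherian.component_noetherian U
  letI := X.presheaf.algebra_section_stalk ⟨i.base y, hyU⟩
  haveI := U.2.isLocalization_stalk ⟨i.base y, hyU⟩
  haveI := hCM (i.base y)
  haveI : (U.2.primeIdealOf ⟨i.base y, hyU⟩).asIdeal.IsPrime :=
    (U.2.primeIdealOf ⟨i.base y, hyU⟩).isPrime
  have hker : RingHom.ker (i.stalkMap y).hom = (Ideal.span (Set.range g)).map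
      (algebraMap Γ(X, U.1) (X.presheaf.stalk (i.base y))) := by
    rw [StalkKer.ker_stalkMap_eq_map_ker i U.2 y hyU, ← Scheme.Hom.ker_apply i U, hg]
    rfl
  have hofl : Ideal.ofList ((List.ofFn g).map
      (algebraMap Γ(X, U.1) (X.presheaf.stalk (i.base y)))) = RingHom.ker (i.stalkMap y).hom := by
    rw [← Ideal.map_ofList, ofList_ofFn, hker]
  have hne : RingHom.ker (i.stalkMap y).hom ≠ ⊤ := RingHom.ker_ne_top _
  have hxs : ∀ x ∈ (List.ofFn g).map (algebraMap Γ(X, U.1) (X.presheaf.stalk (i.base y))),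
      x ∈ IsLocalRing.maximalIdeal (X.presheaf.stalk (i.base y)) := by
    intro x hx
    apply IsLocalRing.le_maximalIdeal hne
    rw [← hofl]
    exact Ideal.subset_span hx
  have hlen : ((List.ofFn g).map
      (algebraMap Γ(X, U.1) (X.presheaf.stalk (i.base y)))).length = c := by
    rw [List.length_map, List.length_ofFn]
  have hreg := cm_isWeaklyRegular_of_height (X.presheaf.stalk (i.base y)) _ hxs
    (by rw [hlen, hofl]; exact hht)
  obtain ⟨h, hhp, hcol⟩ := RegSeq.exists_notMem_forall_colon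
    (U.2.primeIdealOf ⟨i.base y, hyU⟩).asIdeal (List.ofFn g) hreg
  refine ⟨h, ?_, ?_, ?_⟩
  · exact (SchemeDimFT.mem_basicOpen_iff_notMem_primeIdealOf U.2 ⟨i.base y, hyU⟩ h).2 hhp
  · rw [← i.ker.map_ideal_basicOpen U h, hg, Ideal.map_span, ← Set.range_comp]
    rfl
  · haveI := U.2.isLocalization_basicOpen h
    have h1 := RegSeq.isWeaklyRegular_map_of_away (B := Γ(X, X.basicOpen h)) h (List.ofFn g) hcol
    rw [List.map_ofFn] at h1
    exact h1

theorem isZero_homology_of_chart {X : Scheme.{u}} (U : X.affineOpens) (c : ℕ)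
    (f : Fin c → Γ(X, U.1)) (hf : IsWeaklyRegular Γ(X, U.1) (List.ofFn f))
    (s : FlatMod.freeMod (↑U.1) c ⟶ Coh.structureModule (↑U.1))
    (hs : ∀ k : Fin c, KoszSh.secForm s ⊤
      ((Limits.Sigma.ι (fun _ : Fin c => Coh.structureModule (↑U.1)) k).app ⊤
        (OmegaSh.strSect (↑U.1) ⊤ 1)) = U.1.topIso.inv (f k))
    (C : KoszSh.Cx (FlatMod.freeMod (↑U.1) c) s) (q : ℕ) (hq : 1 ≤ q) :
    Limits.IsZero (C.K.homology q) := by
  haveI : IsAffine (↑U.1 : Scheme) := U.2
  refine KoszExact.isZero_homology (LocFreeRank.isFinLocFreeOfRank_freeMod _ c) ?_ C q hq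
  intro x
  refine ⟨⟨⊤, isAffineOpen_top _⟩, trivial,
    NormAlg.basisOfBijective (fun k => FreeBasis.bsec (X := (↑U.1 : Scheme)) c k ⊤)
      (FreeBasis.isBasisAt_bsec c ⊤), ?_⟩
  have hb : ∀ k, (NormAlg.basisOfBijective (fun k => FreeBasis.bsec (X := (↑U.1 : Scheme)) c k ⊤)
      (FreeBasis.isBasisAt_bsec c ⊤)) k = FreeBasis.bsec c k ⊤ :=
    NormAlg.basisOfBijective_apply _ _
  have h1 : (fun k => KoszSh.secForm s ⊤
      ((NormAlg.basisOfBijective (fun k => FreeBasis.bsec (X := (↑U.1 : Scheme)) c k ⊤)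
        (FreeBasis.isBasisAt_bsec c ⊤)) k)) = fun k => U.1.topIso.inv (f k) := by
    funext k
    rw [hb k]
    exact hs k
  show IsWeaklyRegular _ (List.ofFn fun k => KoszSh.secForm s ⊤
      ((NormAlg.basisOfBijective (fun k => FreeBasis.bsec (X := (↑U.1 : Scheme)) c k ⊤)
        (FreeBasis.isBasisAt_bsec c ⊤)) k))
  rw [h1]
  have h2 := isWeaklyRegular_map_ringEquiv U.1.topIso.symm.commRingCatIsoToRingEquiv
    (List.ofFn f) hf
  rw [List.map_ofFn] at h2
  exact h2

end Groth.Agent.Lib.Helper25.LciChart
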