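import Groth.Agent.Lib.Helper4.CM
import Groth.Agent.Lib.Helper4.CMChain
import Groth.Agent.Lib.Helper5.RegSeqSpread

/-!
# In a Cohen–Macaulay local ring, `c` elements generating an ideal of height `≥ c` form a
# regular sequence; transport of weak regularity along ring isomorphisms
-/

set_option autoImplicit false
set_option linter.style.haveILetI false
set_option linter.unusedSectionVars false
set_option linter.unusedVariables false
set_option maxHeartbeats 800000
universe u
open IsLocalRing RingTheory.Sequence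

namespace Groth.Agent.Lib.Helper25.LciChartAlg

open Groth.Agent.Lib.Helper4

theorem cm_dim_add_height_le (A : Type u) [CommRing A] [LocCoh.IsCohenMacaulayLocalRing A]
    (I : Ideal A) (g d n : ℕ) (hg : I.height = g)
    (hd : ringKrullDim (A ⧸ I) = d) (hn : ringKrullDim A = n) : d + g ≤ n := by
  have hCMA : LocCoh.IsCohenMacaulayModule A A :=
    LocCoh.IsCohenMacaulayLocalRing.supportDim_eq_depth
  have hsupp : Module.support A A = Set.univ := by
    rw [Module.support_of_algebra, Algebra.algebraMap_self]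
    have : RingHom.ker (RingHom.id A) = ⊥ := by
      rw [← RingHom.injective_iff_ker_eq_bot]
      exact Function.injective_id
    rw [this]
    simp
  obtain ⟨P, hP, hIP, hPg⟩ := Ideal.exists_isPrime_height_eq hg
  haveI := hP
  haveI : Nonempty (PrimeSpectrum.zeroLocus (R := A) (I : Set A)) :=
    ⟨⟨⟨P, hP⟩, by rw [PrimeSpectrum.mem_zeroLocus]; exact SetLike.coe_subset_coe.2 hIP⟩⟩
  have hd0 := hd
  rw [ringKrullDim_quotient, Order.krullDim_eq_iSup_coheight_of_nonempty] at hd0
  have hd' : (⨆ a : PrimeSpectrum.zeroLocus (R := A) (I : Set A), Order.coheight a) =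
      (d : ℕ∞) := by
    exact_mod_cast hd0
  obtain ⟨a, ha⟩ := ENat.exists_eq_iSup_of_lt_top
    (f := fun a : PrimeSpectrum.zeroLocus (R := A) (I : Set A) => Order.coheight a)
    (by rw [hd']; exact ENat.coe_lt_top d)
  rw [hd'] at ha
  have h2 : Order.coheight a ≤ Order.coheight a.1 :=
    Order.coheight_le_coheight_apply_of_strictMono Subtype.val (Subtype.strictMono_coe _) a
  have hIQ : I ≤ a.1.asIdeal := by
    have := a.2
    rw [PrimeSpectrum.mem_zeroLocus] at this
    exact SetLike.coe_subset_coe.1 this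
  haveI : a.1.asIdeal.IsPrime := a.1.2
  have h3 := cm_height_add_ringKrullDim_quotient hCMA hsupp a.1
  rw [ringKrullDim_quotient_eq_coheight, hn] at h3
  have h4 : a.1.asIdeal.height + Order.coheight a.1 = (n : ℕ∞) := by exact_mod_cast h3
  have h5 : I.height ≤ a.1.asIdeal.height := Ideal.height_mono hIQ
  have h5' : (g : ℕ∞) ≤ a.1.asIdeal.height := by rw [← hg]; exact h5
  have h2' : (d : ℕ∞) ≤ Order.coheight a.1 := by rw [← ha]; exact h2
  have h6 : (d : ℕ∞) + (g : ℕ∞) ≤ (n : ℕ∞) :=
    calc (d : ℕ∞) + (g : ℕ∞) = (g : ℕ∞) + (d : ℕ∞) := add_comm _ _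
      _ ≤ a.1.asIdeal.height + Order.coheight a.1 := add_le_add h5' h2'
      _ = (n : ℕ∞) := h4
  exact_mod_cast h6

theorem cm_isWeaklyRegular_of_height (A : Type u) [CommRing A] [LocCoh.IsCohenMacaulayLocalRing A]
    (xs : List A) (hxs : ∀ x ∈ xs, x ∈ maximalIdeal A)
    (hht : (xs.length : ℕ∞) ≤ (Ideal.ofList xs).height) : IsWeaklyRegular A xs := by
  have hCMA : LocCoh.IsCohenMacaulayModule A A :=
    LocCoh.IsCohenMacaulayLocalRing.supportDim_eq_depth
  obtain ⟨n, hn0⟩ := exists_nat_supportDim (R := A) (M := A)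
  have hn : ringKrullDim A = n := by
    rw [← Module.supportDim_self_eq_ringKrullDim, hn0]
    rfl
  have hIle : Ideal.ofList xs ≤ maximalIdeal A := by
    change Ideal.span {x | x ∈ xs} ≤ _
    exact Ideal.span_le.2 (fun x hx => hxs x hx)
  have hItop : Ideal.ofList xs ≠ ⊤ := fun h =>
    (IsLocalRing.maximalIdeal.isMaximal A).ne_top (top_le_iff.1 (h ▸ hIle))
  have hgtop : (Ideal.ofList xs).height ≠ ⊤ := Ideal.height_ne_top hItop
  obtain ⟨g, hg⟩ := ENat.ne_top_iff_exists.mp hgtop
  have hsmul : (Ideal.ofList xs • (⊤ : Submodule A A)) = Ideal.ofList xs := by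
    rw [smul_eq_mul, Ideal.mul_top]
  let e : (A ⧸ Ideal.ofList xs • (⊤ : Submodule A A)) ≃ₗ[A] (A ⧸ Ideal.ofList xs) :=
    Submodule.quotEquivOfEq _ _ hsmul
  haveI : Nontrivial (A ⧸ Ideal.ofList xs) := Ideal.Quotient.nontrivial_iff.mpr hItop
  haveI : Nontrivial (A ⧸ Ideal.ofList xs • (⊤ : Submodule A A)) := e.toEquiv.nontrivial
  obtain ⟨D, hD⟩ := exists_nat_supportDim (R := A)
    (M := A ⧸ Ideal.ofList xs • (⊤ : Submodule A A))
  have hD' : ringKrullDim (A ⧸ Ideal.ofList xs) = D := by
    rw [← Module.supportDim_quotient_eq_ringKrullDim, ← Module.supportDim_eq_of_equiv e, hD]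
    rfl
  have hcm : D + g ≤ n := cm_dim_add_height_le A (Ideal.ofList xs) g D n hg.symm hD' hn
  have h3 := supportDim_le_supportDim_quot_ofList_add_length (R := A) (M := A) xs hxs
  rw [Module.supportDim_self_eq_ringKrullDim, hn, hD] at h3
  have h3' : n ≤ D + xs.length := by exact_mod_cast h3
  have h4 : xs.length ≤ g := by
    rw [← hg] at hht
    exact_mod_cast hht
  have hlen : D + xs.length = n := by omega
  have hdim : Module.supportDim A (A ⧸ Ideal.ofList xs • (⊤ : Submodule A A)) + xs.length =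
      Module.supportDim A A := by
    rw [Module.supportDim_self_eq_ringKrullDim, hn, hD]
    exact_mod_cast hlen
  exact cm_isWeaklyRegular_of_supportDim hCMA xs hxs hdim

/-- transport of weak regularity along a ring isomorphism -/
theorem isWeaklyRegular_map_ringEquiv {R S : Type*} [CommRing R] [CommRing S] (e : R ≃+* S)
    (rs : List R) (h : IsWeaklyRegular R rs) : IsWeaklyRegular S (rs.map e) :=
  (e.toAddEquiv.isWeaklyRegular_congr (List.forall₂_map_right_iff.mpr
    (List.forall₂_same.mpr fun r _ x => map_mul e r x))).1 h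

theorem ofList_ofFn {R : Type*} [CommRing R] {c : ℕ} (v : Fin c → R) :
    Ideal.ofList (List.ofFn v) = Ideal.span (Set.range v) := by
  unfold Ideal.ofList
  congr 1
  ext r
  rw [Set.mem_setOf_eq, List.mem_ofFn]
  rfl

end Groth.Agent.Lib.Helper25.LciChartAlg
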