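import Groth.Agent.Lib.Helper25.TorLoc
import Groth.Agent.Lib.Helper25.LciChart
import Groth.Agent.Lib.Helper25.LciGeom
import Groth.Prelude.Def_RegImm

/-!
# Intersection of two regular immersions of expected codimension in a Cohen–Macaulay scheme
-/

set_option autoImplicit false
set_option linter.style.haveILetI false
universe u
open CategoryTheory CategoryTheory.Limits AlgebraicGeometry TopologicalSpace Opposite

namespace Groth.Agent.Lib.Helper25.LciInter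

open Groth.Agent.Lib.Helper25.TorLoc Groth.Agent.Lib.Helper25.LciChartAlg
  Groth.Agent.Lib.Helper14.TorKer Groth.Agent.Lib.Helper5

theorem ker_inter {X Y Z : Scheme.{u}} (iY : Y ⟶ X) (iZ : Z ⟶ X) [IsClosedImmersion iY]
    [IsClosedImmersion iZ] :
    (pullback.fst iY iZ ≫ iY).ker = iY.ker ⊔ iZ.ker := by
  apply le_antisymm
  · have hY : iY.ker ≤ (iY.ker ⊔ iZ.ker).subschemeι.ker := by
      rw [Scheme.IdealSheafData.ker_subschemeι]
      exact le_sup_left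
    have hZ : iZ.ker ≤ (iY.ker ⊔ iZ.ker).subschemeι.ker := by
      rw [Scheme.IdealSheafData.ker_subschemeι]
      exact le_sup_right
    have hfac : IsClosedImmersion.lift iY (iY.ker ⊔ iZ.ker).subschemeι hY ≫ iY =
        IsClosedImmersion.lift iZ (iY.ker ⊔ iZ.ker).subschemeι hZ ≫ iZ := by
      rw [IsClosedImmersion.lift_fac, IsClosedImmersion.lift_fac]
    have hs : pullback.lift _ _ hfac ≫ (pullback.fst iY iZ ≫ iY) =
        (iY.ker ⊔ iZ.ker).subschemeι := by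
      rw [← Category.assoc, pullback.lift_fst, IsClosedImmersion.lift_fac]
    calc (pullback.fst iY iZ ≫ iY).ker
        ≤ (pullback.lift _ _ hfac ≫ (pullback.fst iY iZ ≫ iY)).ker :=
          Scheme.Hom.le_ker_comp _ _
      _ = iY.ker ⊔ iZ.ker := by rw [hs, Scheme.IdealSheafData.ker_subschemeι]
  · apply sup_le
    · exact Scheme.Hom.le_ker_comp _ _
    · rw [pullback.condition]
      exact Scheme.Hom.le_ker_comp _ _

theorem support_ker_eq_range {X Y : Scheme.{u}} (i : Y ⟶ X) [IsClosedImmersion i] :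
    (i.ker.support : Set X) = Set.range i.base := by
  rw [Scheme.Hom.support_ker]
  exact i.isClosedEmbedding.isClosed_range.closure_eq

theorem map_germ_ideal_eq {X : Scheme.{u}} (𝓘 : X.IdealSheafData) (U U' : X.affineOpens) (x : X)
    (hx : x ∈ U.1) (hx' : x ∈ U'.1) :
    (𝓘.ideal U).map (X.presheaf.germ U.1 x hx).hom =
      (𝓘.ideal U').map (X.presheaf.germ U'.1 x hx').hom := by
  obtain ⟨_, ⟨V, hV0, rfl⟩, hxV, hVU⟩ := X.isBasis_affineOpens.exists_subset_of_mem_open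
    (⟨hx, hx'⟩ : x ∈ ((U.1 ⊓ U'.1 : X.Opens) : Set X)) (U.1 ⊓ U'.1).isOpen
  have key : ∀ (V' : X.affineOpens) (hxV' : x ∈ V'.1) (U₀ : X.affineOpens) (h₀ : V' ≤ U₀)
      (hx₀ : x ∈ U₀.1),
      (𝓘.ideal U₀).map (X.presheaf.germ U₀.1 x hx₀).hom =
        (𝓘.ideal V').map (X.presheaf.germ V'.1 x hxV').hom := by
    intro V' hxV' U₀ h₀ hx₀
    rw [← 𝓘.map_ideal h₀, Ideal.map_map]
    have h1 := X.presheaf.germ_res (homOfLE h₀) x hxV'
    have h2 : (X.presheaf.germ U₀.1 x hx₀).hom =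
        (X.presheaf.germ V'.1 x hxV').hom.comp (X.presheaf.map (homOfLE h₀).op).hom :=
      (congrArg CommRingCat.Hom.hom h1).symm
    rw [h2]
  rw [key ⟨V, hV0⟩ hxV U (fun y hy => (hVU hy).1) hx,
    key ⟨V, hV0⟩ hxV U' (fun y hy => (hVU hy).2) hx']

theorem le_height_of_ker_le {X W : Scheme.{u}} (w : W ⟶ X) [IsClosedImmersion w] (c : ℕ)
    (hcodim : ∀ w₀ : W, ((c : ℕ) : WithBot ℕ∞) ≤ ringKrullDim (X.presheaf.stalk (w.base w₀)))
    (U : X.affineOpens) (𝔞 : Ideal Γ(X, U.1)) (h𝔞 : w.ker.ideal U ≤ 𝔞) :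
    (c : ℕ∞) ≤ 𝔞.height := by
  rw [Ideal.height_eq_inf_minimalPrimes]
  refine le_iInf₂ (fun J hJ => ?_)
  haveI hJp : J.IsPrime := hJ.1.1
  have hle : w.ker.ideal U ≤ J := h𝔞.trans hJ.1.2
  have hsupp : U.2.fromSpec ⟨J, hJp⟩ ∈ w.ker.support :=
    (LciGeom.fromSpec_mem_support_iff w.ker U ⟨J, hJp⟩).2 hle
  have hrange : U.2.fromSpec ⟨J, hJp⟩ ∈ Set.range w.base := by
    rw [← support_ker_eq_range]
    exact hsupp
  obtain ⟨w₀, hw₀⟩ := hrange
  have hdim := hcodim w₀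
  rw [hw₀] at hdim
  have hxU := LciGeom.fromSpec_mem U ⟨J, hJp⟩
  letI := X.presheaf.algebra_section_stalk ⟨U.2.fromSpec ⟨J, hJp⟩, hxU⟩
  haveI : IsLocalization.AtPrime (X.presheaf.stalk (U.2.fromSpec ⟨J, hJp⟩)) J :=
    U.2.isLocalization_stalk' ⟨J, hJp⟩ hxU
  rw [IsLocalization.AtPrime.ringKrullDim_eq_height J
    (X.presheaf.stalk (U.2.fromSpec ⟨J, hJp⟩))] at hdim
  exact_mod_cast hdim

theorem exists_stalk_gens {X Y : Scheme.{u}} (i : Y ⟶ X) [IsClosedImmersion i] (c : ℕ)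
    (hi : RegImm.IsRegularImmersionOfCodim RegImm.Kind.regular c i) (y : Y) (U : X.affineOpens)
    (hx : i.base y ∈ U.1) :
    ∃ xs : List (X.presheaf.stalk (i.base y)), xs.length = c ∧
      (i.ker.ideal U).map (X.presheaf.germ U.1 (i.base y) hx).hom = Ideal.ofList xs := by
  obtain ⟨U₁, hyU₁, -, rs, hlen, -, hker⟩ := hi.2 y
  refine ⟨rs.map (X.presheaf.germ U₁.1 (i.base y) hyU₁).hom, by rw [List.length_map, hlen], ?_⟩
  rw [map_germ_ideal_eq i.ker U U₁ (i.base y) hx hyU₁, Scheme.Hom.ker_apply, hker,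
    Ideal.map_ofList]

section main

variable {X Y Z : Scheme.{u}} [IsLocallyNoetherian X]
  (hCM : ∀ x : X, LocCoh.IsCohenMacaulayLocalRing (X.presheaf.stalk x))
  (iY : Y ⟶ X) (iZ : Z ⟶ X) [IsClosedImmersion iY] [IsClosedImmersion iZ] (a b : ℕ)
  (hY : RegImm.IsRegularImmersionOfCodim RegImm.Kind.regular a iY)
  (hZ : RegImm.IsRegularImmersionOfCodim RegImm.Kind.regular b iZ)
  (hcodim : ∀ w : ↥(pullback iY iZ), ((a + b : ℕ) : WithBot ℕ∞) ≤
    ringKrullDim (X.presheaf.stalk ((pullback.fst iY iZ ≫ iY).base w)))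

omit [IsLocallyNoetherian X] in
include hY hZ hcodim in
theorem local_data (x : X) (hxY : x ∈ Set.range iY.base) (hxZ : x ∈ Set.range iZ.base)
    (U : X.affineOpens) (hxU : x ∈ U.1) :
    ∃ xs ys : List (X.presheaf.stalk x),
      (iY.ker.ideal U).map (X.presheaf.germ U.1 x hxU).hom = Ideal.ofList xs ∧
      (iZ.ker.ideal U).map (X.presheaf.germ U.1 x hxU).hom = Ideal.ofList ys ∧
      ((xs ++ ys).length : ℕ∞) ≤ (Ideal.ofList (xs ++ ys)).height := by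
  obtain ⟨xs, hxl, hxs⟩ : ∃ xs : List (X.presheaf.stalk x), xs.length = a ∧
      (iY.ker.ideal U).map (X.presheaf.germ U.1 x hxU).hom = Ideal.ofList xs := by
    obtain ⟨y₀, rfl⟩ := hxY
    exact exists_stalk_gens iY a hY y₀ U hxU
  obtain ⟨ys, hyl, hys⟩ : ∃ ys : List (X.presheaf.stalk x), ys.length = b ∧
      (iZ.ker.ideal U).map (X.presheaf.germ U.1 x hxU).hom = Ideal.ofList ys := by
    obtain ⟨z₀, rfl⟩ := hxZ
    exact exists_stalk_gens iZ b hZ z₀ U hxU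
  refine ⟨xs, ys, hxs, hys, ?_⟩
  have hsup : Ideal.ofList (xs ++ ys) =
      ((pullback.fst iY iZ ≫ iY).ker.ideal U).map (X.presheaf.germ U.1 x hxU).hom := by
    rw [Ideal.ofList_append, ← hxs, ← hys, ← Ideal.map_sup, ker_inter]
    rfl
  rw [List.length_append, hxl, hyl, hsup]
  letI := X.presheaf.algebra_section_stalk ⟨x, hxU⟩
  haveI := U.2.isLocalization_stalk ⟨x, hxU⟩
  rw [← IsLocalization.height_under (U.2.primeIdealOf ⟨x, hxU⟩).asIdeal.primeCompl]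
  exact le_height_of_ker_le (pullback.fst iY iZ ≫ iY) (a + b) hcodim U _ Ideal.le_comap_map

omit [IsLocallyNoetherian X] in
include hCM hY hZ hcodim in
theorem torZ_sections (U : X.affineOpens) (n : ℕ) (hn : 0 < n) :
    TorZ Γ(X, U.1) n (Γ(X, U.1) ⧸ iY.ker.ideal U) (Γ(X, U.1) ⧸ iZ.ker.ideal U) := by
  refine torZ_quot_of_local _ _ n hn (fun p hp hIp hJp => ?_)
  haveI := hp
  have hxU : U.2.fromSpec ⟨p, hp⟩ ∈ U.1 := LciGeom.fromSpec_mem U ⟨p, hp⟩
  have hxY : U.2.fromSpec ⟨p, hp⟩ ∈ Set.range iY.base := by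
    rw [← support_ker_eq_range]
    exact (LciGeom.fromSpec_mem_support_iff iY.ker U ⟨p, hp⟩).2 hIp
  have hxZ : U.2.fromSpec ⟨p, hp⟩ ∈ Set.range iZ.base := by
    rw [← support_ker_eq_range]
    exact (LciGeom.fromSpec_mem_support_iff iZ.ker U ⟨p, hp⟩).2 hJp
  obtain ⟨xs, ys, hxs, hys, hht⟩ :=
    local_data iY iZ a b hY hZ hcodim (U.2.fromSpec ⟨p, hp⟩) hxY hxZ U hxU
  exact ⟨X.presheaf.stalk (U.2.fromSpec ⟨p, hp⟩), inferInstance,
    X.presheaf.algebra_section_stalk ⟨U.2.fromSpec ⟨p, hp⟩, hxU⟩,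
    U.2.isLocalization_stalk' ⟨p, hp⟩ hxU, hCM _, xs, ys, hxs, hys, hht⟩

omit [IsLocallyNoetherian X] in
include hCM hY hZ hcodim in
theorem tor_vanishing (U : X.Opens) (hU : IsAffineOpen U) (n : ℕ) (hn : 0 < n) :
    Subsingleton (@DRing.Tor Γ(X, U) _ n Γ(Y, iY ⁻¹ᵁ U) Γ(Z, iZ ⁻¹ᵁ U) _
      (iY.app U).hom.toModule _ (iZ.app U).hom.toModule) := by
  have h := torZ_sections hCM iY iZ a b hY hZ hcodim ⟨U, hU⟩ n hn
  rw [Scheme.Hom.ker_apply, Scheme.Hom.ker_apply] at h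
  exact subsingleton_tor_of_surjective (iY.app U).hom (iZ.app U).hom
    (iY.app_surjective U hU) (iZ.app_surjective U hU) n h

include hCM hY hZ hcodim in
theorem inter_regular :
    RegImm.IsRegularImmersionOfCodim RegImm.Kind.regular (a + b) (pullback.fst iY iZ ≫ iY) := by
  haveI : IsClosedImmersion (pullback.fst iY iZ ≫ iY) := inferInstance
  refine ⟨inferInstance, fun w₀ => ?_⟩
  obtain ⟨U₁, hyU₁, -, rs₁, hlen₁, -, hker₁⟩ := hY.2 ((pullback.fst iY iZ).base w₀)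
  obtain ⟨U₂, hzU₂, -, rs₂, hlen₂, -, hker₂⟩ := hZ.2 ((pullback.snd iY iZ).base w₀)
  have hx1 : (pullback.fst iY iZ ≫ iY).base w₀ ∈ U₁.1 := hyU₁
  have hcond : (pullback.fst iY iZ ≫ iY).base w₀ = (pullback.snd iY iZ ≫ iZ).base w₀ := by
    rw [pullback.condition]
  have hx2 : (pullback.fst iY iZ ≫ iY).base w₀ ∈ U₂.1 := by
    rw [hcond]
    exact hzU₂
  obtain ⟨_, ⟨V, hV0, rfl⟩, hxV, hVU⟩ := X.isBasis_affineOpens.exists_subset_of_mem_open
    (⟨hx1, hx2⟩ : (pullback.fst iY iZ ≫ iY).base w₀ ∈ ((U₁.1 ⊓ U₂.1 : X.Opens) : Set X))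
    (U₁.1 ⊓ U₂.1).isOpen
  have hV1 : V ≤ U₁.1 := fun y hy => (hVU hy).1
  have hV2 : V ≤ U₂.1 := fun y hy => (hVU hy).2
  obtain ⟨L, hLdef⟩ : ∃ L : List Γ(X, V), L = rs₁.map (X.presheaf.map (homOfLE hV1).op).hom ++
      rs₂.map (X.presheaf.map (homOfLE hV2).op).hom := ⟨_, rfl⟩
  have hLlen : L.length = a + b := by
    rw [hLdef, List.length_append, List.length_map, List.length_map, hlen₁, hlen₂]
  have hL : (pullback.fst iY iZ ≫ iY).ker.ideal ⟨V, hV0⟩ = Ideal.ofList L := by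
    rw [ker_inter]
    show iY.ker.ideal ⟨V, hV0⟩ ⊔ iZ.ker.ideal ⟨V, hV0⟩ = _
    rw [← iY.ker.map_ideal (U := ⟨V, hV0⟩) (V := U₁) hV1,
      ← iZ.ker.map_ideal (U := ⟨V, hV0⟩) (V := U₂) hV2, Scheme.Hom.ker_apply,
      Scheme.Hom.ker_apply, hker₁, hker₂, Ideal.map_ofList, Ideal.map_ofList,
      ← Ideal.ofList_append, hLdef]
    rfl
  have hg : (pullback.fst iY iZ ≫ iY).ker.ideal ⟨V, hV0⟩ = Ideal.span (Set.range L.get) := by
    rw [hL, ← ofList_ofFn L.get, List.ofFn_get]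
  have hht : (L.length : ℕ∞) ≤
      (RingHom.ker ((pullback.fst iY iZ ≫ iY).stalkMap w₀).hom).height := by
    rw [StalkKer.ker_stalkMap_eq_map_ker (pullback.fst iY iZ ≫ iY) hV0 w₀ hxV,
      ← Scheme.Hom.ker_apply (pullback.fst iY iZ ≫ iY) ⟨V, hV0⟩]
    letI := X.presheaf.algebra_section_stalk ⟨(pullback.fst iY iZ ≫ iY).base w₀, hxV⟩
    haveI := hV0.isLocalization_stalk ⟨(pullback.fst iY iZ ≫ iY).base w₀, hxV⟩
    rw [← IsLocalization.height_under
      (hV0.primeIdealOf ⟨(pullback.fst iY iZ ≫ iY).base w₀, hxV⟩).asIdeal.primeCompl, hLlen]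
    exact le_height_of_ker_le (pullback.fst iY iZ ≫ iY) (a + b) hcodim ⟨V, hV0⟩ _
      Ideal.le_comap_map
  obtain ⟨h, hxh, hker', hreg⟩ := LciChart.exists_chart hCM (pullback.fst iY iZ ≫ iY) L.length w₀
    ⟨V, hV0⟩ hxV L.get hg hht
  obtain ⟨rs, hrs⟩ : ∃ rs : List Γ(X, X.basicOpen h), rs = List.ofFn fun k =>
      (X.presheaf.map (homOfLE (X.basicOpen_le h)).op).hom (L.get k) := ⟨_, rfl⟩
  rw [← hrs] at hreg
  have hof : (pullback.fst iY iZ ≫ iY).ker.ideal (X.affineBasicOpen h) = Ideal.ofList rs := by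
    rw [hrs]
    exact hker'.trans (ofList_ofFn _).symm
  have hkeq : RingHom.ker ((pullback.fst iY iZ ≫ iY).app (X.basicOpen h)).hom = Ideal.ofList rs :=
    (Scheme.Hom.ker_apply (pullback.fst iY iZ ≫ iY) (X.affineBasicOpen h)).symm.trans hof
  have hrl : rs.length = a + b := by rw [hrs, List.length_ofFn, hLlen]
  refine ⟨X.affineBasicOpen h, hxh, inferInstance, rs, hrl, ?_, hkeq⟩
  · show RingTheory.Sequence.IsRegular Γ(X, X.basicOpen h) rs
    refine ⟨hreg, fun htop => ?_⟩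
    rw [smul_eq_mul, Ideal.mul_top] at htop
    haveI : Nonempty ↥((pullback.fst iY iZ ≫ iY) ⁻¹ᵁ (X.basicOpen h)) := ⟨⟨w₀, hxh⟩⟩
    exact RingHom.ker_ne_top ((pullback.fst iY iZ ≫ iY).app (X.basicOpen h)).hom
      (hkeq.trans htop.symm)

end main

end Groth.Agent.Lib.Helper25.LciInter
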