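import Mathlib
import Groth.Prelude.Def_ModSite2
import Groth.Agent.Lib.Helper25.LocGenRel

/-!
# A finitely presented module with a free stalk is free near the point (ringed spaces)
-/

set_option autoImplicit false
universe u

open CategoryTheory CategoryTheory.Limits Opposite SheafOfModules TopologicalSpace
open Groth.Agent.Lib.Helper25.LocGenSite Groth.Agent.Lib.Helper25.LocGenFP
  Groth.Agent.Lib.Helper25.LocGenRel

namespace Groth.Agent.Lib.Helper25.LocGenFree

section General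

variable {X : TopCat.{u}} {R : Sheaf (Opens.grothendieckTopology X) RingCat.{u}}

/-- A section of the sheaf of rings which is locally zero is zero. -/
lemma eq_zero_of_locally_zero {W : Opens X} (a : R.obj.obj (op W))
    (h : ∀ y : X, y ∈ W → ∃ (W' : Opens X) (hW' : W' ≤ W), y ∈ W' ∧ resR hW' a = 0) :
    a = 0 := by
  have hsep := Sheaf.isSeparated R
  let S : Sieve W :=
    { arrows := fun W' f => resR (R := R) f.le a = 0
      downward_closed := by
        intro Y Z f hf g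
        have : resR (R := R) (g ≫ f).le a = resR g.le (resR f.le a) :=
          (resR_resR f.le g.le a).symm
        rw [this, hf, map_zero] }
  refine hsep W S (fun y hy => ?_) a 0 (fun Y f hf => ?_)
  · obtain ⟨W', hW', hyW', h0⟩ := h y hy
    exact ⟨W', homOfLE hW', h0, hyW'⟩
  · have h0 : (R.obj.map f.op).hom (0 : R.obj.obj (op W)) = 0 := map_zero _
    exact (show (R.obj.map f.op).hom a = 0 from hf).trans h0.symm

/-- A morphism of sheaves of modules injective on sections is a monomorphism. -/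
lemma mono_of_injective {C : Type u} [SmallCategory C] {J : GrothendieckTopology C}
    {A : Sheaf J RingCat.{u}} {M N : SheafOfModules.{u} A} (f : M ⟶ N)
    (h : ∀ W : Cᵒᵖ, Function.Injective (f.val.app W).hom) : Mono f := by
  haveI : Mono ((SheafOfModules.forget A).map f) :=
    PresheafOfModules.mono_of_injective (fun {W} => h W)
  exact Functor.mono_of_mono_map (SheafOfModules.forget A) inferInstance

theorem LocSpanT.of_comb {M : SheafOfModules.{u} R} {U U₂ : Opens X} {ι' ι : Type u}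
    [Fintype ι'] [Fintype ι] {s : ι' → M.val.obj (op U)} (hs : LocSpanT M U s) (h : U₂ ≤ U)
    (fam₂ : ι → M.val.obj (op U₂)) (A : ι' → ι → R.obj.obj (op U₂))
    (hA : ∀ i, res M h (s i) = ∑ j, A i j • fam₂ j) : LocSpanT M U₂ fam₂ := by
  intro W hW m y hy
  obtain ⟨W', hW', hyW', c, hc⟩ := hs W (hW.trans h) m y hy
  refine ⟨W', hW', hyW', fun j => ∑ i, c i * resR (hW'.trans hW) (A i j), ?_⟩
  rw [hc]
  have hA' : ∀ i, res M (hW'.trans (hW.trans h)) (s i) =
      ∑ j, resR (hW'.trans hW) (A i j) • res M (hW'.trans hW) (fam₂ j) := by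
    intro i
    have := congrArg (res M (hW'.trans hW)) (hA i)
    rw [res_res, map_sum] at this
    simpa only [res_smul] using this
  simp only [hA', Finset.smul_sum, Finset.sum_smul, mul_smul]
  exact Finset.sum_comm

end General

section Stalk

variable {X : TopCat.{u}} (O : TopCat.Sheaf CommRingCat.{u} X) (x : X)

lemma germ_res (F : ModSite.Mod O) {V V' : Opens X} (h : V' ≤ V) (hx' : x ∈ V')
    (s : F.val.obj (op V)) :
    ModSite.germ (Opens.pointGrothendieckTopology x) F V' ⟨⟨hx'⟩⟩ (res F h s) =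
      ModSite.germ (Opens.pointGrothendieckTopology x) F V ⟨⟨h hx'⟩⟩ s := by
  have e := (Opens.pointGrothendieckTopology x).toPresheafFiber_w_apply (homOfLE h) ⟨⟨hx'⟩⟩
    (ModSite.toAb F).obj s
  rw [Subsingleton.elim ((Opens.pointGrothendieckTopology x).fiber.map (homOfLE h) ⟨⟨hx'⟩⟩)
    ⟨⟨h hx'⟩⟩] at e
  exact e

lemma germRing_res {V V' : Opens X} (h : V' ≤ V) (hx' : x ∈ V')
    (a : (ModSite.ringSh O).obj.obj (op V)) :
    ModSite.germRing (O := O) (Opens.pointGrothendieckTopology x) V' ⟨⟨hx'⟩⟩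
        (resR (R := ModSite.ringSh O) h a) =
      ModSite.germRing (O := O) (Opens.pointGrothendieckTopology x) V ⟨⟨h hx'⟩⟩ a := by
  have e := (Opens.pointGrothendieckTopology x).toPresheafFiber_w_apply (homOfLE h) ⟨⟨hx'⟩⟩
    O.obj a
  rw [Subsingleton.elim ((Opens.pointGrothendieckTopology x).fiber.map (homOfLE h) ⟨⟨hx'⟩⟩)
    ⟨⟨h hx'⟩⟩] at e
  exact e

lemma exists_germ (F : ModSite.Mod O) (a : ModSite.stalkAb (Opens.pointGrothendieckTopology x) F) :
    ∃ (V : Opens X) (hxV : x ∈ V) (s : F.val.obj (op V)),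
      ModSite.germ (Opens.pointGrothendieckTopology x) F V ⟨⟨hxV⟩⟩ s = a := by
  obtain ⟨V, v, s, hs⟩ := (Opens.pointGrothendieckTopology x).toPresheafFiber_jointly_surjective
    (P := (ModSite.toAb F).obj) a
  exact ⟨V, v.down.down, s, hs⟩

lemma exists_germRing (α : ModSite.stalkRing (Opens.pointGrothendieckTopology x) O) :
    ∃ (V : Opens X) (hxV : x ∈ V) (a : (ModSite.ringSh O).obj.obj (op V)),
      ModSite.germRing (O := O) (Opens.pointGrothendieckTopology x) V ⟨⟨hxV⟩⟩ a = α := by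
  obtain ⟨V, v, s, hs⟩ := (Opens.pointGrothendieckTopology x).toPresheafFiber_jointly_surjective
    (P := O.obj) α
  exact ⟨V, v.down.down, s, hs⟩

lemma germ_eq_iff (F : ModSite.Mod O) {V : Opens X} (hxV : x ∈ V) (s t : F.val.obj (op V)) :
    ModSite.germ (Opens.pointGrothendieckTopology x) F V ⟨⟨hxV⟩⟩ s =
        ModSite.germ (Opens.pointGrothendieckTopology x) F V ⟨⟨hxV⟩⟩ t ↔
      ∃ (V' : Opens X) (h : V' ≤ V), x ∈ V' ∧ res F h s = res F h t := by
  constructor
  · intro h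
    obtain ⟨Y, f, y, -, hEq⟩ := ((Opens.pointGrothendieckTopology x).toPresheafFiber_eq_iff'
      V ⟨⟨hxV⟩⟩ _ _).1 h
    exact ⟨Y, f.le, y.down.down, hEq⟩
  · rintro ⟨V', h, hxV', hEq⟩
    rw [← germ_res O x F h hxV' s, ← germ_res O x F h hxV' t, hEq]

lemma germRing_eq_zero_iff {V : Opens X} (hxV : x ∈ V) (a : (ModSite.ringSh O).obj.obj (op V)) :
    ModSite.germRing (O := O) (Opens.pointGrothendieckTopology x) V ⟨⟨hxV⟩⟩ a = 0 ↔
      ∃ (V' : Opens X) (h : V' ≤ V), x ∈ V' ∧ resR (R := ModSite.ringSh O) h a = 0 := by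
  constructor
  · intro h
    have h0 : ModSite.germRing (O := O) (Opens.pointGrothendieckTopology x) V ⟨⟨hxV⟩⟩ a =
        ModSite.germRing (O := O) (Opens.pointGrothendieckTopology x) V ⟨⟨hxV⟩⟩ 0 := by
      rw [h]
      exact (map_zero _).symm
    obtain ⟨Y, f, y, -, hEq⟩ := ((Opens.pointGrothendieckTopology x).toPresheafFiber_eq_iff'
      V ⟨⟨hxV⟩⟩ _ _).1 h0
    refine ⟨Y, f.le, y.down.down, ?_⟩
    have h1 : (O.obj.map f.op).hom (0 : O.obj.obj (op V)) = 0 := map_zero _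
    exact (show (O.obj.map f.op).hom a = (O.obj.map f.op).hom 0 from hEq).trans h1
  · rintro ⟨V', h, hxV', hEq⟩
    rw [← germRing_res O x h hxV' a, hEq]
    exact map_zero _

end Stalk

section Algebra

lemma sum_ulift_basis {A : Type*} [CommRing A] {M : Type*} [AddCommGroup M] [Module A M] {r : ℕ}
    (e : M ≃ₗ[A] (Fin r → A)) (v : M) :
    ∑ j : ULift.{u} (Fin r), (e v j.down) • e.symm (Pi.single j.down (1 : A)) = v := by
  classical
  have h1 : ∑ j : ULift.{u} (Fin r), (e v j.down) • e.symm (Pi.single j.down (1 : A)) =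
      ∑ i : Fin r, (e v i) • e.symm (Pi.single i (1 : A)) :=
    Equiv.sum_comp Equiv.ulift (fun i => (e v i) • e.symm (Pi.single i (1 : A)))
  rw [h1]
  apply e.injective
  rw [map_sum]
  simp only [map_smul, LinearEquiv.apply_symm_apply]
  exact (pi_eq_sum_univ' (e v)).symm

lemma coeff_zero_of_sum {A : Type*} [CommRing A] {M : Type*} [AddCommGroup M] [Module A M]
    {r : ℕ} (e : M ≃ₗ[A] (Fin r → A)) (c : ULift.{u} (Fin r) → A)
    (h : ∑ j, c j • e.symm (Pi.single j.down (1 : A)) = 0) (j₀ : ULift.{u} (Fin r)) :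
    c j₀ = 0 := by
  classical
  have h2 := congrArg e h
  rw [map_sum, map_zero] at h2
  simp only [map_smul, LinearEquiv.apply_symm_apply] at h2
  have h3 := congrFun h2 j₀.down
  simp only [Finset.sum_apply, Pi.smul_apply, Pi.single_apply, smul_eq_mul, mul_ite, mul_one,
    mul_zero, Pi.zero_apply] at h3
  rw [Finset.sum_eq_single j₀] at h3
  · simpa using h3
  · intro b _ hb
    rw [if_neg]
    intro h'
    exact hb (ULift.ext _ _ h'.symm)
  · intro h'
    exact absurd (Finset.mem_univ _) h'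

end Algebra

section Main

variable {X : TopCat.{u}} (O : TopCat.Sheaf CommRingCat.{u} X) (x : X)

lemma germ_sum (F : ModSite.Mod O) {ι : Type*} (S : Finset ι) {V : Opens X} (hxV : x ∈ V)
    (m : ι → F.val.obj (op V)) :
    ModSite.germ (Opens.pointGrothendieckTopology x) F V ⟨⟨hxV⟩⟩ (∑ j ∈ S, m j) =
      ∑ j ∈ S, ModSite.germ (Opens.pointGrothendieckTopology x) F V ⟨⟨hxV⟩⟩ (m j) :=
  map_sum ((Opens.pointGrothendieckTopology x).toPresheafFiber V ⟨⟨hxV⟩⟩
    (ModSite.toAb F).obj).hom m S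

lemma germ_zero (F : ModSite.Mod O) {V : Opens X} (hxV : x ∈ V) :
    ModSite.germ (Opens.pointGrothendieckTopology x) F V ⟨⟨hxV⟩⟩ 0 = 0 :=
  map_zero ((Opens.pointGrothendieckTopology x).toPresheafFiber V ⟨⟨hxV⟩⟩
    (ModSite.toAb F).obj).hom

lemma exists_local_combination (F : ModSite.Mod O) {ι : Type u} [Fintype ι] {V Vn : Opens X}
    (hxV : x ∈ V) (hxVn : x ∈ Vn) (fam : ι → F.val.obj (op V)) (n : F.val.obj (op Vn))
    (α : ι → ModSite.stalkRing (Opens.pointGrothendieckTopology x) O)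
    (h : ModSite.germ (Opens.pointGrothendieckTopology x) F Vn ⟨⟨hxVn⟩⟩ n =
      ∑ j, α j • ModSite.germ (Opens.pointGrothendieckTopology x) F V ⟨⟨hxV⟩⟩ (fam j)) :
    ∃ (V' : Opens X) (hV' : V' ≤ V) (hVn' : V' ≤ Vn), x ∈ V' ∧
      ∃ a : ι → (ModSite.ringSh O).obj.obj (op V'),
        res F hVn' n = ∑ j, a j • res F hV' (fam j) := by
  classical
  have h1 : ∀ j, ∃ (W : Opens X) (hxW : x ∈ W) (a : (ModSite.ringSh O).obj.obj (op W)),
      ModSite.germRing (O := O) (Opens.pointGrothendieckTopology x) W ⟨⟨hxW⟩⟩ a = α j :=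
    fun j => exists_germRing O x (α j)
  choose W hxW a ha using h1
  obtain ⟨U₀, hxU₀, hU₀⟩ := exists_open_le_of_finite x W hxW
  have hV₁V : U₀ ⊓ (V ⊓ Vn) ≤ V := inf_le_right.trans inf_le_left
  have hV₁Vn : U₀ ⊓ (V ⊓ Vn) ≤ Vn := inf_le_right.trans inf_le_right
  have hV₁W : ∀ j, U₀ ⊓ (V ⊓ Vn) ≤ W j := fun j => inf_le_left.trans (hU₀ j)
  have hxV₁ : x ∈ U₀ ⊓ (V ⊓ Vn) := ⟨hxU₀, hxV, hxVn⟩
  have key : ModSite.germ (Opens.pointGrothendieckTopology x) F (U₀ ⊓ (V ⊓ Vn)) ⟨⟨hxV₁⟩⟩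
        (res F hV₁Vn n) =
      ModSite.germ (Opens.pointGrothendieckTopology x) F (U₀ ⊓ (V ⊓ Vn)) ⟨⟨hxV₁⟩⟩
        (∑ j, resR (R := ModSite.ringSh O) (hV₁W j) (a j) • res F hV₁V (fam j)) := by
    rw [germ_res O x F hV₁Vn hxV₁ n, h, germ_sum]
    refine Finset.sum_congr rfl (fun j _ => ?_)
    have e1 := ModSite.germ_smul (Opens.pointGrothendieckTopology x) F (U₀ ⊓ (V ⊓ Vn))
      ⟨⟨hxV₁⟩⟩ (resR (R := ModSite.ringSh O) (hV₁W j) (a j)) (res F hV₁V (fam j))
    have e2 := germRing_res O x (hV₁W j) hxV₁ (a j)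
    have e3 := germ_res O x F hV₁V hxV₁ (fam j)
    refine Eq.trans ?_ e1.symm
    rw [e2, e3]
    exact congrArg (fun z => z • ModSite.germ (Opens.pointGrothendieckTopology x) F V
      ⟨⟨hxV⟩⟩ (fam j)) (ha j).symm
  obtain ⟨V', hV', hxV', hEq⟩ := (germ_eq_iff O x F hxV₁ _ _).1 key
  refine ⟨V', hV'.trans hV₁V, hV'.trans hV₁Vn, hxV',
    fun j => resR hV' (resR (R := ModSite.ringSh O) (hV₁W j) (a j)), ?_⟩
  rw [res_res, map_sum] at hEq
  simpa only [res_smul, res_res] using hEq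

/-- Main theorem, in terms of a basis of the stalk. -/
theorem exists_restr_iso_free_of_basis (F : ModSite.Mod O)
    [SheafOfModules.IsFinitePresentation (R := ModSite.ringSh O) F] (r : ℕ)
    (γ : ULift.{u} (Fin r) → ModSite.stalkAb (Opens.pointGrothendieckTopology x) F)
    (hspan : ∀ v : ModSite.stalkAb (Opens.pointGrothendieckTopology x) F,
      ∃ c : ULift.{u} (Fin r) → ModSite.stalkRing (Opens.pointGrothendieckTopology x) O,
        v = ∑ j, c j • γ j)
    (hindep : ∀ c : ULift.{u} (Fin r) → ModSite.stalkRing (Opens.pointGrothendieckTopology x) O,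
      ∑ j, c j • γ j = 0 → ∀ j, c j = 0) :
    ∃ U : Opens X, x ∈ U ∧
      Nonempty ((ModSite.restr O U).obj F ≅ SheafOfModules.free (ULift.{u} (Fin r))) := by
  classical
  -- Step A: lift the basis to sections
  have hγ : ∀ j : ULift.{u} (Fin r), ∃ (V : Opens X) (hxV : x ∈ V) (s : F.val.obj (op V)),
      ModSite.germ (Opens.pointGrothendieckTopology x) F V ⟨⟨hxV⟩⟩ s = γ j :=
    fun j => exists_germ O x F (γ j)
  choose V hxV g hg using hγ
  obtain ⟨U₁, hxU₁, hU₁⟩ := exists_open_le_of_finite x V hxV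
  obtain ⟨fam₁, hfam₁⟩ : ∃ fam₁ : ULift.{u} (Fin r) → F.val.obj (op U₁),
    fam₁ = fun j => res F (hU₁ j) (g j) := ⟨_, rfl⟩
  have hgerm₁ : ∀ j, ModSite.germ (Opens.pointGrothendieckTopology x) F U₁ ⟨⟨hxU₁⟩⟩ (fam₁ j) =
      γ j := by
    intro j
    rw [hfam₁]
    exact (germ_res O x F (hU₁ j) hxU₁ (g j)).trans (hg j)
  -- Step B: finite presentation data near x
  obtain ⟨U_F, hxU_F, hFP⟩ := (isFinitePresentation_iff F).1 inferInstance x
  obtain ⟨ι', _, s, κ, _, ρ, hs, hrel, hloc⟩ := hFP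
  -- Step C/D: the lifted family spans near x
  have hcomb : ∀ i : ι', ∃ (V' : Opens X) (hV'1 : V' ≤ U₁) (hV'F : V' ≤ U_F), x ∈ V' ∧
      ∃ a : ULift.{u} (Fin r) → (ModSite.ringSh O).obj.obj (op V'),
        res F hV'F (s i) = ∑ j, a j • res F hV'1 (fam₁ j) := by
    intro i
    obtain ⟨c, hc⟩ := hspan
      (ModSite.germ (Opens.pointGrothendieckTopology x) F U_F ⟨⟨hxU_F⟩⟩ (s i))
    refine exists_local_combination O x F hxU₁ hxU_F fam₁ (s i) c ?_
    rw [hc]
    refine Finset.sum_congr rfl (fun j _ => ?_)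
    rw [hgerm₁ j]
  choose V' hV'1 hV'F hxV' A hA using hcomb
  obtain ⟨U₂', hxU₂', hU₂'⟩ := exists_open_le_of_finite x V' hxV'
  have h21 : U₂' ⊓ (U₁ ⊓ U_F) ≤ U₁ := inf_le_right.trans inf_le_left
  have h2F : U₂' ⊓ (U₁ ⊓ U_F) ≤ U_F := inf_le_right.trans inf_le_right
  have h2V : ∀ i, U₂' ⊓ (U₁ ⊓ U_F) ≤ V' i := fun i => inf_le_left.trans (hU₂' i)
  have hxU₂ : x ∈ U₂' ⊓ (U₁ ⊓ U_F) := ⟨hxU₂', hxU₁, hxU_F⟩
  have hA₂ : ∀ i, res F h2F (s i) =
      ∑ j, resR (R := ModSite.ringSh O) (h2V i) (A i j) • res F h21 (fam₁ j) := by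
    intro i
    have := congrArg (res F (h2V i)) (hA i)
    rw [res_res, map_sum] at this
    simpa only [res_smul, res_res] using this
  have hspan₂ : LocSpanT F (U₂' ⊓ (U₁ ⊓ U_F)) (fun j => res F h21 (fam₁ j)) :=
    LocSpanT.of_comb hs h2F _ (fun i j => resR (R := ModSite.ringSh O) (h2V i) (A i j)) hA₂
  -- Step E: relations
  obtain ⟨U₃, h32, hxU₃, κ', _, ρ', hrel', hloc'⟩ :=
    exists_locRelT_of_locSpanT F s ρ hs hrel hloc (fun j => res F h21 (fam₁ j)) hspan₂ x
      hxU_F hxU₂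
  -- Step F: the relations vanish in the stalk
  have hρ0 : ∀ k j, ModSite.germRing (O := O) (Opens.pointGrothendieckTopology x) U₃
      ⟨⟨hxU₃⟩⟩ (ρ' k j) = 0 := by
    intro k
    refine hindep (fun j => ModSite.germRing (O := O) (Opens.pointGrothendieckTopology x) U₃
      ⟨⟨hxU₃⟩⟩ (ρ' k j)) ?_
    have h0 := congrArg (ModSite.germ (Opens.pointGrothendieckTopology x) F U₃ ⟨⟨hxU₃⟩⟩)
      (hrel' k)
    rw [germ_sum] at h0
    refine Eq.trans (Finset.sum_congr rfl (fun j _ => ?_)) (h0.trans (germ_zero O x F hxU₃))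
    have e1 := ModSite.germ_smul (Opens.pointGrothendieckTopology x) F U₃ ⟨⟨hxU₃⟩⟩ (ρ' k j)
      (res F h32 (res F h21 (fam₁ j)))
    have e2 : ModSite.germ (Opens.pointGrothendieckTopology x) F U₃ ⟨⟨hxU₃⟩⟩
        (res F h32 (res F h21 (fam₁ j))) = γ j := by
      rw [germ_res O x F h32 hxU₃, germ_res O x F h21 (h32 hxU₃)]
      exact hgerm₁ j
    refine Eq.trans ?_ e1.symm
    rw [e2]
  -- Step G: hence they vanish near x
  have hz : ∀ kj : κ' × ULift.{u} (Fin r), ∃ (Vz : Opens X) (hVz : Vz ≤ U₃), x ∈ Vz ∧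
      resR (R := ModSite.ringSh O) hVz (ρ' kj.1 kj.2) = 0 :=
    fun kj => (germRing_eq_zero_iff O x hxU₃ (ρ' kj.1 kj.2)).1 (hρ0 kj.1 kj.2)
  choose Vz hVz hxVz hz0 using hz
  obtain ⟨U₄', hxU₄', hU₄'⟩ := exists_open_le_of_finite x Vz hxVz
  have h43 : U₄' ⊓ U₃ ≤ U₃ := inf_le_right
  have hxU₄ : x ∈ U₄' ⊓ U₃ := ⟨hxU₄', hxU₃⟩
  have hρ₄ : ∀ k j, resR (R := ModSite.ringSh O) h43 (ρ' k j) = 0 := by
    intro k j
    have h4z : U₄' ⊓ U₃ ≤ Vz (k, j) := inf_le_left.trans (hU₄' (k, j))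
    have := congrArg (resR (R := ModSite.ringSh O) h4z) (hz0 (k, j))
    rw [resR_resR, map_zero] at this
    exact this
  -- Step H: the morphism from the free module
  obtain ⟨fam₄, hfam₄⟩ : ∃ fam₄ : ULift.{u} (Fin r) → F.val.obj (op (U₄' ⊓ U₃)),
      fam₄ = fun j => res F h43 (res F h32 (res F h21 (fam₁ j))) := ⟨_, rfl⟩
  have hspan₄ : LocSpanT F (U₄' ⊓ U₃) fam₄ := by
    rw [hfam₄]
    exact LocSpanT.mono (LocSpanT.mono hspan₂ h32) h43
  have hloc₄ : LocRelT F (U₄' ⊓ U₃) fam₄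
      (fun k j => resR (R := ModSite.ringSh O) h43 (ρ' k j)) := by
    rw [hfam₄]
    exact LocRelT.mono hloc' h43
  obtain ⟨ψ, hψ⟩ : ∃ ψ : SheafOfModules.free (ULift.{u} (Fin r)) ⟶ F.over (U₄' ⊓ U₃),
      ψ = (F.over (U₄' ⊓ U₃)).freeHomEquiv.symm (fun j => overSec F (fam₄ j)) := ⟨_, rfl⟩
  haveI : Epi ψ := by
    rw [hψ]
    exact epi_of_locSpanT F _ fam₄ hspan₄
  haveI : Mono ψ := by
    apply mono_of_injective
    intro W
    obtain ⟨Y⟩ := W
    refine (injective_iff_map_eq_zero _).2 (fun t ht => ?_)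
    have ht1 : t = ∑ j, coord j (op Y) t • eSec j (op Y) := sum_coord_eSec (op Y) t
    have ht2 : ∑ j, coord j (op Y) t • secAt (overSec F (fam₄ j)) (op Y) = 0 := by
      have h5 := freeHom_sum_eSec (N := F.over (U₄' ⊓ U₃)) (fun j => overSec F (fam₄ j)) (op Y)
        (fun j => coord j (op Y) t)
      rw [← hψ] at h5
      exact h5.symm.trans ((congrArg (fun z => (ψ.val.app (op Y)).hom z) ht1.symm).trans ht)
    have hcoord : ∀ j, coord j (op Y) t = 0 := by
      intro j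
      refine eq_zero_of_locally_zero (R := ModSite.ringSh O) (W := Y.left)
        (ofOverR Y (coord j (op Y) t)) (fun y hy => ?_)
      obtain ⟨W', hW', hyW', b, hb⟩ := hloc₄ Y.left Y.hom.le
        (fun j => ofOverR Y (coord j (op Y) t)) ht2 y hy
      refine ⟨W', hW', hyW', (hb j).trans (Finset.sum_eq_zero (fun k _ => ?_))⟩
      simp only [hρ₄, map_zero, mul_zero]
    exact coord_ext (op Y) t 0 (fun j => (hcoord j).trans (map_zero (coord j (op Y))).symm)
  haveI : IsIso ψ := isIso_of_mono_of_epi ψ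
  exact ⟨U₄' ⊓ U₃, hxU₄, ⟨(asIso ψ).symm⟩⟩

/-- Main theorem: a finitely presented module with free stalk at `x` is free near `x`. -/
theorem exists_restr_iso_free (F : ModSite.Mod O)
    [SheafOfModules.IsFinitePresentation (R := ModSite.ringSh O) F] (r : ℕ)
    (e : ModSite.stalkMod (Opens.pointGrothendieckTopology x) F
      ≃ₗ[ModSite.stalkRing (Opens.pointGrothendieckTopology x) O]
        (Fin r → ModSite.stalkRing (Opens.pointGrothendieckTopology x) O)) :
    ∃ U : Opens X, x ∈ U ∧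
      Nonempty ((ModSite.restr O U).obj F ≅ SheafOfModules.free (ULift.{u} (Fin r))) := by
  classical
  exact exists_restr_iso_free_of_basis O x F r (fun j => e.symm (Pi.single j.down 1))
    (fun v => ⟨fun j => e v j.down, (sum_ulift_basis.{u} e v).symm⟩)
    (fun c hc j => coeff_zero_of_sum.{u} e c hc j)

end Main

end Groth.Agent.Lib.Helper25.LocGenFree
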