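import Mathlib
import Groth.Prelude.Def_ModSite2
import Groth.Agent.Lib.Helper25.LocGenFree

/-!
# Local bases of finite locally free modules on a ringed space

* `LocIndepT M U f`: the sections `f j ∈ M(U)` are linearly independent over every smaller open.
* `exists_basis_of_iso`: an isomorphism `free ι ≅ M|_U` gives a local basis.
* `injective_of_epi`: an epimorphism from a module locally spanned by `r` sections to a module
  with a local basis of `r` sections is injective on sections (commutative structure sheaf).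
* `isIso_iff_epi_of_locallyFree`: for locally free modules of the same finite rank, epi ↔ iso.
-/

set_option autoImplicit false
universe u

open CategoryTheory CategoryTheory.Limits Opposite SheafOfModules TopologicalSpace
open Groth.Agent.Lib.Helper21.StalkFlatP Groth.Agent.Lib.Helper21.StalkFlatQ
open Groth.Agent.Lib.Helper25.LocGenSite Groth.Agent.Lib.Helper25.LocGenFP
  Groth.Agent.Lib.Helper25.LocGenRel Groth.Agent.Lib.Helper25.LocGenFree

namespace Groth.Agent.Lib.Helper25.LocGenBasis

section Algebra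

lemma indep_of_comb {S : Type*} [Ring S] (hcomm : ∀ a b : S, a * b = b * a) {N : Type*}
    [AddCommGroup N] [Module S N] {ι : Type*} [Fintype ι] [DecidableEq ι] (g v : ι → N)
    (A B : ι → ι → S) (hg : ∀ c : ι → S, ∑ k, c k • g k = 0 → ∀ k, c k = 0)
    (hA : ∀ j, v j = ∑ k, A k j • g k) (hB : ∀ i, g i = ∑ j, B j i • v j)
    (c : ι → S) (hc : ∑ j, c j • v j = 0) : ∀ j, c j = 0 := by
  haveI : IsStablyFiniteRing S := by
    letI : CommRing S := { ‹Ring S› with mul_comm := hcomm }
    exact (inferInstance : IsStablyFiniteRing S)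
  have hAB : ∀ k i, ∑ j, A k j * B j i = if k = i then 1 else 0 := by
    intro k i
    have h1 : ∑ k', ((∑ j, A k' j * B j i) - (if k' = i then 1 else 0)) • g k' = 0 := by
      simp only [sub_smul, Finset.sum_sub_distrib, ite_smul, one_smul, zero_smul,
        Finset.sum_ite_eq', Finset.mem_univ, if_true]
      rw [sub_eq_zero]
      conv_rhs => rw [hB i]
      simp only [hA, Finset.smul_sum, Finset.sum_smul]
      rw [Finset.sum_comm]
      refine Finset.sum_congr rfl (fun j _ => Finset.sum_congr rfl (fun k _ => ?_))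
      rw [smul_smul, hcomm]
    exact sub_eq_zero.1 (hg _ h1 k)
  have hAB' : (Matrix.of A) * (Matrix.of B) = 1 := by
    ext k i
    rw [Matrix.mul_apply, Matrix.one_apply]
    exact hAB k i
  have hBA' : (Matrix.of B) * (Matrix.of A) = 1 := mul_eq_one_comm.1 hAB'
  have hBA : ∀ j l, ∑ k, B j k * A k l = if j = l then 1 else 0 := by
    intro j l
    have := congrFun (congrFun hBA' j) l
    rw [Matrix.mul_apply, Matrix.one_apply] at this
    exact this
  have hAc : ∀ k, ∑ j, A k j * c j = 0 := by
    refine hg (fun k => ∑ j, A k j * c j) ?_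
    refine Eq.trans ?_ hc
    simp only [hA, Finset.smul_sum, Finset.sum_smul]
    rw [Finset.sum_comm]
    refine Finset.sum_congr rfl (fun j _ => Finset.sum_congr rfl (fun k _ => ?_))
    rw [smul_smul, hcomm]
  intro j
  calc c j = ∑ l, (if j = l then 1 else 0) * c l := by simp
    _ = ∑ l, (∑ k, B j k * A k l) * c l := by simp only [hBA]
    _ = ∑ k, B j k * ∑ l, A k l * c l := by
        simp only [Finset.sum_mul, Finset.mul_sum, mul_assoc]
        exact Finset.sum_comm
    _ = 0 := by simp only [hAc, mul_zero, Finset.sum_const_zero]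

end Algebra

variable {X : TopCat.{u}} {R : Sheaf (Opens.grothendieckTopology X) RingCat.{u}}

/-- A section of a sheaf of modules which is locally zero is zero. -/
lemma eq_zero_of_locally_zero_mod (M : SheafOfModules.{u} R) {W : Opens X} (m : M.val.obj (op W))
    (h : ∀ y : X, y ∈ W → ∃ (W' : Opens X) (hW' : W' ≤ W), y ∈ W' ∧ res M hW' m = 0) :
    m = 0 := by
  have hsep := Presheaf.IsSheaf.isSeparated M.isSheaf
  let S : Sieve W :=
    { arrows := fun W' f => res M f.le m = 0
      downward_closed := by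
        intro Y Z f hf g
        have : res M (g ≫ f).le m = res M g.le (res M f.le m) := (res_res M f.le g.le m).symm
        rw [this, hf, map_zero] }
  refine hsep W S (fun y hy => ?_) m 0 (fun Y f hf => ?_)
  · obtain ⟨W', hW', hyW', h0⟩ := h y hy
    exact ⟨W', homOfLE hW', h0, hyW'⟩
  · have h0 : res M f.le (0 : M.val.obj (op W)) = 0 := map_zero _
    exact (show res M f.le m = 0 from hf).trans h0.symm

/-- local linear independence -/
def LocIndepT (M : SheafOfModules.{u} R) (U : Opens X) {ι : Type u} [Fintype ι]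
    (f : ι → M.val.obj (op U)) : Prop :=
  ∀ (W : Opens X) (hW : W ≤ U) (c : ι → R.obj.obj (op W)),
    ∑ j, c j • res M hW (f j) = 0 → ∀ j, c j = 0

theorem LocIndepT.mono {M : SheafOfModules.{u} R} {U U' : Opens X} {ι : Type u} [Fintype ι]
    {f : ι → M.val.obj (op U)} (hf : LocIndepT M U f) (h : U' ≤ U) :
    LocIndepT M U' (fun i => res M h (f i)) := by
  intro W hW c hc
  simp only [res_res] at hc
  exact hf W (hW.trans h) c hc

lemma comb_mono (M : SheafOfModules.{u} R) {ι : Type u} [Fintype ι] {U Wm V V' : Opens X}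
    (hV : V ≤ U) (hVm : V ≤ Wm) (m : M.val.obj (op Wm)) (f : ι → M.val.obj (op U))
    (a : ι → R.obj.obj (op V)) (h : res M hVm m = ∑ j, a j • res M hV (f j)) (hV' : V' ≤ V) :
    res M (hV'.trans hVm) m = ∑ j, resR hV' (a j) • res M (hV'.trans hV) (f j) := by
  have := congrArg (res M hV') h
  rw [res_res, map_sum] at this
  simpa only [res_smul, res_res] using this

/-- An isomorphism `free ι ≅ M|_U` gives a local basis of `M` over `U`. -/
theorem exists_basis_of_iso (M : SheafOfModules.{u} R) (U : Opens X) {ι : Type u} [Fintype ι]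
    (a : free ι ≅ M.over U) :
    ∃ f : ι → M.val.obj (op U), LocSpanT M U f ∧ LocIndepT M U f := by
  classical
  let σ : (M.over U).GeneratingSections :=
    { I := ι, s := (M.over U).freeHomEquiv a.hom,
      epi := by rw [Equiv.symm_apply_apply]; infer_instance }
  have hspan := @locSpanT_of_generatingSections X R M U σ ‹Fintype ι›
  refine ⟨fun i => secAt (σ.s i) (op (T U)), hspan, ?_⟩
  intro W hW c hc j
  have h5 := freeHom_sum_eSec (N := M.over U) σ.s (op (Over.mk (homOfLE hW)))
    (fun k => toOverR (Over.mk (homOfLE hW)) (c k))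
  have h6 : (M.over U).freeHomEquiv.symm σ.s = a.hom := Equiv.symm_apply_apply _ _
  rw [h6] at h5
  have h7 : ∑ k, toOverR (Over.mk (homOfLE hW)) (c k) •
      secAt (σ.s k) (op (Over.mk (homOfLE hW))) = 0 := by
    refine Eq.trans (Finset.sum_congr rfl (fun k _ => ?_)) hc
    congr 1
    exact (PresheafOfModules.sections_property (σ.s k) (toT (Over.mk (homOfLE hW))).op).symm
  have hinj : ∀ z : (free (R := R.over U) ι).val.obj (op (Over.mk (homOfLE hW))),
      (a.inv.val.app _).hom ((a.hom.val.app _).hom z) = z := by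
    intro z
    have := congrArg (fun (ψ : free (R := R.over U) ι ⟶ free ι) =>
      (ψ.val.app (op (Over.mk (homOfLE hW)))).hom z) a.hom_inv_id
    exact this
  have h8 : ∑ k, toOverR (Over.mk (homOfLE hW)) (c k) •
      eSec (R := R.over U) k (op (Over.mk (homOfLE hW))) = 0 :=
    (hinj _).symm.trans ((congrArg (a.inv.val.app _).hom (h5.trans h7)).trans (map_zero _))
  have h9 := coord_sum_eSec (R := R.over U) (op (Over.mk (homOfLE hW)))
    (fun k => toOverR (Over.mk (homOfLE hW)) (c k)) j
  rw [h8, map_zero] at h9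
  exact h9.symm

/-- Matrices of an epimorphism with respect to spanning families. -/
theorem exists_matrices {F G : SheafOfModules.{u} R} (φ : F ⟶ G) [Epi φ] {U : Opens X}
    {ι : Type u} [Fintype ι] {f : ι → F.val.obj (op U)} (hf : LocSpanT F U f)
    {g : ι → G.val.obj (op U)} (hg : LocSpanT G U g) (y : X) (hy : y ∈ U) :
    ∃ (W : Opens X) (hW : W ≤ U), y ∈ W ∧ ∃ A B : ι → ι → R.obj.obj (op W),
      (∀ j, app φ W (res F hW (f j)) = ∑ k, A k j • res G hW (g k)) ∧
      (∀ i, res G hW (g i) = ∑ j, B j i • app φ W (res F hW (f j))) := by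
  classical
  have h1 : ∀ j, ∃ (V : Opens X) (hV : V ≤ U), y ∈ V ∧ ∃ a : ι → R.obj.obj (op V),
      res G hV (app φ U (f j)) = ∑ k, a k • res G hV (g k) := by
    intro j
    obtain ⟨V, hV, hyV, a, ha⟩ := hg U le_rfl (app φ U (f j)) y hy
    exact ⟨V, hV, hyV, a, ha⟩
  choose V hV hyV a ha using h1
  have hφf := LocSpanT.map_epi φ hf
  have h2 : ∀ i, ∃ (V' : Opens X) (hV' : V' ≤ U), y ∈ V' ∧ ∃ b : ι → R.obj.obj (op V'),
      res G hV' (g i) = ∑ j, b j • res G hV' (app φ U (f j)) := by
    intro i
    obtain ⟨V', hV', hyV', b, hb⟩ := hφf U le_rfl (g i) y hy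
    exact ⟨V', hV', hyV', b, hb⟩
  choose V' hV' hyV' b hb using h2
  obtain ⟨Wa, hyWa, hWa⟩ := exists_open_le_of_finite y V hyV
  obtain ⟨Wb, hyWb, hWb⟩ := exists_open_le_of_finite y V' hyV'
  have hWU : (Wa ⊓ Wb) ⊓ U ≤ U := inf_le_right
  have hWV : ∀ j, (Wa ⊓ Wb) ⊓ U ≤ V j :=
    fun j => (inf_le_left.trans inf_le_left).trans (hWa j)
  have hWV' : ∀ i, (Wa ⊓ Wb) ⊓ U ≤ V' i :=
    fun i => (inf_le_left.trans inf_le_right).trans (hWb i)
  refine ⟨(Wa ⊓ Wb) ⊓ U, hWU, ⟨⟨hyWa, hyWb⟩, hy⟩, fun k j => resR (hWV j) (a j k),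
    fun j i => resR (hWV' i) (b i j), ?_, ?_⟩
  · intro j
    have := comb_mono G (hV j) (hV j) (app φ U (f j)) g (a j) (ha j) (hWV j)
    rw [app_res]
    exact this
  · intro i
    have := comb_mono G (hV' i) (hV' i) (g i) (fun j => app φ U (f j)) (b i) (hb i) (hWV' i)
    simp only [app_res]
    exact this

/-- An epimorphism from a module locally spanned by `ι` sections onto a module with a local basis
indexed by `ι` is injective on sections, if the structure sheaf is commutative. -/
theorem injective_of_epi (hcomm : ∀ (W : Opens X) (a b : R.obj.obj (op W)), a * b = b * a)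
    {F G : SheafOfModules.{u} R} (φ : F ⟶ G) [Epi φ] {U : Opens X} {ι : Type u} [Fintype ι]
    {f : ι → F.val.obj (op U)} (hf : LocSpanT F U f) {g : ι → G.val.obj (op U)}
    (hg : LocSpanT G U g) (hgi : LocIndepT G U g) {W₀ : Opens X} (hW₀ : W₀ ≤ U)
    (t : F.val.obj (op W₀)) (ht : app φ W₀ t = 0) : t = 0 := by
  classical
  refine eq_zero_of_locally_zero_mod F t (fun y hy => ?_)
  obtain ⟨W₁, hW₁, hy₁, c, hc⟩ := hf W₀ hW₀ t y hy
  have hf₁ := LocSpanT.mono hf (hW₁.trans hW₀)
  have hg₁ := LocSpanT.mono hg (hW₁.trans hW₀)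
  have hgi₁ := LocIndepT.mono hgi (hW₁.trans hW₀)
  obtain ⟨W, hW, hyW, A, B, ha, hb⟩ := exists_matrices φ hf₁ hg₁ y hy₁
  have hc' := comb_mono F (hW₁.trans hW₀) hW₁ t f c hc hW
  have hv : ∑ j, resR hW (c j) • app φ W (res F hW (res F (hW₁.trans hW₀) (f j))) = 0 := by
    have h1 : app φ W (res F (hW.trans hW₁) t) = 0 := by
      rw [app_res, ht, map_zero]
    rw [hc', map_sum] at h1
    simpa only [map_smul, res_res] using h1
  have hc0 := indep_of_comb (hcomm W) (fun k => res G hW (res G (hW₁.trans hW₀) (g k)))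
    (fun j => app φ W (res F hW (res F (hW₁.trans hW₀) (f j)))) A B (hgi₁ W hW) ha hb
    (fun j => resR hW (c j)) hv
  refine ⟨W, hW.trans hW₁, hyW, ?_⟩
  rw [hc']
  exact Finset.sum_eq_zero (fun j _ => by rw [hc0 j, zero_smul])

/-- For locally free modules of the same finite rank on a ringed space, epi ↔ iso. -/
theorem isIso_iff_epi_of_locallyFree (O : TopCat.Sheaf CommRingCat.{u} X) (r : ℕ)
    {F G : ModSite.Mod O}
    (hF : ∀ x : X, ∃ U : Opens X, x ∈ U ∧
      Nonempty ((ModSite.restr O U).obj F ≅ SheafOfModules.free (ULift.{u} (Fin r))))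
    (hG : ∀ x : X, ∃ U : Opens X, x ∈ U ∧
      Nonempty ((ModSite.restr O U).obj G ≅ SheafOfModules.free (ULift.{u} (Fin r))))
    (φ : F ⟶ G) : IsIso φ ↔ Epi φ := by
  constructor
  · intro h
    infer_instance
  · intro hφ
    have hcomm : ∀ (W : Opens X) (a b : (ModSite.ringSh O).obj.obj (op W)), a * b = b * a :=
      fun W a b => mul_comm (G := ↑(O.obj.obj (op W))) a b
    haveI : Mono φ := by
      apply mono_of_injective
      intro W
      obtain ⟨W⟩ := W
      refine (injective_iff_map_eq_zero _).2 (fun t ht => ?_)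
      refine eq_zero_of_locally_zero_mod F t (fun y hy => ?_)
      obtain ⟨UF, hyF, ⟨aF⟩⟩ := hF y
      obtain ⟨UG, hyG, ⟨aG⟩⟩ := hG y
      obtain ⟨f, hf, -⟩ := exists_basis_of_iso F UF aF.symm
      obtain ⟨g, hg, hgi⟩ := exists_basis_of_iso G UG aG.symm
      have hUF : W ⊓ (UF ⊓ UG) ≤ UF := inf_le_right.trans inf_le_left
      have hUG : W ⊓ (UF ⊓ UG) ≤ UG := inf_le_right.trans inf_le_right
      have hUW : W ⊓ (UF ⊓ UG) ≤ W := inf_le_left
      refine ⟨W ⊓ (UF ⊓ UG), hUW, ⟨hy, hyF, hyG⟩, ?_⟩
      refine injective_of_epi hcomm φ (LocSpanT.mono hf hUF) (LocSpanT.mono hg hUG)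
        (LocIndepT.mono hgi hUG) le_rfl (res F hUW t) ?_
      rw [app_res]
      exact (congrArg (res G hUW) ht).trans (map_zero _)
    exact isIso_of_mono_of_epi φ

end Groth.Agent.Lib.Helper25.LocGenBasis
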