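import Mathlib
import Groth.Prelude.Def_ModSite
import Groth.Agent.Lib.Helper25.LocGenSite

/-!
# Finite type modules and pushforward along a closed embedding of ringed spaces
-/

set_option autoImplicit false
universe u

open CategoryTheory CategoryTheory.Limits Opposite SheafOfModules TopologicalSpace
open Groth.Agent.Lib.Helper25.LocGenSite

namespace Groth.Agent.Lib.Helper25.LocGenClosed

/-- Sections of a sheaf of modules over an empty open form a subsingleton. -/
lemma subsingleton_of_empty {Z : TopCat.{u}} {R : Sheaf (Opens.grothendieckTopology Z) RingCat.{u}}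
    (F : SheafOfModules.{u} R) (V : Opens Z) (hV : ∀ z, z ∉ V) :
    Subsingleton (F.val.obj (op V)) := by
  constructor
  intro a b
  have hsep := Presheaf.IsSheaf.isSeparated F.isSheaf
  exact hsep V (⊥ : Sieve V) (fun z hz => (hV z hz).elim) a b (fun Y f hf => hf.elim)

variable {Z X : TopCat.{u}} (i : Z ⟶ X)
  (O_Z : TopCat.Sheaf CommRingCat.{u} Z) (O_X : TopCat.Sheaf CommRingCat.{u} X)
  (c : O_X ⟶ ((TopologicalSpace.Opens.map i).sheafPushforwardContinuous CommRingCat.{u}
    (Opens.grothendieckTopology X) (Opens.grothendieckTopology Z)).obj O_Z)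

/-- every open of `Z` is the preimage of an open of `X` -/
lemma exists_open_preimage_eq (hi : Topology.IsClosedEmbedding i) (V : Opens Z) :
    ∃ U : Opens X, (Opens.map i).obj U = V := by
  obtain ⟨t, ht, hV⟩ := hi.isInducing.isOpen_iff.1 V.2
  exact ⟨⟨t, ht⟩, Opens.ext hV⟩

lemma map_mono {U U' : Opens X} (h : U' ≤ U) : (Opens.map i).obj U' ≤ (Opens.map i).obj U :=
  fun _ hz => h hz

/-- the pushforward module -/
noncomputable abbrev P (F : ModSite.Mod O_Z) : ModSite.Mod O_X :=
  (ModSite.RMor.ofFlat (TopologicalSpace.Opens.map i) c).push.obj F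

/-- the comorphism on sections -/
noncomputable def cU (U : Opens X) :
    (ModSite.ringSh O_X).obj.obj (op U) →+* (ModSite.ringSh O_Z).obj.obj (op ((Opens.map i).obj U)) :=
  (c.hom.app (op U)).hom

lemma cU_resR {U U' : Opens X} (h : U' ≤ U) (a : (ModSite.ringSh O_X).obj.obj (op U)) :
    cU i O_Z O_X c U' (resR h a) = resR (map_mono i h) (cU i O_Z O_X c U a) :=
  congrArg (fun φ => φ.hom a) (c.hom.naturality (homOfLE h).op)

lemma push_smul (F : ModSite.Mod O_Z) (U : Opens X) (a : (ModSite.ringSh O_X).obj.obj (op U))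
    (m : (P i O_Z O_X c F).val.obj (op U)) :
    a • m = (show F.val.obj (op ((Opens.map i).obj U)) from
      cU i O_Z O_X c U a • (show F.val.obj (op ((Opens.map i).obj U)) from m)) := rfl

lemma push_res (F : ModSite.Mod O_Z) {U U' : Opens X} (h : U' ≤ U)
    (m : (P i O_Z O_X c F).val.obj (op U)) :
    res (P i O_Z O_X c F) h m = (show F.val.obj (op ((Opens.map i).obj U')) from
      res F (map_mono i h) (show F.val.obj (op ((Opens.map i).obj U)) from m)) := rfl

lemma subsingleton_push (F : ModSite.Mod O_Z) (W : Opens X) (hW : ∀ z, i z ∉ W) :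
    Subsingleton ((P i O_Z O_X c F).val.obj (op W)) :=
  subsingleton_of_empty F ((Opens.map i).obj W) (fun z hz => hW z hz)

/-- If `i_* F` is of finite type then so is `F` (closed embedding). -/
theorem isFiniteType_of_push (hi : Topology.IsClosedEmbedding i) (F : ModSite.Mod O_Z)
    [SheafOfModules.IsFiniteType (R := ModSite.ringSh O_X) (P i O_Z O_X c F)] :
    SheafOfModules.IsFiniteType (R := ModSite.ringSh O_Z) F := by
  rw [isFiniteType_iff]
  intro z
  obtain ⟨U, hxU, ι, _, s, hs⟩ := (isFiniteType_iff (P i O_Z O_X c F)).1 inferInstance (i z)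
  refine ⟨(Opens.map i).obj U, hxU, ι, inferInstance,
    fun k => (show F.val.obj (op ((Opens.map i).obj U)) from s k), ?_⟩
  intro V' hV' m z' hz'
  obtain ⟨W₀, rfl⟩ := exists_open_preimage_eq i hi V'
  have hle : (Opens.map i).obj (W₀ ⊓ U) ≤ (Opens.map i).obj W₀ := map_mono i inf_le_left
  obtain ⟨W', hW', hyW', a, ha⟩ := hs (W₀ ⊓ U) inf_le_right
    (show (P i O_Z O_X c F).val.obj (op (W₀ ⊓ U)) from res F hle m) (i z') ⟨hz', hV' hz'⟩
  refine ⟨(Opens.map i).obj W', (map_mono i hW').trans hle, hyW',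
    fun k => cU i O_Z O_X c W' (a k), ?_⟩
  exact (res_res F hle (map_mono i hW') m).symm.trans ha

/-- If `F` is of finite type then so is `i_* F` (closed embedding with surjective comorphism). -/
theorem isFiniteType_push (hi : Topology.IsClosedEmbedding i) (hc : Sheaf.IsLocallySurjective c)
    (F : ModSite.Mod O_Z) [SheafOfModules.IsFiniteType (R := ModSite.ringSh O_Z) F] :
    SheafOfModules.IsFiniteType (R := ModSite.ringSh O_X) (P i O_Z O_X c F) := by
  classical
  rw [isFiniteType_iff]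
  intro x
  by_cases hxr : x ∈ Set.range i
  · obtain ⟨z, rfl⟩ := hxr
    obtain ⟨V, hzV, ι, _, s, hs⟩ := (isFiniteType_iff F).1 inferInstance z
    obtain ⟨U, rfl⟩ := exists_open_preimage_eq i hi V
    refine ⟨U, hzV, ι, inferInstance,
      fun k => (show (P i O_Z O_X c F).val.obj (op U) from s k), ?_⟩
    intro W hW m y hy
    by_cases hyr : y ∈ Set.range i
    · obtain ⟨z', rfl⟩ := hyr
      obtain ⟨V', hV', hz'V', r', hr'⟩ := hs ((Opens.map i).obj W) (map_mono i hW)
        (show F.val.obj (op ((Opens.map i).obj W)) from m) z' hy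
      obtain ⟨W₀, rfl⟩ := exists_open_preimage_eq i hi V'
      have hy₁ : i z' ∈ W₀ ⊓ W := ⟨hz'V', hy⟩
      have h10 : (Opens.map i).obj (W₀ ⊓ W) ≤ (Opens.map i).obj W₀ := map_mono i inf_le_left
      have hsurj : ∀ k, ∃ (W₂ : Opens X) (hW₂ : W₂ ≤ W₀ ⊓ W), i z' ∈ W₂ ∧
          ∃ a : (ModSite.ringSh O_X).obj.obj (op W₂),
            cU i O_Z O_X c W₂ a = resR ((map_mono i hW₂).trans h10) (r' k) := by
        intro k
        haveI := hc
        have hmem := Presheaf.IsLocallySurjective.imageSieve_mem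
          (J := Opens.grothendieckTopology X) (f := c.hom) (U := W₀ ⊓ W)
          (show ToType ((((Opens.map i).sheafPushforwardContinuous CommRingCat.{u}
            (Opens.grothendieckTopology X) (Opens.grothendieckTopology Z)).obj O_Z).obj.obj
              (op (W₀ ⊓ W))) from resR (R := ModSite.ringSh O_Z) h10 (r' k))
        obtain ⟨W₂, g, ⟨a, ha⟩, hyW₂⟩ := hmem (i z') hy₁
        refine ⟨W₂, g.le, hyW₂, a, ?_⟩
        exact ha.trans (resR_resR (R := ModSite.ringSh O_Z) h10 (map_mono i g.le) (r' k))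
      choose W₂ hW₂ hyW₂ a ha using hsurj
      obtain ⟨W₃', hyW₃', hW₃'⟩ := exists_open_le_of_finite (i z') W₂ hyW₂
      have hW₃₁ : W₃' ⊓ (W₀ ⊓ W) ≤ W₀ ⊓ W := inf_le_right
      have hW₃₂ : ∀ k, W₃' ⊓ (W₀ ⊓ W) ≤ W₂ k := fun k => inf_le_left.trans (hW₃' k)
      refine ⟨W₃' ⊓ (W₀ ⊓ W), hW₃₁.trans inf_le_right, ⟨hyW₃', hy₁⟩,
        fun k => resR (hW₃₂ k) (a k), ?_⟩
      have hcoef : ∀ k, cU i O_Z O_X c (W₃' ⊓ (W₀ ⊓ W)) (resR (hW₃₂ k) (a k)) =
          resR ((map_mono i hW₃₁).trans h10) (r' k) := fun k => by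
        rw [cU_resR, ha k, resR_resR]
      have hm := congrArg (res F ((map_mono i hW₃₁).trans h10)) hr'
      rw [res_res, map_sum] at hm
      simp only [res_smul, res_res] at hm
      change res F (map_mono i (hW₃₁.trans inf_le_right))
          (show F.val.obj (op ((Opens.map i).obj W)) from m) =
        ∑ k, cU i O_Z O_X c (W₃' ⊓ (W₀ ⊓ W)) (resR (hW₃₂ k) (a k)) •
          res F (map_mono i ((hW₃₁.trans inf_le_right).trans hW)) (s k)
      rw [hm]
      exact Finset.sum_congr rfl (fun k _ => by rw [hcoef k])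
    · have hsub : Subsingleton ((P i O_Z O_X c F).val.obj
          (op (W ⊓ ⟨(Set.range i)ᶜ, hi.isClosed_range.isOpen_compl⟩))) :=
        subsingleton_push i O_Z O_X c F _ (fun z hz => hz.2 ⟨z, rfl⟩)
      exact ⟨W ⊓ ⟨(Set.range i)ᶜ, hi.isClosed_range.isOpen_compl⟩, inf_le_left,
        ⟨hy, hyr⟩, fun _ => 0, Subsingleton.elim _ _⟩
  · refine ⟨⟨(Set.range i)ᶜ, hi.isClosed_range.isOpen_compl⟩, hxr, PEmpty, inferInstance,
      PEmpty.elim, ?_⟩
    intro W hW m y hy
    have hsub : Subsingleton ((P i O_Z O_X c F).val.obj (op W)) :=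
      subsingleton_push i O_Z O_X c F W (fun z hz => hW hz ⟨z, rfl⟩)
    exact ⟨W, le_rfl, hy, PEmpty.elim, Subsingleton.elim _ _⟩

end Groth.Agent.Lib.Helper25.LocGenClosed
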