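import Mathlib
import Groth.Prelude.Def_ModSite2
import Groth.Agent.Lib.Helper25.LocGenBasis
import Groth.Agent.Lib.Helper25.LocGenKer

/-!
# Direct summands of finite locally free modules on a locally ringed space
-/

set_option autoImplicit false
universe u

open CategoryTheory CategoryTheory.Limits Opposite SheafOfModules TopologicalSpace
open Groth.Agent.Lib.Helper25.LocGenSite Groth.Agent.Lib.Helper25.LocGenFP
  Groth.Agent.Lib.Helper25.LocGenRel Groth.Agent.Lib.Helper25.LocGenFree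
  Groth.Agent.Lib.Helper25.LocGenBasis Groth.Agent.Lib.Helper25.LocGenKer

namespace Groth.Agent.Lib.Helper25.LocGenRetract

section General

variable {X : TopCat.{u}} {R : Sheaf (Opens.grothendieckTopology X) RingCat.{u}}

theorem fpData_of_basis (M : SheafOfModules.{u} R) (U : Opens X) {ι : Type u} [Fintype ι]
    (f : ι → M.val.obj (op U)) (hf : LocSpanT M U f) (hfi : LocIndepT M U f) : FPData M U := by
  refine ⟨ι, inferInstance, f, PEmpty.{u + 1}, inferInstance, fun k => k.elim, hf,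
    fun k => k.elim, ?_⟩
  intro W hW a ha y hy
  refine ⟨W, le_rfl, hy, fun k => k.elim, fun i => ?_⟩
  rw [hfi W hW a ha i, map_zero]
  simp

theorem isFinitePresentation_of_retract {F H : SheafOfModules.{u} R} [H.IsFiniteType]
    [H.IsFinitePresentation] (i : F ⟶ H) (p : H ⟶ F) (hip : i ≫ p = 𝟙 F) :
    F.IsFinitePresentation := by
  have hw : (𝟙 H - p ≫ i) ≫ p = 0 := by
    rw [Preadditive.sub_comp, Category.id_comp, Category.assoc, hip, Category.comp_id, sub_self]
  have hc : IsColimit (CokernelCofork.ofπ p hw) :=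
    CokernelCofork.IsColimit.ofπ p hw (fun g _ => i ≫ g)
      (fun g hg => by
        have h1 : g = p ≫ i ≫ g := by
          have := hg
          rw [Preadditive.sub_comp, Category.id_comp, Category.assoc, sub_eq_zero] at this
          exact this
        exact h1.symm)
      (fun g hg m hm => by
        rw [← hm, ← Category.assoc, hip, Category.id_comp])
  have e : cokernel (𝟙 H - p ≫ i) ≅ F :=
    (colimit.isColimit _).coconePointUniqueUpToIso hc
  exact (isFinitePresentation R).prop_of_iso e (isFinitePresentation_cokernel (𝟙 H - p ≫ i))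

end General

section Stalk

variable {X : TopCat.{u}} (O : TopCat.Sheaf CommRingCat.{u} X) (x : X)

lemma exists_local_combination' (F : ModSite.Mod O) {ι : Type u} [Fintype ι] {V Vn : Opens X}
    (hxV : x ∈ V) (hxVn : x ∈ Vn) (fam : ι → F.val.obj (op V)) (n : F.val.obj (op Vn))
    (α : ι → ModSite.stalkRing (Opens.pointGrothendieckTopology x) O)
    (h : ModSite.germ (Opens.pointGrothendieckTopology x) F Vn ⟨⟨hxVn⟩⟩ n =
      ∑ j, α j • ModSite.germ (Opens.pointGrothendieckTopology x) F V ⟨⟨hxV⟩⟩ (fam j)) :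
    ∃ (V' : Opens X) (hV' : V' ≤ V) (hVn' : V' ≤ Vn) (hxV' : x ∈ V')
      (a : ι → (ModSite.ringSh O).obj.obj (op V')),
        res F hVn' n = ∑ j, a j • res F hV' (fam j) ∧
        ∀ j, ModSite.germRing (O := O) (Opens.pointGrothendieckTopology x) V' ⟨⟨hxV'⟩⟩ (a j) =
          α j := by
  classical
  have h1 : ∀ j, ∃ (W : Opens X) (hxW : x ∈ W) (a : (ModSite.ringSh O).obj.obj (op W)),
      ModSite.germRing (O := O) (Opens.pointGrothendieckTopology x) W ⟨⟨hxW⟩⟩ a = α j :=
    fun j => exists_germRing O x (α j)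
  choose W hxW a ha using h1
  obtain ⟨U₀, hxU₀, hU₀⟩ := exists_open_le_of_finite x W hxW
  have hV₁V : U₀ ⊓ (V ⊓ Vn) ≤ V := inf_le_right.trans inf_le_left
  have hV₁Vn : U₀ ⊓ (V ⊓ Vn) ≤ Vn := inf_le_right.trans inf_le_right
  have hV₁W : ∀ j, U₀ ⊓ (V ⊓ Vn) ≤ W j := fun j => inf_le_left.trans (hU₀ j)
  have hxV₁ : x ∈ U₀ ⊓ (V ⊓ Vn) := ⟨hxU₀, hxV, hxVn⟩
  have key : ModSite.germ (Opens.pointGrothendieckTopology x) F (U₀ ⊓ (V ⊓ Vn)) ⟨⟨hxV₁⟩⟩
        (res F hV₁Vn n) =
      ModSite.germ (Opens.pointGrothendieckTopology x) F (U₀ ⊓ (V ⊓ Vn)) ⟨⟨hxV₁⟩⟩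
        (∑ j, resR (R := ModSite.ringSh O) (hV₁W j) (a j) • res F hV₁V (fam j)) := by
    rw [germ_res O x F hV₁Vn hxV₁ n, h, germ_sum]
    refine Finset.sum_congr rfl (fun j _ => ?_)
    have e1 := ModSite.germ_smul (Opens.pointGrothendieckTopology x) F (U₀ ⊓ (V ⊓ Vn))
      ⟨⟨hxV₁⟩⟩ (resR (R := ModSite.ringSh O) (hV₁W j) (a j)) (res F hV₁V (fam j))
    have e2 := germRing_res O x (hV₁W j) hxV₁ (a j)
    have e3 := germ_res O x F hV₁V hxV₁ (fam j)
    refine Eq.trans ?_ e1.symm
    rw [e2, e3]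
    exact congrArg (fun z => z • ModSite.germ (Opens.pointGrothendieckTopology x) F V
      ⟨⟨hxV⟩⟩ (fam j)) (ha j).symm
  obtain ⟨V', hV', hxV', hEq⟩ := (germ_eq_iff O x F hxV₁ _ _).1 key
  refine ⟨V', hV'.trans hV₁V, hV'.trans hV₁Vn, hxV',
    fun j => resR hV' (resR (R := ModSite.ringSh O) (hV₁W j) (a j)), ?_, fun j => ?_⟩
  · rw [res_res, map_sum] at hEq
    simpa only [res_smul, res_res] using hEq
  · rw [germRing_res O x hV' hxV', germRing_res O x (hV₁W j) (hV' hxV')]
    exact ha j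

theorem stalk_span_of_locSpanT (F : ModSite.Mod O) {U : Opens X} (hxU : x ∈ U) {ι : Type u}
    [Fintype ι] (f : ι → F.val.obj (op U)) (hf : LocSpanT F U f)
    (v : ModSite.stalkAb (Opens.pointGrothendieckTopology x) F) :
    ∃ c : ι → ModSite.stalkRing (Opens.pointGrothendieckTopology x) O,
      v = ∑ j, c j • ModSite.germ (Opens.pointGrothendieckTopology x) F U ⟨⟨hxU⟩⟩ (f j) := by
  obtain ⟨V, hxV, m, rfl⟩ := exists_germ O x F v
  obtain ⟨W', hW', hxW', a, ha⟩ :=
    hf (V ⊓ U) inf_le_right (res F inf_le_left m) x ⟨hxV, hxU⟩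
  refine ⟨fun j => ModSite.germRing (O := O) (Opens.pointGrothendieckTopology x) W' ⟨⟨hxW'⟩⟩
    (a j), ?_⟩
  have h1 := congrArg (ModSite.germ (Opens.pointGrothendieckTopology x) F W' ⟨⟨hxW'⟩⟩) ha
  rw [germ_res O x F hW' hxW', germ_res O x F inf_le_left (hW' hxW'), germ_sum] at h1
  refine h1.trans (Finset.sum_congr rfl (fun j _ => ?_))
  have e1 := ModSite.germ_smul (Opens.pointGrothendieckTopology x) F W' ⟨⟨hxW'⟩⟩ (a j)
    (res F (hW'.trans inf_le_right) (f j))
  rw [germ_res O x F (hW'.trans inf_le_right) hxW'] at e1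
  exact e1

theorem stalk_indep_of_locIndepT (F : ModSite.Mod O) {U : Opens X} (hxU : x ∈ U) {ι : Type u}
    [Fintype ι] (f : ι → F.val.obj (op U)) (hfi : LocIndepT F U f)
    (c : ι → ModSite.stalkRing (Opens.pointGrothendieckTopology x) O)
    (hc : ∑ j, c j • ModSite.germ (Opens.pointGrothendieckTopology x) F U ⟨⟨hxU⟩⟩ (f j) = 0) :
    ∀ j, c j = 0 := by
  obtain ⟨V', hV', hVn', hxV', a, ha, hac⟩ := exists_local_combination' O x F hxU hxU f
    (0 : F.val.obj (op U)) c ((germ_zero O x F hxU).trans hc.symm)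
  rw [map_zero] at ha
  intro j
  rw [← hac j, hfi V' hV' a ha.symm j]
  exact map_zero _

lemma stalkMap_germ {F G : ModSite.Mod O} (φ : F ⟶ G) {V : Opens X} (hxV : x ∈ V)
    (s : F.val.obj (op V)) :
    (ModSite.stalkMap (Opens.pointGrothendieckTopology x) φ).hom
        (ModSite.germ (Opens.pointGrothendieckTopology x) F V ⟨⟨hxV⟩⟩ s) =
      ModSite.germ (Opens.pointGrothendieckTopology x) G V ⟨⟨hxV⟩⟩ (app φ V s) :=
  (Opens.pointGrothendieckTopology x).toPresheafFiber_naturality_apply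
    ((SheafOfModules.toSheaf (ModSite.ringSh O)).map φ).hom V ⟨⟨hxV⟩⟩ s

lemma stalkMap_retract {F H : ModSite.Mod O} (i : F ⟶ H) (p : H ⟶ F) (hip : i ≫ p = 𝟙 F)
    (v : ModSite.stalkMod (Opens.pointGrothendieckTopology x) F) :
    (ModSite.stalkMap (Opens.pointGrothendieckTopology x) p).hom
      ((ModSite.stalkMap (Opens.pointGrothendieckTopology x) i).hom v) = v := by
  obtain ⟨V, hxV, s, rfl⟩ := exists_germ O x F v
  rw [stalkMap_germ, stalkMap_germ]
  congr 1
  have := congrArg (fun ψ : F ⟶ F => app ψ V s) hip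
  exact this

lemma isUnit_germRing_of_isUnit_germ {V : Opens X} (hxV : x ∈ V) (s : O.obj.obj (op V))
    (hu : IsUnit ((O.presheaf.germ V x hxV).hom s)) :
    IsUnit (ModSite.germRing (O := O) (Opens.pointGrothendieckTopology x) V ⟨⟨hxV⟩⟩ s) := by
  obtain ⟨b, hb⟩ := isUnit_iff_exists_inv.1 hu
  obtain ⟨W, hxW, t, rfl⟩ := O.presheaf.exists_germ_eq b
  have hxVW : x ∈ V ⊓ W := ⟨hxV, hxW⟩
  obtain ⟨s₁, hs₁⟩ : ∃ s₁ : (ModSite.ringSh O).obj.obj (op (V ⊓ W)),
    s₁ = resR (R := ModSite.ringSh O) (inf_le_left : V ⊓ W ≤ V) s := ⟨_, rfl⟩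
  obtain ⟨t₁, ht₁⟩ : ∃ t₁ : (ModSite.ringSh O).obj.obj (op (V ⊓ W)),
    t₁ = resR (R := ModSite.ringSh O) (inf_le_right : V ⊓ W ≤ W) t := ⟨_, rfl⟩
  have h1 : (O.presheaf.germ (V ⊓ W) x hxVW).hom (s₁ * t₁) =
      (O.presheaf.germ (V ⊓ W) x hxVW).hom 1 := by
    have e1 := O.presheaf.germ_res_apply (homOfLE (inf_le_left : V ⊓ W ≤ V)) x hxVW s
    have e2 := O.presheaf.germ_res_apply (homOfLE (inf_le_right : V ⊓ W ≤ W)) x hxVW t
    have m1 := map_mul (O.presheaf.germ (V ⊓ W) x hxVW).hom s₁ t₁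
    have m2 := map_one (O.presheaf.germ (V ⊓ W) x hxVW).hom
    refine m1.trans (Eq.trans ?_ (hb.trans m2.symm))
    rw [hs₁, ht₁]
    exact congrArg₂ (· * ·) e1 e2
  obtain ⟨W', hxW', iU, iV, hEq⟩ := O.presheaf.germ_eq x hxVW hxVW _ _ h1
  have hEq' : resR (R := ModSite.ringSh O) iU.le (s₁ * t₁) = 1 := by
    have h2 : resR (R := ModSite.ringSh O) iV.le (1 : (ModSite.ringSh O).obj.obj (op (V ⊓ W))) =
        1 := map_one _
    exact Eq.trans hEq h2
  refine isUnit_iff_exists_inv.2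
    ⟨ModSite.germRing (O := O) (Opens.pointGrothendieckTopology x) W ⟨⟨hxW⟩⟩ t, ?_⟩
  have a1 : ModSite.germRing (O := O) (Opens.pointGrothendieckTopology x) V ⟨⟨hxV⟩⟩ s =
      ModSite.germRing (O := O) (Opens.pointGrothendieckTopology x) W' ⟨⟨hxW'⟩⟩
        (resR (R := ModSite.ringSh O) iU.le s₁) := by
    rw [germRing_res O x iU.le hxW' s₁, hs₁, germRing_res O x inf_le_left (iU.le hxW') s]
  have a2 : ModSite.germRing (O := O) (Opens.pointGrothendieckTopology x) W ⟨⟨hxW⟩⟩ t =
      ModSite.germRing (O := O) (Opens.pointGrothendieckTopology x) W' ⟨⟨hxW'⟩⟩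
        (resR (R := ModSite.ringSh O) iU.le t₁) := by
    rw [germRing_res O x iU.le hxW' t₁, ht₁, germRing_res O x inf_le_right (iU.le hxW') t]
  have m1 := map_mul ((Opens.pointGrothendieckTopology x).toPresheafFiber W' ⟨⟨hxW'⟩⟩ O.obj).hom
    (resR (R := ModSite.ringSh O) iU.le s₁) (resR (R := ModSite.ringSh O) iU.le t₁)
  have m2 := map_mul (resR (R := ModSite.ringSh O) iU.le) s₁ t₁
  have m3 := map_one ((Opens.pointGrothendieckTopology x).toPresheafFiber W' ⟨⟨hxW'⟩⟩ O.obj).hom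
  refine (congrArg₂ (· * ·) a1 a2).trans ?_
  exact m1.symm.trans ((congrArg
    ((Opens.pointGrothendieckTopology x).toPresheafFiber W' ⟨⟨hxW'⟩⟩ O.obj).hom
    (m2.symm.trans hEq')).trans m3)

lemma isUnit_or_aux (h : IsLocalRing (O.presheaf.stalk x)) {V : Opens X} (hxV : x ∈ V)
    (s : O.obj.obj (op V)) :
    IsUnit (ModSite.germRing (O := O) (Opens.pointGrothendieckTopology x) V ⟨⟨hxV⟩⟩ s) ∨
      IsUnit (1 - ModSite.germRing (O := O) (Opens.pointGrothendieckTopology x) V ⟨⟨hxV⟩⟩ s) := by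
  haveI := h
  rcases IsLocalRing.isUnit_or_isUnit_one_sub_self ((O.presheaf.germ V x hxV).hom s) with hu | hu
  · exact Or.inl (isUnit_germRing_of_isUnit_germ O x hxV s hu)
  · refine Or.inr ?_
    have m1 := map_sub ((Opens.pointGrothendieckTopology x).toPresheafFiber V ⟨⟨hxV⟩⟩ O.obj).hom
      1 s
    have m2 := map_one ((Opens.pointGrothendieckTopology x).toPresheafFiber V ⟨⟨hxV⟩⟩ O.obj).hom
    have h1 : (1 : ModSite.stalkRing (Opens.pointGrothendieckTopology x) O) -
        ModSite.germRing (O := O) (Opens.pointGrothendieckTopology x) V ⟨⟨hxV⟩⟩ s =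
        ModSite.germRing (O := O) (Opens.pointGrothendieckTopology x) V ⟨⟨hxV⟩⟩ (1 - s) :=
      (m1.trans (congrArg (fun z => z -
        ModSite.germRing (O := O) (Opens.pointGrothendieckTopology x) V ⟨⟨hxV⟩⟩ s) m2)).symm
    have m3 := map_sub (O.presheaf.germ V x hxV).hom 1 s
    have m4 := map_one (O.presheaf.germ V x hxV).hom
    have h2 : (O.presheaf.germ V x hxV).hom (1 - s) = 1 - (O.presheaf.germ V x hxV).hom s :=
      m3.trans (congrArg (fun z => z - (O.presheaf.germ V x hxV).hom s) m4)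
    have h3 : IsUnit ((O.presheaf.germ V x hxV).hom (1 - s)) := (congrArg IsUnit h2).mpr hu
    exact (congrArg IsUnit h1).mpr (isUnit_germRing_of_isUnit_germ O x hxV (1 - s) h3)

lemma isLocalRing_stalkRing (h : IsLocalRing (O.presheaf.stalk x)) :
    IsLocalRing (ModSite.stalkRing (Opens.pointGrothendieckTopology x) O) := by
  haveI := h
  haveI : Nontrivial (ModSite.stalkRing (Opens.pointGrothendieckTopology x) O) := by
    refine ⟨⟨1, 0, fun h10 => ?_⟩⟩
    have h1 : ModSite.germRing (O := O) (Opens.pointGrothendieckTopology x) ⊤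
        ⟨⟨Opens.mem_top x⟩⟩ (1 : (ModSite.ringSh O).obj.obj (op ⊤)) = 0 :=
      (map_one _).trans h10
    obtain ⟨W, hW, hxW, hEq⟩ := (germRing_eq_zero_iff O x (V := ⊤) (Opens.mem_top x) 1).1 h1
    rw [map_one] at hEq
    have h2 : (1 : O.presheaf.stalk x) = 0 := by
      have := congrArg (O.presheaf.germ W x hxW).hom hEq
      exact (map_one (O.presheaf.germ W x hxW).hom).symm.trans
        (this.trans (map_zero (O.presheaf.germ W x hxW).hom))
    exact one_ne_zero h2
  refine IsLocalRing.of_isUnit_or_isUnit_one_sub_self (fun b => ?_)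
  obtain ⟨V, hxV, s, rfl⟩ := exists_germRing O x b
  exact isUnit_or_aux O x h hxV s

/-- A direct summand of a finite locally free module on a locally ringed space is finite locally
free. -/
theorem locallyFree_of_retract (hO : ∀ x : X, IsLocalRing (O.presheaf.stalk x))
    {F H : ModSite.Mod O}
    (hH : ∀ x : X, ∃ (U : Opens X) (n : ℕ), x ∈ U ∧
      Nonempty ((ModSite.restr O U).obj H ≅ SheafOfModules.free (ULift.{u} (Fin n))))
    (i : F ⟶ H) (p : H ⟶ F) (hip : i ≫ p = 𝟙 F) :
    ∃ (U : Opens X) (n : ℕ), x ∈ U ∧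
      Nonempty ((ModSite.restr O U).obj F ≅ SheafOfModules.free (ULift.{u} (Fin n))) := by
  classical
  have hbas : ∀ y : X, ∃ U : Opens X, y ∈ U ∧ ∃ (ι : Type u) (_ : Fintype ι)
      (f : ι → H.val.obj (op U)), LocSpanT H U f ∧ LocIndepT H U f := by
    intro y
    obtain ⟨U, n, hyU, ⟨a⟩⟩ := hH y
    obtain ⟨f, hf, hfi⟩ := exists_basis_of_iso H U a.symm
    exact ⟨U, hyU, ULift.{u} (Fin n), inferInstance, f, hf, hfi⟩
  haveI : SheafOfModules.IsFiniteType (R := ModSite.ringSh O) H :=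
    (isFiniteType_iff H).2 (fun y => by
      obtain ⟨U, hyU, ι, inst, f, hf, -⟩ := hbas y
      exact ⟨U, hyU, ι, inst, f, hf⟩)
  haveI : SheafOfModules.IsFinitePresentation (R := ModSite.ringSh O) H :=
    (isFinitePresentation_iff H).2 (fun y => by
      obtain ⟨U, hyU, ι, inst, f, hf, hfi⟩ := hbas y
      exact ⟨U, hyU, fpData_of_basis H U f hf hfi⟩)
  haveI : SheafOfModules.IsFinitePresentation (R := ModSite.ringSh O) F :=
    isFinitePresentation_of_retract i p hip
  haveI : IsLocalRing (ModSite.stalkRing (Opens.pointGrothendieckTopology x) O) :=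
    isLocalRing_stalkRing O x (hO x)
  obtain ⟨U, hxU, ι, inst, f, hf, hfi⟩ := hbas x
  obtain ⟨Φ, hΦdef⟩ : ∃ Φ : (ι → ModSite.stalkRing (Opens.pointGrothendieckTopology x) O) →ₗ[
      ModSite.stalkRing (Opens.pointGrothendieckTopology x) O]
      ModSite.stalkMod (Opens.pointGrothendieckTopology x) H,
      ∀ c, Φ c = ∑ j, c j • ModSite.germ (Opens.pointGrothendieckTopology x) H U ⟨⟨hxU⟩⟩ (f j) :=
    ⟨Fintype.linearCombination (ModSite.stalkRing (Opens.pointGrothendieckTopology x) O)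
      (fun j => ModSite.germ (Opens.pointGrothendieckTopology x) H U ⟨⟨hxU⟩⟩ (f j)),
      fun c => Fintype.linearCombination_apply _ _ c⟩
  have hΦ : Function.Bijective Φ := by
    constructor
    · refine (injective_iff_map_eq_zero Φ).2 (fun c hc => funext (fun j => ?_))
      exact stalk_indep_of_locIndepT O x H hxU f hfi c ((hΦdef c).symm.trans hc) j
    · intro v
      obtain ⟨c, hc⟩ := stalk_span_of_locSpanT O x H hxU f hf v
      exact ⟨c, (hΦdef c).trans hc.symm⟩
  haveI : Module.Free (ModSite.stalkRing (Opens.pointGrothendieckTopology x) O)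
      (ModSite.stalkMod (Opens.pointGrothendieckTopology x) H) :=
    Module.Free.of_equiv (LinearEquiv.ofBijective Φ hΦ)
  haveI : Module.Finite (ModSite.stalkRing (Opens.pointGrothendieckTopology x) O)
      (ModSite.stalkMod (Opens.pointGrothendieckTopology x) H) :=
    Module.Finite.of_surjective Φ hΦ.2
  haveI : Module.Projective (ModSite.stalkRing (Opens.pointGrothendieckTopology x) O)
      (ModSite.stalkMod (Opens.pointGrothendieckTopology x) F) :=
    Module.Projective.of_split (ModSite.stalkMap (Opens.pointGrothendieckTopology x) i).hom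
      (ModSite.stalkMap (Opens.pointGrothendieckTopology x) p).hom
      (LinearMap.ext (stalkMap_retract O x i p hip))
  haveI : Module.Finite (ModSite.stalkRing (Opens.pointGrothendieckTopology x) O)
      (ModSite.stalkMod (Opens.pointGrothendieckTopology x) F) :=
    Module.Finite.of_surjective (ModSite.stalkMap (Opens.pointGrothendieckTopology x) p).hom
      (fun v => ⟨(ModSite.stalkMap (Opens.pointGrothendieckTopology x) i).hom v,
        stalkMap_retract O x i p hip v⟩)
  haveI : Module.Free (ModSite.stalkRing (Opens.pointGrothendieckTopology x) O)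
      (ModSite.stalkMod (Opens.pointGrothendieckTopology x) F) :=
    Module.free_of_flat_of_isLocalRing
  obtain ⟨U', hxU', hiso⟩ := exists_restr_iso_free O x F
    (Module.finrank (ModSite.stalkRing (Opens.pointGrothendieckTopology x) O)
      (ModSite.stalkMod (Opens.pointGrothendieckTopology x) F))
    (Module.finBasis (ModSite.stalkRing (Opens.pointGrothendieckTopology x) O)
      (ModSite.stalkMod (Opens.pointGrothendieckTopology x) F)).equivFun
  exact ⟨U', _, hxU', hiso⟩

end Stalk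

end Groth.Agent.Lib.Helper25.LocGenRetract
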