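import Mathlib
import Groth.Prelude.Def_ModSite2
import Groth.Agent.Lib.Helper25.LocGenRetract

/-!
# The rank of a locally free module on a ringed space with nonzero stalks is locally constant
-/

set_option autoImplicit false
universe u

open CategoryTheory CategoryTheory.Limits Opposite SheafOfModules TopologicalSpace
open Groth.Agent.Lib.Helper21.StalkFlatP Groth.Agent.Lib.Helper21.StalkFlatQ
open Groth.Agent.Lib.Helper25.LocGenSite Groth.Agent.Lib.Helper25.LocGenFP
  Groth.Agent.Lib.Helper25.LocGenRel Groth.Agent.Lib.Helper25.LocGenFree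
  Groth.Agent.Lib.Helper25.LocGenBasis Groth.Agent.Lib.Helper25.LocGenRetract

namespace Groth.Agent.Lib.Helper25.LocGenRank

section General

variable {X : TopCat.{u}} {R : Sheaf (Opens.grothendieckTopology X) RingCat.{u}}

/-- sections of `M` over `U` attached to an isomorphism `free I ≅ M|_U` (any index type) -/
noncomputable def basisSec (M : SheafOfModules.{u} R) (U : Opens X) {I : Type u}
    (a : free I ≅ M.over U) (k : I) : M.val.obj (op U) :=
  secAt ((M.over U).freeHomEquiv a.hom k) (op (T U))

/-- finite subfamilies of the sections attached to a trivialisation are independent -/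
theorem finset_indep_of_iso (M : SheafOfModules.{u} R) (U : Opens X) {I : Type u}
    (a : free I ≅ M.over U) (S : Finset I) {W : Opens X} (hW : W ≤ U)
    (c : ↥S → R.obj.obj (op W))
    (hc : ∑ k : ↥S, c k • res M hW (basisSec M U a k.1) = 0) : ∀ k, c k = 0 := by
  classical
  intro k₀
  have hs : ∀ k : I, (a.hom.val.app (op (Over.mk (homOfLE hW)))).hom
      (eSec (R := R.over U) k (op (Over.mk (homOfLE hW)))) =
      secAt ((M.over U).freeHomEquiv a.hom k) (op (Over.mk (homOfLE hW))) := by
    intro k
    have := congrArg (fun σ => secAt σ (op (Over.mk (homOfLE hW))))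
      (sectionsMap_freeHomEquiv_symm_freeSection ((M.over U).freeHomEquiv a.hom) k)
    rw [Equiv.symm_apply_apply] at this
    exact this
  have h7 : (a.hom.val.app (op (Over.mk (homOfLE hW)))).hom
      (∑ k : ↥S, toOverR (Over.mk (homOfLE hW)) (c k) •
        eSec (R := R.over U) k.1 (op (Over.mk (homOfLE hW)))) = 0 := by
    rw [map_sum]
    refine Eq.trans (Finset.sum_congr rfl (fun k _ => ?_)) hc
    rw [map_smul, hs]
    congr 1
    exact (PresheafOfModules.sections_property ((M.over U).freeHomEquiv a.hom k.1)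
      (toT (Over.mk (homOfLE hW))).op).symm
  have hinj : ∀ z : (free (R := R.over U) I).val.obj (op (Over.mk (homOfLE hW))),
      (a.inv.val.app _).hom ((a.hom.val.app _).hom z) = z := by
    intro z
    have := congrArg (fun (ψ : free (R := R.over U) I ⟶ free I) =>
      (ψ.val.app (op (Over.mk (homOfLE hW)))).hom z) a.hom_inv_id
    exact this
  have h8 : ∑ k : ↥S, toOverR (Over.mk (homOfLE hW)) (c k) •
      eSec (R := R.over U) k.1 (op (Over.mk (homOfLE hW))) = 0 :=
    (hinj _).symm.trans ((congrArg (a.inv.val.app _).hom h7).trans (map_zero _))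
  have h9 : coord (R := R.over U) k₀.1 (op (Over.mk (homOfLE hW)))
      (∑ k : ↥S, toOverR (Over.mk (homOfLE hW)) (c k) •
        eSec (R := R.over U) k.1 (op (Over.mk (homOfLE hW)))) =
      toOverR (Over.mk (homOfLE hW)) (c k₀) := by
    rw [map_sum]
    simp only [map_smul, coord_eSec, smul_eq_mul, mul_ite, mul_one, mul_zero]
    rw [Finset.sum_eq_single k₀]
    · simp
    · intro b _ hb
      rw [if_neg]
      intro h'
      exact hb (Subtype.ext h')
    · intro h'
      exact absurd (Finset.mem_univ _) h'
  rw [h8, map_zero] at h9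
  exact h9.symm

end General

section Stalk

variable {X : TopCat.{u}} (O : TopCat.Sheaf CommRingCat.{u} X) (x : X)

lemma nontrivial_stalkRing (h : Nontrivial (O.presheaf.stalk x)) :
    Nontrivial (ModSite.stalkRing (Opens.pointGrothendieckTopology x) O) := by
  haveI := h
  refine ⟨⟨1, 0, fun h10 => ?_⟩⟩
  have h1 : ModSite.germRing (O := O) (Opens.pointGrothendieckTopology x) ⊤
      ⟨⟨Opens.mem_top x⟩⟩ (1 : (ModSite.ringSh O).obj.obj (op ⊤)) = 0 :=
    (map_one _).trans h10
  obtain ⟨W, hW, hxW, hEq⟩ := (germRing_eq_zero_iff O x (V := ⊤) (Opens.mem_top x) 1).1 h1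
  rw [map_one] at hEq
  have h2 : (1 : O.presheaf.stalk x) = 0 := by
    have := congrArg (O.presheaf.germ W x hxW).hom hEq
    exact (map_one (O.presheaf.germ W x hxW).hom).symm.trans
      (this.trans (map_zero (O.presheaf.germ W x hxW).hom))
  exact one_ne_zero h2

theorem linearIndependent_germ_of_iso (F : ModSite.Mod O) {U : Opens X} (hxU : x ∈ U)
    {I : Type u} (a : free I ≅ F.over U) :
    LinearIndependent (ModSite.stalkRing (Opens.pointGrothendieckTopology x) O)
      (fun k : I => ModSite.germ (Opens.pointGrothendieckTopology x) F U ⟨⟨hxU⟩⟩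
        (basisSec F U a k)) := by
  classical
  rw [linearIndependent_iff']
  intro S g hg k hk
  have hg' : ∑ k : ↥S, g k.1 • ModSite.germ (Opens.pointGrothendieckTopology x) F U ⟨⟨hxU⟩⟩
      (basisSec F U a k.1) = 0 :=
    (Finset.sum_coe_sort S (fun k => g k • ModSite.germ (Opens.pointGrothendieckTopology x) F U
      ⟨⟨hxU⟩⟩ (basisSec F U a k))).trans hg
  obtain ⟨V', hV', hVn', hxV', c, hc, hcg⟩ := exists_local_combination' O x F hxU hxU
    (fun k : ↥S => basisSec F U a k.1) (0 : F.val.obj (op U)) (fun k => g k.1)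
    ((germ_zero O x F hxU).trans hg'.symm)
  rw [map_zero] at hc
  have h0 := finset_indep_of_iso F U a S hV' c hc.symm ⟨k, hk⟩
  rw [← hcg ⟨k, hk⟩, h0]
  exact map_zero _

theorem mk_le_of_isos
    (hnt : Nontrivial (ModSite.stalkRing (Opens.pointGrothendieckTopology x) O))
    (F : ModSite.Mod O) {U U' : Opens X} (hxU : x ∈ U) (hxU' : x ∈ U') {I I' : Type u}
    [Fintype I] (a : free I ≅ F.over U) (a' : free I' ≅ F.over U') :
    Cardinal.mk I' ≤ Cardinal.mk I := by
  classical
  obtain ⟨f, hf, hfi⟩ := exists_basis_of_iso F U a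
  obtain ⟨Φ, hΦdef⟩ : ∃ Φ : (I → ModSite.stalkRing (Opens.pointGrothendieckTopology x) O) →ₗ[
      ModSite.stalkRing (Opens.pointGrothendieckTopology x) O]
      ModSite.stalkAb (Opens.pointGrothendieckTopology x) F,
      ∀ c, Φ c = ∑ j, c j • ModSite.germ (Opens.pointGrothendieckTopology x) F U ⟨⟨hxU⟩⟩ (f j) :=
    ⟨Fintype.linearCombination (ModSite.stalkRing (Opens.pointGrothendieckTopology x) O)
      (fun j => ModSite.germ (Opens.pointGrothendieckTopology x) F U ⟨⟨hxU⟩⟩ (f j)),
      fun c => Fintype.linearCombination_apply _ _ c⟩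
  have hΦ : Function.Bijective Φ := by
    constructor
    · refine (injective_iff_map_eq_zero Φ).2 (fun c hc => funext (fun j => ?_))
      exact stalk_indep_of_locIndepT O x F hxU f hfi c ((hΦdef c).symm.trans hc) j
    · intro v
      obtain ⟨c, hc⟩ := stalk_span_of_locSpanT O x F hxU f hf v
      exact ⟨c, (hΦdef c).trans hc.symm⟩
  have hrank : Module.rank (ModSite.stalkRing (Opens.pointGrothendieckTopology x) O)
      (ModSite.stalkAb (Opens.pointGrothendieckTopology x) F) = Cardinal.mk I := by
    rw [← (LinearEquiv.ofBijective Φ hΦ).rank_eq, rank_fun', Cardinal.mk_fintype]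
  have hli := linearIndependent_germ_of_iso O x F hxU' a'
  calc Cardinal.mk I' ≤ Module.rank (ModSite.stalkRing (Opens.pointGrothendieckTopology x) O)
        (ModSite.stalkAb (Opens.pointGrothendieckTopology x) F) := hli.cardinal_le_rank
    _ = Cardinal.mk I := hrank

theorem enat_card_eq_of_isos
    (hnt : Nontrivial (ModSite.stalkRing (Opens.pointGrothendieckTopology x) O))
    (F : ModSite.Mod O) {U U' : Opens X} (hxU : x ∈ U) (hxU' : x ∈ U') {I I' : Type u}
    (a : free I ≅ F.over U) (a' : free I' ≅ F.over U') : ENat.card I = ENat.card I' := by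
  classical
  by_cases hI : Finite I
  · haveI := Fintype.ofFinite I
    have h1 := mk_le_of_isos O x hnt F hxU hxU' a a'
    have hI' : Finite I' := by
      rw [← Cardinal.lt_aleph0_iff_finite]
      exact lt_of_le_of_lt h1 (Cardinal.lt_aleph0_of_finite I)
    haveI := Fintype.ofFinite I'
    have h2 := mk_le_of_isos O x hnt F hxU' hxU a' a
    obtain ⟨eqv⟩ := Cardinal.eq.1 (le_antisymm h2 h1)
    exact ENat.card_congr eqv
  · have hI' : ¬ Finite I' := by
      intro hfin
      haveI := Fintype.ofFinite I'
      have h2 := mk_le_of_isos O x hnt F hxU' hxU a' a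
      exact hI (by
        rw [← Cardinal.lt_aleph0_iff_finite]
        exact lt_of_le_of_lt h2 (Cardinal.lt_aleph0_of_finite I'))
    rw [not_finite_iff_infinite] at hI hI'
    rw [ENat.card_eq_top_of_infinite, ENat.card_eq_top_of_infinite]

end Stalk

theorem exists_locallyConstant_rank {X : TopCat.{u}} (O : TopCat.Sheaf CommRingCat.{u} X)
    (hO : ∀ x : X, Nontrivial (O.presheaf.stalk x)) (F : ModSite.Mod O)
    [SheafOfModules.IsLocallyFree (R := ModSite.ringSh O) F] :
    ∃ rk : X → ℕ∞, IsLocallyConstant rk ∧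
      ∀ (x : X) (U : Opens X) (I : Type u), x ∈ U →
        Nonempty ((ModSite.restr O U).obj F ≅ SheafOfModules.free I) → ENat.card I = rk x := by
  classical
  obtain ⟨q, hq⟩ := (inferInstance :
    SheafOfModules.IsLocallyFree (R := ModSite.ringSh O) F).exists_isLocallyFreeData
  have hcov := (Opens.coversTop_iff X q.X).1 q.coversTop
  have hmem : ∀ x : X, ∃ i, x ∈ q.X i := by
    intro x
    have hx : x ∈ ⨆ i, q.X i := by
      rw [IsOpenCover] at hcov
      rw [hcov]
      trivial
    exact Opens.mem_iSup.1 hx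
  choose ix hix using hmem
  have hnt : ∀ x : X, Nontrivial (ModSite.stalkRing (Opens.pointGrothendieckTopology x) O) :=
    fun x => nontrivial_stalkRing O x (hO x)
  have key : ∀ (x : X) (U : Opens X) (I : Type u) (_ : x ∈ U)
      (_ : (ModSite.restr O U).obj F ≅ SheafOfModules.free I) (j : q.I) (_ : x ∈ q.X j),
      ENat.card I = ENat.card (q.generators j).I := by
    intro x U I hxU a j hxj
    haveI := hq.isIso j
    exact enat_card_eq_of_isos O x (hnt x) F hxU hxj a.symm (asIso (q.generators j).π)
  refine ⟨fun x => ENat.card (q.generators (ix x)).I, ?_,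
    fun x U I hxU ⟨a⟩ => key x U I hxU a (ix x) (hix x)⟩
  rw [IsLocallyConstant.iff_exists_open]
  intro x
  refine ⟨(q.X (ix x) : Set X), (q.X (ix x)).2, hix x, fun y hy => ?_⟩
  haveI := hq.isIso (ix y)
  exact key y (q.X (ix y)) _ (hix y) (asIso (q.generators (ix y)).π).symm (ix x) hy

end Groth.Agent.Lib.Helper25.LocGenRank
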