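import Mathlib
import Groth.Prelude.Def_ModSite2
import Groth.Agent.Lib.Helper25.LocGenSite

/-!
# Stalkwise surjectivity onto a finite type module spreads out (ringed spaces)
-/

set_option autoImplicit false
universe u

open CategoryTheory CategoryTheory.Limits Opposite SheafOfModules TopologicalSpace
open Groth.Agent.Lib.Helper25.LocGenSite

namespace Groth.Agent.Lib.Helper25.LocGenStalk

variable {X : TopCat.{u}} (O : TopCat.Sheaf CommRingCat.{u} X)

/-- If the germ of `n ∈ F(U₀)` at `x` is the image under the stalk map of `φ` of some element,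
then `n` lifts along `φ` near `x`. -/
theorem exists_lift_of_germ_mem {G F : ModSite.Mod O} (φ : G ⟶ F) (x : X)
    {U₀ : Opens X} (hx₀ : x ∈ U₀) (n : F.val.obj (op U₀))
    (a : ModSite.stalkAb (Opens.pointGrothendieckTopology x) G)
    (ha : (ModSite.stalkMap (Opens.pointGrothendieckTopology x) φ).hom a =
      ModSite.germ (Opens.pointGrothendieckTopology x) F U₀ ⟨⟨hx₀⟩⟩ n) :
    ∃ (V : Opens X) (hV : V ≤ U₀), x ∈ V ∧
      ∃ g : G.val.obj (op V), app φ V g = res F hV n := by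
  obtain ⟨V, v, g, rfl⟩ := (Opens.pointGrothendieckTopology x).toPresheafFiber_jointly_surjective
    (P := (ModSite.toAb G).obj) a
  have hxV : x ∈ V := v.down.down
  have h1 : (ModSite.stalkMap (Opens.pointGrothendieckTopology x) φ).hom
      (((Opens.pointGrothendieckTopology x).toPresheafFiber V v (ModSite.toAb G).obj).hom g) =
      ModSite.germ (Opens.pointGrothendieckTopology x) F V v ((φ.val.app (op V)).hom g) :=
    (Opens.pointGrothendieckTopology x).toPresheafFiber_naturality_apply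
      ((SheafOfModules.toSheaf (ModSite.ringSh O)).map φ).hom V v g
  have ha' := h1.symm.trans ha
  have hW : x ∈ V ⊓ U₀ := ⟨hxV, hx₀⟩
  have e1 := (Opens.pointGrothendieckTopology x).toPresheafFiber_w_apply
    (homOfLE (inf_le_left : V ⊓ U₀ ≤ V)) ⟨⟨hW⟩⟩ (ModSite.toAb F).obj ((φ.val.app (op V)).hom g)
  have e2 := (Opens.pointGrothendieckTopology x).toPresheafFiber_w_apply
    (homOfLE (inf_le_right : V ⊓ U₀ ≤ U₀)) ⟨⟨hW⟩⟩ (ModSite.toAb F).obj n
  rw [Subsingleton.elim ((Opens.pointGrothendieckTopology x).fiber.map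
    (homOfLE (inf_le_left : V ⊓ U₀ ≤ V)) ⟨⟨hW⟩⟩) v] at e1
  rw [Subsingleton.elim ((Opens.pointGrothendieckTopology x).fiber.map
    (homOfLE (inf_le_right : V ⊓ U₀ ≤ U₀)) ⟨⟨hW⟩⟩) ⟨⟨hx₀⟩⟩] at e2
  have e3 := (e1.trans ha').trans e2.symm
  obtain ⟨Y, f, y, -, hEq⟩ := ((Opens.pointGrothendieckTopology x).toPresheafFiber_eq_iff'
    (V ⊓ U₀) ⟨⟨hW⟩⟩ _ _).1 e3
  refine ⟨Y, f.le.trans inf_le_right, y.down.down, res G (f.le.trans inf_le_left) g, ?_⟩
  rw [app_res]
  exact ((res_res F inf_le_left f.le _).symm.trans hEq).trans (res_res F inf_le_right f.le n)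

/-- If `F` is of finite type and `φ_x` is surjective then `φ` is an epimorphism near `x`. -/
theorem exists_epi_restr {G F : ModSite.Mod O} (φ : G ⟶ F)
    [SheafOfModules.IsFiniteType (R := ModSite.ringSh O) F] (x : X)
    (hx : Function.Surjective (ModSite.stalkMap (Opens.pointGrothendieckTopology x) φ).hom) :
    ∃ U : Opens X, x ∈ U ∧ Epi ((ModSite.restr O U).map φ) := by
  obtain ⟨U₀, hx₀, ι, _, s, hs⟩ := (isFiniteType_iff F).1 inferInstance x
  have key : ∀ i, ∃ (V : Opens X) (hV : V ≤ U₀), x ∈ V ∧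
      ∃ g : G.val.obj (op V), app φ V g = res F hV (s i) := by
    intro i
    obtain ⟨a, ha⟩ := hx (ModSite.germ (Opens.pointGrothendieckTopology x) F U₀ ⟨⟨hx₀⟩⟩ (s i))
    exact exists_lift_of_germ_mem O φ x hx₀ (s i) a ha
  choose V hV hxV g hg using key
  obtain ⟨U', hxU', hU'V⟩ := exists_open_le_of_finite x V hxV
  have hU₀ : U' ⊓ U₀ ≤ U₀ := inf_le_right
  have hUV : ∀ i, U' ⊓ U₀ ≤ V i := fun i => inf_le_left.trans (hU'V i)
  refine ⟨U' ⊓ U₀, ⟨hxU', hx₀⟩, ?_⟩
  refine epi_over_of_pointwise (R := ModSite.ringSh O) (U := U' ⊓ U₀)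
    ((ModSite.restr O (U' ⊓ U₀)).map φ) ?_
  intro Y n y hy
  obtain ⟨W', hW', hyW', r, hr⟩ :=
    hs Y.left (Y.hom.le.trans hU₀) (show F.val.obj (op Y.left) from n) y hy
  refine ⟨W', homOfLE hW', hyW',
    (show ((ModSite.restr O (U' ⊓ U₀)).obj G).val.obj (op (Over.mk (homOfLE hW' ≫ Y.hom))) from
      ∑ i, r i • res G ((hW'.trans Y.hom.le).trans (hUV i)) (g i)), ?_⟩
  change app φ W' (∑ i, r i • res G ((hW'.trans Y.hom.le).trans (hUV i)) (g i)) =
    res F hW' (show F.val.obj (op Y.left) from n)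
  rw [hr, map_sum]
  refine Finset.sum_congr rfl (fun i _ => ?_)
  rw [map_smul, app_res, hg i, res_res]

end Groth.Agent.Lib.Helper25.LocGenStalk
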