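import Groth.Agent.Lib.Helper25.LogConnLayer
import Mathlib

/-!
# Change of admissible coordinates for the layers of a flat logarithmic λ-connection
-/

set_option autoImplicit false
set_option linter.unusedSectionVars false
universe v u

open TensorProduct

namespace Groth.Agent.Lib.Helper25.LogConnChange

open Groth.Agent.Lib.Helper25.LogConnLib Groth.Agent.Lib.Helper25.LogConnLayer

section det

variable {B : Type u} [CommRing B]

theorem det_col_div {p : ℕ} (N : Matrix (Fin p) (Fin p) B) (s : Fin p → B)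
    (hcol : ∀ b, ∃ col : Fin p → B, ∀ a, N a b = s b * col a) :
    ∃ c, N.det = (∏ b, s b) * c := by
  choose col hcol using hcol
  refine ⟨(Matrix.of fun a b => col b a).det, ?_⟩
  rw [← Matrix.det_mul_row]
  congr 1
  ext a b
  simp [hcol b a]

theorem prod_orderEmb_ite {n : ℕ} (t : Fin n → B) (K' : Finset (Fin n)) {p : ℕ}
    (hK' : K'.card = p) (S : Finset (Fin n)) :
    ∏ b : Fin p, (if K'.orderEmbOfFin hK' b ∈ S then (1 : B) else t (K'.orderEmbOfFin hK' b)) =
      ∏ k ∈ K' \ S, t k := by
  classical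
  have h1 : ∏ b : Fin p,
      (if K'.orderEmbOfFin hK' b ∈ S then (1 : B) else t (K'.orderEmbOfFin hK' b)) =
      ∏ k ∈ K', (if k ∈ S then (1 : B) else t k) := by
    conv_rhs => rw [← Finset.map_orderEmbOfFin_univ K' hK']
    rw [Finset.prod_map]
    rfl
  rw [h1, Finset.prod_ite, Finset.prod_const_one, one_mul]
  congr 1
  ext x
  simp [Finset.mem_sdiff]

end det

section
variable {A : Type v} {B L E : Type u} [CommRing A] [CommRing B]
  [Algebra A B] [AddCommGroup L] [Module B L] [Module A L] [IsScalarTower A B L]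
  [AddCommGroup E] [Module B E] [Module A E] [IsScalarTower A B E]
  (lam : B) {n : ℕ} (t : Fin n → B) (bΩ : Module.Basis (Fin n) B (KaehlerDifferential A B))
  (hbΩ : ∀ i, bΩ i = KaehlerDifferential.D A B (t i))
  (ω : Module.Basis (Fin n) B L) (ι : KaehlerDifferential A B →ₗ[B] L)
  (hι : ∀ i, ι (KaehlerDifferential.D A B (t i)) = t i • ω i)
  (nabla : E →ₗ[A] E ⊗[B] L)
  (hc : Conn.IsLamConn (ι.compDer (KaehlerDifferential.D A B)) lam nabla)
  (d : ∀ p : ℕ, ↥(⋀[B]^p L) →ₗ[A] ↥(⋀[B]^(p + 1) L))
  (nablas : ∀ p : ℕ, E ⊗[B] ↥(⋀[B]^p L) →ₗ[A] E ⊗[B] ↥(⋀[B]^(p + 1) L))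

/-- Commutativity of the components from flatness, needing only `d ω_k = 0`. -/
theorem comp_comm' (hdω : ∀ k, d 1 (exteriorPower.ιMulti B 1 (fun _ => ω k)) = 0)
    (hint : Conn.IsIntegrable nabla (fun p => lam • d p) nablas) (i j : Fin n) (e : E) :
    LogConn.comp nabla ω i (LogConn.comp nabla ω j e) =
      LogConn.comp nabla ω j (LogConn.comp nabla ω i e) := by
  classical
  have h0 := hint.2 e
  rw [nabla_decomp nabla ω e, map_sum, map_sum] at h0
  have h1 : ∀ k, nablas 1 (Conn.toOne (LogConn.comp nabla ω k e ⊗ₜ[B] ω k)) =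
      Conn.twedge 1 (Conn.toOne (nabla (LogConn.comp nabla ω k e)))
        (exteriorPower.ιMulti B 1 (fun _ => ω k)) := by
    intro k
    rw [Conn.toOne_tmul, exteriorPower.oneEquiv_symm_apply, hint.1 1 _ _]
    have h4 : (lam • d 1) (exteriorPower.ιMulti B 1 (fun _ : Fin 1 => ω k)) = 0 := by
      rw [LinearMap.smul_apply, hdω k, smul_zero]
    rw [h4, tmul_zero, add_zero]
  have h2 := congrArg (contr (E := E) (phi2 (ω.coord i) (ω.coord j))) h0
  rw [map_sum, map_zero] at h2
  simp only [h1, contr_twedge] at h2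
  simp only [Module.Basis.coord_apply, Module.Basis.repr_self, Finsupp.single_apply] at h2
  rw [Finset.sum_sub_distrib] at h2
  simp only [ite_smul, one_smul, zero_smul, Finset.sum_ite_eq', Finset.mem_univ, if_true] at h2
  exact sub_eq_zero.mp h2

include hbΩ in
theorem pd_prod_mul_eq (i : Fin n) (S : Finset (Fin n)) :
    ∃ b : B, pd bΩ i (∏ k ∈ S, t k) * t i = b * ∏ k ∈ S, t k := by
  classical
  by_cases hi : i ∈ S
  · refine ⟨1, ?_⟩
    rw [one_mul, ← Finset.mul_prod_erase S t hi]
    have h0 : pd bΩ i (∏ k ∈ S.erase i, t k) = 0 :=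
      pd_prod_eq_zero t bΩ hbΩ i _ (Finset.notMem_erase i S)
    have h1 : pd bΩ i (t i * ∏ k ∈ S.erase i, t k) =
        t i * pd bΩ i (∏ k ∈ S.erase i, t k) + (∏ k ∈ S.erase i, t k) * pd bΩ i (t i) := by
      unfold pd
      rw [Derivation.leibniz, map_add, map_smul, map_smul, Finsupp.add_apply,
        Finsupp.smul_apply, Finsupp.smul_apply, smul_eq_mul, smul_eq_mul]
    rw [h1, h0, pd_t t bΩ hbΩ i i, if_pos rfl]
    ring
  · exact ⟨0, by rw [pd_prod_eq_zero t bΩ hbΩ i S hi]; ring⟩

variable (hcomm : ∀ (i j : Fin n) (e : E), LogConn.comp nabla ω i (LogConn.comp nabla ω j e) =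
      LogConn.comp nabla ω j (LogConn.comp nabla ω i e))

include hcomm in
theorem comp_compProd_comm (i : Fin n) (J : Finset (Fin n)) (e : E) :
    LogConn.comp nabla ω i (LogConn.compProd nabla ω J e) =
      LogConn.compProd nabla ω J (LogConn.comp nabla ω i e) := by
  classical
  induction J using Finset.induction_on_min generalizing e with
  | empty => simp [compProd_empty]
  | insert j J hj ih =>
    rw [compProd_insert ω nabla j J hj]
    simp only [LinearMap.comp_apply]
    rw [hcomm i j, ih]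

include hbΩ hι hc hcomm in
theorem comp_mem_piece_self (i : Fin n) (J : Finset (Fin n)) (y : E)
    (hy : y ∈ LogConn.piece nabla ω t J) :
    LogConn.comp nabla ω i y ∈ LogConn.piece nabla ω t J := by
  classical
  refine piece_induction t ω nabla J
    (P := fun y => LogConn.comp nabla ω i y ∈ LogConn.piece nabla ω t J) ?_ ?_ ?_ y hy
  · intro J' hJ' e
    rw [comp_smul lam t bΩ hbΩ ω ι hι nabla hc, comp_compProd_comm ω nabla hcomm]
    refine add_mem (gen_mem_piece t ω nabla J J' hJ' _) ?_
    obtain ⟨b, hb⟩ := pd_prod_mul_eq t bΩ hbΩ i (J \ J')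
    rw [hb, ← mul_assoc, mul_smul]
    exact smul_mem_piece lam t bΩ hbΩ ω ι hι nabla hc J _ _
      (gen_mem_piece t ω nabla J J' hJ' e)
  · simp
  · intro x y hx hy; simp only [map_add]; exact add_mem hx hy

include hbΩ hι hc hcomm in
theorem piece_insert_le (a : Fin n) (K : Finset (Fin n)) (ha : a ∉ K) :
    LogConn.piece nabla ω t (insert a K) ≤ LogConn.piece nabla ω t K := by
  classical
  intro y hy
  refine piece_induction t ω nabla (insert a K)
    (P := fun y => y ∈ LogConn.piece nabla ω t K) ?_ ?_ ?_ y hy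
  · intro J hJ e
    by_cases haJ : a ∈ J
    · have hJ₀ : J.erase a ⊆ K := by
        intro x hx
        have h1 := Finset.mem_erase.mp hx
        rcases Finset.mem_insert.mp (hJ h1.2) with h | h
        · exact absurd h h1.1
        · exact h
      have h2 : insert a (J.erase a) = J := Finset.insert_erase haJ
      have h3 : LogConn.compProd nabla ω J e =
          LogConn.compProd nabla ω (J.erase a) (LogConn.comp nabla ω a e) := by
        conv_lhs => rw [← h2]
        rw [← comp_compProd ω nabla hcomm a (J.erase a) (Finset.notMem_erase a J) e,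
          comp_compProd_comm ω nabla hcomm]
      have h4 : insert a K \ J = K \ J.erase a := by
        ext x
        simp only [Finset.mem_sdiff, Finset.mem_insert, Finset.mem_erase]
        constructor
        · rintro ⟨h | h, hx⟩
          · exact absurd (h ▸ haJ) hx
          · exact ⟨h, fun hh => hx hh.2⟩
        · rintro ⟨h, hx⟩
          refine ⟨Or.inr h, fun hh => hx ⟨?_, hh⟩⟩
          rintro rfl
          exact ha h
      rw [h3, h4]
      exact gen_mem_piece t ω nabla K _ hJ₀ _
    · have hJK : J ⊆ K := by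
        intro x hx
        rcases Finset.mem_insert.mp (hJ hx) with h | h
        · exact absurd (h ▸ hx) haJ
        · exact h
      have h4 : insert a K \ J = insert a (K \ J) := by
        ext x
        simp only [Finset.mem_sdiff, Finset.mem_insert]
        constructor
        · rintro ⟨h | h, hx⟩
          · exact Or.inl h
          · exact Or.inr ⟨h, hx⟩
        · rintro (h | ⟨h, hx⟩)
          · exact ⟨Or.inl h, fun hh => haJ (h ▸ hh)⟩
          · exact ⟨Or.inr h, hx⟩
      rw [h4, Finset.prod_insert (by simp [ha]), mul_smul]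
      exact smul_mem_piece lam t bΩ hbΩ ω ι hι nabla hc K _ _
        (gen_mem_piece t ω nabla K J hJK e)
  · simp
  · intro x y hx hy; exact add_mem hx hy

include hbΩ hι hc hcomm in
theorem piece_antitone (K₀ K : Finset (Fin n)) (h : K₀ ⊆ K) :
    LogConn.piece nabla ω t K ≤ LogConn.piece nabla ω t K₀ := by
  classical
  have key : ∀ S : Finset (Fin n),
      LogConn.piece nabla ω t (K₀ ∪ S) ≤ LogConn.piece nabla ω t K₀ := by
    intro S
    induction S using Finset.induction_on with
    | empty => rw [Finset.union_empty]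
    | insert a S _ ih =>
      by_cases ha : a ∈ K₀ ∪ S
      · have : K₀ ∪ insert a S = K₀ ∪ S := by
          rw [Finset.union_insert, Finset.insert_eq_of_mem ha]
        rw [this]; exact ih
      · rw [Finset.union_insert]
        exact (piece_insert_le lam t bΩ hbΩ ω ι hι nabla hc hcomm a _ ha).trans ih
  have := key (K \ K₀)
  rwa [Finset.union_sdiff_of_subset h] at this

include hbΩ hι hc hcomm in
theorem prod_smul_mem_piece' (K K' : Finset (Fin n)) (y : E)
    (hy : y ∈ LogConn.piece nabla ω t K) :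
    (∏ i ∈ K' \ K, t i) • y ∈ LogConn.piece nabla ω t K' := by
  classical
  have h1 : y ∈ LogConn.piece nabla ω t (K ∩ K') :=
    piece_antitone lam t bΩ hbΩ ω ι hι nabla hc hcomm (K ∩ K') K Finset.inter_subset_left hy
  have h2 := prod_smul_mem_piece t ω nabla K' (K ∩ K') Finset.inter_subset_right y h1
  have h3 : K' \ (K ∩ K') = K' \ K := by
    ext x
    simp only [Finset.mem_sdiff, Finset.mem_inter]
    tauto
  rwa [h3] at h2

theorem comp_change (ω' : Module.Basis (Fin n) B L) (j : Fin n) (e : E) :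
    LogConn.comp nabla ω' j e = ∑ i, ω'.coord j (ω i) • LogConn.comp nabla ω i e := by
  rw [comp_eq_contr nabla ω' j e]
  conv_lhs => rw [nabla_decomp nabla ω e]
  rw [map_sum]
  refine Finset.sum_congr rfl (fun i _ => ?_)
  rw [contr_tmul]

include hbΩ hι hc hcomm in
theorem comp'_mem_piece_insert (ω' : Module.Basis (Fin n) B L)
    (hrel : ∀ i j, ∃ c : B, ω'.coord j (ω i) = (if i = j then 1 else 0) + t j * c)
    (j : Fin n) (J : Finset (Fin n)) (hj : j ∉ J) (y : E)
    (hy : y ∈ LogConn.piece nabla ω t J) :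
    LogConn.comp nabla ω' j y ∈ LogConn.piece nabla ω t (insert j J) := by
  classical
  rw [comp_change ω nabla ω' j y]
  refine Submodule.sum_mem _ (fun i _ => ?_)
  obtain ⟨c, hc'⟩ := hrel i j
  rw [hc', add_smul]
  refine add_mem ?_ ?_
  · by_cases hij : i = j
    · rw [if_pos hij, one_smul, hij]
      exact comp_mem_piece_insert' lam t bΩ hbΩ ω ι hι nabla hc hcomm j J hj y hy
    · rw [if_neg hij, zero_smul]; exact zero_mem _
  · have h1 := comp_mem_piece_self lam t bΩ hbΩ ω ι hι nabla hc hcomm i J y hy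
    have h2 := prod_smul_mem_piece t ω nabla (insert j J) J (Finset.subset_insert j J) _ h1
    rw [insert_sdiff_self_of_notMem j J hj, Finset.prod_singleton] at h2
    rw [mul_comm, mul_smul]
    exact smul_mem_piece lam t bΩ hbΩ ω ι hι nabla hc _ c _ h2

include hbΩ hι hc hcomm in
theorem compProd'_mem_piece (ω' : Module.Basis (Fin n) B L)
    (hrel : ∀ i j, ∃ c : B, ω'.coord j (ω i) = (if i = j then 1 else 0) + t j * c)
    (J : Finset (Fin n)) :
    ∀ e : E, LogConn.compProd nabla ω' J e ∈ LogConn.piece nabla ω t J := by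
  classical
  induction J using Finset.induction_on_min with
  | empty =>
    intro e
    have := gen_mem_piece t ω nabla ∅ ∅ (Finset.Subset.refl _) e
    simpa [compProd_empty] using this
  | insert j J hj ih =>
    intro e
    have hjJ : j ∉ J := fun h => lt_irrefl _ (hj j h)
    rw [compProd_insert ω' nabla j J hj, LinearMap.comp_apply]
    exact comp'_mem_piece_insert lam t bΩ hbΩ ω ι hι nabla hc hcomm ω' hrel j J hjJ _ (ih e)

include hbΩ hι hc hcomm in
theorem piece'_le (ω' : Module.Basis (Fin n) B L) (t' : Fin n → B)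
    (hrel : ∀ i j, ∃ c : B, ω'.coord j (ω i) = (if i = j then 1 else 0) + t j * c)
    (ht : ∀ j, ∃ v : B, t' j = v * t j) (K : Finset (Fin n)) :
    LogConn.piece nabla ω' t' K ≤ LogConn.piece nabla ω t K := by
  classical
  choose v hv using ht
  intro y hy
  refine piece_induction t' ω' nabla K
    (P := fun y => y ∈ LogConn.piece nabla ω t K) ?_ ?_ ?_ y hy
  · intro J hJ e
    have h1 : ∏ i ∈ K \ J, t' i = (∏ i ∈ K \ J, v i) * ∏ i ∈ K \ J, t i := by
      rw [← Finset.prod_mul_distrib]
      exact Finset.prod_congr rfl (fun i _ => hv i)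
    rw [h1, mul_smul]
    exact smul_mem_piece lam t bΩ hbΩ ω ι hι nabla hc K _ _
      (prod_smul_mem_piece t ω nabla K J hJ _
        (compProd'_mem_piece lam t bΩ hbΩ ω ι hι nabla hc hcomm ω' hrel J e))
  · simp
  · intro x y hx hy; exact add_mem hx hy

include hbΩ hι hc hcomm in
theorem coord'_basis_smul_mem (ω' : Module.Basis (Fin n) B L)
    (hrel : ∀ i j, ∃ c : B, ω'.coord j (ω i) = (if i = j then 1 else 0) + t j * c)
    (p : ℕ) (K K' : Set.powersetCard (Fin n) p) (y : E)
    (hy : y ∈ LogConn.piece nabla ω t (K : Finset (Fin n))) :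
    ((ω'.exteriorPower p).coord K' (ω.exteriorPower p K)) • y ∈
      LogConn.piece nabla ω t (K' : Finset (Fin n)) := by
  classical
  rw [exteriorPower.basis_apply, exteriorPower.ιMulti_family, exteriorPower.basis_coord,
    exteriorPower.ιMultiDual_apply_ιMulti]
  have hcolN : ∀ b : Fin p, ∃ col : Fin p → B, ∀ a : Fin p,
      (Matrix.of fun a b => ω'.coord (Set.powersetCard.ofFinEmbEquiv.symm K' b)
        ((ω ∘ Set.powersetCard.ofFinEmbEquiv.symm K) a)) a b =
      (if Set.powersetCard.ofFinEmbEquiv.symm K' b ∈ (K : Finset (Fin n)) then (1 : B)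
        else t (Set.powersetCard.ofFinEmbEquiv.symm K' b)) * col a := by
    intro b
    by_cases hb : Set.powersetCard.ofFinEmbEquiv.symm K' b ∈ (K : Finset (Fin n))
    · refine ⟨fun a => ω'.coord (Set.powersetCard.ofFinEmbEquiv.symm K' b)
        ((ω ∘ Set.powersetCard.ofFinEmbEquiv.symm K) a), fun a => ?_⟩
      rw [if_pos hb, one_mul]
      rfl
    · have hrel'' := fun a : Fin p => hrel (Set.powersetCard.ofFinEmbEquiv.symm K a)
        (Set.powersetCard.ofFinEmbEquiv.symm K' b)
      choose col hcol using hrel''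
      refine ⟨col, fun a => ?_⟩
      rw [if_neg hb, Matrix.of_apply, Function.comp_apply, hcol a, if_neg, zero_add]
      intro h
      apply hb
      rw [← h]
      exact (Set.powersetCard.mem_range_ofFinEmbEquiv_symm_iff_mem K _).mp ⟨a, rfl⟩
  obtain ⟨c, hc''⟩ := det_col_div _ _ hcolN
  rw [hc'']
  have h1 : ∏ b : Fin p, (if Set.powersetCard.ofFinEmbEquiv.symm K' b ∈ (K : Finset (Fin n))
      then (1 : B) else t (Set.powersetCard.ofFinEmbEquiv.symm K' b)) =
      ∏ k ∈ (K' : Finset (Fin n)) \ K, t k :=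
    prod_orderEmb_ite t (K' : Finset (Fin n)) (Set.powersetCard.card_eq K')
      (K : Finset (Fin n))
  rw [h1, mul_comm, mul_smul]
  exact smul_mem_piece lam t bΩ hbΩ ω ι hι nabla hc _ c _
    (prod_smul_mem_piece' lam t bΩ hbΩ ω ι hι nabla hc hcomm K K' y hy)

end

section
variable {A : Type v} {B L E : Type u} [CommRing A] [CommRing B]
  [Algebra A B] [AddCommGroup L] [Module B L] [Module A L] [IsScalarTower A B L]
  [AddCommGroup E] [Module B E] [Module A E] [IsScalarTower A B E]
  (lam : B) {n : ℕ} (t : Fin n → B) (bΩ : Module.Basis (Fin n) B (KaehlerDifferential A B))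
  (hbΩ : ∀ i, bΩ i = KaehlerDifferential.D A B (t i))
  (ω : Module.Basis (Fin n) B L) (ι : KaehlerDifferential A B →ₗ[B] L)
  (hι : ∀ i, ι (KaehlerDifferential.D A B (t i)) = t i • ω i)
  (nabla : E →ₗ[A] E ⊗[B] L)
  (hc : Conn.IsLamConn (ι.compDer (KaehlerDifferential.D A B)) lam nabla)
  (hcomm : ∀ (i j : Fin n) (e : E), LogConn.comp nabla ω i (LogConn.comp nabla ω j e) =
      LogConn.comp nabla ω j (LogConn.comp nabla ω i e))
  (t' : Fin n → B) (bΩ' : Module.Basis (Fin n) B (KaehlerDifferential A B))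
  (hbΩ' : ∀ i, bΩ' i = KaehlerDifferential.D A B (t' i))
  (ω' : Module.Basis (Fin n) B L)
  (hι' : ∀ i, ι (KaehlerDifferential.D A B (t' i)) = t' i • ω' i)
  (hcomm' : ∀ (i j : Fin n) (e : E), LogConn.comp nabla ω' i (LogConn.comp nabla ω' j e) =
      LogConn.comp nabla ω' j (LogConn.comp nabla ω' i e))

include hbΩ hι hc hcomm hbΩ' hι' hcomm' in
theorem layer_le
    (hrel : ∀ i j, ∃ c : B, ω'.coord j (ω i) = (if i = j then 1 else 0) + t j * c)
    (hrel' : ∀ i j, ∃ c : B, ω.coord j (ω' i) = (if i = j then 1 else 0) + t' j * c)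
    (ht' : ∀ j, ∃ v : B, t j = v * t' j) (p : ℕ) :
    LogConn.layer nabla ω t p ≤ LogConn.layer nabla ω' t' p := by
  intro x hx
  unfold LogConn.layer at hx ⊢
  rw [Submodule.mem_iInf] at hx ⊢
  intro K'
  rw [Submodule.mem_comap]
  rw [tensor_decomp (ω.exteriorPower p) x, map_sum]
  refine Submodule.sum_mem _ (fun K _ => ?_)
  have hxK : LogConn.coordE ω p K x ∈ LogConn.piece nabla ω t (K : Finset (Fin n)) := hx K
  change LogConn.coordE ω' p K' (LogConn.coordE ω p K x ⊗ₜ[B] (ω.exteriorPower p K)) ∈ _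
  rw [coordE_tmul]
  have h1 := coord'_basis_smul_mem lam t bΩ hbΩ ω ι hι nabla hc hcomm ω' hrel p K K' _ hxK
  exact piece'_le lam t' bΩ' hbΩ' ω' ι hι' nabla hc hcomm' ω t hrel' ht' _ h1

end

end Groth.Agent.Lib.Helper25.LogConnChange
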