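import Groth.Agent.Lib.Helper25.LogConnChange
import Mathlib

/-!
# The span of the generators `∇_I(e) ⊗ ω_I ∧ ι(η)` is the layer
-/

set_option autoImplicit false
set_option linter.unusedSectionVars false
universe v u

open TensorProduct

namespace Groth.Agent.Lib.Helper25.LogConnGens

open Groth.Agent.Lib.Helper25.LogConnLib Groth.Agent.Lib.Helper25.LogConnLayer
  Groth.Agent.Lib.Helper25.LogConnChange

section
variable {A : Type v} {B L E : Type u} [CommRing A] [CommRing B]
  [Algebra A B] [AddCommGroup L] [Module B L] [Module A L] [IsScalarTower A B L]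
  [AddCommGroup E] [Module B E] [Module A E] [IsScalarTower A B E]
  (lam : B) {n : ℕ} (t : Fin n → B) (bΩ : Module.Basis (Fin n) B (KaehlerDifferential A B))
  (hbΩ : ∀ i, bΩ i = KaehlerDifferential.D A B (t i))
  (ω : Module.Basis (Fin n) B L) (ι : KaehlerDifferential A B →ₗ[B] L)
  (hι : ∀ i, ι (KaehlerDifferential.D A B (t i)) = t i • ω i)
  (nabla : E →ₗ[A] E ⊗[B] L)
  (hc : Conn.IsLamConn (ι.compDer (KaehlerDifferential.D A B)) lam nabla)

include hbΩ hι in
theorem coord_iota (j : Fin n) (η : KaehlerDifferential A B) :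
    ω.coord j (ι η) = t j * bΩ.repr η j := by
  have h0 : (ω.coord j) ∘ₗ ι = t j • bΩ.coord j := by
    apply bΩ.ext
    intro i
    have h1 : ι (bΩ i) = t i • ω i := by rw [hbΩ, hι]
    simp only [LinearMap.comp_apply, h1, map_smul, LinearMap.smul_apply, Module.Basis.coord_apply,
      Module.Basis.repr_self, Finsupp.single_apply, smul_eq_mul]
    split_ifs with h
    · rw [h]
    · rw [mul_zero, mul_zero]
  exact LinearMap.congr_fun h0 η

include hbΩ hι hc in
theorem gens_subset_layer (p : ℕ) (x : E ⊗[B] ↥(⋀[B]^p L))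
    (hx : x ∈ LogConn.gens nabla ω ι p) : x ∈ LogConn.layer nabla ω t p := by
  classical
  obtain ⟨I, hIp, e, v, hv1, hv2, rfl⟩ := hx
  unfold LogConn.layer
  rw [Submodule.mem_iInf]
  intro K
  rw [Submodule.mem_comap]
  change LogConn.coordE ω p K (_ ⊗ₜ[B] _) ∈ _
  rw [coordE_tmul, exteriorPower.basis_coord, exteriorPower.ιMultiDual_apply_ιMulti]
  by_cases hIK : I ⊆ (K : Finset (Fin n))
  · have hcolN : ∀ b : Fin p, ∃ col : Fin p → B, ∀ a : Fin p,
        (Matrix.of fun a b => ω.coord (Set.powersetCard.ofFinEmbEquiv.symm K b) (v a)) a b =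
        (if Set.powersetCard.ofFinEmbEquiv.symm K b ∈ I then (1 : B)
          else t (Set.powersetCard.ofFinEmbEquiv.symm K b)) * col a := by
      intro b
      by_cases hb : Set.powersetCard.ofFinEmbEquiv.symm K b ∈ I
      · exact ⟨fun a => ω.coord (Set.powersetCard.ofFinEmbEquiv.symm K b) (v a),
          fun a => by rw [if_pos hb, one_mul]; rfl⟩
      · have hex : ∀ a : Fin p, ∃ c : B,
            ω.coord (Set.powersetCard.ofFinEmbEquiv.symm K b) (v a) =
              t (Set.powersetCard.ofFinEmbEquiv.symm K b) * c := by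
          intro a
          by_cases ha : a.val < I.card
          · refine ⟨0, ?_⟩
            rw [hv1 a ha, Module.Basis.coord_apply, Module.Basis.repr_self, Finsupp.single_apply,
              if_neg, mul_zero]
            intro h
            apply hb
            rw [← h]
            exact Finset.orderEmbOfFin_mem I rfl _
          · obtain ⟨η, hη⟩ := hv2 a (not_lt.mp ha)
            exact ⟨bΩ.repr η _, by rw [← hη, coord_iota t bΩ hbΩ ω ι hι]⟩
        choose col hcol using hex
        exact ⟨col, fun a => by rw [if_neg hb, Matrix.of_apply, hcol a]⟩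
    obtain ⟨c, hc''⟩ := det_col_div _ _ hcolN
    rw [hc'']
    have h1 : ∏ b : Fin p, (if Set.powersetCard.ofFinEmbEquiv.symm K b ∈ I then (1 : B)
        else t (Set.powersetCard.ofFinEmbEquiv.symm K b)) =
        ∏ k ∈ (K : Finset (Fin n)) \ I, t k :=
      prod_orderEmb_ite t (K : Finset (Fin n)) (Set.powersetCard.card_eq K) I
    rw [h1, mul_comm, mul_smul]
    exact smul_mem_piece lam t bΩ hbΩ ω ι hι nabla hc _ c _
      (gen_mem_piece t ω nabla _ I hIK e)
  · obtain ⟨i, hiI, hiK⟩ := Finset.not_subset.mp hIK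
    have hir : i ∈ Set.range (I.orderEmbOfFin rfl) := by
      rw [Finset.range_orderEmbOfFin]; exact Finset.mem_coe.mpr hiI
    obtain ⟨a₀, ha₀⟩ := hir
    have ha₀p : a₀.val < p := lt_of_lt_of_le a₀.2 hIp
    rw [Matrix.det_eq_zero_of_row_eq_zero ⟨a₀.val, ha₀p⟩, zero_smul]
    · exact zero_mem _
    · intro b
      rw [Matrix.of_apply, hv1 ⟨a₀.val, ha₀p⟩ a₀.2, Module.Basis.coord_apply,
        Module.Basis.repr_self, Finsupp.single_apply, if_neg]
      intro h
      apply hiK
      have h2 : (⟨(⟨a₀.val, ha₀p⟩ : Fin p).val, a₀.2⟩ : Fin I.card) = a₀ := rfl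
      rw [h2, ha₀] at h
      rw [h]
      exact (Set.powersetCard.mem_range_ofFinEmbEquiv_symm_iff_mem K _).mp ⟨b, rfl⟩

include hbΩ hι hc in
theorem smul_mem_layer (p : ℕ) (b : B) (x : E ⊗[B] ↥(⋀[B]^p L))
    (hx : x ∈ LogConn.layer nabla ω t p) : b • x ∈ LogConn.layer nabla ω t p := by
  unfold LogConn.layer at hx ⊢
  rw [Submodule.mem_iInf] at hx ⊢
  intro K
  have := hx K
  rw [Submodule.mem_comap] at this ⊢
  change LogConn.coordE ω p K (b • x) ∈ _
  rw [map_smul]
  exact smul_mem_piece lam t bΩ hbΩ ω ι hι nabla hc _ b _ this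

include hbΩ hι hc in
theorem span_gens_le_layer (p : ℕ) :
    (Submodule.span B (LogConn.gens nabla ω ι p)).restrictScalars A ≤
      LogConn.layer nabla ω t p := by
  intro x hx
  rw [Submodule.restrictScalars_mem] at hx
  induction hx using Submodule.span_induction with
  | mem x hx => exact gens_subset_layer lam t bΩ hbΩ ω ι hι nabla hc p x hx
  | zero => exact zero_mem _
  | add x y _ _ hx hy => exact add_mem hx hy
  | smul b x _ hx => exact smul_mem_layer lam t bΩ hbΩ ω ι hι nabla hc p b x hx

theorem exists_perm {p : ℕ} (K : Set.powersetCard (Fin n) p) (h : Fin p → Fin n)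
    (hinj : Function.Injective h) (hK : ∀ a, h a ∈ (K : Finset (Fin n))) :
    ∃ σ : Equiv.Perm (Fin p), ∀ a, Set.powersetCard.ofFinEmbEquiv.symm K (σ a) = h a := by
  have hex : ∀ a, ∃ b, Set.powersetCard.ofFinEmbEquiv.symm K b = h a := fun a =>
    (Set.powersetCard.mem_range_ofFinEmbEquiv_symm_iff_mem K (h a)).mpr (hK a)
  choose f hf using hex
  have hfinj : Function.Injective f := by
    intro a a' haa'
    apply hinj
    rw [← hf a, ← hf a', haa']
  exact ⟨Equiv.ofBijective f (Finite.injective_iff_bijective.mp hfinj), hf⟩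

include hι in
theorem tmul_basis_mem_span (p : ℕ) (K : Set.powersetCard (Fin n) p) (J : Finset (Fin n))
    (hJ : J ⊆ (K : Finset (Fin n))) (e : E) :
    ((∏ i ∈ (K : Finset (Fin n)) \ J, t i) • LogConn.compProd nabla ω J e) ⊗ₜ[B]
      (ω.exteriorPower p K) ∈ Submodule.span B (LogConn.gens nabla ω ι p) := by
  classical
  have hcardK : (K : Finset (Fin n)).card = p := Set.powersetCard.card_eq K
  have hcard : J.card + ((K : Finset (Fin n)) \ J).card = p := by
    rw [Finset.card_sdiff_of_subset hJ]
    have := Finset.card_le_card hJ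
    omega
  have hl : J.card ≤ p := by omega
  let h : Fin p → Fin n := fun a =>
    if ha : a.val < J.card then J.orderEmbOfFin rfl ⟨a.val, ha⟩
    else ((K : Finset (Fin n)) \ J).orderEmbOfFin rfl ⟨a.val - J.card, by
      have := a.isLt
      omega⟩
  have hmemJ : ∀ a (ha : a.val < J.card), h a ∈ J := fun a ha => by
    have : h a = J.orderEmbOfFin rfl ⟨a.val, ha⟩ := dif_pos ha
    rw [this]
    exact Finset.orderEmbOfFin_mem J rfl _
  have hmemKJ : ∀ a (ha : ¬ a.val < J.card), h a ∈ (K : Finset (Fin n)) \ J := fun a ha => by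
    have : h a = ((K : Finset (Fin n)) \ J).orderEmbOfFin rfl ⟨a.val - J.card, by
      have := a.isLt
      omega⟩ := dif_neg ha
    rw [this]
    exact Finset.orderEmbOfFin_mem _ rfl _
  have hiff : ∀ a, h a ∈ J ↔ a.val < J.card := fun a => by
    constructor
    · intro hm
      by_contra ha
      exact (Finset.mem_sdiff.mp (hmemKJ a ha)).2 hm
    · exact hmemJ a
  have hK : ∀ a, h a ∈ (K : Finset (Fin n)) := fun a => by
    by_cases ha : a.val < J.card
    · exact hJ (hmemJ a ha)
    · exact (Finset.mem_sdiff.mp (hmemKJ a ha)).1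
  have hinj : Function.Injective h := by
    intro a a' haa'
    by_cases ha : a.val < J.card
    · have ha' : a'.val < J.card := (hiff a').mp (by rw [← haa']; exact hmemJ a ha)
      have e1 : h a = J.orderEmbOfFin rfl ⟨a.val, ha⟩ := dif_pos ha
      have e2 : h a' = J.orderEmbOfFin rfl ⟨a'.val, ha'⟩ := dif_pos ha'
      rw [e1, e2] at haa'
      have := (J.orderEmbOfFin rfl).injective haa'
      exact Fin.ext (Fin.mk.inj this)
    · have ha' : ¬ a'.val < J.card := fun h' =>
        ha ((hiff a).mp (by rw [haa']; exact hmemJ a' h'))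
      have e1 : h a = ((K : Finset (Fin n)) \ J).orderEmbOfFin rfl ⟨a.val - J.card, by
        have := a.isLt
        omega⟩ := dif_neg ha
      have e2 : h a' = ((K : Finset (Fin n)) \ J).orderEmbOfFin rfl ⟨a'.val - J.card, by
        have := a'.isLt
        omega⟩ := dif_neg ha'
      rw [e1, e2] at haa'
      have := (((K : Finset (Fin n)) \ J).orderEmbOfFin rfl).injective haa'
      have h3 : a.val - J.card = a'.val - J.card := Fin.mk.inj this
      exact Fin.ext (by omega)
  let c : Fin p → B := fun a => if h a ∈ J then 1 else t (h a)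
  let v : Fin p → L := fun a =>
    if ha : a.val < J.card then ω (J.orderEmbOfFin rfl ⟨a.val, ha⟩)
    else ι (KaehlerDifferential.D A B (t (((K : Finset (Fin n)) \ J).orderEmbOfFin rfl
      ⟨a.val - J.card, by
        have := a.isLt
        omega⟩)))
  have hv : v = fun a => c a • ω (h a) := by
    funext a
    by_cases ha : a.val < J.card
    · have e1 : h a = J.orderEmbOfFin rfl ⟨a.val, ha⟩ := dif_pos ha
      have e2 : v a = ω (J.orderEmbOfFin rfl ⟨a.val, ha⟩) := dif_pos ha
      have e3 : c a = 1 := if_pos (hmemJ a ha)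
      show v a = c a • ω (h a)
      rw [e2, e3, e1, one_smul]
    · have e1 : h a = ((K : Finset (Fin n)) \ J).orderEmbOfFin rfl ⟨a.val - J.card, by
        have := a.isLt
        omega⟩ := dif_neg ha
      have e2 : v a = ι (KaehlerDifferential.D A B (t (((K : Finset (Fin n)) \ J).orderEmbOfFin
        rfl ⟨a.val - J.card, by
          have := a.isLt
          omega⟩))) := dif_neg ha
      have e3 : c a = t (h a) := if_neg (fun hm => ha ((hiff a).mp hm))
      show v a = c a • ω (h a)
      rw [e2, e3, e1, hι]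
  have hG : LogConn.compProd nabla ω J e ⊗ₜ[B] exteriorPower.ιMulti B p v ∈
      LogConn.gens nabla ω ι p := by
    refine ⟨J, hl, e, v, ?_, ?_, rfl⟩
    · intro k hk
      exact dif_pos hk
    · intro k hk
      have hk' : ¬ k.val < J.card := not_lt.mpr hk
      have e2 : v k = ι (KaehlerDifferential.D A B (t (((K : Finset (Fin n)) \ J).orderEmbOfFin
        rfl ⟨k.val - J.card, by
          have := k.isLt
          omega⟩))) := dif_neg hk'
      exact ⟨_, e2.symm⟩
  obtain ⟨σ, hσ⟩ := exists_perm K h hinj hK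
  have h3 : ∏ a, c a = ∏ i ∈ (K : Finset (Fin n)) \ J, t i := by
    let F : Fin p → B := fun b =>
      if (K : Finset (Fin n)).orderEmbOfFin hcardK b ∈ J then (1 : B)
      else t ((K : Finset (Fin n)).orderEmbOfFin hcardK b)
    have hc_eq : ∀ a, c a = F (σ a) := by
      intro a
      have := hσ a
      show (if h a ∈ J then (1 : B) else t (h a)) = _
      rw [← this]
      rfl
    calc ∏ a, c a = ∏ a, F (σ a) := Finset.prod_congr rfl (fun a _ => hc_eq a)
      _ = ∏ b, F b := Equiv.prod_comp σ F
      _ = ∏ i ∈ (K : Finset (Fin n)) \ J, t i := prod_orderEmb_ite t _ hcardK J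
  have h1 : exteriorPower.ιMulti B p v =
      ((∏ a, c a) * ((Equiv.Perm.sign σ : ℤ) : B)) • ω.exteriorPower p K := by
    have h4 := (exteriorPower.ιMulti B p).toMultilinearMap.map_smul_univ c (fun a => ω (h a))
    rw [AlternatingMap.coe_multilinearMap] at h4
    rw [hv, h4]
    have h2 : (fun a => ω (h a)) = (ω ∘ Set.powersetCard.ofFinEmbEquiv.symm K) ∘ σ := by
      funext a
      simp only [Function.comp_apply, hσ a]
    rw [h2, AlternatingMap.map_perm, exteriorPower.basis_apply, exteriorPower.ιMulti_family,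
      mul_smul]
    congr 1
  have hsq : ((Equiv.Perm.sign σ : ℤ) : B) * ((Equiv.Perm.sign σ : ℤ) : B) = 1 := by
    rw [← Int.cast_mul, ← Units.val_mul, Int.units_mul_self]
    simp
  have h5 : ((∏ i ∈ (K : Finset (Fin n)) \ J, t i) • LogConn.compProd nabla ω J e) ⊗ₜ[B]
      (ω.exteriorPower p K) = ((Equiv.Perm.sign σ : ℤ) : B) •
        (LogConn.compProd nabla ω J e ⊗ₜ[B] exteriorPower.ιMulti B p v) := by
    rw [h1, h3, TensorProduct.tmul_smul, smul_smul, ← TensorProduct.smul_tmul']
    congr 1
    rw [mul_comm, mul_assoc, hsq, mul_one]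
  rw [h5]
  exact Submodule.smul_mem _ _ (Submodule.subset_span hG)

include hι in
theorem layer_le_span_gens (p : ℕ) :
    LogConn.layer nabla ω t p ≤
      (Submodule.span B (LogConn.gens nabla ω ι p)).restrictScalars A := by
  intro x hx
  rw [Submodule.restrictScalars_mem]
  unfold LogConn.layer at hx
  rw [Submodule.mem_iInf] at hx
  rw [tensor_decomp (ω.exteriorPower p) x]
  refine Submodule.sum_mem _ (fun K _ => ?_)
  have hxK : LogConn.coordE ω p K x ∈ LogConn.piece nabla ω t (K : Finset (Fin n)) := hx K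
  change LogConn.coordE ω p K x ⊗ₜ[B] (ω.exteriorPower p K) ∈ _
  refine piece_induction t ω nabla (K : Finset (Fin n))
    (P := fun y => y ⊗ₜ[B] (ω.exteriorPower p K) ∈
      Submodule.span B (LogConn.gens nabla ω ι p)) ?_ ?_ ?_ _ hxK
  · intro J hJ e
    exact tmul_basis_mem_span t ω ι hι nabla p K J hJ e
  · simp
  · intro y z hy hz
    rw [TensorProduct.add_tmul]
    exact add_mem hy hz

end

end Groth.Agent.Lib.Helper25.LogConnGens
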