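import Groth.Agent.Lib.Helper25.LogConnLib
import Groth.Prelude.Def_LogDiff
import Mathlib

/-!
# Layers of a flat logarithmic λ-connection: `∇^p` maps the `p`-th layer to the `(p+1)`-st
-/

set_option autoImplicit false
set_option linter.unusedSectionVars false
universe v u

open TensorProduct

namespace Groth.Agent.Lib.Helper25.LogConnLayer

open Groth.Agent.Lib.Helper25.LogConnLib

section general

variable {B E N : Type u} [CommRing B] [AddCommGroup E] [Module B E] [AddCommGroup N] [Module B N]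

/-- Contraction of the right factor with a functional. -/
noncomputable def contr (φ : N →ₗ[B] B) : E ⊗[B] N →ₗ[B] E :=
  (TensorProduct.rid B E).toLinearMap ∘ₗ TensorProduct.map LinearMap.id φ

theorem contr_tmul (φ : N →ₗ[B] B) (c : E) (x : N) : contr φ (c ⊗ₜ[B] x) = φ x • c := by
  simp [contr]

/-- Coordinates relative to a finite basis of the right factor. -/
theorem tensor_decomp {κ : Type*} [Fintype κ] (b : Module.Basis κ B N) (y : E ⊗[B] N) :
    y = ∑ k, (contr (b.coord k) y) ⊗ₜ[B] b k := by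
  induction y using TensorProduct.induction_on with
  | zero => simp
  | tmul e l =>
    simp only [contr_tmul, Module.Basis.coord_apply]
    conv_lhs => rw [← b.sum_repr l]
    rw [TensorProduct.tmul_sum]
    refine Finset.sum_congr rfl (fun k _ => ?_)
    rw [TensorProduct.smul_tmul]
  | add x y hx hy =>
    conv_lhs => rw [hx, hy]
    rw [← Finset.sum_add_distrib]
    refine Finset.sum_congr rfl (fun k _ => ?_)
    rw [map_add, TensorProduct.add_tmul]

end general

section
variable {A : Type v} {B L E : Type u} [CommRing A] [CommRing B]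
  [Algebra A B] [AddCommGroup L] [Module B L] [Module A L] [IsScalarTower A B L]
  [AddCommGroup E] [Module B E] [Module A E] [IsScalarTower A B E]

theorem comp_eq_contr (nabla : E →ₗ[A] E ⊗[B] L) {n : ℕ} (ω : Module.Basis (Fin n) B L)
    (i : Fin n) (e : E) :
    LogConn.comp nabla ω i e = contr (ω.coord i) (nabla e) := rfl

theorem nabla_decomp (nabla : E →ₗ[A] E ⊗[B] L) {n : ℕ} (ω : Module.Basis (Fin n) B L) (e : E) :
    nabla e = ∑ i, LogConn.comp nabla ω i e ⊗ₜ[B] ω i :=
  tensor_decomp ω (nabla e)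

theorem coordE_eq_contr {n : ℕ} (ω : Module.Basis (Fin n) B L) (q : ℕ)
    (K : Set.powersetCard (Fin n) q) (x : E ⊗[B] ↥(⋀[B]^q L)) :
    LogConn.coordE ω q K x = contr ((ω.exteriorPower q).coord K) x := rfl

theorem coordE_tmul {n : ℕ} (ω : Module.Basis (Fin n) B L) (q : ℕ)
    (K : Set.powersetCard (Fin n) q) (c : E) (η : ↥(⋀[B]^q L)) :
    LogConn.coordE ω q K (c ⊗ₜ[B] η) = ((ω.exteriorPower q).coord K η) • c := by
  rw [coordE_eq_contr, contr_tmul]

theorem wedge_ιMulti (p : ℕ) (m : L) (v : Fin p → L) :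
    Conn.wedge p ((exteriorPower.oneEquiv B L).symm m) (exteriorPower.ιMulti B p v) =
      exteriorPower.ιMulti B (p + 1) (Fin.cons m v) := by
  apply Subtype.ext
  rw [Conn.wedge_apply_coe, exteriorPower.oneEquiv_symm_apply, exteriorPower.ιMulti_apply_coe,
    exteriorPower.ιMulti_apply_coe, exteriorPower.ιMulti_apply_coe,
    ExteriorAlgebra.ιMulti_succ_apply, ExteriorAlgebra.ιMulti_succ_apply,
    ExteriorAlgebra.ιMulti_zero_apply, mul_one]
  congr 1

theorem twedge_toOne_tmul (p : ℕ) (c : E) (m : L) (v : Fin p → L) :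
    Conn.twedge p (Conn.toOne (c ⊗ₜ[B] m)) (exteriorPower.ιMulti B p v) =
      c ⊗ₜ[B] exteriorPower.ιMulti B (p + 1) (Fin.cons m v) := by
  rw [Conn.toOne_tmul, Conn.twedge_tmul, wedge_ιMulti]

/-- A functional on `⋀² L` from two functionals on `L`. -/
noncomputable def phi2 (θ₁ θ₂ : L →ₗ[B] B) : ↥(⋀[B]^2 L) →ₗ[B] B :=
  exteriorPower.pairingDual B L 2 (exteriorPower.ιMulti B 2 ![θ₁, θ₂])

theorem phi2_ιMulti (θ₁ θ₂ : L →ₗ[B] B) (v : Fin 2 → L) :
    phi2 θ₁ θ₂ (exteriorPower.ιMulti B 2 v) = θ₁ (v 0) * θ₂ (v 1) - θ₂ (v 0) * θ₁ (v 1) := by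
  rw [phi2, exteriorPower.pairingDual_ιMulti_ιMulti, Matrix.det_fin_two]
  simp

theorem contr_twedge (θ₁ θ₂ : L →ₗ[B] B) (y : E ⊗[B] L) (l : L) :
    contr (phi2 θ₁ θ₂) (Conn.twedge 1 (Conn.toOne y) (exteriorPower.ιMulti B 1 (fun _ => l))) =
      θ₂ l • contr θ₁ y - θ₁ l • contr θ₂ y := by
  induction y using TensorProduct.induction_on with
  | zero => simp
  | tmul c m =>
    rw [twedge_toOne_tmul, contr_tmul, phi2_ιMulti, contr_tmul, contr_tmul]
    have h0 : (Fin.cons m (fun _ : Fin 1 => l) : Fin (1 + 1) → L) 0 = m := rfl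
    have h1 : (Fin.cons m (fun _ : Fin 1 => l) : Fin (1 + 1) → L) 1 = l := rfl
    rw [h0, h1, sub_smul, mul_comm (θ₁ m), mul_comm (θ₂ m), mul_smul, mul_smul]
  | add x y hx hy =>
    simp only [map_add, LinearMap.add_apply, hx, hy, smul_add]
    abel

end

section
variable {A : Type v} {B L E : Type u} [CommRing A] [CommRing B]
  [Algebra A B] [AddCommGroup L] [Module B L] [Module A L] [IsScalarTower A B L]
  [AddCommGroup E] [Module B E] [Module A E] [IsScalarTower A B E]
  (lam : B) {n : ℕ} (t : Fin n → B) (bΩ : Module.Basis (Fin n) B (KaehlerDifferential A B))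
  (hbΩ : ∀ i, bΩ i = KaehlerDifferential.D A B (t i))
  (ω : Module.Basis (Fin n) B L) (ι : KaehlerDifferential A B →ₗ[B] L)
  (hι : ∀ i, ι (KaehlerDifferential.D A B (t i)) = t i • ω i)
  (nabla : E →ₗ[A] E ⊗[B] L)
  (hc : Conn.IsLamConn (ι.compDer (KaehlerDifferential.D A B)) lam nabla)
  (d : ∀ p : ℕ, ↥(⋀[B]^p L) →ₗ[A] ↥(⋀[B]^(p + 1) L))
  (hd : LogDiff.IsLogRule (KaehlerDifferential.D A B) ι (⇑ω) d)
  (nablas : ∀ p : ℕ, E ⊗[B] ↥(⋀[B]^p L) →ₗ[A] E ⊗[B] ↥(⋀[B]^(p + 1) L))

include hd in
theorem d_ιMulti_eq_zero (p : ℕ) (h : Fin p → Fin n) :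
    d p (exteriorPower.ιMulti B p (ω ∘ h)) = 0 := by
  have := hd p 1 (ω ∘ h) (fun k => Or.inr ⟨h k, rfl⟩)
  rw [one_smul] at this
  rw [this]
  apply (exteriorPower.ιMulti B (p + 1)).map_coord_zero 0
  simp

include hd in
theorem nablas_tmul_ιMulti (hint1 : Conn.IsCxRule nabla (fun p => lam • d p) nablas)
    (p : ℕ) (e : E) (h : Fin p → Fin n) :
    nablas p (e ⊗ₜ[B] exteriorPower.ιMulti B p (ω ∘ h)) =
      ∑ i, LogConn.comp nabla ω i e ⊗ₜ[B] exteriorPower.ιMulti B (p + 1) (ω ∘ Fin.cons i h) := by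
  rw [hint1 p e _]
  have h0 : (lam • d p) (exteriorPower.ιMulti B p (ω ∘ h)) = 0 := by
    rw [LinearMap.smul_apply, d_ιMulti_eq_zero ω ι d hd p h, smul_zero]
  rw [h0, tmul_zero, add_zero]
  conv_lhs => rw [nabla_decomp nabla ω e]
  rw [map_sum, map_sum, LinearMap.sum_apply]
  refine Finset.sum_congr rfl (fun i _ => ?_)
  rw [twedge_toOne_tmul, Fin.comp_cons]

theorem coord_ιMulti_eq_zero (q : ℕ) (K : Set.powersetCard (Fin n) q) (h : Fin q → Fin n)
    (a : Fin n) (haK : a ∈ K) (hah : a ∉ Set.range h) :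
    (ω.exteriorPower q).coord K (exteriorPower.ιMulti B q (ω ∘ h)) = 0 := by
  rw [exteriorPower.basis_coord, exteriorPower.ιMultiDual_apply_ιMulti]
  obtain ⟨k, rfl⟩ := (Set.powersetCard.mem_range_ofFinEmbEquiv_symm_iff_mem K a).mpr haK
  apply Matrix.det_eq_zero_of_column_eq_zero k
  intro j
  simp only [Matrix.of_apply, Module.Basis.coord_apply, Function.comp_apply,
    Module.Basis.repr_self]
  apply Finsupp.single_eq_of_ne
  intro heq
  exact hah ⟨j, heq.symm⟩

include hd in
theorem comp_comm (hint : Conn.IsIntegrable nabla (fun p => lam • d p) nablas) (i j : Fin n)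
    (e : E) :
    LogConn.comp nabla ω i (LogConn.comp nabla ω j e) =
      LogConn.comp nabla ω j (LogConn.comp nabla ω i e) := by
  classical
  have h0 := hint.2 e
  rw [nabla_decomp nabla ω e, map_sum, map_sum] at h0
  have h1 : ∀ k, nablas 1 (Conn.toOne (LogConn.comp nabla ω k e ⊗ₜ[B] ω k)) =
      Conn.twedge 1 (Conn.toOne (nabla (LogConn.comp nabla ω k e)))
        (exteriorPower.ιMulti B 1 (fun _ => ω k)) := by
    intro k
    rw [Conn.toOne_tmul, exteriorPower.oneEquiv_symm_apply, hint.1 1 _ _]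
    have h3 : (fun _ : Fin 1 => ω k) = ω ∘ (fun _ => k) := rfl
    have h4 : (lam • d 1) (exteriorPower.ιMulti B 1 (fun _ : Fin 1 => ω k)) = 0 := by
      rw [LinearMap.smul_apply, h3, d_ιMulti_eq_zero ω ι d hd 1 _, smul_zero]
    rw [h4, tmul_zero, add_zero]
  have h2 := congrArg (contr (E := E) (phi2 (ω.coord i) (ω.coord j))) h0
  rw [map_sum, map_zero] at h2
  simp only [h1, contr_twedge] at h2
  simp only [Module.Basis.coord_apply, Module.Basis.repr_self, Finsupp.single_apply] at h2
  rw [Finset.sum_sub_distrib] at h2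
  simp only [ite_smul, one_smul, zero_smul, Finset.sum_ite_eq', Finset.sum_ite_eq,
    Finset.mem_univ, if_true] at h2
  exact sub_eq_zero.mp h2

theorem comp_compProd
    (hcomm : ∀ (i j : Fin n) (e : E), LogConn.comp nabla ω i (LogConn.comp nabla ω j e) =
      LogConn.comp nabla ω j (LogConn.comp nabla ω i e))
    (i : Fin n) (J : Finset (Fin n)) (hi : i ∉ J) (e : E) :
    LogConn.comp nabla ω i (LogConn.compProd nabla ω J e) =
      LogConn.compProd nabla ω (insert i J) e := by
  classical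
  induction J using Finset.induction_on_min with
  | empty =>
    rw [compProd_insert ω nabla i ∅ (by simp)]; rfl
  | insert j J hj ih =>
    have hij : i ≠ j := fun h => hi (h ▸ Finset.mem_insert_self _ _)
    have hiJ : i ∉ J := fun h => hi (Finset.mem_insert_of_mem h)
    rcases lt_or_gt_of_ne hij with h | h
    · rw [compProd_insert ω nabla i (insert j J) ?_]; rfl
      intro x hx
      rcases Finset.mem_insert.mp hx with rfl | hx
      · exact h
      · exact h.trans (hj x hx)
    · rw [Finset.insert_comm i j J, compProd_insert ω nabla j (insert i J) ?_,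
        compProd_insert ω nabla j J hj]
      · simp only [LinearMap.comp_apply]
        rw [← ih hiJ, hcomm]
      · intro x hx
        rcases Finset.mem_insert.mp hx with rfl | hx
        · exact h
        · exact hj x hx

include hbΩ hι hc in
theorem comp_mem_piece_insert'
    (hcomm : ∀ (i j : Fin n) (e : E), LogConn.comp nabla ω i (LogConn.comp nabla ω j e) =
      LogConn.comp nabla ω j (LogConn.comp nabla ω i e))
    (i : Fin n) (K : Finset (Fin n)) (hi : i ∉ K) (y : E)
    (hy : y ∈ LogConn.piece nabla ω t K) :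
    LogConn.comp nabla ω i y ∈ LogConn.piece nabla ω t (insert i K) := by
  classical
  refine piece_induction t ω nabla K
    (P := fun y => LogConn.comp nabla ω i y ∈ LogConn.piece nabla ω t (insert i K)) ?_ ?_ ?_ y hy
  · intro J hJ e
    change LogConn.comp nabla ω i _ ∈ _
    rw [comp_smul lam t bΩ hbΩ ω ι hι nabla hc, pd_prod_eq_zero t bΩ hbΩ i (K \ J)
      (fun h => hi (Finset.mem_sdiff.mp h).1)]
    simp only [zero_mul, mul_zero, zero_smul, add_zero]
    rw [comp_compProd ω nabla hcomm i J (fun h => hi (hJ h)) e,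
      sdiff_eq_insert_sdiff_insert i K J hi]
    exact gen_mem_piece t ω nabla _ _ (Finset.insert_subset_insert i hJ) e
  · simp
  · intro x y hx hy; simp only [map_add]; exact add_mem hx hy

include hbΩ hι hc hd in
theorem nablas_mem_layer (hint : Conn.IsIntegrable nabla (fun p => lam • d p) nablas)
    (p : ℕ) (x : E ⊗[B] ↥(⋀[B]^p L)) (hx : x ∈ LogConn.layer nabla ω t p) :
    nablas p x ∈ LogConn.layer nabla ω t (p + 1) := by
  classical
  have hcomm := comp_comm lam ω ι nabla d hd nablas hint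
  unfold LogConn.layer at hx ⊢
  rw [Submodule.mem_iInf] at hx ⊢
  intro K'
  rw [Submodule.mem_comap]
  rw [tensor_decomp (ω.exteriorPower p) x, map_sum, map_sum]
  refine Submodule.sum_mem _ (fun K _ => ?_)
  have hxK : LogConn.coordE ω p K x ∈ LogConn.piece nabla ω t (K : Finset (Fin n)) := hx K
  change LogConn.coordE ω (p + 1) K'
    (nablas p (LogConn.coordE ω p K x ⊗ₜ[B] (ω.exteriorPower p K))) ∈ _
  rw [exteriorPower.basis_apply, exteriorPower.ιMulti_family,
    nablas_tmul_ιMulti lam ω ι nabla d hd nablas hint.1, map_sum]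
  refine Submodule.sum_mem _ (fun i _ => ?_)
  rw [coordE_tmul]
  by_cases hsub : ∀ a ∈ K', a ∈ Set.range
      (Fin.cons i (⇑(Set.powersetCard.ofFinEmbEquiv.symm K)) : Fin (p + 1) → Fin n)
  · have hK'sub : (K' : Finset (Fin n)) ⊆ insert i (K : Finset (Fin n)) := by
      intro a ha
      obtain ⟨k, hk⟩ := hsub a ha
      revert hk
      refine Fin.cases ?_ ?_ k
      · intro hk
        rw [Fin.cons_zero] at hk
        rw [← hk]
        exact Finset.mem_insert_self _ _
      · intro k' hk
        rw [Fin.cons_succ] at hk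
        rw [← hk]
        refine Finset.mem_insert_of_mem ?_
        exact (Set.powersetCard.mem_range_ofFinEmbEquiv_symm_iff_mem K _).mp ⟨k', rfl⟩
    have hcard : (insert i (K : Finset (Fin n))).card ≤ (K' : Finset (Fin n)).card := by
      rw [Set.powersetCard.card_eq]
      calc _ ≤ (K : Finset (Fin n)).card + 1 := Finset.card_insert_le _ _
        _ = p + 1 := by rw [Set.powersetCard.card_eq]
    have heq := Finset.eq_of_subset_of_card_le hK'sub hcard
    have hiK : i ∉ (K : Finset (Fin n)) := by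
      intro h
      rw [Finset.insert_eq_of_mem h] at heq
      have := congrArg Finset.card heq
      rw [Set.powersetCard.card_eq, Set.powersetCard.card_eq] at this
      omega
    rw [heq]
    exact smul_mem_piece lam t bΩ hbΩ ω ι hι nabla hc _ _ _
      (comp_mem_piece_insert' lam t bΩ hbΩ ω ι hι nabla hc hcomm i _ hiK _ hxK)
  · push Not at hsub
    obtain ⟨a, haK', ha⟩ := hsub
    rw [coord_ιMulti_eq_zero ω (p + 1) K' _ a haK' ha, zero_smul]
    exact zero_mem _

end

end Groth.Agent.Lib.Helper25.LogConnLayer
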