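import Groth.Prelude.Def_W4swconnpcurvhiggsLogLam
import Mathlib

/-!
# Helper lemmas for `LogConn` (components of a log λ-connection, ordered composites, pieces)
-/

set_option autoImplicit false
set_option linter.unusedSectionVars false
universe v u

open TensorProduct

namespace Groth.Agent.Lib.Helper25.LogConnLib

variable {A : Type v} {B L E : Type u} [CommRing A] [CommRing B]
  [Algebra A B] [AddCommGroup L] [Module B L] [Module A L] [IsScalarTower A B L]
  [AddCommGroup E] [Module B E] [Module A E] [IsScalarTower A B E]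

/-- The `i`-th partial derivative with respect to the coordinates `t` (through the basis `bΩ`). -/
noncomputable def pd {n : ℕ} (bΩ : Module.Basis (Fin n) B (KaehlerDifferential A B)) (i : Fin n)
    (b : B) : B := bΩ.repr (KaehlerDifferential.D A B b) i

section
variable (lam : B) {n : ℕ} (t : Fin n → B) (bΩ : Module.Basis (Fin n) B (KaehlerDifferential A B))
    (hbΩ : ∀ i, bΩ i = KaehlerDifferential.D A B (t i))
    (ω : Module.Basis (Fin n) B L) (ι : KaehlerDifferential A B →ₗ[B] L)
    (hι : ∀ i, ι (KaehlerDifferential.D A B (t i)) = t i • ω i)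
    (nabla : E →ₗ[A] E ⊗[B] L)
    (hc : Conn.IsLamConn (ι.compDer (KaehlerDifferential.D A B)) lam nabla)

include hbΩ hι in
theorem coord_iota_D (i : Fin n) (b : B) :
    ω.coord i (ι (KaehlerDifferential.D A B b)) = pd bΩ i b * t i := by
  have h1 : KaehlerDifferential.D A B b = ∑ j, pd bΩ j b • bΩ j := by
    simpa [pd] using (bΩ.sum_repr (KaehlerDifferential.D A B b)).symm
  rw [h1, map_sum, map_sum]
  simp only [map_smul, hbΩ, hι, Module.Basis.coord_apply, Module.Basis.repr_self, smul_eq_mul]
  rw [Finset.sum_eq_single i]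
  · simp
  · intro j _ hj
    simp [Finsupp.single_apply, hj]
  · intro h; exact absurd (Finset.mem_univ i) h

include hbΩ hι hc in
theorem comp_smul (i : Fin n) (b : B) (e : E) :
    LogConn.comp nabla ω i (b • e) =
      b • LogConn.comp nabla ω i e + (lam * (pd bΩ i b * t i)) • e := by
  unfold LogConn.comp
  rw [Conn.along_apply, Conn.along_apply, hc b e]
  have h0 : (ι.compDer (KaehlerDifferential.D A B)) b = ι (KaehlerDifferential.D A B b) := rfl
  simp only [map_add, map_smul, TensorProduct.map_tmul, LinearMap.id_coe, id_eq,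
    TensorProduct.rid_tmul, h0]
  rw [coord_iota_D t bΩ hbΩ ω ι hι]
  simp only [mul_smul]

include hbΩ in
theorem pd_t (i j : Fin n) : pd bΩ i (t j) = if j = i then 1 else 0 := by
  unfold pd
  rw [← hbΩ, Module.Basis.repr_self, Finsupp.single_apply]

include hbΩ in
theorem pd_prod_eq_zero (i : Fin n) (S : Finset (Fin n)) (hi : i ∉ S) :
    pd bΩ i (∏ k ∈ S, t k) = 0 := by
  classical
  induction S using Finset.induction_on with
  | empty =>
    simp [pd]
  | insert a S ha ih =>
    rw [Finset.prod_insert ha]
    have hia : a ≠ i := fun h => hi (h ▸ Finset.mem_insert_self a S)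
    have hiS : i ∉ S := fun h => hi (Finset.mem_insert_of_mem h)
    have := ih hiS
    unfold pd at this ⊢
    rw [Derivation.leibniz, map_add, map_smul, map_smul, Finsupp.add_apply, Finsupp.smul_apply,
      Finsupp.smul_apply, this]
    have h2 := pd_t t bΩ hbΩ i a
    unfold pd at h2
    rw [h2, if_neg hia]
    simp

theorem compProd_empty : LogConn.compProd nabla ω (∅ : Finset (Fin n)) = LinearMap.id := by
  simp [LogConn.compProd]

theorem compProd_insert (j : Fin n) (K : Finset (Fin n)) (hj : ∀ x ∈ K, j < x) :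
    LogConn.compProd nabla ω (insert j K) =
      LogConn.comp nabla ω j ∘ₗ LogConn.compProd nabla ω K := by
  unfold LogConn.compProd
  have hjK : j ∉ K := fun h => lt_irrefl _ (hj j h)
  rw [Finset.sort_insert (r := (· ≤ ·)) (fun b hb => (hj b hb).le) hjK, List.foldr_cons]

theorem gen_mem_piece (I J : Finset (Fin n)) (hJ : J ⊆ I) (e : E) :
    (∏ i ∈ I \ J, t i) • LogConn.compProd nabla ω J e ∈ LogConn.piece nabla ω t I := by
  unfold LogConn.piece
  refine Submodule.mem_iSup_of_mem J (Submodule.mem_iSup_of_mem (Finset.mem_powerset.mpr hJ) ?_)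
  exact ⟨e, rfl⟩

/-- Induction principle for pieces. -/
theorem piece_induction (I : Finset (Fin n)) {P : E → Prop}
    (hgen : ∀ J, J ⊆ I → ∀ e : E, P ((∏ i ∈ I \ J, t i) • LogConn.compProd nabla ω J e))
    (h0 : P 0) (hadd : ∀ x y, P x → P y → P (x + y))
    (x : E) (hx : x ∈ LogConn.piece nabla ω t I) : P x := by
  unfold LogConn.piece at hx
  induction hx using Submodule.iSup_induction' with
  | mem J x hx =>
    induction hx using Submodule.iSup_induction' with
    | mem hJ x hx =>
      obtain ⟨e, rfl⟩ := hx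
      exact hgen J (Finset.mem_powerset.mp hJ) e
    | zero => exact h0
    | add x y _ _ hx hy => exact hadd x y hx hy
  | zero => exact h0
  | add x y _ _ hx hy => exact hadd x y hx hy

theorem prod_smul_mem_piece (I J : Finset (Fin n)) (hJ : J ⊆ I) (x : E)
    (hx : x ∈ LogConn.piece nabla ω t J) :
    (∏ i ∈ I \ J, t i) • x ∈ LogConn.piece nabla ω t I := by
  classical
  refine piece_induction t ω nabla J
    (P := fun x => (∏ i ∈ I \ J, t i) • x ∈ LogConn.piece nabla ω t I) ?_ ?_ ?_ x hx
  · intro K hK e
    change (∏ i ∈ I \ J, t i) • _ ∈ _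
    rw [smul_smul]
    have : (∏ i ∈ I \ J, t i) * ∏ i ∈ J \ K, t i = ∏ i ∈ I \ K, t i := by
      rw [← Finset.prod_union]
      · congr 1
        ext a
        simp only [Finset.mem_union, Finset.mem_sdiff]
        constructor
        · rintro (⟨h1, h2⟩ | ⟨h1, h2⟩)
          · exact ⟨h1, fun h => h2 (hK h)⟩
          · exact ⟨hJ h1, h2⟩
        · rintro ⟨h1, h2⟩
          by_cases h : a ∈ J
          · exact Or.inr ⟨h, h2⟩
          · exact Or.inl ⟨h1, h⟩
      · rw [Finset.disjoint_left]
        intro a ha hb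
        exact (Finset.mem_sdiff.mp ha).2 (Finset.mem_sdiff.mp hb).1
    rw [this]
    exact gen_mem_piece t ω nabla I K (hK.trans hJ) e
  · simp
  · intro x y hx hy; simp only [smul_add]; exact add_mem hx hy

include hbΩ hι hc in
/-- Applying the component `∇_j`, `j` below all of `J`, maps the piece `E_J` to `E_{j ∪ J}`. -/
theorem comp_mem_piece_insert (j : Fin n) (J : Finset (Fin n)) (hj : ∀ x ∈ J, j < x) (y : E)
    (hy : y ∈ LogConn.piece nabla ω t J) :
    LogConn.comp nabla ω j y ∈ LogConn.piece nabla ω t (insert j J) := by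
  classical
  have hjJ : j ∉ J := fun h => lt_irrefl _ (hj j h)
  refine piece_induction t ω nabla J
    (P := fun y => LogConn.comp nabla ω j y ∈ LogConn.piece nabla ω t (insert j J)) ?_ ?_ ?_ y hy
  · intro K hK e
    change LogConn.comp nabla ω j _ ∈ _
    rw [comp_smul lam t bΩ hbΩ ω ι hι nabla hc, pd_prod_eq_zero t bΩ hbΩ j (J \ K)
      (fun h => hjJ (Finset.mem_sdiff.mp h).1)]
    simp only [zero_mul, mul_zero, zero_smul, add_zero]
    have h1 : LogConn.comp nabla ω j (LogConn.compProd nabla ω K e) =
        LogConn.compProd nabla ω (insert j K) e := by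
      rw [compProd_insert ω nabla j K (fun x hx => hj x (hK hx))]; rfl
    have h2 : J \ K = insert j J \ insert j K := by
      ext a
      simp only [Finset.mem_sdiff, Finset.mem_insert]
      constructor
      · rintro ⟨g1, g2⟩
        refine ⟨Or.inr g1, ?_⟩
        rintro (rfl | h)
        · exact hjJ g1
        · exact g2 h
      · rintro ⟨g1 | g1, g2⟩
        · exact absurd (Or.inl g1) g2
        · exact ⟨g1, fun h => g2 (Or.inr h)⟩
    rw [h1, h2]
    exact gen_mem_piece t ω nabla _ _ (Finset.insert_subset_insert j hK) e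
  · simp
  · intro x y hx hy; simp only [map_add]; exact add_mem hx hy

include hbΩ hι hc in
theorem smul_compProd_mem_piece (J : Finset (Fin n)) :
    ∀ (b : B) (e : E), b • LogConn.compProd nabla ω J e ∈ LogConn.piece nabla ω t J := by
  classical
  induction J using Finset.induction_on_min with
  | empty =>
    intro b e
    have := gen_mem_piece t ω nabla ∅ ∅ (Finset.Subset.refl _) (b • e)
    simpa [compProd_empty] using this
  | insert j J hj ih =>
    intro b e
    have hjJ : j ∉ J := fun h => lt_irrefl _ (hj j h)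
    rw [compProd_insert ω nabla j J hj, LinearMap.comp_apply]
    set y := LogConn.compProd nabla ω J e with hy
    have h1 := comp_smul lam t bΩ hbΩ ω ι hι nabla hc j b y
    have h2 : b • LogConn.comp nabla ω j y =
        LogConn.comp nabla ω j (b • y) - (lam * (pd bΩ j b * t j)) • y := by
      rw [h1]; abel
    rw [h2]
    refine sub_mem ?_ ?_
    · exact comp_mem_piece_insert lam t bΩ hbΩ ω ι hι nabla hc j J hj _ (ih b e)
    · have h3 : (lam * (pd bΩ j b * t j)) • y = (∏ i ∈ insert j J \ J, t i) • ((lam * pd bΩ j b) • y) := by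
        have : insert j J \ J = {j} := by
          ext a
          simp only [Finset.mem_sdiff, Finset.mem_insert, Finset.mem_singleton]
          constructor
          · rintro ⟨h1 | h1, h2⟩
            · exact h1
            · exact absurd h1 h2
          · rintro rfl
            exact ⟨Or.inl rfl, hjJ⟩
        rw [this, Finset.prod_singleton, smul_smul]
        congr 1; ring
      rw [h3]
      exact prod_smul_mem_piece t ω nabla _ _ (Finset.subset_insert j J) _ (ih _ e)

include hbΩ hι hc in
theorem smul_mem_piece (I : Finset (Fin n)) (b : B) (x : E)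
    (hx : x ∈ LogConn.piece nabla ω t I) : b • x ∈ LogConn.piece nabla ω t I := by
  refine piece_induction t ω nabla I
    (P := fun x => b • x ∈ LogConn.piece nabla ω t I) ?_ ?_ ?_ x hx
  · intro J hJ e
    change b • _ ∈ _
    rw [smul_comm]
    exact prod_smul_mem_piece t ω nabla I J hJ _
      (smul_compProd_mem_piece lam t bΩ hbΩ ω ι hι nabla hc J b e)
  · simp
  · intro x y hx hy; simp only [smul_add]; exact add_mem hx hy

theorem prod_sdiff_mul (I J K : Finset (Fin n)) (hJ : J ⊆ I) (hK : K ⊆ J) :
    (∏ i ∈ I \ J, t i) * ∏ i ∈ J \ K, t i = ∏ i ∈ I \ K, t i := by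
  classical
  rw [← Finset.prod_union]
  · congr 1
    ext a
    simp only [Finset.mem_union, Finset.mem_sdiff]
    constructor
    · rintro (⟨h1, h2⟩ | ⟨h1, h2⟩)
      · exact ⟨h1, fun h => h2 (hK h)⟩
      · exact ⟨hJ h1, h2⟩
    · rintro ⟨h1, h2⟩
      by_cases h : a ∈ J
      · exact Or.inr ⟨h, h2⟩
      · exact Or.inl ⟨h1, h⟩
  · rw [Finset.disjoint_left]
    intro a ha hb
    exact (Finset.mem_sdiff.mp ha).2 (Finset.mem_sdiff.mp hb).1

theorem insert_sdiff_self_of_notMem (j : Fin n) (J : Finset (Fin n)) (hjJ : j ∉ J) :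
    insert j J \ J = {j} := by
  ext a
  simp only [Finset.mem_sdiff, Finset.mem_insert, Finset.mem_singleton]
  constructor
  · rintro ⟨h1 | h1, h2⟩
    · exact h1
    · exact absurd h1 h2
  · rintro rfl
    exact ⟨Or.inl rfl, hjJ⟩

theorem sdiff_eq_insert_sdiff_insert (j : Fin n) (J K : Finset (Fin n)) (hjJ : j ∉ J) :
    J \ K = insert j J \ insert j K := by
  ext a
  simp only [Finset.mem_sdiff, Finset.mem_insert]
  constructor
  · rintro ⟨g1, g2⟩
    refine ⟨Or.inr g1, ?_⟩
    rintro (rfl | h)
    · exact hjJ g1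
    · exact g2 h
  · rintro ⟨g1 | g1, g2⟩
    · exact absurd (Or.inl g1) g2
    · exact ⟨g1, fun h => g2 (Or.inr h)⟩

/-- The `B`-span of the elements `t_{J∖K} ∇_K(e_k)`. -/
noncomputable def GJ {κ : Type*} (e : κ → E) (J : Finset (Fin n)) : Submodule B E :=
  Submodule.span B (⋃ K ∈ J.powerset, Set.range (fun k : κ =>
        (∏ i ∈ J \ K, t i) • LogConn.compProd nabla ω K (e k)))

theorem gen_mem_GJ {κ : Type*} (e : κ → E) (J K : Finset (Fin n)) (hK : K ⊆ J) (k : κ) :
    (∏ i ∈ J \ K, t i) • LogConn.compProd nabla ω K (e k) ∈ GJ t ω nabla e J := by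
  refine Submodule.subset_span ?_
  simp only [Set.mem_iUnion, Set.mem_range]
  exact ⟨K, Finset.mem_powerset.mpr hK, k, rfl⟩

theorem prod_smul_mem_GJ {κ : Type*} (e : κ → E) (I J : Finset (Fin n)) (hJ : J ⊆ I) (y : E)
    (hy : y ∈ GJ t ω nabla e J) : (∏ i ∈ I \ J, t i) • y ∈ GJ t ω nabla e I := by
  have : GJ t ω nabla e J ≤ (GJ t ω nabla e I).comap (LinearMap.lsmul B E (∏ i ∈ I \ J, t i)) := by
    unfold GJ
    rw [Submodule.span_le]
    intro z hz
    simp only [Set.mem_iUnion, Set.mem_range] at hz
    obtain ⟨K, hK, k, rfl⟩ := hz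
    have hK' := Finset.mem_powerset.mp hK
    simp only [Submodule.comap_coe, Set.mem_preimage, LinearMap.lsmul_apply, SetLike.mem_coe]
    rw [smul_smul, prod_sdiff_mul t I J K hJ hK']
    exact gen_mem_GJ t ω nabla e I K (hK'.trans hJ) k
  exact this hy

include hbΩ hι hc in
theorem comp_mem_GJ_insert {κ : Type*} (e : κ → E) (j : Fin n) (J : Finset (Fin n))
    (hj : ∀ x ∈ J, j < x) (y : E) (hy : y ∈ GJ t ω nabla e J) :
    LogConn.comp nabla ω j y ∈ GJ t ω nabla e (insert j J) := by
  classical
  have hjJ : j ∉ J := fun h => lt_irrefl _ (hj j h)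
  unfold GJ at hy
  induction hy using Submodule.span_induction with
  | mem z hz =>
    simp only [Set.mem_iUnion, Set.mem_range] at hz
    obtain ⟨K, hK, k, rfl⟩ := hz
    have hK' := Finset.mem_powerset.mp hK
    rw [comp_smul lam t bΩ hbΩ ω ι hι nabla hc, pd_prod_eq_zero t bΩ hbΩ j (J \ K)
      (fun h => hjJ (Finset.mem_sdiff.mp h).1)]
    simp only [zero_mul, mul_zero, zero_smul, add_zero]
    have h1 : LogConn.comp nabla ω j (LogConn.compProd nabla ω K (e k)) =
        LogConn.compProd nabla ω (insert j K) (e k) := by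
      rw [compProd_insert ω nabla j K (fun x hx => hj x (hK' hx))]; rfl
    rw [h1, sdiff_eq_insert_sdiff_insert j J K hjJ]
    exact gen_mem_GJ t ω nabla e _ _ (Finset.insert_subset_insert j hK') k
  | zero => simp
  | add x y _ _ hx hy => rw [map_add]; exact add_mem hx hy
  | smul c y hy ih =>
    rw [comp_smul lam t bΩ hbΩ ω ι hι nabla hc]
    refine add_mem (Submodule.smul_mem _ _ ih) ?_
    have h3 : (lam * (pd bΩ j c * t j)) • y =
        (lam * pd bΩ j c) • ((∏ i ∈ insert j J \ J, t i) • y) := by
      rw [insert_sdiff_self_of_notMem j J hjJ, Finset.prod_singleton, smul_smul]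
      congr 1; ring
    rw [h3]
    exact Submodule.smul_mem _ _
      (prod_smul_mem_GJ t ω nabla e _ _ (Finset.subset_insert j J) y hy)

include hbΩ hι hc in
theorem compProd_mem_GJ {κ : Type*} (e : κ → E) (he : Submodule.span B (Set.range e) = ⊤)
    (J : Finset (Fin n)) : ∀ x : E, LogConn.compProd nabla ω J x ∈ GJ t ω nabla e J := by
  classical
  induction J using Finset.induction_on_min with
  | empty =>
    intro x
    rw [compProd_empty, LinearMap.id_apply]
    have hx : x ∈ Submodule.span B (Set.range e) := by rw [he]; trivial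
    refine (Submodule.span_le.mpr ?_) hx
    rintro _ ⟨k, rfl⟩
    have := gen_mem_GJ t ω nabla e ∅ ∅ (Finset.Subset.refl _) k
    simpa [compProd_empty] using this
  | insert j J hj ih =>
    intro x
    rw [compProd_insert ω nabla j J hj, LinearMap.comp_apply]
    exact comp_mem_GJ_insert lam t bΩ hbΩ ω ι hι nabla hc e j J hj _ (ih x)

include hbΩ hι hc in
theorem GJ_restrictScalars_eq_piece {κ : Type*} (e : κ → E)
    (he : Submodule.span B (Set.range e) = ⊤) (I : Finset (Fin n)) :
    (GJ t ω nabla e I).restrictScalars A = LogConn.piece nabla ω t I := by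
  apply le_antisymm
  · intro x hx
    rw [Submodule.restrictScalars_mem] at hx
    unfold GJ at hx
    induction hx using Submodule.span_induction with
    | mem z hz =>
      simp only [Set.mem_iUnion, Set.mem_range] at hz
      obtain ⟨K, hK, k, rfl⟩ := hz
      exact gen_mem_piece t ω nabla I K (Finset.mem_powerset.mp hK) (e k)
    | zero => simp
    | add x y _ _ hx hy => exact add_mem hx hy
    | smul c y _ ih => exact smul_mem_piece lam t bΩ hbΩ ω ι hι nabla hc I c y ih
  · intro x hx
    rw [Submodule.restrictScalars_mem]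
    refine piece_induction t ω nabla I (P := fun x => x ∈ GJ t ω nabla e I) ?_ ?_ ?_ x hx
    · intro J hJ x
      exact prod_smul_mem_GJ t ω nabla e I J hJ _
        (compProd_mem_GJ lam t bΩ hbΩ ω ι hι nabla hc e he J x)
    · simp
    · intro x y hx hy; exact add_mem hx hy

end

end Groth.Agent.Lib.Helper25.LogConnLib
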