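import Mathlib
import Groth.Prelude.Def_Formal2
import Groth.Agent.Lib.Helper1.MLSys3

/-!
# The Milnor sequence for a tower of complexes of abelian groups with surjective transition maps
-/

set_option autoImplicit false
universe u
open CategoryTheory CategoryTheory.Limits Opposite HomologicalComplex

namespace Groth.Agent.Lib.Helper25.Milnor

open Groth.Agent.Lib.Helper1.MLSys

noncomputable section

/-- surjectivity of the tower difference for a tower with surjective transition maps -/
theorem towerDiff_surj (G : ℕ → Type u) [∀ n, AddCommGroup (G n)] (t : ∀ n, G (n + 1) →+ G n)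
    (ht : ∀ n, Function.Surjective (t n)) (x : ∀ n, G n) :
    ∃ y : ∀ n, G n, ∀ n, y n - t n (y (n + 1)) = x n := by
  choose s hs using ht
  let y : ∀ n, G n := fun n => Nat.rec (motive := fun n => G n) 0 (fun n yn => s n (yn - x n)) n
  refine ⟨y, fun n => ?_⟩
  show y n - t n (s n (y n - x n)) = x n
  rw [hs]
  abel

lemma r_refl (F : ℕᵒᵖ ⥤ AddCommGrpCat.{u}) (n : ℕ) (y : F.obj (op n)) : r F (le_refl n) y = y := by
  show (F.map (homOfLE (le_refl n)).op).hom y = y
  have h : (homOfLE (le_refl n)).op = 𝟙 (op n) := Subsingleton.elim _ _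
  rw [h, CategoryTheory.Functor.map_id]
  rfl

lemma surj_r (F : ℕᵒᵖ ⥤ AddCommGrpCat.{u})
    (hs : ∀ n, Function.Surjective (r F (Nat.le_succ n))) (j k : ℕ) (h : j ≤ k) :
    Function.Surjective (r F h) := by
  induction k, h using Nat.le_induction with
  | base => intro y; exact ⟨y, r_refl F j y⟩
  | succ k h ih =>
    intro y
    obtain ⟨y1, hy1⟩ := ih y
    obtain ⟨y2, hy2⟩ := hs k y1
    exact ⟨y2, by rw [← r_r F h (Nat.le_succ k), hy2, hy1]⟩

lemma ML_of_surj (F : ℕᵒᵖ ⥤ AddCommGrpCat.{u})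
    (hs : ∀ n, Function.Surjective (r F (Nat.le_succ n))) :
    (F ⋙ forget AddCommGrpCat).IsMittagLeffler := by
  rw [ML_iff]
  intro j
  refine ⟨j, le_rfl, fun k hjk x => ?_⟩
  obtain ⟨x', hx'⟩ := surj_r F hs j k hjk (r F le_rfl x)
  exact ⟨x', hx'⟩

section Single

variable (M : HomologicalComplex AddCommGrpCat.{u} (ComplexShape.up ℤ))

lemma dd_dd' (i j k : ℤ) (x : M.X i) : (M.d j k).hom ((M.d i j).hom x) = 0 := by
  change (M.d i j ≫ M.d j k).hom x = 0
  rw [HomologicalComplex.d_comp_d]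
  rfl

/-- the class of a cycle -/
def clsOf (i : ℤ) (x : M.X i) (hx : (M.d i (i + 1)).hom x = 0) : M.homology i :=
  (M.homologyπ i).hom (Classical.choose (exists_cycle M i (i + 1) (by simp) x hx))

lemma clsOf_spec (i : ℤ) (x : M.X i) (hx : (M.d i (i + 1)).hom x = 0) :
    ∃ z : M.cycles i, (M.iCycles i).hom z = x ∧ clsOf M i x hx = (M.homologyπ i).hom z :=
  ⟨_, Classical.choose_spec (exists_cycle M i (i + 1) (by simp) x hx), rfl⟩

lemma clsOf_eq (i : ℤ) (x : M.X i) (hx : (M.d i (i + 1)).hom x = 0) (z : M.cycles i)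
    (hz : (M.iCycles i).hom z = x) : clsOf M i x hx = (M.homologyπ i).hom z := by
  obtain ⟨z', hz', h⟩ := clsOf_spec M i x hx
  rw [h]
  congr 1
  exact iCycles_injective M i (hz'.trans hz.symm)

lemma clsOf_congr (i : ℤ) {x x' : M.X i} (h : x = x') (hx : (M.d i (i + 1)).hom x = 0)
    (hx' : (M.d i (i + 1)).hom x' = 0) : clsOf M i x hx = clsOf M i x' hx' := by
  subst h
  rfl

lemma clsOf_add (i : ℤ) (x x' : M.X i) (hx : (M.d i (i + 1)).hom x = 0)
    (hx' : (M.d i (i + 1)).hom x' = 0) :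
    clsOf M i (x + x') (by rw [map_add, hx, hx', add_zero]) =
      clsOf M i x hx + clsOf M i x' hx' := by
  obtain ⟨z, hz, h⟩ := clsOf_spec M i x hx
  obtain ⟨z', hz', h'⟩ := clsOf_spec M i x' hx'
  rw [h, h']
  exact (clsOf_eq M i _ _ (z + z') (by rw [map_add, hz, hz'])).trans (map_add _ z z')

lemma clsOf_sub (i : ℤ) (x x' : M.X i) (hx : (M.d i (i + 1)).hom x = 0)
    (hx' : (M.d i (i + 1)).hom x' = 0) :
    clsOf M i (x - x') (by rw [map_sub, hx, hx', sub_zero]) =
      clsOf M i x hx - clsOf M i x' hx' := by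
  obtain ⟨z, hz, h⟩ := clsOf_spec M i x hx
  obtain ⟨z', hz', h'⟩ := clsOf_spec M i x' hx'
  rw [h, h']
  exact (clsOf_eq M i _ _ (z - z') (by rw [map_sub, hz, hz'])).trans (map_sub _ z z')

lemma clsOf_eq_zero (i' i : ℤ) (hprev : (ComplexShape.up ℤ).prev i = i') (x : M.X i)
    (hx : (M.d i (i + 1)).hom x = 0) (h : clsOf M i x hx = 0) :
    ∃ u : M.X i', (M.d i' i).hom u = x := by
  obtain ⟨z, hz, h1⟩ := clsOf_spec M i x hx
  rw [h1] at h
  have h0 : z ∈ (M.homologyπ i).hom.ker := h
  rw [ker_homologyπ M i' i hprev] at h0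
  obtain ⟨u, hu⟩ := h0
  refine ⟨u, ?_⟩
  rw [← toCycles_i_apply, hu, hz]

lemma clsOf_surj (i : ℤ) (g : M.homology i) :
    ∃ (x : M.X i) (hx : (M.d i (i + 1)).hom x = 0), clsOf M i x hx = g := by
  obtain ⟨z, rfl⟩ := homologyπ_surjective M i g
  exact ⟨(M.iCycles i).hom z, d_iCycles_apply M i (i + 1) z, clsOf_eq M i _ _ z rfl⟩

variable {M}

lemma clsOf_nat {N : HomologicalComplex AddCommGrpCat.{u} (ComplexShape.up ℤ)} (φ : M ⟶ N)
    (i : ℤ) (x : M.X i) (hx : (M.d i (i + 1)).hom x = 0)
    (hx' : (N.d i (i + 1)).hom ((φ.f i).hom x) = 0) :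
    (homologyMap φ i).hom (clsOf M i x hx) = clsOf N i ((φ.f i).hom x) hx' := by
  obtain ⟨z, hz, h⟩ := clsOf_spec M i x hx
  rw [h, homologyπ_nat_apply]
  symm
  apply clsOf_eq
  rw [cyclesMap_apply_i, hz]

end Single

variable (K : ℕᵒᵖ ⥤ HomologicalComplex AddCommGrpCat.{u} (ComplexShape.up ℤ))

/-- transition maps of the tower -/
abbrev tt (n : ℕ) (m : ℤ) : (K.obj (op (n + 1))).X m →+ (K.obj (op n)).X m :=
  ((K.map (homOfLE (Nat.le_succ n)).op).f m).hom

/-- differentials of the tower -/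
abbrev dd (n : ℕ) (i j : ℤ) : (K.obj (op n)).X i →+ (K.obj (op n)).X j :=
  ((K.obj (op n)).d i j).hom

lemma tt_dd (n : ℕ) (i j : ℤ) (x : (K.obj (op (n + 1))).X i) :
    tt K n j (dd K (n + 1) i j x) = dd K n i j (tt K n i x) := by
  have := congrArg (fun g => g.hom x) ((K.map (homOfLE (Nat.le_succ n)).op).comm i j)
  simp only [AddCommGrpCat.hom_comp, AddMonoidHom.coe_comp, Function.comp_apply] at this
  exact this.symm

lemma dd_dd (n : ℕ) (i j k : ℤ) (x : (K.obj (op n)).X i) : dd K n j k (dd K n i j x) = 0 :=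
  dd_dd' _ i j k x

lemma mkX' (m : ℤ) (w : ∀ n : ℕ, (K.obj (op n)).X m) (hw : ∀ n, tt K n m (w (n + 1)) = w n) :
    ∃ x : (limit K).X m, ∀ n : ℕ, ((limit.π K (op n)).f m).hom x = w n := by
  have hcompat : ∀ (n k : ℕ) (h : n ≤ k), r (XF K m) h (w k) = w n := by
    intro n k h
    induction k, h using Nat.le_induction with
    | base => exact r_refl (XF K m) n (w n)
    | succ k h ih =>
      rw [← r_r (XF K m) h (Nat.le_succ k)]
      have h1 : r (XF K m) (Nat.le_succ k) (w (k + 1)) = w k := hw k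
      rw [h1, ih]
  have hsec : (fun j : ℕᵒᵖ => w j.unop) ∈
      (XF K m ⋙ CategoryTheory.forget AddCommGrpCat).sections := by
    intro j j' f
    have hle : j'.unop ≤ j.unop := leOfHom f.unop
    have hf : f = (homOfLE hle).op := Subsingleton.elim _ _
    subst hf
    exact hcompat j'.unop j.unop hle
  obtain ⟨x, hx⟩ := mkX K m ⟨_, hsec⟩
  exact ⟨x, fun n => hx (op n)⟩

lemma hpost (n : ℤ) (j : ℕᵒᵖ) (h : (limit K).homology n) :
    (limit.π (HF K n) j).hom ((limit.post K (homologyFunctor _ _ n)).hom h)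
      = (homologyMap (limit.π K j) n).hom h := by
  change (limit.post K (homologyFunctor _ _ n) ≫ limit.π (HF K n) j).hom h = _
  rw [limit.post_π K (homologyFunctor _ _ n) j]
  rfl

theorem post_surj (hK : ∀ (n : ℕ) (m : ℤ), Function.Surjective (tt K n m)) (q : ℤ) :
    Function.Surjective (limit.post K (homologyFunctor _ _ (q + 1))).hom := by
  have hprev : (ComplexShape.up ℤ).prev (q + 1) = q := by simp
  have hnext' : (ComplexShape.up ℤ).next (q + 1) = q + 1 + 1 := by simp
  have h1 : (XF K q ⋙ CategoryTheory.forget AddCommGrpCat).IsMittagLeffler :=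
    ML_of_surj (XF K q) (fun n => hK n q)
  intro ξ
  let hs : (HF K (q + 1) ⋙ CategoryTheory.forget AddCommGrpCat).sections :=
    ⟨fun j => (limit.π (HF K (q + 1)) j).hom ξ, fun {j j'} f => by
      have := congrArg (fun g => g.hom ξ) (limit.w (HF K (q + 1)) f)
      simpa using this⟩
  obtain ⟨zs, hzs⟩ := sections_lift (toCyclesNT K q (q + 1)) (piNT K (q + 1))
    (fun j => ker_homologyπ _ _ _ hprev) h1 hs (fun j => homologyπ_surjective _ _ _)
  let xs : (XF K (q + 1) ⋙ CategoryTheory.forget AddCommGrpCat).sections :=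
    ⟨fun j => ((K.obj j).iCycles (q + 1)).hom (zs.1 j), fun {j j'} f => by
      have := zs.2 f
      change ((K.map f).f (q + 1)).hom (((K.obj j).iCycles (q + 1)).hom (zs.1 j)) = _
      rw [← cyclesMap_apply_i]
      exact congrArg _ this⟩
  obtain ⟨x, hx⟩ := mkX K (q + 1) xs
  have hdx : ((limit K).d (q + 1) (q + 1 + 1)).hom x = 0 := by
    apply extX
    intro j
    rw [π_d, hx, map_zero]
    exact d_iCycles_apply _ _ _ _
  obtain ⟨z, hz⟩ := exists_cycle (limit K) (q + 1) (q + 1 + 1) hnext' x hdx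
  refine ⟨((limit K).homologyπ (q + 1)).hom z, ?_⟩
  apply Concrete.limit_ext
  intro j
  change (limit.π (HF K (q + 1)) j).hom ((limit.post K (homologyFunctor _ _ (q + 1))).hom _)
    = (limit.π (HF K (q + 1)) j).hom ξ
  rw [hpost, homologyπ_nat_apply]
  have hzj : (cyclesMap (limit.π K j) (q + 1)).hom z = zs.1 j := by
    apply iCycles_injective
    rw [cyclesMap_apply_i, hz, hx]
  rw [hzj]
  exact hzs j

section Main

variable (q : ℤ)

/-- the group of families `y` with `d (y_n - t y_{n+1}) = 0` -/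
def Asub : AddSubgroup (∀ n : ℕ, (K.obj (op n)).X q) where
  carrier := {y | ∀ n, dd K n q (q + 1) (y n - tt K n q (y (n + 1))) = 0}
  zero_mem' := by
    intro n
    simp
  add_mem' := by
    intro y y' hy hy' n
    have h : (y + y') n - tt K n q ((y + y') (n + 1)) =
        (y n - tt K n q (y (n + 1))) + (y' n - tt K n q (y' (n + 1))) := by
      simp only [Pi.add_apply, map_add]
      abel
    rw [h, map_add, hy n, hy' n, add_zero]
  neg_mem' := by
    intro y hy n
    have h : (-y) n - tt K n q ((-y) (n + 1)) = -(y n - tt K n q (y (n + 1))) := by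
      simp only [Pi.neg_apply, map_neg]
      abel
    rw [h, map_neg, hy n, neg_zero]

lemma mem_Asub (y : ∀ n : ℕ, (K.obj (op n)).X q) :
    y ∈ Asub K q ↔ ∀ n, dd K n q (q + 1) (y n - tt K n q (y (n + 1))) = 0 := Iff.rfl

lemma wOf_exists (y : Asub K q) : ∃ w : (limit K).X (q + 1),
    ∀ n : ℕ, ((limit.π K (op n)).f (q + 1)).hom w = dd K n q (q + 1) (y.1 n) := by
  apply mkX' K (q + 1) (fun n => dd K n q (q + 1) (y.1 n))
  intro n
  have h := (mem_Asub K q y.1).mp y.2 n
  rw [map_sub, sub_eq_zero] at h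
  show tt K n (q + 1) (dd K (n + 1) q (q + 1) (y.1 (n + 1))) = dd K n q (q + 1) (y.1 n)
  rw [tt_dd]
  exact h.symm

/-- the element of the limit with components `d y_n` -/
def wOf (y : Asub K q) : (limit K).X (q + 1) := Classical.choose (wOf_exists K q y)

lemma wOf_spec' (y : Asub K q) (j : ℕᵒᵖ) :
    ((limit.π K j).f (q + 1)).hom (wOf K q y) = ((K.obj j).d q (q + 1)).hom (y.1 j.unop) :=
  Classical.choose_spec (wOf_exists K q y) j.unop

lemma d_wOf (y : Asub K q) : ((limit K).d (q + 1) (q + 1 + 1)).hom (wOf K q y) = 0 := by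
  apply extX
  intro j
  rw [π_d, wOf_spec', map_zero, dd_dd']

/-- the cycle of the limit with underlying element `wOf y` -/
def zOf (y : Asub K q) : (limit K).cycles (q + 1) :=
  Classical.choose (exists_cycle (limit K) (q + 1) (q + 1 + 1) (by simp) (wOf K q y)
    (d_wOf K q y))

lemma zOf_spec (y : Asub K q) : ((limit K).iCycles (q + 1)).hom (zOf K q y) = wOf K q y :=
  Classical.choose_spec (exists_cycle (limit K) (q + 1) (q + 1 + 1) (by simp) (wOf K q y)
    (d_wOf K q y))

lemma wOf_add (y y' : Asub K q) : wOf K q (y + y') = wOf K q y + wOf K q y' := by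
  apply extX
  intro j
  rw [map_add, wOf_spec', wOf_spec', wOf_spec', AddSubgroup.coe_add, Pi.add_apply, map_add]

lemma zOf_add (y y' : Asub K q) : zOf K q (y + y') = zOf K q y + zOf K q y' := by
  apply iCycles_injective (limit K) (q + 1)
  rw [map_add, zOf_spec, zOf_spec, zOf_spec, wOf_add]

/-- the map `A → H^{q+1}(lim K)` -/
def Psi : Asub K q →+ (limit K).homology (q + 1) :=
  AddMonoidHom.mk' (fun y => ((limit K).homologyπ (q + 1)).hom (zOf K q y))
    (fun y y' => by rw [zOf_add, map_add])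

lemma post_Psi (y : Asub K q) :
    (limit.post K (homologyFunctor _ _ (q + 1))).hom (Psi K q y) = 0 := by
  apply Concrete.limit_ext
  intro j
  change (limit.π (HF K (q + 1)) j).hom ((limit.post K (homologyFunctor _ _ (q + 1))).hom _)
    = (limit.π (HF K (q + 1)) j).hom 0
  rw [hpost, map_zero]
  show (homologyMap (limit.π K j) (q + 1)).hom
    (((limit K).homologyπ (q + 1)).hom (zOf K q y)) = 0
  rw [homologyπ_nat_apply]
  have hz : (cyclesMap (limit.π K j) (q + 1)).hom (zOf K q y) =
      ((K.obj j).toCycles q (q + 1)).hom (y.1 j.unop) := by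
    apply iCycles_injective
    rw [cyclesMap_apply_i, zOf_spec, wOf_spec', toCycles_i_apply]
  rw [hz]
  exact homologyπ_toCycles_apply _ _ _ _

/-- `Psi` with values in the kernel of the comparison map -/
def Psi' : Asub K q →+ (limit.post K (homologyFunctor _ _ (q + 1))).hom.ker :=
  (Psi K q).codRestrict _ (fun y => AddMonoidHom.mem_ker.mpr (post_Psi K q y))

lemma Psi'_surj : Function.Surjective (Psi' K q) := by
  rintro ⟨ξ, hξ⟩
  rw [AddMonoidHom.mem_ker] at hξ
  obtain ⟨z, rfl⟩ := homologyπ_surjective (limit K) (q + 1) ξ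
  have hprev : (ComplexShape.up ℤ).prev (q + 1) = q := by simp
  have hy : ∀ n : ℕ, ∃ yn : (K.obj (op n)).X q, dd K n q (q + 1) yn =
      ((limit.π K (op n)).f (q + 1)).hom (((limit K).iCycles (q + 1)).hom z) := by
    intro n
    have h0 : ((K.obj (op n)).homologyπ (q + 1)).hom
        ((cyclesMap (limit.π K (op n)) (q + 1)).hom z) = 0 := by
      rw [← homologyπ_nat_apply, ← hpost, hξ]
      exact map_zero _
    have h0' : (cyclesMap (limit.π K (op n)) (q + 1)).hom z ∈
        ((K.obj (op n)).homologyπ (q + 1)).hom.ker := h0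
    rw [ker_homologyπ _ q (q + 1) hprev] at h0'
    obtain ⟨yn, hyn⟩ := h0'
    refine ⟨yn, ?_⟩
    show ((K.obj (op n)).d q (q + 1)).hom yn = _
    rw [← toCycles_i_apply, hyn, cyclesMap_apply_i]
  choose y hy using hy
  have hyA : y ∈ Asub K q := by
    rw [mem_Asub]
    intro n
    rw [map_sub, ← tt_dd, hy, hy, sub_eq_zero]
    exact (π_compat K (q + 1) (homOfLE (Nat.le_succ n)).op _).symm
  refine ⟨⟨y, hyA⟩, ?_⟩
  apply Subtype.ext
  show ((limit K).homologyπ (q + 1)).hom (zOf K q ⟨y, hyA⟩) =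
    ((limit K).homologyπ (q + 1)).hom z
  congr 1
  apply iCycles_injective (limit K) (q + 1)
  rw [zOf_spec]
  apply extX
  intro j
  rw [wOf_spec']
  exact hy j.unop

/-- the family of classes of `y_n - t y_{n+1}` -/
def gOf (y : Asub K q) (n : ℕ) : (K.obj (op n)).homology q :=
  clsOf (K.obj (op n)) q (y.1 n - tt K n q (y.1 (n + 1))) ((mem_Asub K q y.1).mp y.2 n)

lemma gOf_add (y y' : Asub K q) : gOf K q (y + y') = gOf K q y + gOf K q y' := by
  funext n
  show clsOf _ q _ _ = clsOf _ q _ _ + clsOf _ q _ _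
  rw [← clsOf_add]
  apply clsOf_congr
  rw [AddSubgroup.coe_add, Pi.add_apply, Pi.add_apply, map_add]
  abel

/-- the map `A → lim¹ H^q(K_n)` -/
def Theta : Asub K q →+ Formal2.limOne (fun n => (K.obj (op n)).homology q)
    (fun n => (homologyMap (K.map (homOfLE (Nat.le_succ n)).op) q).hom) :=
  (QuotientAddGroup.mk' _).comp (AddMonoidHom.mk' (gOf K q) (gOf_add K q))

lemma Theta_apply (y : Asub K q) : Theta K q y =
    QuotientAddGroup.mk' (Formal2.towerDiff (fun n => (K.obj (op n)).homology q)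
      (fun n => (homologyMap (K.map (homOfLE (Nat.le_succ n)).op) q).hom)).range
      (gOf K q y) := rfl

lemma Theta_eq_zero_iff (y : Asub K q) : Theta K q y = 0 ↔
    gOf K q y ∈ (Formal2.towerDiff (fun n => (K.obj (op n)).homology q)
      (fun n => (homologyMap (K.map (homOfLE (Nat.le_succ n)).op) q).hom)).range := by
  rw [Theta_apply]
  exact QuotientAddGroup.eq_zero_iff _

lemma Theta_surj (hK : ∀ (n : ℕ) (m : ℤ), Function.Surjective (tt K n m)) :
    Function.Surjective (Theta K q) := by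
  intro ξ
  obtain ⟨g, rfl⟩ := QuotientAddGroup.mk_surjective ξ
  choose x hx hxg using fun n => clsOf_surj (K.obj (op n)) q (g n)
  obtain ⟨y, hy⟩ := towerDiff_surj (fun n => (K.obj (op n)).X q) (fun n => tt K n q)
    (fun n => hK n q) x
  have hyA : y ∈ Asub K q := by
    rw [mem_Asub]
    intro n
    rw [hy n]
    exact hx n
  refine ⟨⟨y, hyA⟩, ?_⟩
  have hg : gOf K q ⟨y, hyA⟩ = g := by
    funext n
    rw [← hxg n]
    exact clsOf_congr _ q (hy n) _ _
  rw [Theta_apply, hg]
  rfl

lemma ker_eq (hK : ∀ (n : ℕ) (m : ℤ), Function.Surjective (tt K n m)) :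
    (Psi' K q).ker = (Theta K q).ker := by
  have hprevL : (ComplexShape.up ℤ).prev (q + 1) = q := by simp
  have hprev' : (ComplexShape.up ℤ).prev q = q - 1 := by simp
  ext y
  rw [AddMonoidHom.mem_ker, AddMonoidHom.mem_ker]
  constructor
  · intro hy
    have hy0 : ((limit K).homologyπ (q + 1)).hom (zOf K q y) = 0 := congrArg Subtype.val hy
    have h0 : zOf K q y ∈ ((limit K).homologyπ (q + 1)).hom.ker := hy0
    rw [ker_homologyπ (limit K) q (q + 1) hprevL] at h0
    obtain ⟨V, hV⟩ := h0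
    have hdV : ((limit K).d q (q + 1)).hom V = wOf K q y := by
      rw [← toCycles_i_apply, hV, zOf_spec]
    have hv1 : ∀ n : ℕ, tt K n q (((limit.π K (op (n + 1))).f q).hom V) =
        ((limit.π K (op n)).f q).hom V :=
      fun n => π_compat K q (homOfLE (Nat.le_succ n)).op V
    have hv2 : ∀ n : ℕ, dd K n q (q + 1) (((limit.π K (op n)).f q).hom V) =
        dd K n q (q + 1) (y.1 n) := by
      intro n
      have h1 := π_d K q (q + 1) (op n) V
      rw [hdV, wOf_spec'] at h1
      exact h1.symm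
    have hcyc : ∀ n : ℕ, dd K n q (q + 1) (y.1 n - ((limit.π K (op n)).f q).hom V) = 0 := by
      intro n
      rw [map_sub, hv2, sub_self]
    rw [Theta_eq_zero_iff]
    refine ⟨fun n => clsOf (K.obj (op n)) q (y.1 n - ((limit.π K (op n)).f q).hom V) (hcyc n), ?_⟩
    funext n
    show clsOf (K.obj (op n)) q _ (hcyc n) -
      (homologyMap (K.map (homOfLE (Nat.le_succ n)).op) q).hom
        (clsOf (K.obj (op (n + 1))) q _ (hcyc (n + 1))) = gOf K q y n
    have hc' : dd K n q (q + 1) (tt K n q (y.1 (n + 1) - ((limit.π K (op (n + 1))).f q).hom V)) = 0 := by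
      rw [← tt_dd, hcyc (n + 1), map_zero]
    rw [clsOf_nat (K.map (homOfLE (Nat.le_succ n)).op) q _ (hcyc (n + 1)) hc', ← clsOf_sub]
    apply clsOf_congr
    show y.1 n - ((limit.π K (op n)).f q).hom V -
      tt K n q (y.1 (n + 1) - ((limit.π K (op (n + 1))).f q).hom V) = y.1 n - tt K n q (y.1 (n + 1))
    rw [map_sub, hv1 n]
    abel
  · intro hy
    rw [Theta_eq_zero_iff] at hy
    obtain ⟨h, hh⟩ := hy
    have hh' : ∀ n, h n - (homologyMap (K.map (homOfLE (Nat.le_succ n)).op) q).hom (h (n + 1)) =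
        gOf K q y n := fun n => congrFun hh n
    choose c hc hcc using fun n => clsOf_surj (K.obj (op n)) q (h n)
    have hyc := (mem_Asub K q y.1).mp y.2
    have hc' : ∀ n, dd K n q (q + 1) (tt K n q (c (n + 1))) = 0 := by
      intro n
      rw [← tt_dd, hc (n + 1), map_zero]
    have hdiff : ∀ n, dd K n q (q + 1) (c n - tt K n q (c (n + 1))) = 0 := by
      intro n
      rw [map_sub, hc n, hc' n, sub_zero]
    have hz : ∀ n, dd K n q (q + 1)
        ((y.1 n - tt K n q (y.1 (n + 1))) - (c n - tt K n q (c (n + 1)))) = 0 := by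
      intro n
      rw [map_sub, hyc n, hdiff n, sub_zero]
    have hcls : ∀ n, clsOf (K.obj (op n)) q
        ((y.1 n - tt K n q (y.1 (n + 1))) - (c n - tt K n q (c (n + 1)))) (hz n) = 0 := by
      intro n
      have e1 : clsOf (K.obj (op n)) q (c n - tt K n q (c (n + 1))) (hdiff n) =
          h n - (homologyMap (K.map (homOfLE (Nat.le_succ n)).op) q).hom (h (n + 1)) := by
        rw [← hcc n, ← hcc (n + 1),
          clsOf_nat (K.map (homOfLE (Nat.le_succ n)).op) q _ (hc (n + 1)) (hc' n), ← clsOf_sub]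
      have e2 : clsOf (K.obj (op n)) q
          ((y.1 n - tt K n q (y.1 (n + 1))) - (c n - tt K n q (c (n + 1)))) (hz n) =
          clsOf (K.obj (op n)) q (y.1 n - tt K n q (y.1 (n + 1))) (hyc n) -
            clsOf (K.obj (op n)) q (c n - tt K n q (c (n + 1))) (hdiff n) :=
        clsOf_sub _ q _ _ (hyc n) (hdiff n)
      rw [e2, e1, hh' n]
      exact sub_self _
    choose u hu using fun n => clsOf_eq_zero (K.obj (op n)) (q - 1) q hprev' _ (hz n) (hcls n)
    obtain ⟨s, hs⟩ := towerDiff_surj (fun n => (K.obj (op n)).X (q - 1))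
      (fun n => tt K n (q - 1)) (fun n => hK n (q - 1)) u
    have hv1 : ∀ n, tt K n q (y.1 (n + 1) - c (n + 1) - dd K (n + 1) (q - 1) q (s (n + 1))) =
        y.1 n - c n - dd K n (q - 1) q (s n) := by
      intro n
      have e2 : dd K n (q - 1) q (s n) - dd K n (q - 1) q (tt K n (q - 1) (s (n + 1))) =
          (y.1 n - tt K n q (y.1 (n + 1))) - (c n - tt K n q (c (n + 1))) := by
        rw [← map_sub, hs n]
        exact hu n
      have e3 : dd K n (q - 1) q (s n) =
          (y.1 n - tt K n q (y.1 (n + 1))) - (c n - tt K n q (c (n + 1))) +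
            dd K n (q - 1) q (tt K n (q - 1) (s (n + 1))) := sub_eq_iff_eq_add.mp e2
      rw [map_sub, map_sub, tt_dd, e3]
      abel
    have hv2 : ∀ n, dd K n q (q + 1) (y.1 n - c n - dd K n (q - 1) q (s n)) =
        dd K n q (q + 1) (y.1 n) := by
      intro n
      rw [map_sub, map_sub, hc n, dd_dd, sub_zero, sub_zero]
    obtain ⟨V, hV⟩ := mkX' K q (fun n => y.1 n - c n - dd K n (q - 1) q (s n)) hv1
    have hdV : ((limit K).d q (q + 1)).hom V = wOf K q y := by
      apply extX
      intro j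
      rw [π_d, wOf_spec']
      have h1 := hV j.unop
      rw [h1]
      exact hv2 j.unop
    have hzV : zOf K q y = ((limit K).toCycles q (q + 1)).hom V := by
      apply iCycles_injective (limit K) (q + 1)
      rw [zOf_spec, toCycles_i_apply, hdV]
    apply Subtype.ext
    show ((limit K).homologyπ (q + 1)).hom (zOf K q y) = 0
    rw [hzV]
    exact homologyπ_toCycles_apply _ _ _ _

theorem main (hK : ∀ (n : ℕ) (m : ℤ), Function.Surjective (tt K n m)) :
    Function.Surjective (limit.post K (homologyFunctor _ _ (q + 1))).hom ∧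
    Nonempty ((limit.post K (homologyFunctor _ _ (q + 1))).hom.ker ≃+
      Formal2.limOne (fun n => (K.obj (op n)).homology q)
        (fun n => (homologyMap (K.map (homOfLE (Nat.le_succ n)).op) q).hom)) := by
  refine ⟨post_surj K hK q, ⟨?_⟩⟩
  exact (QuotientAddGroup.quotientKerEquivOfSurjective (Psi' K q) (Psi'_surj K q)).symm.trans
    ((QuotientAddGroup.quotientAddEquivOfEq (ker_eq K q hK)).trans
      (QuotientAddGroup.quotientKerEquivOfSurjective (Theta K q) (Theta_surj K q hK)))

end Main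

end

end Groth.Agent.Lib.Helper25.Milnor
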