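import Mathlib
import Groth.Prelude.Def_Models
import Groth.Prelude.Def_Curve
import Groth.Agent.Lib.Helper25.ModelGamma
import Groth.Agent.Lib.Helper29.AutFixKer
import Groth.Agent.Lib.Helper22.SmoothRed

/-!
# Geometrically connected smooth proper schemes over a field have only constant global functions;
regular proper models of such curves have geometrically connected fibres
-/

set_option autoImplicit false
set_option linter.style.haveILetI false
universe u
open CategoryTheory CategoryTheory.Limits AlgebraicGeometry Opposite TopologicalSpace TensorProduct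

noncomputable section

namespace Groth.Agent.Lib.Helper25.ModelGammaGC

open Groth.Agent.Lib.Helper17.SpecBC Groth.Agent.Lib.Helper25.SecTensor
  Groth.Agent.Lib.Helper25.FibreKer Groth.Agent.Lib.Helper25.ModelGamma

theorem surjective_of_tensor {K L B T : Type u} [Field K] [Field L] [Algebra K L] [CommRing B]
    [Algebra K B] [CommRing T]
    (e : L ⊗[K] B ≃+* T) (ι : L →+* T) (hι : Function.Surjective ι)
    (he : ∀ a : L, e (a ⊗ₜ[K] (1 : B)) = ι a) :
    Function.Surjective (algebraMap K B) := by
  have h1 : Function.Surjective ((Algebra.linearMap K B).lTensor L) := by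
    intro z
    obtain ⟨a, ha⟩ := hι (e z)
    refine ⟨a ⊗ₜ[K] (1 : K), ?_⟩
    apply e.injective
    rw [← ha, ← he a, LinearMap.lTensor_tmul, Algebra.linearMap_apply, map_one]
  exact (Module.FaithfullyFlat.lTensor_surjective_iff_surjective K L (Algebra.linearMap K B)).mp h1

theorem isIso_appTop_of_geomConn (K : Type u) [Field K] {C : Scheme.{u}}
    (f : C ⟶ Spec (CommRingCat.of K)) [IsProper f] [Smooth f] [GeometricallyConnected f] :
    IsIso f.appTop := by
  classical
  let L := AlgebraicClosure K
  let φ : CommRingCat.of K ⟶ CommRingCat.of L := CommRingCat.ofHom (algebraMap K L)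
  let j := Spec.map φ
  let f' := pullback.snd f j
  let g' := pullback.fst f j
  haveI : IsProper f' := inferInstance
  haveI : Smooth f' := inferInstance
  haveI : GeometricallyConnected f' := inferInstance
  haveI : IsReduced (pullback f j) := Groth.Agent.Lib.Helper22.SmoothRed.isReduced_of_smooth f'
  haveI : ConnectedSpace ↥(pullback f j) :=
    GeometricallyConnected.connectedSpace_of_subsingleton f'
  letI : (pullback f j).Over (Spec (CommRingCat.of L)) := ⟨f'⟩
  haveI : IsProper ((pullback f j) ↘ Spec (CommRingCat.of L)) := ‹IsProper f'›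
  have hiso' : IsIso f'.appTop :=
    Groth.Agent.Lib.Helper29.AutFixKer.isIso_appTop_of_proper_reduced_connected L (pullback f j)
  haveI : Flat j := by
    rw [Flat.SpecMap_iff]
    exact RingHom.flat_algebraMap_iff.mpr inferInstance
  haveI : CompactSpace C := QuasiCompact.compactSpace_of_compactSpace f
  haveI : QuasiSeparatedSpace C := quasiSeparatedSpace_of_quasiSeparated f
  have PY : IsPushout φ (toSec f ⊤) (toSec f' ⊤) g'.appTop := by
    have := isPushout_sections_of_flat (IsPullback.of_hasPullback f j) (U := ⊤)
      (by simpa using isCompact_univ) (by simpa using isQuasiSeparated_univ)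
    rwa [Scheme.Hom.appLE_eq_app] at this
  have hfL : Function.Bijective (toSec f' ⊤).hom := by
    rw [toSec_top]
    haveI : IsIso ((Scheme.ΓSpecIso (CommRingCat.of L)).inv ≫ f'.appTop) := inferInstance
    exact ConcreteCategory.bijective_of_isIso _
  have hw : ∀ r : K, g'.appTop.hom ((toSec f ⊤).hom r) = (toSec f' ⊤).hom (algebraMap K L r) := by
    intro r
    exact (congr($(PY.w).hom r)).symm
  letI algB : Algebra K Γ(C, ⊤) := (toSec f ⊤).hom.toAlgebra
  obtain ⟨e, he⟩ := exists_equiv_of_isPushout (R := K) (S := L) (A := Γ(C, ⊤))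
    (T := Γ(pullback f j, ⊤)) (toSec f' ⊤).hom g'.appTop.hom PY
  have hsurj : Function.Surjective (toSec f ⊤).hom :=
    surjective_of_tensor e (toSec f' ⊤).hom hfL.2 (fun a => by rw [he, map_one, mul_one])
  have hinj : Function.Injective (toSec f ⊤).hom := by
    rw [injective_iff_map_eq_zero]
    intro r hr
    have h1 := hw r
    rw [hr, map_zero] at h1
    have h2 : algebraMap K L r = 0 := by
      apply hfL.1
      rw [← h1, map_zero]
    exact (algebraMap K L).injective (h2.trans (map_zero _).symm)
  haveI h1 : IsIso (toSec f ⊤) := isIso_of_bijective _ ⟨hinj, hsurj⟩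
  have : f.appTop = (Scheme.ΓSpecIso (CommRingCat.of K)).hom ≫ toSec f ⊤ := by
    rw [toSec_top, Iso.hom_inv_id_assoc]
  rw [this]
  infer_instance

theorem main18427 (R : Type u) [CommRing R] [IsDomain R]
    [IsDiscreteValuationRing R] (C X : Scheme.{u})
    (f : C ⟶ Spec (CommRingCat.of (FractionRing R))) (p : X ⟶ Spec (CommRingCat.of R))
    (hC : Curve.IsSmoothProperCurve (FractionRing R) C f) [GeometricallyConnected f]
    (hX : Models.IsRegularProperModel R X p C f) :
    GeometricallyConnected p := by
  obtain ⟨hCp, hCs, -, -⟩ := hC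
  obtain ⟨⟨hflat, hlft, hqc, g, hsq⟩, hproper, hreg⟩ := hX
  haveI := hflat
  haveI := hproper
  haveI := hCp
  haveI := hCs
  have hH0 : IsIso f.appTop := isIso_appTop_of_geomConn (FractionRing R) f
  exact (zariski_affine p (fun V hV => isIso_app_of_isAffineOpen R f p g hsq hH0 V hV)).2

end Groth.Agent.Lib.Helper25.ModelGammaGC
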