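import Mathlib
import Groth.Prelude.Def_W4c5qllcourbesmultMultCrv

/-!
# The Frobenius form on `R[X]/(X^n)` and `Hom_A(M, A) = Hom_R(M, R)` (helper25)
-/

set_option autoImplicit false
set_option linter.unusedSectionVars false

namespace Groth.Agent.Lib.Helper25.MultCrvDual

section General

variable {R A M : Type*} [CommRing R] [CommRing A] [Algebra R A] [AddCommGroup M] [Module A M]
  [Module R M] [IsScalarTower R A M] (z : A) (n : ℕ) (ε : A →ₗ[R] R)

/-- The `R`-linear map `m ↦ ∑ g(z^k m) z^(n-1-k)`. -/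
def psi0 (g : M →ₗ[R] R) : M →ₗ[R] A where
  toFun m := ∑ k ∈ Finset.range n, g (z ^ k • m) • z ^ (n - 1 - k)
  map_add' m m' := by simp only [smul_add, map_add, add_smul, Finset.sum_add_distrib]
  map_smul' r m := by
    simp only [RingHom.id_apply, Finset.smul_sum]
    refine Finset.sum_congr rfl fun k _ => ?_
    rw [smul_comm (z ^ k) r m, map_smul, smul_eq_mul, mul_smul]

theorem psi0_apply (g : M →ₗ[R] R) (m : M) :
    psi0 z n g m = ∑ k ∈ Finset.range n, g (z ^ k • m) • z ^ (n - 1 - k) := rfl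

theorem psi0_z (hzn : z ^ n = 0) (g : M →ₗ[R] R) (m : M) :
    psi0 z n g (z • m) = z * psi0 z n g m := by
  rw [psi0_apply, psi0_apply, Finset.mul_sum]
  let T : ℕ → A := fun j => g (z ^ j • m) • z ^ (n - j)
  have hTdef : ∀ j, T j = g (z ^ j • m) • z ^ (n - j) := fun j => rfl
  have h1 : ∀ k ∈ Finset.range n, g (z ^ k • z • m) • z ^ (n - 1 - k) = T (k + 1) := by
    intro k hk
    rw [hTdef, smul_smul, ← pow_succ, Nat.sub_sub, add_comm 1 k]
  have h2 : ∀ k ∈ Finset.range n, z * (g (z ^ k • m) • z ^ (n - 1 - k)) = T k := by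
    intro k hk
    rw [hTdef, mul_smul_comm, ← pow_succ']
    have hk' := Finset.mem_range.1 hk
    have : n - 1 - k + 1 = n - k := by omega
    rw [this]
  rw [Finset.sum_congr rfl h1, Finset.sum_congr rfl h2]
  have h3 := Finset.sum_range_succ' T n
  have h4 := Finset.sum_range_succ T n
  have hT0 : T 0 = 0 := by
    rw [hTdef, Nat.sub_zero, hzn, smul_zero]
  have hTn : T n = 0 := by
    rw [hTdef, hzn, zero_smul, map_zero, zero_smul]
  rw [hT0, add_zero] at h3
  rw [hTn, add_zero] at h4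
  rw [← h3, h4]

theorem lin_of_z (H3 : ∀ a : A, ∃ p : Polynomial R, a = Polynomial.aeval z p)
    (f₀ : M →ₗ[R] A) (hz : ∀ m, f₀ (z • m) = z * f₀ m) (a : A) (m : M) :
    f₀ (a • m) = a * f₀ m := by
  obtain ⟨p, rfl⟩ := H3 a
  induction p using Polynomial.induction_on generalizing m with
  | C r => rw [Polynomial.aeval_C, algebraMap_smul, map_smul, Algebra.smul_def]
  | add p q hp hq => rw [map_add, add_smul, map_add, hp, hq, add_mul]
  | monomial k r ih =>
    have h : Polynomial.aeval z (Polynomial.C r * Polynomial.X ^ (k + 1)) =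
        Polynomial.aeval z (Polynomial.C r * Polynomial.X ^ k) * z := by
      simp only [map_mul, map_pow, Polynomial.aeval_X, Polynomial.aeval_C, pow_succ, mul_assoc]
    rw [h, mul_smul, ih, hz, mul_assoc]

/-- The `A`-linear map attached to an `R`-linear functional. -/
def psi (hzn : z ^ n = 0) (H3 : ∀ a : A, ∃ p : Polynomial R, a = Polynomial.aeval z p)
    (g : M →ₗ[R] R) : M →ₗ[A] A where
  toFun := psi0 z n g
  map_add' := (psi0 z n g).map_add
  map_smul' a m := by
    simpa using lin_of_z z H3 (psi0 z n g) (psi0_z z n hzn g) a m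

theorem eps_psi0 (H4 : ∀ j < n, ε (z ^ j) = if j = n - 1 then 1 else 0) (hn : 1 ≤ n)
    (g : M →ₗ[R] R) (m : M) : ε (psi0 z n g m) = g m := by
  rw [psi0_apply, map_sum]
  simp only [map_smul, smul_eq_mul]
  rw [Finset.sum_eq_single 0]
  · rw [H4 (n - 1 - 0) (by omega), if_pos (by omega), mul_one, pow_zero, one_smul]
  · intro k hk hk0
    have hk' := Finset.mem_range.1 hk
    rw [H4 (n - 1 - k) (by omega), if_neg (by omega), mul_zero]
  · intro h
    exact absurd (Finset.mem_range.2 (by omega)) h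

theorem phi_inj (H1 : ∀ a : A, (∀ k < n, ε (z ^ k * a) = 0) → a = 0) (f f' : M →ₗ[A] A)
    (h : ∀ m, ε (f m) = ε (f' m)) : f = f' := by
  ext m
  apply sub_eq_zero.1
  apply H1
  intro k hk
  rw [mul_sub, map_sub, sub_eq_zero, ← smul_eq_mul, ← smul_eq_mul, ← f.map_smul, ← f'.map_smul]
  exact h _

theorem refl_of_refl (hn : 1 ≤ n) (hzn : z ^ n = 0)
    (H1 : ∀ a : A, (∀ k < n, ε (z ^ k * a) = 0) → a = 0)
    (H3 : ∀ a : A, ∃ p : Polynomial R, a = Polynomial.aeval z p)
    (H4 : ∀ j < n, ε (z ^ j) = if j = n - 1 then 1 else 0)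
    (hR : Function.Bijective (Module.Dual.eval R M)) :
    Function.Bijective (Module.Dual.eval A M) := by
  have hΦΨ : ∀ (g : M →ₗ[R] R) (m : M), ε (psi z n hzn H3 g m) = g m :=
    fun g m => eps_psi0 z n ε H4 hn g m
  constructor
  · -- injective
    rw [injective_iff_map_eq_zero]
    intro m hm
    apply hR.1
    rw [map_zero]
    ext g
    rw [Module.Dual.eval_apply, LinearMap.zero_apply, ← hΦΨ g m]
    have : Module.Dual.eval A M m (psi z n hzn H3 g) = 0 := by rw [hm]; rfl
    rw [Module.Dual.eval_apply] at this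
    rw [this, map_zero]
  · -- surjective
    intro ξ
    have hadd : ∀ g g' : M →ₗ[R] R, psi z n hzn H3 (g + g') =
        psi z n hzn H3 g + psi z n hzn H3 g' := by
      intro g g'
      apply phi_inj z n ε H1
      intro m
      rw [hΦΨ, LinearMap.add_apply, LinearMap.add_apply, map_add, hΦΨ, hΦΨ]
    have hsmul : ∀ (r : R) (g : M →ₗ[R] R), psi z n hzn H3 (r • g) =
        algebraMap R A r • psi z n hzn H3 g := by
      intro r g
      apply phi_inj z n ε H1
      intro m
      rw [hΦΨ, LinearMap.smul_apply, LinearMap.smul_apply, smul_eq_mul, smul_eq_mul,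
        ← Algebra.smul_def, map_smul, hΦΨ, smul_eq_mul]
    let η : Module.Dual R (Module.Dual R M) :=
      { toFun := fun g => ε (ξ (psi z n hzn H3 g))
        map_add' := fun g g' => by rw [hadd, map_add, map_add]
        map_smul' := fun r g => by
          rw [hsmul, map_smul, smul_eq_mul, ← Algebra.smul_def, map_smul, RingHom.id_apply] }
    obtain ⟨m, hm⟩ := hR.2 η
    refine ⟨m, ?_⟩
    ext f
    rw [Module.Dual.eval_apply]
    apply sub_eq_zero.1
    apply H1
    intro k hk
    rw [mul_sub, map_sub, sub_eq_zero]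
    -- ε (z^k * f m) = ε (z^k * ξ f)
    have hf : (z ^ k • f) = psi z n hzn H3 (ε.comp ((z ^ k • f).restrictScalars R)) := by
      apply phi_inj z n ε H1
      intro m'
      rw [hΦΨ]; rfl
    have h1 : z ^ k * ξ f = ξ (z ^ k • f) := by rw [map_smul, smul_eq_mul]
    rw [h1, hf]
    have h2 : ε (ξ (psi z n hzn H3 (ε.comp ((z ^ k • f).restrictScalars R)))) =
        η (ε.comp ((z ^ k • f).restrictScalars R)) := rfl
    rw [h2, ← hm, Module.Dual.eval_apply]
    rfl

theorem torsionFree_of_inj [IsDomain R]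
    (H6 : ∀ r : R, r ≠ 0 → ∀ a : A, r • a = 0 → a = 0)
    (hA : Function.Injective (Module.Dual.eval A M)) : Module.IsTorsionFree R M := by
  rw [Module.isTorsionFree_iff_smul_eq_zero]
  intro r m hrm
  by_cases hr : r = 0
  · exact Or.inl hr
  · right
    apply hA
    rw [map_zero]
    ext f
    rw [Module.Dual.eval_apply, LinearMap.zero_apply]
    apply H6 r hr
    rw [← algebraMap_smul A r (f m), ← f.map_smul, algebraMap_smul, hrm, map_zero]


theorem lin_of_z' {P : Type*} [AddCommGroup P] [Module A P] [Module R P] [IsScalarTower R A P]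
    (H3 : ∀ a : A, ∃ p : Polynomial R, a = Polynomial.aeval z p)
    (f₀ : M →ₗ[R] P) (hz : ∀ m, f₀ (z • m) = z • f₀ m) (a : A) (m : M) :
    f₀ (a • m) = a • f₀ m := by
  obtain ⟨p, rfl⟩ := H3 a
  induction p using Polynomial.induction_on generalizing m with
  | C r => rw [Polynomial.aeval_C, algebraMap_smul, map_smul, algebraMap_smul]
  | add p q hp hq => rw [map_add, add_smul, map_add, hp, hq, add_smul]
  | monomial k r ih =>
    have h : Polynomial.aeval z (Polynomial.C r * Polynomial.X ^ (k + 1)) =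
        Polynomial.aeval z (Polynomial.C r * Polynomial.X ^ k) * z := by
      simp only [map_mul, map_pow, Polynomial.aeval_X, Polynomial.aeval_C, pow_succ, mul_assoc]
    rw [h, mul_smul, ih, hz, mul_smul]

theorem dual_surj {M' M'' : Type*} [AddCommGroup M'] [Module A M'] [Module R M']
    [IsScalarTower R A M'] [AddCommGroup M''] [Module A M''] [Module R M'']
    [IsScalarTower R A M''] [Module.Projective R M'']
    (hn : 1 ≤ n) (hzn : z ^ n = 0)
    (H1 : ∀ a : A, (∀ k < n, ε (z ^ k * a) = 0) → a = 0)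
    (H3 : ∀ a : A, ∃ p : Polynomial R, a = Polynomial.aeval z p)
    (H4 : ∀ j < n, ε (z ^ j) = if j = n - 1 then 1 else 0)
    (f : M' →ₗ[A] M) (g : M →ₗ[A] M'') (hf : Function.Injective f) (hg : Function.Surjective g)
    (hfg : LinearMap.range f = LinearMap.ker g) : Function.Surjective f.dualMap := by
  have hex : Function.Exact (f.restrictScalars R) (g.restrictScalars R) := by
    intro y
    show g y = 0 ↔ y ∈ Set.range f
    rw [← LinearMap.mem_ker, ← hfg]
    exact Iff.rfl
  obtain ⟨s, hs⟩ := Module.projective_lifting_property (g.restrictScalars R) LinearMap.id hg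
  have h01 : (∃ l, (g.restrictScalars R) ∘ₗ l = LinearMap.id) ↔
      (∃ l, l ∘ₗ (f.restrictScalars R) = LinearMap.id) := (hex.split_tfae hf hg).out 0 1
  obtain ⟨ρ, hρ⟩ := h01.1 ⟨s, hs⟩
  intro φ'
  let G : M →ₗ[R] R := ε.comp ((φ'.restrictScalars R).comp ρ)
  refine ⟨psi z n hzn H3 G, ?_⟩
  apply phi_inj z n ε H1
  intro m'
  rw [LinearMap.dualMap_apply]
  have h1 : ε (psi z n hzn H3 G (f m')) = G (f m') := eps_psi0 z n ε H4 hn G (f m')
  rw [h1]
  have h2 : ρ (f m') = m' := LinearMap.congr_fun hρ m'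
  show ε (φ' (ρ (f m'))) = ε (φ' m')
  rw [h2]

end General

section Concrete
open Polynomial
variable (R : Type*) [CommRing R] (n : ℕ)

theorem ker_le (hn : 1 ≤ n) :
    ((Ideal.span {(X : R[X]) ^ n}).restrictScalars R) ≤
      LinearMap.ker (Polynomial.lcoeff R (n - 1)) := by
  intro p hp
  rw [Submodule.restrictScalars_mem, Ideal.mem_span_singleton] at hp
  obtain ⟨q, rfl⟩ := hp
  have hn1 : ¬ (n ≤ n - 1) := by omega
  rw [LinearMap.mem_ker, Polynomial.lcoeff_apply, Polynomial.coeff_X_pow_mul', if_neg hn1]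

/-- The `R`-linear functional `coeff_{n-1}` on `R[X]/(X^n)`. -/
noncomputable def eps (hn : 1 ≤ n) : MultCrv.Rn R n →ₗ[R] R :=
  (Submodule.liftQ ((Ideal.span {(X : R[X]) ^ n}).restrictScalars R)
    (Polynomial.lcoeff R (n - 1)) (ker_le R n hn)).comp
      (Submodule.Quotient.restrictScalarsEquiv R (Ideal.span {(X : R[X]) ^ n})).symm.toLinearMap

theorem eps_mk (hn : 1 ≤ n) (p : R[X]) :
    eps R n hn (Ideal.Quotient.mk (Ideal.span {(X : R[X]) ^ n}) p) = p.coeff (n - 1) := rfl

theorem mk_eq_zero_iff (p : R[X]) :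
    Ideal.Quotient.mk (Ideal.span {(X : R[X]) ^ n}) p = 0 ↔ ∀ d < n, p.coeff d = 0 := by
  rw [Ideal.Quotient.eq_zero_iff_mem, Ideal.mem_span_singleton, Polynomial.X_pow_dvd_iff]

theorem z_def : MultCrv.z R n = Ideal.Quotient.mk (Ideal.span {(X : R[X]) ^ n}) X := rfl

theorem z_pow_n : MultCrv.z R n ^ n = 0 := by
  rw [z_def, ← map_pow]
  exact Ideal.Quotient.eq_zero_iff_mem.2 (Ideal.mem_span_singleton_self _)

theorem H3 : ∀ a : MultCrv.Rn R n, ∃ p : R[X], a = Polynomial.aeval (MultCrv.z R n) p := by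
  intro a
  obtain ⟨p, rfl⟩ := Ideal.Quotient.mk_surjective a
  refine ⟨p, ?_⟩
  have h := Polynomial.aeval_algHom_apply
    (Ideal.Quotient.mkₐ R (Ideal.span {(X : R[X]) ^ n})) Polynomial.X p
  rw [Polynomial.aeval_X_left_apply, Ideal.Quotient.mkₐ_eq_mk] at h
  rw [z_def, h]

theorem H4 (hn : 1 ≤ n) :
    ∀ j < n, eps R n hn (MultCrv.z R n ^ j) = if j = n - 1 then 1 else 0 := by
  intro j hj
  rw [z_def, ← map_pow, eps_mk, Polynomial.coeff_X_pow]
  by_cases h : j = n - 1
  · rw [if_pos h, if_pos h.symm]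
  · rw [if_neg h, if_neg (Ne.symm h)]

theorem H1 (hn : 1 ≤ n) : ∀ a : MultCrv.Rn R n,
    (∀ k < n, eps R n hn (MultCrv.z R n ^ k * a) = 0) → a = 0 := by
  intro a ha
  obtain ⟨p, rfl⟩ := Ideal.Quotient.mk_surjective a
  rw [mk_eq_zero_iff]
  intro d hd
  have h := ha (n - 1 - d) (by omega)
  rw [z_def, ← map_pow, ← map_mul, eps_mk, Polynomial.coeff_X_pow_mul', if_pos (by omega)] at h
  have e : n - 1 - (n - 1 - d) = d := by omega
  rwa [e] at h

theorem H6 [IsDomain R] : ∀ r : R, r ≠ 0 → ∀ a : MultCrv.Rn R n, r • a = 0 → a = 0 := by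
  intro r hr a ha
  obtain ⟨p, rfl⟩ := Ideal.Quotient.mk_surjective a
  rw [mk_eq_zero_iff]
  intro d hd
  have h1 : r • (Ideal.Quotient.mk (Ideal.span {(X : R[X]) ^ n}) p) =
      Ideal.Quotient.mk _ (r • p) := rfl
  rw [h1, mk_eq_zero_iff] at ha
  have h2 := ha d hd
  rw [Polynomial.coeff_smul, smul_eq_mul] at h2
  exact (mul_eq_zero.1 h2).resolve_left hr

instance instTF [IsDomain R] : Module.IsTorsionFree R (MultCrv.Rn R n) := by
  rw [Module.isTorsionFree_iff_smul_eq_zero]
  intro r a h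
  by_cases hr : r = 0
  · exact Or.inl hr
  · exact Or.inr (H6 R n r hr a h)

instance instFin : Module.Finite R (MultCrv.Rn R n) :=
  (Polynomial.monic_X_pow (R := R) n).finite_adjoinRoot

end Concrete

end Groth.Agent.Lib.Helper25.MultCrvDual
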