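import Mathlib
import Groth.Agent.Lib.Helper25.MultCrvDual

/-!
# Ext over `A = R[X]/(X^n)`, `R` a DVR (helper25)
-/

set_option autoImplicit false
set_option linter.unusedSectionVars false
universe u
open CategoryTheory Abelian

namespace Groth.Agent.Lib.Helper25.MultCrvExt
open Groth.Agent.Lib.Helper25.MultCrvDual MultCrv

variable (R : Type u) [CommRing R] [IsDomain R] [IsDiscreteValuationRing R] (n : ℕ)

theorem tf_sub {F : Type*} [AddCommGroup F] [Module (Rn R n) F] [Module R F]
    [IsScalarTower R (Rn R n) F] [Module.IsTorsionFree R F] (K : Submodule (Rn R n) F) :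
    Module.IsTorsionFree R K :=
  Function.Injective.moduleIsTorsionFree (fun k : K => (k : F)) Subtype.coe_injective
    (fun _ _ => rfl)

theorem dualMap_surj (hn : 1 ≤ n) {M' M M'' : Type*} [AddCommGroup M'] [Module (Rn R n) M']
    [Module R M'] [IsScalarTower R (Rn R n) M'] [AddCommGroup M] [Module (Rn R n) M] [Module R M]
    [IsScalarTower R (Rn R n) M] [AddCommGroup M''] [Module (Rn R n) M''] [Module R M'']
    [IsScalarTower R (Rn R n) M''] [Module.Finite (Rn R n) M''] [Module.IsTorsionFree R M'']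
    (f : M' →ₗ[Rn R n] M) (g : M →ₗ[Rn R n] M'') (hf : Function.Injective f)
    (hg : Function.Surjective g) (hfg : LinearMap.range f = LinearMap.ker g) :
    Function.Surjective f.dualMap := by
  haveI : Module.Finite R M'' := Module.Finite.trans (Rn R n) M''
  haveI : Module.Free R M'' := Module.free_of_finite_type_torsion_free'
  exact dual_surj (z R n) n (eps R n hn) hn (z_pow_n R n) (H1 R n hn) (H3 R n) (H4 R n hn)
    f g hf hg hfg

section pres
variable (M : Type u) [AddCommGroup M] [Module (Rn R n) M] [Module.Finite (Rn R n) M]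

/-- number of generators in the chosen presentation -/
noncomputable def presRank : ℕ := (Module.Finite.exists_fin' (Rn R n) M).choose

/-- chosen surjection from a free module -/
noncomputable def pres : (Fin (presRank R n M) → Rn R n) →ₗ[Rn R n] M :=
  (Module.Finite.exists_fin' (Rn R n) M).choose_spec.choose

theorem pres_surj : Function.Surjective (pres R n M) :=
  (Module.Finite.exists_fin' (Rn R n) M).choose_spec.choose_spec

/-- kernel of the chosen presentation -/
noncomputable abbrev presKer : Submodule (Rn R n) (Fin (presRank R n M) → Rn R n) :=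
  LinearMap.ker (pres R n M)

instance : Module.IsTorsionFree R (presKer R n M) := tf_sub R n _

instance : Module.Finite (Rn R n) (presKer R n M) := inferInstance

instance : Projective (ModuleCat.of (Rn R n) (Fin (presRank R n M) → Rn R n)) :=
  (IsProjective.iff_projective (Fin (presRank R n M) → Rn R n)).1 inferInstance

theorem ext_shift (Y : ModuleCat.{u} (Rn R n)) (j : ℕ)
    (x : Ext (ModuleCat.of (Rn R n) M) Y (j + 1 + 1)) :
    ∃ x₁ : Ext (ModuleCat.of (Rn R n) (presKer R n M)) Y (j + 1),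
      (LinearMap.shortExact_shortComplexKer (pres_surj R n M)).extClass.comp x₁
        (show 1 + (j + 1) = j + 1 + 1 by omega) = x := by
  have hS := LinearMap.shortExact_shortComplexKer (pres_surj R n M)
  haveI : Projective (pres R n M).shortComplexKer.X₂ :=
    (IsProjective.iff_projective (Fin (presRank R n M) → Rn R n)).1 inferInstance
  have h0 : (Ext.mk₀ (pres R n M).shortComplexKer.g).comp x (zero_add (j + 1 + 1)) = 0 :=
    Ext.eq_zero_of_projective _
  exact Ext.contravariant_sequence_exact₃ hS Y x h0 (show 1 + (j + 1) = j + 1 + 1 by omega)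

end pres

theorem ext_self_eq_zero (hn : 1 ≤ n) (i : ℕ) :
    ∀ (M : Type u) [AddCommGroup M] [Module (Rn R n) M] [Module R M]
      [IsScalarTower R (Rn R n) M] [Module.Finite (Rn R n) M] [Module.IsTorsionFree R M]
      (x : Ext (ModuleCat.of (Rn R n) M) (ModuleCat.of (Rn R n) (Rn R n)) (i + 1)), x = 0 := by
  induction i with
  | zero =>
    intro M _ _ _ _ _ _ x
    have hS := LinearMap.shortExact_shortComplexKer (pres_surj R n M)
    haveI : Projective (pres R n M).shortComplexKer.X₂ :=
      (IsProjective.iff_projective (Fin (presRank R n M) → Rn R n)).1 inferInstance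
    have h0 : (Ext.mk₀ (pres R n M).shortComplexKer.g).comp x (zero_add (0 + 1)) = 0 :=
      Ext.eq_zero_of_projective _
    obtain ⟨x₁, hx₁⟩ := Ext.contravariant_sequence_exact₃ hS _ x h0
      (show 1 + 0 = 0 + 1 by omega)
    obtain ⟨φ, rfl⟩ := (Ext.mk₀_bijective _ _).2 x₁
    obtain ⟨ψ, hψ⟩ := dualMap_surj R n hn (presKer R n M).subtype (pres R n M)
      (Submodule.injective_subtype _) (pres_surj R n M) (by rw [Submodule.range_subtype]) φ.hom
    have hφ : φ = (pres R n M).shortComplexKer.f ≫ ModuleCat.ofHom ψ := by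
      apply ModuleCat.hom_ext
      rw [← hψ]
      rfl
    rw [← hx₁, hφ, ← Ext.mk₀_comp_mk₀]
    exact hS.extClass_comp_assoc _
  | succ i ih =>
    intro M _ _ _ _ _ _ x
    obtain ⟨x₁, hx₁⟩ := ext_shift R n M _ i x
    have h1 : x₁ = 0 := ih (presKer R n M) x₁
    rw [← hx₁, h1, Ext.comp_zero]

/-- `z^(n-1) : M → M` factors through a free module when `M` is `R`-torsion-free. -/
theorem zpow_factor (M : Type*) [AddCommGroup M] [Module (Rn R n) M] [Module R M]
    [IsScalarTower R (Rn R n) M] [Module.Finite (Rn R n) M] [Module.IsTorsionFree R M] :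
    ∃ (ρ : ℕ) (α : M →ₗ[Rn R n] (Fin ρ → Rn R n)) (β : (Fin ρ → Rn R n) →ₗ[Rn R n] M),
      ∀ m, β (α m) = (z R n ^ (n - 1)) • m := by
  classical
  by_cases hn : 1 ≤ n
  swap
  · -- n = 0: the ring is trivial
    have hn0 : n = 0 := by omega
    have h1 : (1 : Rn R n) = 0 := by
      have := z_pow_n R n
      rw [hn0, pow_zero] at this
      rw [hn0]
      exact this
    refine ⟨0, 0, 0, fun m => ?_⟩
    have h2 : (z R n ^ (n - 1)) • m = 0 := by
      rw [← one_smul (Rn R n) ((z R n ^ (n - 1)) • m), h1]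
      exact zero_smul (Rn R n) ((z R n ^ (n - 1)) • m)
    rw [LinearMap.zero_apply, h2]
  haveI : Module.Finite R M := Module.Finite.trans (Rn R n) M
  let T : M →ₗ[R] M := (LinearMap.lsmul (Rn R n) M (z R n ^ (n - 1))).restrictScalars R
  have hT : ∀ m, T m = (z R n ^ (n - 1)) • m := fun m => rfl
  haveI : Module.Finite R (LinearMap.range T) := Module.Finite.range T
  obtain ⟨ρ, b⟩ := Module.basisOfFiniteTypeTorsionFree' (R := R) (M := LinearMap.range T)
  have hlift : ∀ j, ∃ m : M, T m = (b j : M) := fun j => (b j).2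
  choose mj hmj using hlift
  let lam : Fin ρ → (M →ₗ[R] R) := fun j => (b.coord j).comp T.rangeRestrict
  have hlam : ∀ m, ∑ j, lam j m • (b j : M) = (z R n ^ (n - 1)) • m := by
    intro m
    have h1 := b.sum_repr (T.rangeRestrict m)
    have h2 := congrArg (Subtype.val) h1
    rw [← hT m]
    rw [AddSubmonoidClass.coe_finset_sum] at h2
    exact h2
  have hnn : n - 1 + 1 = n := by omega
  have hlamz : ∀ j m, lam j (z R n • m) = 0 := by
    intro j m
    have h0 : T.rangeRestrict (z R n • m) = 0 := by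
      apply Subtype.ext
      show (z R n ^ (n - 1)) • (z R n • m) = 0
      rw [smul_smul, ← pow_succ, hnn, z_pow_n]
      exact zero_smul (Rn R n) m
    show b.coord j (T.rangeRestrict (z R n • m)) = 0
    rw [h0, map_zero]
  let α₀ : Fin ρ → (M →ₗ[R] Rn R n) := fun j =>
    (LinearMap.toSpanSingleton R (Rn R n) (z R n ^ (n - 1))).comp (lam j)
  have hα₀ : ∀ j m, α₀ j m = lam j m • (z R n ^ (n - 1)) := fun j m => rfl
  have hα₀z : ∀ j m, α₀ j (z R n • m) = z R n • α₀ j m := by
    intro j m
    rw [hα₀, hα₀, hlamz, zero_smul, smul_comm, smul_eq_mul, ← pow_succ', hnn, z_pow_n]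
    exact (smul_zero (lam j m)).symm
  let α' : Fin ρ → (M →ₗ[Rn R n] Rn R n) := fun j =>
    { toFun := α₀ j
      map_add' := (α₀ j).map_add
      map_smul' := fun a m => lin_of_z' (z R n) (H3 R n) (α₀ j) (hα₀z j) a m }
  refine ⟨ρ, LinearMap.pi α', Fintype.linearCombination (Rn R n) mj, fun m => ?_⟩
  rw [Fintype.linearCombination_apply, ← hlam m]
  refine Finset.sum_congr rfl fun j _ => ?_
  show (lam j m • (z R n ^ (n - 1))) • mj j = lam j m • (b j : M)
  rw [smul_assoc, ← hmj j, hT]

theorem smul_eq_mk₀_comp' {X Y : ModuleCat.{u} (Rn R n)} {k : ℕ} (r : Rn R n) (x : Ext X Y k) :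
    r • x = (Ext.mk₀ (r • 𝟙 X)).comp x (zero_add k) := by
  have h : Ext.mk₀ (r • 𝟙 X) = r • Ext.mk₀ (𝟙 X) := Ext.mk₀_smul (R := Rn R n) r (𝟙 X)
  rw [h, Ext.smul_comp, Ext.mk₀_id_comp]

theorem zpow_smul_ext_eq_zero (M : Type u) [AddCommGroup M] [Module (Rn R n) M] [Module R M]
    [IsScalarTower R (Rn R n) M] [Module.Finite (Rn R n) M] [Module.IsTorsionFree R M]
    (N : ModuleCat.{u} (Rn R n)) (j : ℕ) (x : Ext (ModuleCat.of (Rn R n) M) N (j + 1)) :
    (z R n ^ (n - 1)) • x = 0 := by
  obtain ⟨ρ, α, β, hβα⟩ := zpow_factor R n M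
  have key : (z R n ^ (n - 1)) • 𝟙 (ModuleCat.of (Rn R n) M) =
      ModuleCat.ofHom α ≫ ModuleCat.ofHom β := by
    apply ModuleCat.hom_ext
    apply LinearMap.ext
    intro m
    exact (hβα m).symm
  haveI : Projective (ModuleCat.of (Rn R n) (Fin ρ → Rn R n)) :=
    (IsProjective.iff_projective _).1 inferInstance
  have h0 : (Ext.mk₀ (ModuleCat.ofHom β)).comp x (zero_add (j + 1)) = 0 :=
    Ext.eq_zero_of_projective _
  rw [smul_eq_mk₀_comp', key, ← Ext.mk₀_comp_mk₀_assoc, h0, Ext.comp_zero]

section pres2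
variable (M : Type u) [AddCommGroup M] [Module (Rn R n) M] [Module.Finite (Rn R n) M]

theorem extend_of_ext_one
    (h : Subsingleton (Ext (ModuleCat.of (Rn R n) M) (ModuleCat.of (Rn R n) (Rn R n)) 1)) :
    ∀ φ : presKer R n M →ₗ[Rn R n] Rn R n,
      ∃ ψ : (Fin (presRank R n M) → Rn R n) →ₗ[Rn R n] Rn R n,
        ∀ k : presKer R n M, ψ k = φ k := by
  intro φ
  have hS := LinearMap.shortExact_shortComplexKer (pres_surj R n M)
  obtain ⟨x₂, hx₂⟩ := Ext.contravariant_sequence_exact₁ hS (ModuleCat.of (Rn R n) (Rn R n))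
    (Ext.mk₀ (ModuleCat.ofHom φ)) (show 1 + 0 = 1 by rfl) (h.elim _ _)
  obtain ⟨ψ, rfl⟩ := (Ext.mk₀_bijective _ _).2 x₂
  rw [Ext.mk₀_comp_mk₀] at hx₂
  have h1 := (Ext.mk₀_bijective _ _).1 hx₂
  refine ⟨ψ.hom, fun k => ?_⟩
  have h2 := congrArg (fun t => t.hom k) h1
  exact h2

theorem tf_of_extend (hn : 1 ≤ n) [Module R M] [IsScalarTower R (Rn R n) M]
    (hext : ∀ φ : presKer R n M →ₗ[Rn R n] Rn R n,
      ∃ ψ : (Fin (presRank R n M) → Rn R n) →ₗ[Rn R n] Rn R n,
        ∀ k : presKer R n M, ψ k = φ k) : Module.IsTorsionFree R M := by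
  classical
  have hextR : ∀ g : presKer R n M →ₗ[R] R, ∃ G : (Fin (presRank R n M) → Rn R n) →ₗ[R] R,
      ∀ k : presKer R n M, G k = g k := by
    intro g
    obtain ⟨ψ, hψ⟩ := hext (psi (z R n) n (z_pow_n R n) (H3 R n) g)
    refine ⟨(eps R n hn).comp (ψ.restrictScalars R), fun k => ?_⟩
    show eps R n hn (ψ k) = g k
    rw [hψ]
    exact eps_psi0 (z R n) n (eps R n hn) (H4 R n hn) hn g k
  haveI : Module.Finite R (presKer R n M) := Module.Finite.trans (Rn R n) (presKer R n M)
  obtain ⟨ρ, b⟩ := Module.basisOfFiniteTypeTorsionFree' (R := R) (M := presKer R n M)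
  rw [Module.isTorsionFree_iff_smul_eq_zero]
  intro r m hrm
  by_cases hr : r = 0
  · exact Or.inl hr
  right
  obtain ⟨x, rfl⟩ := pres_surj R n M m
  have hy : r • x ∈ presKer R n M := by
    show pres R n M (r • x) = 0
    rw [LinearMap.map_smul_of_tower]
    exact hrm
  choose G hG using fun j => hextR (b.coord j)
  let k : presKer R n M := ∑ j, G j x • b j
  have hk : r • k = ⟨r • x, hy⟩ := by
    rw [← b.sum_repr ⟨r • x, hy⟩, Finset.smul_sum]
    refine Finset.sum_congr rfl fun j _ => ?_
    rw [smul_smul]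
    congr 1
    have h1 := hG j ⟨r • x, hy⟩
    rw [Module.Basis.coord_apply] at h1
    rw [← h1]
    show r * G j x = G j (r • x)
    rw [map_smul, smul_eq_mul]
  have hxk : x = (k : Fin (presRank R n M) → Rn R n) := by
    have h1 : r • x = r • (k : Fin (presRank R n M) → Rn R n) := by
      have h2 := congrArg (Subtype.val) hk
      exact h2.symm
    exact (smul_right_injective (Fin (presRank R n M) → Rn R n) hr) h1
  rw [hxk]
  exact k.2

end pres2

end Groth.Agent.Lib.Helper25.MultCrvExt
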