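import Mathlib
import Groth.Prelude.Def_W4c5qllcourbesmultMultCrv
import Groth.Agent.Lib.Helper25.MultCrvDual

/-!
# `G_i(M)` free for all `i` iff `Γ^(i)(M)` free for all `i` over `R[X]/(X^n)` (helper25)

Core: elementwise saturation argument for a module with commuting actions of `R` and of `z`.
-/

set_option autoImplicit false
set_option linter.unusedSectionVars false
set_option linter.style.haveILetI false
universe u

namespace Groth.Agent.Lib.Helper25.MultCrvGam

section Core

variable {R A M : Type*} [CommRing R] [CommRing A] [AddCommGroup M] [Module A M] [Module R M]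
  [SMulCommClass R A M] [SMulCommClass A R M] (z : A)

/-- the elementwise form of torsion-freeness of `Γ^(j)` -/
def EGam (j : ℕ) : Prop :=
  ∀ r : R, r ≠ 0 → ∀ u a v : M, z ^ (j + 1) • u = 0 → z ^ j • a = 0 → z ^ (j + 2) • v = 0 →
    r • u = a + z • v → ∃ a' v' : M, z ^ j • a' = 0 ∧ z ^ (j + 2) • v' = 0 ∧ u = a' + z • v'

/-- the elementwise form of torsion-freeness of `G_i` -/
def EG (i : ℕ) : Prop :=
  ∀ r : R, r ≠ 0 → ∀ y w : M, r • (z ^ i • y) = z ^ (i + 1) • w →
    ∃ w' : M, z ^ i • y = z ^ (i + 1) • w'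

variable {z}

theorem S_aux (hΓ : ∀ j, EGam (R := R) (M := M) z j) :
    ∀ i j : ℕ, ∀ r : R, r ≠ 0 → ∀ w a v : M, z ^ (j + 1) • w = 0 → z ^ j • a = 0 →
      z ^ (i + j + 1) • v = 0 → r • w = a + z ^ i • v →
      ∃ a' v' : M, z ^ j • a' = 0 ∧ z ^ (i + j + 1) • v' = 0 ∧ w = a' + z ^ i • v' := by
  intro i
  induction i with
  | zero =>
    intro j r hr w a v hw ha hv hrw
    refine ⟨0, w, smul_zero _, ?_, by simp⟩
    rw [zero_add]; exact hw
  | succ i ih =>
    intro j r hr w a v hw ha hv hrw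
    have hv₁ : z ^ (j + 2) • (z ^ i • v) = 0 := by
      rw [← mul_smul, ← pow_add]
      have e : j + 2 + i = i + 1 + j + 1 := by omega
      rw [e]; exact hv
    have hrw' : r • w = a + z • (z ^ i • v) := by
      rw [hrw, ← mul_smul, ← pow_succ']
    obtain ⟨a', v₂, ha', hv₂, hw'⟩ := hΓ j r hr w a (z ^ i • v) hw ha hv₁ hrw'
    have hzb : z • (r • v₂ - z ^ i • v) = a - r • a' := by
      have h1 : z • v₂ = w - a' := by rw [hw']; abel
      have h2 : z • (z ^ i • v) = r • w - a := by rw [hrw']; abel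
      rw [smul_sub, smul_comm z r v₂, h1, h2, smul_sub]; abel
    have hb₀ : z ^ (j + 1) • (r • v₂ - z ^ i • v) = 0 := by
      rw [pow_succ, mul_smul, hzb, smul_sub, ha, smul_comm, ha', smul_zero, sub_zero]
    have hv' : z ^ (i + (j + 1) + 1) • v = 0 := by
      have e : i + (j + 1) + 1 = i + 1 + j + 1 := by omega
      rw [e]; exact hv
    obtain ⟨b, v₃, hb, hv₃, hv₂eq⟩ := ih (j + 1) r hr v₂ (r • v₂ - z ^ i • v) v hv₂ hb₀ hv'
      (by abel)
    refine ⟨a' + z • b, v₃, ?_, ?_, ?_⟩
    · rw [smul_add, ha', zero_add, ← mul_smul, ← pow_succ, hb]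
    · have e : i + 1 + j + 1 = i + (j + 1) + 1 := by omega
      rw [e]; exact hv₃
    · rw [hw', hv₂eq, smul_add, ← mul_smul, ← pow_succ', add_assoc]

theorem Sat (hΓ : ∀ j, EGam (R := R) (M := M) z j) (i : ℕ) :
    ∀ j : ℕ, ∀ r : R, r ≠ 0 → ∀ u v : M, z ^ j • u = 0 → r • u = z ^ i • v →
      ∃ v' : M, u = z ^ i • v' := by
  intro j
  induction j with
  | zero =>
    intro r hr u v hu huv
    rw [pow_zero, one_smul] at hu
    exact ⟨0, by rw [hu, smul_zero]⟩
  | succ j ih =>
    intro r hr u v hu huv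
    have hv : z ^ (i + j + 1) • v = 0 := by
      have e : i + j + 1 = (j + 1) + i := by omega
      rw [e, pow_add, mul_smul, ← huv, smul_comm, hu, smul_zero]
    obtain ⟨a, v', ha, hv', hu_eq⟩ := S_aux hΓ i j r hr u 0 v hu (smul_zero _) hv
      (by rw [zero_add]; exact huv)
    have hra : r • a = z ^ i • (v - r • v') := by
      have h1 : a = u - z ^ i • v' := by rw [hu_eq]; abel
      rw [h1, smul_sub, huv, smul_sub, smul_comm r (z ^ i) v']
    obtain ⟨v'', ha_eq⟩ := ih r hr a (v - r • v') ha hra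
    exact ⟨v'' + v', by rw [hu_eq, ha_eq, smul_add]⟩

theorem EG_of_EGam {n : ℕ} (hzn : z ^ n = 0) (hΓ : ∀ j, EGam (R := R) (M := M) z j) (i : ℕ) :
    EG (R := R) (M := M) z i := by
  intro r hr y w h
  exact Sat hΓ (i + 1) n r hr (z ^ i • y) w (by rw [hzn, zero_smul]) h

theorem EGam_of_EG (i : ℕ) (hG : EG (R := R) (M := M) z i) : EGam (R := R) (M := M) z i := by
  intro r hr u a v hu ha hv h
  have h1 : r • (z ^ i • u) = z ^ (i + 1) • v := by
    rw [smul_comm, h, smul_add, ha, zero_add, ← mul_smul, ← pow_succ]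
  obtain ⟨w', hw'⟩ := hG r hr u v h1
  refine ⟨u - z • w', w', ?_, ?_, by abel⟩
  · rw [smul_sub, hw', ← mul_smul, ← pow_succ, sub_self]
  · have e : z ^ (i + 2) = z * z ^ (i + 1) := by rw [← pow_succ']
    rw [e, mul_smul, ← hw', ← mul_smul, ← pow_succ', hu]

theorem EGam_of_le {n : ℕ} (hzn : z ^ n = 0) (j : ℕ) (hj : n ≤ j) :
    EGam (R := R) (M := M) z j := by
  intro r hr u a v hu ha hv h
  have hzj : z ^ j = 0 := by
    obtain ⟨k, rfl⟩ := Nat.exists_eq_add_of_le hj
    rw [pow_add, hzn, zero_mul]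
  exact ⟨u, 0, by rw [hzj, zero_smul], smul_zero _, by rw [smul_zero, add_zero]⟩

/-- The core equivalence. -/
theorem core {n : ℕ} (hzn : z ^ n = 0) :
    (∀ i < n, EG (R := R) (M := M) z i) ↔ (∀ i < n, EGam (R := R) (M := M) z i) := by
  constructor
  · intro h i hi
    exact EGam_of_EG i (h i hi)
  · intro h i _
    refine EG_of_EGam hzn (fun j => ?_) i
    by_cases hj : j < n
    · exact h j hj
    · exact EGam_of_le hzn j (by omega)

end Core

section Wrap
open MultCrv

variable (R : Type u) [CommRing R] [IsDomain R] [IsPrincipalIdealRing R] (n : ℕ)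
  (M : Type u) [AddCommGroup M] [Module (Rn R n) M] [Module R M] [IsScalarTower R (Rn R n) M]
  [Module.Finite (Rn R n) M]

theorem free_G1_iff (i : ℕ) :
    Module.Free R (G1 R n M i) ↔ EG (R := R) (M := M) (z R n) i := by
  haveI : Module.Finite R M := Module.Finite.trans (Rn R n) M
  haveI : IsNoetherian R M := isNoetherian_of_isNoetherianRing_of_finite R M
  constructor
  · intro hfree r hr y w h
    have hx : z R n ^ i • y ∈ filt R n M i := ⟨y, rfl⟩
    have h0 : r • (Submodule.Quotient.mk ⟨z R n ^ i • y, hx⟩ : G1 R n M i) = 0 := by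
      rw [← Submodule.Quotient.mk_smul, Submodule.Quotient.mk_eq_zero, Submodule.mem_comap]
      show r • (z R n ^ i • y) ∈ filt R n M (i + 1)
      rw [h]; exact ⟨w, rfl⟩
    rcases (Module.isTorsionFree_iff_smul_eq_zero.1 inferInstance) r _ h0 with h1 | h1
    · exact absurd h1 hr
    · rw [Submodule.Quotient.mk_eq_zero, Submodule.mem_comap] at h1
      obtain ⟨w', hw'⟩ := h1
      exact ⟨w', hw'.symm⟩
  · intro hG
    haveI : Module.IsTorsionFree R (G1 R n M i) := by
      rw [Module.isTorsionFree_iff_smul_eq_zero]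
      intro r c hrc
      by_cases hr : r = 0
      · exact Or.inl hr
      right
      obtain ⟨x, rfl⟩ := Submodule.Quotient.mk_surjective _ c
      obtain ⟨x₀, ⟨y, hy⟩⟩ := x
      rw [← Submodule.Quotient.mk_smul, Submodule.Quotient.mk_eq_zero, Submodule.mem_comap] at hrc
      obtain ⟨w, hw⟩ := hrc
      have hy' : z R n ^ i • y = x₀ := hy
      have hw' : z R n ^ (i + 1) • w = r • x₀ := hw
      obtain ⟨w', hw''⟩ := hG r hr y w (by rw [hy', hw'])
      rw [Submodule.Quotient.mk_eq_zero, Submodule.mem_comap]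
      exact ⟨w', by show z R n ^ (i + 1) • w' = x₀; rw [← hw'', hy']⟩
    haveI : Module.Finite R ↥(filt R n M i) :=
      Module.Finite.of_injective ((filt R n M i).subtype.restrictScalars R) Subtype.val_injective
    haveI : Module.Finite R (G1 R n M i) := Module.Finite.quotient R _
    exact Module.free_of_finite_type_torsion_free'

theorem free_Gam2_iff (i : ℕ) :
    Module.Free R (Gam2 R n M i) ↔ EGam (R := R) (M := M) (z R n) i := by
  haveI : Module.Finite R M := Module.Finite.trans (Rn R n) M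
  haveI : IsNoetherian R M := isNoetherian_of_isNoetherianRing_of_finite R M
  have key1 : ∀ (u : M) (hu : u ∈ filt2 R n M (i + 1)) (v : M) (hv : v ∈ filt2 R n M (i + 2)),
      z R n ^ i • (u - z R n • v) = 0 →
      (Submodule.Quotient.mk ⟨u, hu⟩ : G2 R n M (i + 1)) =
        lamG2 R n M i (Submodule.Quotient.mk ⟨v, hv⟩) := by
    intro u hu v hv h
    rw [lamG2, Submodule.mapQ_apply, Submodule.Quotient.eq, Submodule.mem_comap]
    show (u - z R n • v) ∈ filt2 R n M (i + 1 - 1)
    rw [filt2, Submodule.mem_torsionBy_iff]; exact h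
  have key2 : ∀ (u : M) (hu : u ∈ filt2 R n M (i + 1)) (v : M) (hv : v ∈ filt2 R n M (i + 2)),
      (Submodule.Quotient.mk ⟨u, hu⟩ : G2 R n M (i + 1)) =
        lamG2 R n M i (Submodule.Quotient.mk ⟨v, hv⟩) →
      z R n ^ i • (u - z R n • v) = 0 := by
    intro u hu v hv h
    rw [lamG2, Submodule.mapQ_apply, Submodule.Quotient.eq, Submodule.mem_comap] at h
    have h' : (u - z R n • v) ∈ filt2 R n M (i + 1 - 1) := h
    rw [filt2, Submodule.mem_torsionBy_iff] at h'; exact h'
  constructor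
  · intro hfree r hr u a v hu ha hv h
    have hu' : u ∈ filt2 R n M (i + 1) := (Submodule.mem_torsionBy_iff _ _).2 hu
    have hv' : v ∈ filt2 R n M (i + 2) := (Submodule.mem_torsionBy_iff _ _).2 hv
    have hru' : r • u ∈ filt2 R n M (i + 1) := Submodule.smul_of_tower_mem _ r hu'
    have h0 : r • (Submodule.Quotient.mk (Submodule.Quotient.mk ⟨u, hu'⟩) : Gam2 R n M i) = 0 := by
      rw [← Submodule.Quotient.mk_smul, Submodule.Quotient.mk_eq_zero]
      refine ⟨Submodule.Quotient.mk ⟨v, hv'⟩, ?_⟩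
      symm
      exact key1 (r • u) hru' v hv' (by rw [h, add_sub_cancel_right, ha])
    rcases (Module.isTorsionFree_iff_smul_eq_zero.1 inferInstance) r _ h0 with h1 | h1
    · exact absurd h1 hr
    · rw [Submodule.Quotient.mk_eq_zero] at h1
      obtain ⟨d, hd⟩ := h1
      obtain ⟨⟨v', hv''⟩, rfl⟩ := Submodule.Quotient.mk_surjective _ d
      have h2 := key2 u hu' v' hv'' hd.symm
      exact ⟨u - z R n • v', v', h2, (Submodule.mem_torsionBy_iff _ _).1 hv'', by abel⟩
  · intro hΓ
    haveI : Module.IsTorsionFree R (Gam2 R n M i) := by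
      rw [Module.isTorsionFree_iff_smul_eq_zero]
      intro r c hrc
      by_cases hr : r = 0
      · exact Or.inl hr
      right
      obtain ⟨c₁, rfl⟩ := Submodule.Quotient.mk_surjective _ c
      obtain ⟨⟨u, hu'⟩, rfl⟩ := Submodule.Quotient.mk_surjective _ c₁
      rw [← Submodule.Quotient.mk_smul, Submodule.Quotient.mk_eq_zero] at hrc
      obtain ⟨d, hd⟩ := hrc
      obtain ⟨⟨v, hv'⟩, rfl⟩ := Submodule.Quotient.mk_surjective _ d
      have hru' : r • u ∈ filt2 R n M (i + 1) := Submodule.smul_of_tower_mem _ r hu'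
      have h2 := key2 (r • u) hru' v hv' hd.symm
      obtain ⟨a', v', ha', hv'', hu_eq⟩ := hΓ r hr u (r • u - z R n • v) v
        ((Submodule.mem_torsionBy_iff _ _).1 hu') h2 ((Submodule.mem_torsionBy_iff _ _).1 hv')
        (by abel)
      rw [Submodule.Quotient.mk_eq_zero]
      refine ⟨Submodule.Quotient.mk ⟨v', (Submodule.mem_torsionBy_iff _ _).2 hv''⟩, ?_⟩
      symm
      exact key1 u hu' v' _ (by rw [hu_eq, add_sub_cancel_right, ha'])
    haveI : Module.Finite R ↥(filt2 R n M (i + 1)) :=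
      Module.Finite.of_injective ((filt2 R n M (i + 1)).subtype.restrictScalars R)
        Subtype.val_injective
    haveI : Module.Finite R (G2 R n M (i + 1)) := Module.Finite.quotient R _
    haveI : Module.Finite R (Gam2 R n M i) := Module.Finite.quotient R _
    exact Module.free_of_finite_type_torsion_free'

theorem main : (∀ i : ℕ, i < n → Module.Free R (G1 R n M i)) ↔
    (∀ i : ℕ, i < n → Module.Free R (Gam2 R n M i)) := by
  have hzn := MultCrvDual.z_pow_n R n
  have hcore := core (R := R) (M := M) hzn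
  constructor
  · intro h i hi
    rw [free_Gam2_iff]
    exact (hcore.1 (fun j hj => (free_G1_iff R n M j).1 (h j hj))) i hi
  · intro h i hi
    rw [free_G1_iff]
    exact hcore.2 (fun j hj => (free_Gam2_iff R n M j).1 (h j hj)) i hi

end Wrap

end Groth.Agent.Lib.Helper25.MultCrvGam
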