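import Mathlib
import Groth.Prelude.Def_W4c5qllcourbesmultMultCrv
import Groth.Agent.Lib.Helper25.MultCrvDual

/-!
# Kernel of a presentation of a quasi-free module over `R[X]/(X^n)` (helper25)

General part: `A` a commutative ring, `z : A` with `z^n = 0` and `ann(z^d) = (z^(n-d))`.
-/

set_option autoImplicit false
set_option linter.unusedSectionVars false
set_option linter.style.haveILetI false
universe u
open Polynomial

namespace Groth.Agent.Lib.Helper25.MultCrvQF

section General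

variable {A : Type u} [CommRing A] (z : A) {n : ℕ} (m : Fin n → ℕ)

/-- componentwise quotient map -/
noncomputable def piMk (I : Fin n → Ideal A) :
    ((i : Fin n) → Fin (m i) → A) →ₗ[A] ((i : Fin n) → Fin (m i) → A ⧸ I i) where
  toFun g := fun i k => Submodule.Quotient.mk (g i k)
  map_add' g h := by funext i k; rfl
  map_smul' c g := by funext i k; rfl

theorem piMk_apply (I : Fin n → Ideal A) (g : (i : Fin n) → Fin (m i) → A)
    (i : Fin n) (k : Fin (m i)) : piMk m I g i k = Submodule.Quotient.mk (g i k) := rfl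

theorem mem_ker_piMk (I : Fin n → Ideal A) (g : (i : Fin n) → Fin (m i) → A) :
    g ∈ LinearMap.ker (piMk m I) ↔ ∀ i k, g i k ∈ I i := by
  rw [LinearMap.mem_ker]
  constructor
  · intro h i k
    have h1 := congrFun (congrFun h i) k
    rw [piMk_apply] at h1
    exact (Submodule.Quotient.mk_eq_zero _).1 h1
  · intro h
    funext i k
    rw [piMk_apply]
    exact (Submodule.Quotient.mk_eq_zero _).2 (h i k)

theorem piMk_surjective (I : Fin n → Ideal A) : Function.Surjective (piMk m I) := by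
  intro y
  refine ⟨fun i k => (Submodule.Quotient.mk_surjective _ (y i k)).choose, ?_⟩
  funext i k
  exact (Submodule.Quotient.mk_surjective _ (y i k)).choose_spec

/-- multiply component `(i,k)` by `z^(i+1)` -/
noncomputable def Theta :
    ((i : Fin n) → Fin (m i) → A) →ₗ[A] ((i : Fin n) → Fin (m i) → A) where
  toFun g := fun i k => z ^ (i.1 + 1) * g i k
  map_add' g h := by
    funext i k
    show z ^ (i.1 + 1) * (g i k + h i k) = z ^ (i.1 + 1) * g i k + z ^ (i.1 + 1) * h i k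
    ring
  map_smul' c g := by
    funext i k
    show z ^ (i.1 + 1) * (c * g i k) = c * (z ^ (i.1 + 1) * g i k)
    ring

theorem range_Theta : LinearMap.range (Theta z m) =
    LinearMap.ker (piMk m (fun i => Ideal.span {z ^ (i.1 + 1)})) := by
  ext g
  rw [mem_ker_piMk, LinearMap.mem_range]
  constructor
  · rintro ⟨g₀, rfl⟩ i k
    exact Ideal.mul_mem_right _ _ (Ideal.subset_span rfl)
  · intro h
    have h' : ∀ i k, ∃ a, a * z ^ (i.1 + 1) = g i k :=
      fun i k => Ideal.mem_span_singleton'.1 (h i k)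
    choose g₀ hg₀ using h'
    refine ⟨g₀, ?_⟩
    funext i k
    show z ^ (i.1 + 1) * g₀ i k = g i k
    rw [mul_comm]; exact hg₀ i k

variable (hann : ∀ d d' : ℕ, d + d' = n → ∀ a : A, z ^ d * a = 0 ↔ a ∈ Ideal.span {z ^ d'})
include hann

theorem ker_Theta : LinearMap.ker (Theta z m) =
    LinearMap.ker (piMk m (fun i => Ideal.span {z ^ (n - 1 - i.1)})) := by
  ext g
  rw [mem_ker_piMk, LinearMap.mem_ker]
  constructor
  · intro h i k
    have h1 := congrFun (congrFun h i) k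
    exact (hann (i.1 + 1) (n - 1 - i.1) (by have := i.2; omega) (g i k)).1 h1
  · intro h
    funext i k
    exact (hann (i.1 + 1) (n - 1 - i.1) (by have := i.2; omega) (g i k)).2 (h i k)

theorem kerEquiv :
    Nonempty (LinearMap.ker (piMk m (fun i => Ideal.span {z ^ (i.1 + 1)})) ≃ₗ[A]
    ((i : Fin n) → Fin (m i) → A ⧸ Ideal.span {z ^ (n - 1 - i.1)})) := by
  have e1 : LinearMap.ker (piMk m (fun i => Ideal.span {z ^ (i.1 + 1)})) ≃ₗ[A]
      LinearMap.range (Theta z m) := LinearEquiv.ofEq _ _ (range_Theta z m).symm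
  have e2 : (((i : Fin n) → Fin (m i) → A) ⧸ LinearMap.ker (Theta z m)) ≃ₗ[A]
      LinearMap.range (Theta z m) := (Theta z m).quotKerEquivRange
  have e3 : (((i : Fin n) → Fin (m i) → A) ⧸ LinearMap.ker (Theta z m)) ≃ₗ[A]
      (((i : Fin n) → Fin (m i) → A) ⧸
        LinearMap.ker (piMk m (fun i => Ideal.span {z ^ (n - 1 - i.1)}))) :=
    Submodule.quotEquivOfEq _ _ (ker_Theta z m hann)
  have e4 : (((i : Fin n) → Fin (m i) → A) ⧸
        LinearMap.ker (piMk m (fun i => Ideal.span {z ^ (n - 1 - i.1)}))) ≃ₗ[A]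
      ((i : Fin n) → Fin (m i) → A ⧸ Ideal.span {z ^ (n - 1 - i.1)}) :=
    (piMk m (fun i => Ideal.span {z ^ (n - 1 - i.1)})).quotKerEquivOfSurjective
      (piMk_surjective m _)
  exact ⟨e1.trans (e2.symm.trans (e3.trans e4))⟩

omit hann

/-- the involution `i ↦ n-2-i` on indices `< n-1`, fixing `n-1` -/
def sig (n : ℕ) (i : Fin n) : Fin n := if h : i.1 + 1 < n then ⟨n - 2 - i.1, by omega⟩ else i

theorem sig_val_of_lt (i : Fin n) (h : i.1 + 1 < n) : (sig n i).1 = n - 2 - i.1 := by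
  simp [sig, h]

theorem sig_of_not_lt (i : Fin n) (h : ¬ i.1 + 1 < n) : sig n i = i := by simp [sig, h]

theorem sig_invol : Function.Involutive (sig n) := by
  intro i
  by_cases h : i.1 + 1 < n
  · have h1 := sig_val_of_lt i h
    have h2 : (sig n i).1 + 1 < n := by omega
    apply Fin.ext
    rw [sig_val_of_lt _ h2, h1]; omega
  · rw [sig_of_not_lt i h, sig_of_not_lt i h]

theorem comp_equiv (i : Fin n) :
    Nonempty ((Fin (m i) → A ⧸ Ideal.span {z ^ (n - 1 - i.1)}) ≃ₗ[A]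
      (Fin (MultCrv.revType n m (sig n i)) → A ⧸ Ideal.span {z ^ ((sig n i).1 + 1)})) := by
  by_cases h : i.1 + 1 < n
  · have h1 := sig_val_of_lt i h
    have h2 : (sig n i).1 + 1 < n := by omega
    have hm : MultCrv.revType n m (sig n i) = m i := by
      unfold MultCrv.revType
      rw [dif_pos h2]
      congr 1; apply Fin.ext; simp only [h1]; omega
    have hI : Ideal.span {z ^ (n - 1 - i.1)} = Ideal.span {z ^ ((sig n i).1 + 1)} := by
      have h3 : n - 1 - i.1 = (sig n i).1 + 1 := by omega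
      rw [h3]
    exact ⟨(LinearEquiv.funCongrLeft A _ (finCongr hm)).trans
      (LinearEquiv.piCongrRight (fun _ => Submodule.quotEquivOfEq _ _ hI))⟩
  · have h1 := sig_of_not_lt i h
    have h0 : n - 1 - i.1 = 0 := by have := i.2; omega
    have hr : MultCrv.revType n m (sig n i) = 0 := by rw [h1]; simp [MultCrv.revType, h]
    have hI : Ideal.span {z ^ (n - 1 - i.1)} = ⊤ := by
      rw [h0, pow_zero, Ideal.span_singleton_one]
    haveI : Subsingleton (A ⧸ Ideal.span {z ^ (n - 1 - i.1)}) :=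
      Ideal.Quotient.subsingleton_iff.2 hI
    haveI : IsEmpty (Fin (MultCrv.revType n m (sig n i))) := by rw [hr]; infer_instance
    exact ⟨LinearEquiv.ofSubsingleton _ _⟩

theorem reindex :
    Nonempty (((i : Fin n) → Fin (m i) → A ⧸ Ideal.span {z ^ (n - 1 - i.1)})
      ≃ₗ[A] ((j : Fin n) → Fin (MultCrv.revType n m j) → A ⧸ Ideal.span {z ^ (j.1 + 1)})) := by
  have step1 : ((i : Fin n) → Fin (m i) → A ⧸ Ideal.span {z ^ (n - 1 - i.1)}) ≃ₗ[A]
      ((i : Fin n) → Fin (MultCrv.revType n m (sig n i)) →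
        A ⧸ Ideal.span {z ^ ((sig n i).1 + 1)}) :=
    LinearEquiv.piCongrRight (fun i => (comp_equiv z m i).some)
  have step2 : ((i : Fin n) → Fin (MultCrv.revType n m (sig n i)) →
        A ⧸ Ideal.span {z ^ ((sig n i).1 + 1)}) ≃ₗ[A]
      ((j : Fin n) → Fin (MultCrv.revType n m j) → A ⧸ Ideal.span {z ^ (j.1 + 1)}) :=
    LinearEquiv.piCongrLeft A
      (fun j : Fin n => Fin (MultCrv.revType n m j) → A ⧸ Ideal.span {z ^ (j.1 + 1)})
      ((sig_invol (n := n)).toPerm)
  exact ⟨step1.trans step2⟩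

theorem main_general (hzn : z ^ n = 0)
    (hann : ∀ d d' : ℕ, d + d' = n → ∀ a : A, z ^ d * a = 0 ↔ a ∈ Ideal.span {z ^ d'})
    (M : Type u) [AddCommGroup M] [Module A M]
    (e' : M ≃ₗ[A] ((i : Fin n) → Fin (m i) → A ⧸ Ideal.span {z ^ (i.1 + 1)}))
    (r : ℕ) (φ : (Fin r → A) →ₗ[A] M) (hφ : Function.Surjective φ)
    (hφz : ∀ f : Fin r → A, φ f = 0 → ∃ f₁ : Fin r → A, z • f₁ = f) :
    Nonempty (↥(LinearMap.ker φ) ≃ₗ[A]
      ((j : Fin n) → Fin (MultCrv.revType n m j) → A ⧸ Ideal.span {z ^ (j.1 + 1)})) := by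
  let π := piMk m (fun i : Fin n => Ideal.span {z ^ (i.1 + 1)})
  have hπ : Function.Surjective π := piMk_surjective m _
  let φ' : (Fin r → A) →ₗ[A] ((i : Fin n) → Fin (m i) → A ⧸ Ideal.span {z ^ (i.1 + 1)}) :=
    e'.toLinearMap ∘ₗ φ
  have hφ' : Function.Surjective φ' := e'.surjective.comp hφ
  obtain ⟨ψ, hψ⟩ := Module.projective_lifting_property π φ' hπ
  have hψ' : ∀ f, π (ψ f) = φ' f := fun f => LinearMap.congr_fun hψ f
  have hker : ∀ g, π g = 0 → ∃ g', g = z • g' := by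
    intro g hg
    have h1 : g ∈ LinearMap.range (Theta z m) := by rw [range_Theta]; exact hg
    obtain ⟨g₀, rfl⟩ := h1
    refine ⟨fun i k => z ^ i.1 * g₀ i k, ?_⟩
    funext i k
    show z ^ (i.1 + 1) * g₀ i k = z * (z ^ i.1 * g₀ i k)
    ring
  have hstep : ∀ k : ℕ, ∀ g, ∃ f g', g = ψ f + z ^ k • g' := by
    intro k
    induction k with
    | zero => intro g; exact ⟨0, g, by simp⟩
    | succ k ih =>
      intro g
      obtain ⟨f, g', hg⟩ := ih g
      obtain ⟨f₁, hf₁⟩ := hφ' (π g')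
      obtain ⟨g'', hg''⟩ := hker (g' - ψ f₁) (by rw [map_sub, hψ', hf₁]; exact sub_self _)
      refine ⟨f + z ^ k • f₁, g'', ?_⟩
      rw [hg, map_add, map_smul, pow_succ, mul_smul, ← hg'', smul_sub]
      abel
  have hψsurj : Function.Surjective ψ := by
    intro g
    obtain ⟨f, g', hg⟩ := hstep n g
    rw [hzn, zero_smul, add_zero] at hg
    exact ⟨f, hg.symm⟩
  obtain ⟨s, hs⟩ := Module.projective_lifting_property ψ LinearMap.id hψsurj
  have hs' : ∀ g, ψ (s g) = g := fun g => LinearMap.congr_fun hs g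
  have hk1 : ∀ f, ψ f = 0 → ∃ κ, ψ κ = 0 ∧ f = z • κ := by
    intro f hf
    have h1 : φ f = 0 := by
      have h0 : φ' f = 0 := by rw [← hψ', hf, map_zero]
      exact e'.map_eq_zero_iff.1 h0
    obtain ⟨f₁, hf₁'⟩ := hφz f h1
    refine ⟨f₁ - s (ψ f₁), by rw [map_sub, hs', sub_self], ?_⟩
    rw [smul_sub, ← map_smul, ← map_smul, hf₁', hf, map_zero, sub_zero]
  have hk : ∀ k : ℕ, ∀ f, ψ f = 0 → ∃ κ, ψ κ = 0 ∧ f = z ^ k • κ := by
    intro k
    induction k with
    | zero => intro f hf; exact ⟨f, hf, by simp⟩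
    | succ k ih =>
      intro f hf
      obtain ⟨κ, hκ, rfl⟩ := ih f hf
      obtain ⟨κ', hκ', rfl⟩ := hk1 κ hκ
      exact ⟨κ', hκ', by rw [pow_succ, mul_smul]⟩
  have hψinj : Function.Injective ψ := by
    rw [injective_iff_map_eq_zero]
    intro f hf
    obtain ⟨κ, _, rfl⟩ := hk n f hf
    rw [hzn, zero_smul]
  let Ψ := LinearEquiv.ofBijective ψ ⟨hψinj, hψsurj⟩
  have hkerφ : LinearMap.ker φ = Submodule.comap (Ψ : _ →ₗ[A] _) (LinearMap.ker π) := by
    ext f
    rw [LinearMap.mem_ker, Submodule.mem_comap, LinearMap.mem_ker]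
    show φ f = 0 ↔ π (ψ f) = 0
    rw [hψ']
    exact (e'.map_eq_zero_iff).symm
  obtain ⟨E2⟩ := kerEquiv z m hann
  obtain ⟨E3⟩ := reindex z m
  exact ⟨(LinearEquiv.ofEq _ _ hkerφ).trans
    ((LinearEquiv.ofSubmodule' Ψ _).trans (E2.trans E3))⟩

end General

section Concrete

variable (R : Type u) [CommRing R] [IsDomain R] (n : ℕ)

theorem zpow_mul_eq_zero_iff (d d' : ℕ) (h : d + d' = n) (a : MultCrv.Rn R n) :
    MultCrv.z R n ^ d * a = 0 ↔ a ∈ Ideal.span {MultCrv.z R n ^ d'} := by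
  obtain ⟨p, rfl⟩ := Ideal.Quotient.mk_surjective a
  constructor
  · intro h0
    have h1 : Ideal.Quotient.mk (Ideal.span {(X : R[X]) ^ n}) (X ^ d * p) = 0 := by
      rw [map_mul, map_pow]; exact h0
    rw [Ideal.Quotient.eq_zero_iff_mem, Ideal.mem_span_singleton'] at h1
    obtain ⟨q, hq⟩ := h1
    have h2 : p = X ^ d' * q := by
      apply mul_left_cancel₀ (pow_ne_zero d (X_ne_zero : (X : R[X]) ≠ 0))
      rw [← hq, ← h, pow_add]; ring
    rw [h2, map_mul, map_pow]
    exact Ideal.mul_mem_right _ _ (Ideal.subset_span rfl)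
  · intro ha
    obtain ⟨c, hc⟩ := Ideal.mem_span_singleton'.1 ha
    rw [← hc, mul_comm c, ← mul_assoc, ← pow_add, h, MultCrvDual.z_pow_n, zero_mul]

end Concrete

end Groth.Agent.Lib.Helper25.MultCrvQF
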