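import Mathlib

set_option autoImplicit false

open TensorProduct

namespace Groth.Agent.Lib.Helper25.OT2

open Bialgebra Coalgebra

structure OT (R : Type*) (A : Type*) [CommRing R] [CommRing A] [Bialgebra R A] (x : A) (a b : R) :
    Prop where
  hx : counitAlgHom R A x = 0
  hgen : ∀ f : A, counitAlgHom R A f = 0 → ∃ r : R, f = r • x
  hfree : ∀ r : R, r • x = 0 → r = 0
  hxa : x * x = a • x
  hxb : comulAlgHom R A x = x ⊗ₜ[R] 1 + 1 ⊗ₜ[R] x + b • (x ⊗ₜ[R] x)

variable {R : Type*} {A A' : Type*} [CommRing R] [CommRing A] [Bialgebra R A] [CommRing A']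
  [Bialgebra R A'] {x : A} {a b : R} {x' : A'} {a' b' : R}

lemma OT.uniq (h : OT R A x a b) (c c' : R) (hc : c • x = c' • x) : c = c' := by
  have : (c - c') • x = 0 := by rw [sub_smul, hc, sub_self]
  exact sub_eq_zero.1 (h.hfree _ this)

lemma OT.exists_lam (h : OT R A x a b) : ∃ lam : A →ₗ[R] R,
    ∀ f, f = algebraMap R A (counitAlgHom R A f) + lam f • x := by
  have key : ∀ f : A, ∃ c : R, f - algebraMap R A (counitAlgHom R A f) = c • x := by
    intro f
    apply h.hgen
    rw [map_sub, AlgHom.commutes, Algebra.algebraMap_self, RingHom.id_apply, sub_self]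
  choose lam hlam using key
  refine ⟨{ toFun := lam, map_add' := ?_, map_smul' := ?_ }, ?_⟩
  · intro f g
    apply h.uniq
    rw [← hlam, add_smul, ← hlam, ← hlam, map_add, map_add]; abel
  · intro r f
    apply h.uniq
    rw [← hlam, RingHom.id_apply, smul_eq_mul, mul_smul, ← hlam, map_smul, smul_eq_mul, map_mul,
      smul_sub, Algebra.smul_def r (algebraMap R A _)]
  · intro f
    show f = _ + lam f • x
    rw [← hlam]; abel

lemma OT.algHom_ext (h : OT R A x a b) {B : Type*} [Semiring B] [Algebra R B] (f g : A →ₐ[R] B)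
    (hfg : f x = g x) : f = g := by
  obtain ⟨lam, hlam⟩ := h.exists_lam
  ext y
  rw [hlam y, map_add, map_add, AlgHom.commutes, AlgHom.commutes, map_smul, map_smul, hfg]

lemma OT.lam_x (h : OT R A x a b) (lam : A →ₗ[R] R)
    (hlam : ∀ f, f = algebraMap R A (counitAlgHom R A f) + lam f • x) : lam x = 1 := by
  have := hlam x
  rw [h.hx, map_zero, zero_add] at this
  apply h.uniq
  rw [one_smul]; exact this.symm

lemma OT.lam_alg (h : OT R A x a b) (lam : A →ₗ[R] R)
    (hlam : ∀ f, f = algebraMap R A (counitAlgHom R A f) + lam f • x) (r : R) :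
    lam (algebraMap R A r) = 0 := by
  have := hlam (algebraMap R A r)
  rw [AlgHom.commutes, Algebra.algebraMap_self, RingHom.id_apply] at this
  apply h.hfree
  have h2 : algebraMap R A r + 0 = algebraMap R A r + lam (algebraMap R A r) • x := by
    rw [add_zero]; exact this
  exact (add_left_cancel h2).symm

lemma OT.exists_hom (h : OT R A x a b) (h' : OT R A' x' a' b') (s : R)
    (h1 : a * s = s * s * a') (h2 : s * b' = b * s * s) :
    ∃ φ : A →ₐ[R] A', φ x = s • x' ∧ (counitAlgHom R A').comp φ = counitAlgHom R A ∧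
      (Algebra.TensorProduct.map φ φ).comp (comulAlgHom R A) = (comulAlgHom R A').comp φ := by
  obtain ⟨lam, hlam⟩ := h.exists_lam
  have lam_x := h.lam_x lam hlam
  have lam_alg := h.lam_alg lam hlam
  let φL : A →ₗ[R] A' := (Algebra.linearMap R A').comp (counitAlgHom R A).toLinearMap
    + (LinearMap.toSpanSingleton R A' (s • x')).comp lam
  have φL_apply : ∀ f, φL f = algebraMap R A' (counitAlgHom R A f) + lam f • (s • x') :=
    fun f => rfl
  have lam_mul : ∀ f g, lam (f * g) = counitAlgHom R A f * lam g + lam f * counitAlgHom R A g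
      + lam f * lam g * a := by
    intro f g
    have e : f * g = algebraMap R A (counitAlgHom R A f * counitAlgHom R A g)
        + (counitAlgHom R A f * lam g + lam f * counitAlgHom R A g + lam f * lam g * a) • x := by
      conv_lhs => rw [hlam f, hlam g]
      have hxa' := h.hxa
      rw [Algebra.smul_def] at hxa'
      simp only [Algebra.smul_def, map_mul, map_add]
      linear_combination (algebraMap R A (lam f) * algebraMap R A (lam g)) * hxa'
    have := congrArg lam e
    rw [map_add, lam_alg, zero_add, map_smul, lam_x, smul_eq_mul, mul_one] at this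
    exact this
  have φL_one : φL 1 = 1 := by
    rw [φL_apply, map_one, map_one]
    have : lam (1 : A) = 0 := by
      have := lam_alg 1; rwa [map_one] at this
    rw [this, zero_smul, add_zero]
  have φL_mul : ∀ f g, φL (f * g) = φL f * φL g := by
    intro f g
    rw [φL_apply, φL_apply, φL_apply, map_mul, lam_mul]
    have hxa' := h'.hxa
    rw [Algebra.smul_def] at hxa'
    have h1' := congrArg (algebraMap R A') h1
    simp only [map_mul] at h1'
    simp only [Algebra.smul_def, map_mul, map_add]
    linear_combination (-(algebraMap R A' (lam f) * algebraMap R A' (lam g) * algebraMap R A' s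
      * algebraMap R A' s)) * hxa' + (algebraMap R A' (lam f) * algebraMap R A' (lam g) * x') * h1'
  let φ : A →ₐ[R] A' := AlgHom.ofLinearMap φL φL_one φL_mul
  have φx : φ x = s • x' := by
    show φL x = _
    rw [φL_apply, h.hx, map_zero, zero_add, lam_x, one_smul]
  refine ⟨φ, φx, ?_, ?_⟩
  · apply h.algHom_ext
    rw [AlgHom.comp_apply, φx, map_smul, h'.hx, smul_zero, h.hx]
  · apply h.algHom_ext
    rw [AlgHom.comp_apply, AlgHom.comp_apply, φx, map_smul, h.hxb, h'.hxb, map_add, map_add,
      map_smul]
    simp only [Algebra.TensorProduct.map_tmul, φx, map_one]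
    simp only [smul_add, TensorProduct.tmul_smul, ← TensorProduct.smul_tmul', smul_smul]
    have e : b * (s * s) = s * b' := by rw [h2]; ring
    rw [e]

end Groth.Agent.Lib.Helper25.OT2
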