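import Mathlib
import Groth.Agent.Lib.Helper9.QDescD
import Groth.Agent.Lib.Helper1.KDesc11

/-!
# Descent of regular immersions along flat surjective OPEN morphisms (helper25)

Variant of helper1's `KDesc11.isRegularImmersion_of_fpqc` and helper9's `QDescD.isRegularImmersion_of_fpqc`
with the quasi-compactness of the covering morphism replaced by openness of the underlying map
(e.g. etale surjective, or fppf).
-/

set_option autoImplicit false
set_option linter.style.haveILetI false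
universe u
open CategoryTheory CategoryTheory.Limits TensorProduct AlgebraicGeometry

namespace Groth.Agent.Lib.Helper25.OpenDesc

open Groth.Agent.Lib.Helper1 Groth.Agent.Lib.Helper1.KDesc Groth.Agent.Lib.Helper9.QDesc

section FamCover

variable {S' S : Scheme.{u}} (g : S' ⟶ S)

/-- a finite family of affine opens of the source of a surjective open morphism, contained in the preimage of an affine
open `V` and jointly surjective on `Spec Γ(V)` -/
theorem exists_finite_affine_cover_of_isOpenMap [Surjective g] (hopen : IsOpenMap g.base) {V : S.Opens}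
    (hV : IsAffineOpen V) :
    ∃ s : Set S'.affineOpens, s.Finite ∧ (∀ k ∈ s, k.1 ≤ g ⁻¹ᵁ V) ∧
      ∀ p : PrimeSpectrum Γ(S, V), ∃ k ∈ s, ∃ (hle : k.1 ≤ g ⁻¹ᵁ V) (q : PrimeSpectrum Γ(S', k.1)),
        PrimeSpectrum.comap (g.appLE V k.1 hle).hom q = p := by
  have hex : ∀ x : V, ∃ k : S'.affineOpens, k.1 ≤ g ⁻¹ᵁ V ∧ ∃ x' : S', x' ∈ k.1 ∧ g x' = x.1 := by
    intro x
    obtain ⟨x', hx'⟩ := g.surjective x.1
    have hx'V : x' ∈ g ⁻¹ᵁ V := by change g x' ∈ V; rw [hx']; exact x.2
    obtain ⟨_, ⟨k : S'.Opens, hk, rfl⟩, hxk, hkle⟩ :=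
      S'.isBasis_affineOpens.exists_subset_of_mem_open hx'V (g ⁻¹ᵁ V).2
    exact ⟨⟨k, hk⟩, hkle, x', hxk, hx'⟩
  choose kf hkle hkx using hex
  have hcov : (V : Set S) ⊆ ⋃ x : V, g.base '' ((kf x).1 : Set S') := by
    intro y hy
    obtain ⟨x', hx'k, hx'⟩ := hkx ⟨y, hy⟩
    exact Set.mem_iUnion.mpr ⟨⟨y, hy⟩, x', hx'k, hx'⟩
  obtain ⟨t, ht⟩ := hV.isCompact.elim_finite_subcover (fun x : V => g.base '' ((kf x).1 : Set S'))
    (fun x => hopen _ (kf x).1.2) hcov
  refine ⟨Set.range (fun x : t => kf x.1), Set.finite_range _, ?_, fun p => ?_⟩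
  · rintro k ⟨x, rfl⟩
    exact hkle x.1
  · let x : S := hV.fromSpec p
    have hxV : x ∈ V := by
      have : x ∈ Set.range hV.fromSpec := ⟨p, rfl⟩
      rw [hV.range_fromSpec] at this
      exact this
    have hxc := ht hxV
    simp only [Set.mem_iUnion] at hxc
    obtain ⟨x₀, hx₀t, x', hx'k, hx'⟩ := hxc
    refine ⟨kf x₀, ⟨⟨x₀, hx₀t⟩, rfl⟩, hkle x₀, (kf x₀).2.primeIdealOf ⟨x', hx'k⟩, ?_⟩
    have h1 := IsAffineOpen.SpecMap_appLE_fromSpec g hV (kf x₀).2 (hkle x₀)
    have h2 : hV.fromSpec (Spec.map (g.appLE V (kf x₀).1 (hkle x₀))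
        ((kf x₀).2.primeIdealOf ⟨x', hx'k⟩)) =
        g ((kf x₀).2.fromSpec ((kf x₀).2.primeIdealOf ⟨x', hx'k⟩)) := by
      have := congrArg (fun φ => φ.base ((kf x₀).2.primeIdealOf ⟨x', hx'k⟩)) h1
      exact this
    rw [(kf x₀).2.fromSpec_primeIdealOf ⟨x', hx'k⟩] at h2
    change g x' = x at hx'
    rw [hx'] at h2
    exact hV.fromSpec.isOpenEmbedding.injective h2

end FamCover

section RegDesc

variable {X Y X' Y' : Scheme.{u}} {i : Y ⟶ X} {g : X' ⟶ X} {i' : Y' ⟶ X'} {g' : Y' ⟶ Y}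

/-- descent of Koszul-regular immersions along a flat surjective open morphism -/
theorem isRegularImmersion_koszul_of_open [IsImmersion i] [Flat g] [Surjective g]
    (hopen : IsOpenMap g.base)
    (hsq : IsPullback g' i' i g) (hi' : RegImm.IsRegularImmersion .koszul i') :
    RegImm.IsRegularImmersion .koszul i := by
  refine ⟨inferInstance, fun y => ?_⟩
  obtain ⟨_, ⟨V : X.Opens, hV, rfl⟩, hyV, hVle⟩ :=
    X.isBasis_affineOpens.exists_subset_of_mem_open (ConormMap.mem_coborderRange i y)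
      i.coborderRange.2
  obtain ⟨hιV, hs⟩ := ConormMap.good_of_le_coborderRange i hV hVle
  refine isRegularImmersionAt_of_isKoszulRegularIdeal i hV hιV hs ?_ y hyV
  obtain ⟨s, hsfin, hle, hsurj⟩ := exists_finite_affine_cover_of_isOpenMap g hopen hV
  haveI : Finite ↥s := hsfin.to_subtype
  letI algT : ∀ k : ↥s, Algebra Γ(X, V) Γ(X', k.1.1) :=
    fun k => (g.appLE V k.1.1 (hle k.1 k.2)).hom.toAlgebra
  haveI : ∀ k : ↥s, Module.Flat Γ(X, V) Γ(X', k.1.1) :=
    fun k => g.flat_appLE hV k.1.2 (hle k.1 k.2)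
  apply isKoszulRegularIdeal_of_family (fun k : ↥s => Γ(X', k.1.1))
  · intro p
    obtain ⟨k, hk, hle', q, hq⟩ := hsurj p
    exact ⟨⟨k, hk⟩, q, hq⟩
  · intro k
    haveI : IsClosedImmersion (i ∣_ V) :=
      SecSch.isClosedImmersion_restrict_of_surjective i hV hιV hs
    haveI : IsClosedImmersion (i' ∣_ k.1.1) :=
      RegBC.isClosedImmersion_restrict_of_isPullback hsq (hle k.1 k.2)
    haveI : IsImmersion i' := hi'.1
    obtain ⟨hι', hs'⟩ := ConormMap.good_of_le_coborderRange i' k.1.2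
      (UTKoszul.le_coborderRange_of_isClosedImmersion_restrict i' k.1.1)
    have hB := isKoszulRegularIdeal_ker_of_isRegularImmersion i' hi' k.1.2 hι' hs'
    rw [RegBC.ker_app_of_isPullback hsq hV hιV hs k.1.2 (hle k.1 k.2)] at hB
    exact hB

/-- descent of `H_1`-regular and quasi-regular immersions along a flat surjective open morphism -/
theorem isRegularImmersion_hq_of_open (k : RegImm.Kind)
    (hk : k = RegImm.Kind.h1 ∨ k = RegImm.Kind.quasi)
    [IsImmersion i] [Flat g] [Surjective g] (hopen : IsOpenMap g.base)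
    (hsq : IsPullback g' i' i g) (hi' : RegImm.IsRegularImmersion k i') :
    RegImm.IsRegularImmersion k i := by
  have hQ := goodQ_seq.{u} k hk
  refine ⟨inferInstance, fun y => ?_⟩
  obtain ⟨_, ⟨V : X.Opens, hV, rfl⟩, hyV, hVle⟩ :=
    X.isBasis_affineOpens.exists_subset_of_mem_open (ConormMap.mem_coborderRange i y)
      i.coborderRange.2
  obtain ⟨hιV, hs⟩ := ConormMap.good_of_le_coborderRange i hV hVle
  refine isRegularImmersionAt_of_isQIdeal i k hQ hV hιV hs ?_ y hyV
  obtain ⟨s, hsfin, hle, hsurj⟩ := exists_finite_affine_cover_of_isOpenMap g hopen hV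
  haveI : Finite ↥s := hsfin.to_subtype
  letI algT : ∀ j : ↥s, Algebra Γ(X, V) Γ(X', j.1.1) :=
    fun j => (g.appLE V j.1.1 (hle j.1 j.2)).hom.toAlgebra
  haveI : ∀ j : ↥s, Module.Flat Γ(X, V) Γ(X', j.1.1) :=
    fun j => g.flat_appLE hV j.1.2 (hle j.1 j.2)
  apply isQIdeal_of_family (fun j : ↥s => Γ(X', j.1.1)) hQ
  · intro p
    obtain ⟨j, hj, hle', q, hq⟩ := hsurj p
    exact ⟨⟨j, hj⟩, q, hq⟩
  · intro j
    haveI : IsClosedImmersion (i ∣_ V) :=
      SecSch.isClosedImmersion_restrict_of_surjective i hV hιV hs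
    haveI : IsClosedImmersion (i' ∣_ j.1.1) :=
      RegBC.isClosedImmersion_restrict_of_isPullback hsq (hle j.1 j.2)
    haveI : IsImmersion i' := hi'.1
    obtain ⟨hι', hs'⟩ := ConormMap.good_of_le_coborderRange i' j.1.2
      (UTKoszul.le_coborderRange_of_isClosedImmersion_restrict i' j.1.1)
    have hB := isQIdeal_ker_of_isRegularImmersion i' k hQ hi' j.1.2 hι' hs'
    rw [RegBC.ker_app_of_isPullback hsq hV hιV hs j.1.2 (hle j.1 j.2)] at hB
    exact hB

/-- descent of regular immersions of kind Koszul, `H_1` or quasi along a flat surjective open morphism -/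
theorem isRegularImmersion_of_open (k : RegImm.Kind)
    (hk : k = RegImm.Kind.koszul ∨ k = RegImm.Kind.h1 ∨ k = RegImm.Kind.quasi)
    [IsImmersion i] [Flat g] [Surjective g] (hopen : IsOpenMap g.base)
    (hsq : IsPullback g' i' i g) (hi' : RegImm.IsRegularImmersion k i') :
    RegImm.IsRegularImmersion k i := by
  rcases hk with rfl | hk
  · exact isRegularImmersion_koszul_of_open hopen hsq hi'
  · exact isRegularImmersion_hq_of_open k hk hopen hsq hi'

end RegDesc

end Groth.Agent.Lib.Helper25.OpenDesc
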