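import Mathlib
import Groth.Prelude
import Groth.Agent.Lib.Helper25.ParShE

/-!
# Parabolic Hilbert polynomials of induced structures: the two comparison rows (helper25)
-/

set_option autoImplicit false
set_option linter.style.haveILetI false
universe u
open CategoryTheory CategoryTheory.Limits AlgebraicGeometry TopologicalSpace Opposite Polynomial

namespace Groth.Agent.Lib.Helper25.ParShF

open Groth.Agent.Lib.Helper17 Groth.Agent.Lib.Helper17.DevBasic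
  Groth.Agent.Lib.Helper25.ParShD Groth.Agent.Lib.Helper25.ParShE

variable (k : Type u) [Field k] {X : Scheme.{u}} [X.Over (Spec (CommRingCat.of k))]
  [IsProper (X ↘ Spec (CommRingCat.of k))]

theorem reduced_compare
    (L : X.Modules) (hL : CohB1.IsAmple L) (I : X.IdealSheafData)
    (E : X.Modules) (hE : Coh.IsCoh E) (h0 : ¬ IsZero E) (d : ℕ) (hd : 1 ≤ d)
    (hpure : ShStab.IsPure X E d) (𝓔 : ParSh.Str E) (h𝓔 : 𝓔.Along I)
    (hcoh : ∀ j, Coh.IsCoh ((𝓔.pieceX j : Subobject E) : X.Modules))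
    (hsupp : topologicalKrullDim ↥(CohB1.support E ∩ (I.support : Set X)) < (d : WithBot ℕ∞))
    (P : ℚ[X]) (hP : ShStab.IsHilbPoly k X L E P) (PX : Fin (𝓔.l + 2) → ℚ[X])
    (hPX : ∀ j, ShStab.IsHilbPoly k X L ((𝓔.pieceX j : Subobject E) : X.Modules) (PX j))
    {W : X.Modules} (ι : W ⟶ E) [Mono ι] (hW : Coh.IsCoh W)
    (Q : ℚ[X]) (hQ : ShStab.IsHilbPoly k X L W Q) (QX : Fin (𝓔.l + 2) → ℚ[X])
    (hQX : ∀ j, ShStab.IsHilbPoly k X L (((𝓔.induced ι).pieceX j : Subobject W) : X.Modules) (QX j)) :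
    ((∃ M : ℕ, ∀ m : ℕ, M ≤ m →
        (W4swparbununimod.parPoly (𝓔.induced ι) QX).eval (m : ℝ) * (StabCat.alpha d P : ℝ) ≤
          (W4swparbununimod.parPoly 𝓔 PX).eval (m : ℝ) * (StabCat.alpha d Q : ℝ)) →
      (W4swparbununimod.parPoly (𝓔.induced ι) QX).coeff (d - 1) * (StabCat.alpha d P : ℝ) ≤
        (W4swparbununimod.parPoly 𝓔 PX).coeff (d - 1) * (StabCat.alpha d Q : ℝ)) ∧
    ((W4swparbununimod.parPoly (𝓔.induced ι) QX).coeff (d - 1) * (StabCat.alpha d P : ℝ) <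
        (W4swparbununimod.parPoly 𝓔 PX).coeff (d - 1) * (StabCat.alpha d Q : ℝ) →
      ∃ M : ℕ, ∀ m : ℕ, M ≤ m →
        (W4swparbununimod.parPoly (𝓔.induced ι) QX).eval (m : ℝ) * (StabCat.alpha d P : ℝ) <
          (W4swparbununimod.parPoly 𝓔 PX).eval (m : ℝ) * (StabCat.alpha d Q : ℝ)) := by
  have hbotW := induced_hbot I ι 𝓔 h𝓔
  have hcohW := induced_hcoh k ι hW hE 𝓔 hcoh
  have hsuppW := induced_hsupp I ι d hsupp
  obtain ⟨A, hAdef⟩ : ∃ A : ℝ[X], A = W4swparbununimod.parPoly (𝓔.induced ι) QX := ⟨_, rfl⟩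
  obtain ⟨B, hBdef⟩ : ∃ B : ℝ[X], B = W4swparbununimod.parPoly 𝓔 PX := ⟨_, rfl⟩
  obtain ⟨a, hadef⟩ : ∃ a : ℝ, a = ((StabCat.alpha d P : ℚ) : ℝ) := ⟨_, rfl⟩
  obtain ⟨b, hbdef⟩ : ∃ b : ℝ, b = ((StabCat.alpha d Q : ℚ) : ℝ) := ⟨_, rfl⟩
  have hA : ∀ n, d ≤ n → A.coeff n = ((Q.coeff n : ℚ) : ℝ) := fun n hn => by
    rw [hAdef, parPoly_coeff_eq k L hL I W (𝓔.induced ι) hbotW hcohW d hsuppW Q hQ QX hQX n hn,
      rpoly_coeff]
  have hB : ∀ n, d ≤ n → B.coeff n = ((P.coeff n : ℚ) : ℝ) := fun n hn => by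
    rw [hBdef, parPoly_coeff_eq k L hL I E 𝓔 (le_of_eq h𝓔.symm) hcoh d hsupp P hP PX hPX n hn,
      rpoly_coeff]
  have hdimE : topologicalKrullDim ↥(CohB1.support E) = (d : WithBot ℕ∞) :=
    hpure E (𝟙 E) inferInstance hE h0
  have hdimE' : topologicalKrullDim ↥(CohB1.support E) < ((d + 1 : ℕ) : WithBot ℕ∞) := by
    rw [hdimE]
    exact_mod_cast Nat.lt_succ_self d
  have hdimW' : topologicalKrullDim ↥(CohB1.support W) < ((d + 1 : ℕ) : WithBot ℕ∞) :=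
    lt_of_le_of_lt
      (Topology.IsEmbedding.inclusion (support_subset_of_mono ι)).isInducing.topologicalKrullDim_le
      hdimE'
  have hP0 : ∀ n, d < n → P.coeff n = 0 := fun n hn =>
    Groth.Agent.Lib.Helper23.HilbP.coeff_eq_zero_of_dim_lt k hL E hE hP (d + 1) hdimE' n hn
  have hQ0 : ∀ n, d < n → Q.coeff n = 0 := fun n hn =>
    Groth.Agent.Lib.Helper23.HilbP.coeff_eq_zero_of_dim_lt k hL W hW hQ (d + 1) hdimW' n hn
  obtain ⟨R, hR⟩ : ∃ R : ℝ[X], R = A * C a - B * C b := ⟨_, rfl⟩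
  have hRc : ∀ n, R.coeff n = A.coeff n * a - B.coeff n * b := by
    intro n
    rw [hR, Polynomial.coeff_sub, coeff_mul_C, coeff_mul_C]
  have hRe : ∀ x : ℝ, R.eval x = A.eval x * a - B.eval x * b := by
    intro x
    rw [hR, eval_sub, eval_mul, eval_mul, eval_C, eval_C]
  have hRdeg : ∀ n, d - 1 < n → R.coeff n = 0 := by
    intro n hn
    have hn' : d ≤ n := by omega
    rw [hRc, hA n hn', hB n hn']
    rcases Nat.lt_or_eq_of_le hn' with hlt | heq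
    · rw [hP0 n hlt, hQ0 n hlt]
      simp
    · subst heq
      rw [hadef, hbdef]
      unfold StabCat.alpha
      push_cast
      ring
  rw [← hAdef, ← hBdef, ← hadef, ← hbdef]
  refine ⟨fun ⟨M, hM⟩ => ?_, fun hlt => ?_⟩
  · by_contra hcon
    rw [not_le] at hcon
    have hneg : (-R).coeff (d - 1) < 0 := by
      rw [coeff_neg, hRc]
      linarith
    obtain ⟨M', hM'⟩ := eventually_neg (-R) (d - 1)
      (fun n hn => by rw [coeff_neg, hRdeg n hn, neg_zero]) hneg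
    have h1 := hM (max M M') (le_max_left _ _)
    have h2 := hM' (max M M') (le_max_right _ _)
    rw [eval_neg, hRe] at h2
    linarith
  · obtain ⟨M, hM⟩ := eventually_neg R (d - 1) hRdeg (by rw [hRc]; linarith)
    refine ⟨M, fun m hm => ?_⟩
    have h2 := hM m hm
    rw [hRe] at h2
    linarith

theorem parPolyOne_compare
    (L : X.Modules) (hL : CohB1.IsAmple L) (I : X.IdealSheafData)
    (E : X.Modules) (hE : Coh.IsCoh E) (𝓔 : ParSh.Str E) (h𝓔 : 𝓔.Along I)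
    (hcoh : ∀ j, Coh.IsCoh ((𝓔.pieceX j : Subobject E) : X.Modules)) (d : ℕ) (hd : 1 ≤ d)
    (hsupp : topologicalKrullDim ↥(CohB1.support E ∩ (I.support : Set X)) < (d : WithBot ℕ∞))
    (H : Fin (𝓔.l + 2) → ℚ[X]) (hH : ∀ j, ShStab.IsHilbPoly k X L (cokernel (𝓔.pieceX j).arrow) (H j))
    (hHa : ∀ j : Fin (𝓔.l + 1), StabCat.alpha (d - 1) (H j.succ) ≠ 0)
    {W : X.Modules} (ι : W ⟶ E) [Mono ι] (hW : Coh.IsCoh W)
    (Q : ℚ[X]) (hQ : ShStab.IsHilbPoly k X L W Q) (QX : Fin (𝓔.l + 2) → ℚ[X])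
    (hQX : ∀ j, ShStab.IsHilbPoly k X L (((𝓔.induced ι).pieceX j : Subobject W) : X.Modules) (QX j))
    (QH : Fin (𝓔.l + 2) → ℚ[X])
    (hQH : ∀ j, ShStab.IsHilbPoly k X L (cokernel ((𝓔.induced ι).pieceX j).arrow) (QH j)) :
    (W4swparbununimod.parPolyOne 𝓔 d Q QH H).coeff d =
        (W4swparbununimod.parPoly (𝓔.induced ι) QX).coeff d ∧
      (W4swparbununimod.parPolyOne 𝓔 d Q QH H).coeff (d - 1) =
        (W4swparbununimod.parPoly (𝓔.induced ι) QX).coeff (d - 1) := by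
  have hbotW := induced_hbot I ι 𝓔 h𝓔
  have hcohW := induced_hcoh k ι hW hE 𝓔 hcoh
  have hsuppW := induced_hsupp I ι d hsupp
  have hHd : ∀ j, (H j).coeff d = 0 := fun j =>
    coeff_cokernel_arrow k L hL I E hE (𝓔.pieceX j) ((le_of_eq h𝓔.symm).trans (𝓔.bot_le_pieceX j))
      (hcoh j) d hsupp (H j) (hH j) d le_rfl
  have hQHeq : ∀ j, QH j = Q - QX j := fun j =>
    hilb_cokernel_arrow k L hL W hW ((𝓔.induced ι).pieceX j) (hcohW j) Q (QX j) (QH j) hQ (hQX j)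
      (hQH j)
  have hQX0 : QX 0 = Q := PX_zero_eq k L W (𝓔.induced ι) Q (QX 0) hQ (hQX 0)
  constructor
  · rw [parPolyOne_coeff,
      parPoly_coeff_eq k L hL I W (𝓔.induced ι) hbotW hcohW d hsuppW Q hQ QX hQX d le_rfl,
      rpoly_coeff]
    simp only [hHd, Rat.cast_zero, mul_zero, Finset.sum_const_zero, sub_zero]
  · rw [parPolyOne_coeff, parPoly_coeff]
    have hterm : ∀ j : Fin (𝓔.l + 1),
        ((𝓔.wtX j.succ - 𝓔.wtX j.castSucc) *
          ((StabCat.alpha (d - 1) (QH j.succ) / StabCat.alpha (d - 1) (H j.succ) : ℚ) : ℝ)) *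
            (((H j.succ).coeff (d - 1) : ℚ) : ℝ) =
        (𝓔.wtX j.succ - 𝓔.wtX j.castSucc) *
          (((Q.coeff (d - 1) : ℚ) : ℝ) - (((QX j.succ).coeff (d - 1) : ℚ) : ℝ)) := by
      intro j
      have hne := hHa j
      unfold StabCat.alpha at hne ⊢
      have hf : ((d - 1).factorial : ℚ) ≠ 0 := Nat.cast_ne_zero.mpr (Nat.factorial_ne_zero _)
      have hc : (H j.succ).coeff (d - 1) ≠ 0 := fun h0 => hne (by rw [h0, mul_zero])
      have key : (((d - 1).factorial : ℚ) * (QH j.succ).coeff (d - 1)) /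
          (((d - 1).factorial : ℚ) * (H j.succ).coeff (d - 1)) * (H j.succ).coeff (d - 1) =
          Q.coeff (d - 1) - (QX j.succ).coeff (d - 1) := by
        rw [hQHeq j.succ, Polynomial.coeff_sub]
        field_simp
      rw [mul_assoc, ← Rat.cast_mul, key, Rat.cast_sub]
    simp only [hterm]
    have habel := abel 𝓔.l 𝓔.wt 𝓔.wtX (fun j => 𝓔.wtX_castSucc j) 𝓔.wtX_last
      (fun i => ((Q.coeff (d - 1) : ℚ) : ℝ) - (((QX i).coeff (d - 1) : ℚ) : ℝ))
      (by rw [hQX0, sub_self]) ((Q.coeff (d - 1) : ℚ) : ℝ)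
    simp only [sub_sub_cancel] at habel
    exact habel.symm

end Groth.Agent.Lib.Helper25.ParShF
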