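import Mathlib
import Groth.Prelude
import Groth.Agent.Lib.Helper25.ParShF

/-!
# The second modified parabolic Hilbert polynomial versus the first (helper25)
-/

set_option autoImplicit false
set_option linter.style.haveILetI false
universe v u
open CategoryTheory CategoryTheory.Limits AlgebraicGeometry TopologicalSpace Opposite Polynomial

namespace Groth.Agent.Lib.Helper25.ParShG

open Groth.Agent.Lib.Helper17 Groth.Agent.Lib.Helper17.DevBasic
  Groth.Agent.Lib.Helper25.ParShD Groth.Agent.Lib.Helper25.ParShE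

section Generic

theorem rpoly_eval_nat (P : ℚ[X]) (m : ℕ) :
    (W4swparbununimod.rpoly P).eval (m : ℝ) = ((P.eval (m : ℚ) : ℚ) : ℝ) := by
  rw [eval_natCast_map]
  rfl

/-- for a rational polynomial with vanishing coefficients above `e`, `R(n)/n^e → coeff e` -/
theorem tendsto_eval_div_pow (R : ℚ[X]) (e : ℕ) (hdeg : ∀ n, e < n → R.coeff n = 0) :
    Filter.Tendsto (fun n : ℕ => ((R.eval (n : ℚ) : ℚ) : ℝ) / (n : ℝ) ^ e) Filter.atTop
      (nhds ((R.coeff e : ℚ) : ℝ)) := by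
  obtain ⟨R', hR'⟩ : ∃ R' : ℝ[X], R' = W4swparbununimod.rpoly R := ⟨_, rfl⟩
  have hc : ∀ n, R'.coeff n = ((R.coeff n : ℚ) : ℝ) := fun n => by rw [hR', rpoly_coeff]
  have hle : R'.degree ≤ (e : WithBot ℕ) := by
    rw [degree_le_iff_coeff_zero]
    intro m hm
    have hm' : e < m := by exact_mod_cast hm
    rw [hc, hdeg m hm', Rat.cast_zero]
  have key : Filter.Tendsto (fun x : ℝ => eval x R' / eval x ((X : ℝ[X]) ^ e)) Filter.atTop
      (nhds ((R.coeff e : ℚ) : ℝ)) := by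
    by_cases h0 : R'.coeff e = 0
    · have hlt : R'.degree < ((X : ℝ[X]) ^ e).degree := by
        rw [degree_X_pow, degree_lt_iff_coeff_zero]
        intro m hm
        rcases Nat.eq_or_lt_of_le hm with heq | hlt
        · rw [← heq]; exact h0
        · rw [hc, hdeg m hlt, Rat.cast_zero]
      have := div_tendsto_atTop_zero_of_degree_lt R' ((X : ℝ[X]) ^ e) hlt
      rw [← hc, h0]
      exact this
    · have heq : R'.degree = ((X : ℝ[X]) ^ e).degree := by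
        rw [degree_X_pow]
        exact degree_eq_of_le_of_coeff_ne_zero hle h0
      have := div_tendsto_atTop_leadingCoeff_div_of_degree_eq R' ((X : ℝ[X]) ^ e) heq
      have hnat : R'.natDegree = e := natDegree_eq_of_degree_eq_some (by rw [heq, degree_X_pow])
      rw [leadingCoeff_X_pow, div_one, leadingCoeff, hnat, hc] at this
      exact this
  have h2 := key.comp (tendsto_natCast_atTop_atTop (R := ℝ))
  refine h2.congr (fun n => ?_)
  simp only [Function.comp_apply, eval_pow, eval_X]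
  rw [hR', rpoly_eval_nat]

theorem tendsto_ratio (K H : ℚ[X]) (e : ℕ) (hK : ∀ n, e < n → K.coeff n = 0)
    (hH : ∀ n, e < n → H.coeff n = 0) (hη : H.coeff e ≠ 0) :
    Filter.Tendsto (fun n : ℕ => ((K.eval (n : ℚ) / H.eval (n : ℚ) : ℚ) : ℝ)) Filter.atTop
      (nhds (((K.coeff e : ℚ) : ℝ) / ((H.coeff e : ℚ) : ℝ))) := by
  have h1 := (tendsto_eval_div_pow K e hK).div (tendsto_eval_div_pow H e hH)
    (Rat.cast_ne_zero.mpr hη)
  refine h1.congr' ?_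
  filter_upwards [Filter.eventually_ge_atTop 1] with n hn
  have hn0 : ((n : ℝ) ^ e) ≠ 0 := pow_ne_zero _ (Nat.cast_ne_zero.mpr (by omega))
  simp only [Pi.div_apply]
  rw [div_div_div_cancel_right₀ hn0, Rat.cast_div]

variable {C : Type u} [Category.{v} C]

theorem parPolyOne_eval {E : C} (𝓔 : ParSh.Str E) (d : ℕ) (Q : ℚ[X])
    (QH H : Fin (𝓔.l + 2) → ℚ[X]) (m : ℕ) :
    (W4swparbununimod.parPolyOne 𝓔 d Q QH H).eval (m : ℝ) = ((Q.eval (m : ℚ) : ℚ) : ℝ) -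
      ∑ j : Fin (𝓔.l + 1), ((𝓔.wtX j.succ - 𝓔.wtX j.castSucc) *
        ((StabCat.alpha (d - 1) (QH j.succ) / StabCat.alpha (d - 1) (H j.succ) : ℚ) : ℝ)) *
          (((H j.succ).eval (m : ℚ) : ℚ) : ℝ) := by
  unfold W4swparbununimod.parPolyOne
  simp only [eval_sub, eval_finsetSum, eval_mul, eval_C, rpoly_eval_nat]

/-- the abstract limit comparison -/
theorem limit_compare (l d : ℕ) (Δ κ η hm : Fin (l + 1) → ℝ) (ratio : Fin (l + 1) → ℕ → ℝ)
    (hratio : ∀ j, Filter.Tendsto (ratio j) Filter.atTop (nhds (κ j / η j)))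
    (Pn Qn : ℕ → ℝ) (Pd Qd : ℝ)
    (hPn : Filter.Tendsto (fun n : ℕ => Pn n / (n : ℝ) ^ d) Filter.atTop (nhds Pd))
    (hQn : Filter.Tendsto (fun n : ℕ => Qn n / (n : ℝ) ^ d) Filter.atTop (nhds Qd))
    (qm par : ℝ) :
    ((∃ N : ℕ, ∀ n : ℕ, N ≤ n →
        (qm - ∑ j : Fin (l + 1), Δ j * (ratio j n * hm j)) * Pn n ≤ par * Qn n) →
      (qm - ∑ j : Fin (l + 1), Δ j * (κ j / η j * hm j)) * Pd ≤ par * Qd) ∧
    ((qm - ∑ j : Fin (l + 1), Δ j * (κ j / η j * hm j)) * Pd < par * Qd →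
      ∃ N : ℕ, ∀ n : ℕ, N ≤ n →
        (qm - ∑ j : Fin (l + 1), Δ j * (ratio j n * hm j)) * Pn n < par * Qn n) := by
  have hA : Filter.Tendsto
      (fun n : ℕ => (qm - ∑ j : Fin (l + 1), Δ j * (ratio j n * hm j)) * (Pn n / (n : ℝ) ^ d))
      Filter.atTop (nhds ((qm - ∑ j : Fin (l + 1), Δ j * (κ j / η j * hm j)) * Pd)) := by
    refine Filter.Tendsto.mul (Filter.Tendsto.sub tendsto_const_nhds ?_) hPn
    refine tendsto_finsetSum _ (fun j _ => ?_)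
    exact Filter.Tendsto.const_mul (Δ j) (Filter.Tendsto.mul_const (hm j) (hratio j))
  have hB : Filter.Tendsto (fun n : ℕ => par * (Qn n / (n : ℝ) ^ d)) Filter.atTop
      (nhds (par * Qd)) := Filter.Tendsto.const_mul par hQn
  constructor
  · rintro ⟨N, hN⟩
    refine le_of_tendsto_of_tendsto hA hB (Filter.eventually_atTop.mpr ⟨N, fun n hn => ?_⟩)
    have h1 := div_le_div_of_nonneg_right (hN n hn) (pow_nonneg (Nat.cast_nonneg n) d)
    rw [mul_div_assoc, mul_div_assoc] at h1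
    exact h1
  · intro hlt
    have hev := hA.eventually_lt hB hlt
    obtain ⟨N, hN⟩ := Filter.eventually_atTop.mp (hev.and (Filter.eventually_ge_atTop 1))
    refine ⟨N, fun n hn => ?_⟩
    obtain ⟨h1, h2⟩ := hN n hn
    have hpos : (0 : ℝ) < (n : ℝ) ^ d := pow_pos (by exact_mod_cast h2) d
    rw [← mul_div_assoc, ← mul_div_assoc] at h1
    exact (div_lt_div_iff_of_pos_right hpos).mp h1

end Generic

variable (k : Type u) [Field k] {X : Scheme.{u}} [X.Over (Spec (CommRingCat.of k))]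
  [IsProper (X ↘ Spec (CommRingCat.of k))]

theorem p2_compare
    (L : X.Modules) (hL : CohB1.IsAmple L) (I : X.IdealSheafData)
    (E : X.Modules) (hE : Coh.IsCoh E) (𝓔 : ParSh.Str E) (h𝓔 : 𝓔.Along I)
    (hcoh : ∀ j, Coh.IsCoh ((𝓔.pieceX j : Subobject E) : X.Modules)) (d : ℕ) (hd : 1 ≤ d)
    (hsupp : topologicalKrullDim ↥(CohB1.support E ∩ (I.support : Set X)) < (d : WithBot ℕ∞))
    (h0 : ¬ IsZero E) (hpure : ShStab.IsPure X E d)
    (P : ℚ[X]) (hP : ShStab.IsHilbPoly k X L E P) (PX : Fin (𝓔.l + 2) → ℚ[X])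
    (H : Fin (𝓔.l + 2) → ℚ[X]) (hH : ∀ j, ShStab.IsHilbPoly k X L (cokernel (𝓔.pieceX j).arrow) (H j))
    (hHa : ∀ j : Fin (𝓔.l + 1), StabCat.alpha (d - 1) (H j.succ) ≠ 0)
    {W : X.Modules} (ι : W ⟶ E) [Mono ι] (hW : Coh.IsCoh W)
    (Q : ℚ[X]) (hQ : ShStab.IsHilbPoly k X L W Q) (QH : Fin (𝓔.l + 2) → ℚ[X])
    (hQH : ∀ j, ShStab.IsHilbPoly k X L (cokernel ((𝓔.induced ι).pieceX j).arrow) (QH j)) :
    ((∃ M : ℕ, ∀ m : ℕ, M ≤ m → ∃ N : ℕ, ∀ n : ℕ, N ≤ n →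
        (((Q.eval (m : ℚ) : ℚ) : ℝ) -
            ∑ j : Fin (𝓔.l + 1), (𝓔.wtX j.succ - 𝓔.wtX j.castSucc) *
              ((((QH j.succ).eval (n : ℚ) / (H j.succ).eval (n : ℚ) : ℚ) : ℝ) * (((H j.succ).eval (m : ℚ) : ℚ) : ℝ))) *
          ((P.eval (n : ℚ) : ℚ) : ℝ) ≤
        (W4swparbununimod.parPoly 𝓔 PX).eval (m : ℝ) * ((Q.eval (n : ℚ) : ℚ) : ℝ)) →
      ∃ M : ℕ, ∀ m : ℕ, M ≤ m →
        (W4swparbununimod.parPolyOne 𝓔 d Q QH H).eval (m : ℝ) * (StabCat.alpha d P : ℝ) ≤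
          (W4swparbununimod.parPoly 𝓔 PX).eval (m : ℝ) * (StabCat.alpha d Q : ℝ)) ∧
    ((∃ M : ℕ, ∀ m : ℕ, M ≤ m →
        (W4swparbununimod.parPolyOne 𝓔 d Q QH H).eval (m : ℝ) * (StabCat.alpha d P : ℝ) <
          (W4swparbununimod.parPoly 𝓔 PX).eval (m : ℝ) * (StabCat.alpha d Q : ℝ)) →
      ∃ M : ℕ, ∀ m : ℕ, M ≤ m → ∃ N : ℕ, ∀ n : ℕ, N ≤ n →
        (((Q.eval (m : ℚ) : ℚ) : ℝ) -
            ∑ j : Fin (𝓔.l + 1), (𝓔.wtX j.succ - 𝓔.wtX j.castSucc) *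
              ((((QH j.succ).eval (n : ℚ) / (H j.succ).eval (n : ℚ) : ℚ) : ℝ) * (((H j.succ).eval (m : ℚ) : ℚ) : ℝ))) *
          ((P.eval (n : ℚ) : ℚ) : ℝ) <
        (W4swparbununimod.parPoly 𝓔 PX).eval (m : ℝ) * ((Q.eval (n : ℚ) : ℚ) : ℝ)) := by
  have hbotW := induced_hbot I ι 𝓔 h𝓔
  have hcohW := induced_hcoh k ι hW hE 𝓔 hcoh
  have hsuppW := induced_hsupp I ι d hsupp
  have hdimE : topologicalKrullDim ↥(CohB1.support E) = (d : WithBot ℕ∞) :=
    hpure E (𝟙 E) inferInstance hE h0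
  have hdimE' : topologicalKrullDim ↥(CohB1.support E) < ((d + 1 : ℕ) : WithBot ℕ∞) := by
    rw [hdimE]
    exact_mod_cast Nat.lt_succ_self d
  have hdimW' : topologicalKrullDim ↥(CohB1.support W) < ((d + 1 : ℕ) : WithBot ℕ∞) :=
    lt_of_le_of_lt
      (Topology.IsEmbedding.inclusion (support_subset_of_mono ι)).isInducing.topologicalKrullDim_le
      hdimE'
  have hP0 : ∀ n, d < n → P.coeff n = 0 := fun n hn =>
    Groth.Agent.Lib.Helper23.HilbP.coeff_eq_zero_of_dim_lt k hL E hE hP (d + 1) hdimE' n hn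
  have hQ0 : ∀ n, d < n → Q.coeff n = 0 := fun n hn =>
    Groth.Agent.Lib.Helper23.HilbP.coeff_eq_zero_of_dim_lt k hL W hW hQ (d + 1) hdimW' n hn
  have hHdeg : ∀ j, ∀ n, d - 1 < n → (H j).coeff n = 0 := fun j n hn =>
    coeff_cokernel_arrow k L hL I E hE (𝓔.pieceX j) ((le_of_eq h𝓔.symm).trans (𝓔.bot_le_pieceX j))
      (hcoh j) d hsupp (H j) (hH j) n (by omega)
  have hQHdeg : ∀ j, ∀ n, d - 1 < n → (QH j).coeff n = 0 := fun j n hn =>
    coeff_cokernel_arrow k L hL I W hW ((𝓔.induced ι).pieceX j)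
      (hbotW.trans ((𝓔.induced ι).bot_le_pieceX j)) (hcohW j) d hsuppW (QH j) (hQH j) n (by omega)
  have hf : ((d - 1).factorial : ℚ) ≠ 0 := Nat.cast_ne_zero.mpr (Nat.factorial_ne_zero _)
  have hη : ∀ j : Fin (𝓔.l + 1), (H j.succ).coeff (d - 1) ≠ 0 := fun j h0 => by
    have := hHa j
    unfold StabCat.alpha at this
    exact this (by rw [h0, mul_zero])
  have hρ : ∀ j : Fin (𝓔.l + 1),
      ((StabCat.alpha (d - 1) (QH j.succ) / StabCat.alpha (d - 1) (H j.succ) : ℚ) : ℝ) =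
        (((QH j.succ).coeff (d - 1) : ℚ) : ℝ) / (((H j.succ).coeff (d - 1) : ℚ) : ℝ) := by
    intro j
    unfold StabCat.alpha
    rw [mul_div_mul_left _ _ hf, Rat.cast_div]
  have hfac : (0 : ℝ) < (d.factorial : ℝ) := by exact_mod_cast Nat.factorial_pos d
  have haP : ((StabCat.alpha d P : ℚ) : ℝ) = (d.factorial : ℝ) * ((P.coeff d : ℚ) : ℝ) := by
    unfold StabCat.alpha
    push_cast
    rfl
  have haQ : ((StabCat.alpha d Q : ℚ) : ℝ) = (d.factorial : ℝ) * ((Q.coeff d : ℚ) : ℝ) := by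
    unfold StabCat.alpha
    push_cast
    rfl
  have hlim := fun m : ℕ => limit_compare 𝓔.l d
    (fun j => 𝓔.wtX j.succ - 𝓔.wtX j.castSucc)
    (fun j => (((QH j.succ).coeff (d - 1) : ℚ) : ℝ))
    (fun j => (((H j.succ).coeff (d - 1) : ℚ) : ℝ))
    (fun j => (((H j.succ).eval (m : ℚ) : ℚ) : ℝ))
    (fun j n => (((QH j.succ).eval (n : ℚ) / (H j.succ).eval (n : ℚ) : ℚ) : ℝ))
    (fun j => tendsto_ratio (QH j.succ) (H j.succ) (d - 1) (hQHdeg j.succ) (hHdeg j.succ) (hη j))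
    (fun n => ((P.eval (n : ℚ) : ℚ) : ℝ)) (fun n => ((Q.eval (n : ℚ) : ℚ) : ℝ))
    (((P.coeff d : ℚ) : ℝ)) (((Q.coeff d : ℚ) : ℝ))
    (tendsto_eval_div_pow P d hP0) (tendsto_eval_div_pow Q d hQ0)
    (((Q.eval (m : ℚ) : ℚ) : ℝ)) ((W4swparbununimod.parPoly 𝓔 PX).eval (m : ℝ))
  have hone : ∀ m : ℕ, (W4swparbununimod.parPolyOne 𝓔 d Q QH H).eval (m : ℝ) =
      ((Q.eval (m : ℚ) : ℚ) : ℝ) - ∑ j : Fin (𝓔.l + 1), (𝓔.wtX j.succ - 𝓔.wtX j.castSucc) *
        ((((QH j.succ).coeff (d - 1) : ℚ) : ℝ) / (((H j.succ).coeff (d - 1) : ℚ) : ℝ) *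
          (((H j.succ).eval (m : ℚ) : ℚ) : ℝ)) := by
    intro m
    rw [parPolyOne_eval]
    congr 1
    refine Finset.sum_congr rfl (fun j _ => ?_)
    rw [hρ j]
    ring
  constructor
  · rintro ⟨M, hM⟩
    refine ⟨M, fun m hm => ?_⟩
    have hle := (hlim m).1 (hM m hm)
    rw [hone m, haP, haQ]
    have h3 := mul_le_mul_of_nonneg_left hle hfac.le
    linarith [h3]
  · rintro ⟨M, hM⟩
    refine ⟨M, fun m hm => ?_⟩
    have h := hM m hm
    rw [hone m, haP, haQ] at h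
    refine (hlim m).2 ?_
    by_contra hcon
    rw [not_lt] at hcon
    have h3 := mul_le_mul_of_nonneg_left hcon hfac.le
    linarith [h3, h]

end Groth.Agent.Lib.Helper25.ParShG
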