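import Mathlib
import Groth.Prelude
import Groth.Agent.Lib.Helper25.ParShG
import Groth.Agent.Lib.Helper23.HilbPM
import Groth.Agent.S18526

/-!
# First modified parabolic polynomial versus the parabolic Hilbert polynomial of a submodule
(helper25)
-/

set_option autoImplicit false
set_option linter.style.haveILetI false
universe v u
open CategoryTheory CategoryTheory.Limits AlgebraicGeometry TopologicalSpace Opposite Polynomial

namespace Groth.Agent.Lib.Helper25.ParShH

open Groth.Agent.Lib.Helper17 Groth.Agent.Lib.Helper17.DevBasic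
  Groth.Agent.Lib.Helper25.ParShD Groth.Agent.Lib.Helper25.ParShE Groth.Agent.Lib.Helper25.ParShG

section Generic

variable {C : Type u} [Category.{v} C] [Abelian C]

/-- the preimage of a subobject `T` of `E` along `ι : W ⟶ E` is the kernel of `W ⟶ E ⟶ E/T` -/
theorem pullback_eq_kernelSubobject {W E : C} (ι : W ⟶ E) (T : Subobject E) :
    (Subobject.pullback ι).obj T = kernelSubobject (ι ≫ cokernel.π T.arrow) := by
  have hpb := Subobject.isPullback ι T
  apply le_antisymm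
  · have w : ((Subobject.pullback ι).obj T).arrow ≫ ι ≫ cokernel.π T.arrow = 0 := by
      rw [← Category.assoc, ← hpb.w, Category.assoc, cokernel.condition, Limits.comp_zero]
    exact Subobject.le_of_comm
      (factorThruKernelSubobject (ι ≫ cokernel.π T.arrow) ((Subobject.pullback ι).obj T).arrow w)
      (factorThruKernelSubobject_comp_arrow _ _ _)
  · have h : ((kernelSubobject (ι ≫ cokernel.π T.arrow)).arrow ≫ ι) ≫ cokernel.π T.arrow = 0 := by
      rw [Category.assoc]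
      exact kernelSubobject_arrow_comp _
    exact Subobject.le_of_comm
      (hpb.lift (Abelian.monoLift T.arrow _ h) (kernelSubobject (ι ≫ cokernel.π T.arrow)).arrow
        (Abelian.monoLift_comp T.arrow _ h))
      (hpb.lift_snd _ _ _)

/-- `W / ι⁻¹T` embeds into `E / T` -/
theorem exists_mono_cokernel_pullback {W E : C} (ι : W ⟶ E) (T : Subobject E) :
    ∃ φ : cokernel ((Subobject.pullback ι).obj T).arrow ⟶ cokernel T.arrow, Mono φ := by
  have h := pullback_eq_kernelSubobject ι T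
  let g : W ⟶ cokernel T.arrow := ι ≫ cokernel.π T.arrow
  let e1 : (((Subobject.pullback ι).obj T : Subobject W) : C) ≅ kernel g :=
    Subobject.isoOfEq _ _ h ≪≫ kernelSubobjectIso g
  have hw : ((Subobject.pullback ι).obj T).arrow ≫ (Iso.refl W).hom = e1.hom ≫ kernel.ι g := by
    simp only [e1, Iso.trans_hom, Iso.refl_hom, Category.comp_id, Category.assoc,
      kernelSubobject_arrow]
    exact (Subobject.ofLE_arrow _).symm
  let c : cokernel ((Subobject.pullback ι).obj T).arrow ≅ cokernel (kernel.ι g) :=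
    cokernel.mapIso _ _ e1 (Iso.refl W) hw
  exact ⟨c.hom ≫ Abelian.factorThruCoimage g, mono_comp _ _⟩

theorem wtX_castSucc_le_succ {E : C} (𝓔 : ParSh.Str E) (j : Fin (𝓔.l + 1)) :
    𝓔.wtX j.castSucc ≤ 𝓔.wtX j.succ := by
  rw [ParSh.Str.wtX_castSucc]
  induction j using Fin.lastCases with
  | last =>
    rw [Fin.succ_last, ParSh.Str.wtX_last]
    exact 𝓔.wt_lt_one.le
  | cast j' =>
    rw [← Fin.castSucc_succ, ParSh.Str.wtX_castSucc]
    exact 𝓔.wt_strictMono.monotone (Fin.le_iff_val_le_val.mpr (by simp))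

end Generic

variable (k : Type u) [Field k] {X : Scheme.{u}} [X.Over (Spec (CommRingCat.of k))]

/-- the value of the parabolic polynomial is the parabolic Hilbert function -/
theorem parPoly_eval_eq_parHilb (L : X.Modules) {E : X.Modules} (𝓢 : ParSh.Str E)
    (PX : Fin (𝓢.l + 2) → ℚ[X])
    (hPX : ∀ j, ShStab.IsHilbPoly k X L ((𝓢.pieceX j : Subobject E) : X.Modules) (PX j)) (m : ℕ) :
    (W4swparbununimod.parPoly 𝓢 PX).eval (m : ℝ) = 𝓢.parHilb k X L m := by
  have hc : ∀ j, (((PX j).eval (m : ℚ) : ℚ) : ℝ) =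
      (Curv2.euler k X (ShStab.twist X L ((𝓢.pieceX j : Subobject E) : X.Modules) m) : ℝ) := by
    intro j
    rw [← hPX j m]
    push_cast
    rfl
  unfold ParSh.Str.parHilb
  rw [Groth.Agent.Lib.Helper25.ParShA.parSum_eq]
  unfold W4swparbununimod.parPoly
  simp only [eval_add, eval_finsetSum, eval_mul, eval_C, eval_sub, rpoly_eval_nat, hc]

variable [IsProper (X ↘ Spec (CommRingCat.of k))]

/-- the comparison of `W/W_j ⊂ E/E_j` given by the semistability of `E/E_j` -/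
theorem quot_compare (L : X.Modules) (hL : CohB1.IsAmple L) {E : X.Modules} (hE : Coh.IsCoh E)
    (T : Subobject E) (hT : Coh.IsCoh (T : X.Modules)) (e : ℕ)
    (hss : ShStab.IsSemistable k X L (cokernel T.arrow) e)
    {W : X.Modules} (ι : W ⟶ E) [Mono ι] (hW : Coh.IsCoh W)
    (hTW : Coh.IsCoh (((Subobject.pullback ι).obj T : Subobject W) : X.Modules))
    (Hp Kp : ℚ[X]) (hHp : ShStab.IsHilbPoly k X L (cokernel T.arrow) Hp)
    (hKp : ShStab.IsHilbPoly k X L (cokernel ((Subobject.pullback ι).obj T).arrow) Kp) :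
    ∃ N : ℕ, ∀ m : ℕ, N ≤ m →
      StabCat.alpha e Hp * Kp.eval (m : ℚ) ≤ StabCat.alpha e Kp * Hp.eval (m : ℚ) := by
  obtain ⟨φ, hφ⟩ := exists_mono_cokernel_pullback ι T
  have hFc : Coh.IsCoh (cokernel ((Subobject.pullback ι).obj T).arrow) :=
    isCoh_cokernel _ hTW.1 hW
  by_cases hF0 : IsZero (cokernel ((Subobject.pullback ι).obj T).arrow)
  · have h0 : Kp = 0 := Groth.Agent.Lib.Helper23.HilbP.isHilbPoly_unique k hKp
      (Groth.Agent.Lib.Helper23.HilbP.isHilbPoly_zero k hF0)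
    refine ⟨0, fun m _ => ?_⟩
    rw [h0, Groth.Agent.Lib.Helper23.HilbP.alpha_zero, eval_zero, mul_zero, zero_mul]
  · exact (Groth.Agent.Lib.Helper23.HilbP.redLE_iff e Kp Hp).1
      (Groth.Agent.Lib.Helper23.HilbP.redLE_of_sub k hss φ hFc hF0 hKp hHp)

/-- `par-P₁(W ⊂ E)(m) ≤ par-χ(W)(m)` for large `m`, when the flag quotients of `E` are semistable -/
theorem parPolyOne_le_parHilb
    (L : X.Modules) (hL : CohB1.IsAmple L) (I : X.IdealSheafData)
    (E : X.Modules) (hE : Coh.IsCoh E) (𝓔 : ParSh.Str E)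
    (hcoh : ∀ j, Coh.IsCoh ((𝓔.pieceX j : Subobject E) : X.Modules)) (d : ℕ)
    (H : Fin (𝓔.l + 2) → ℚ[X]) (hH : ∀ j, ShStab.IsHilbPoly k X L (cokernel (𝓔.pieceX j).arrow) (H j))
    (hq : ∀ j : Fin (𝓔.l + 1), ShStab.IsSemistable k X L (cokernel (𝓔.pieceX j.succ).arrow) (d - 1))
    {W : X.Modules} (ι : W ⟶ E) [Mono ι] (hW : Coh.IsCoh W)
    (Q : ℚ[X]) (hQ : ShStab.IsHilbPoly k X L W Q) (QH : Fin (𝓔.l + 2) → ℚ[X])
    (hQH : ∀ j, ShStab.IsHilbPoly k X L (cokernel ((𝓔.induced ι).pieceX j).arrow) (QH j)) :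
    ∃ M : ℕ, ∀ m : ℕ, M ≤ m →
      (W4swparbununimod.parPolyOne 𝓔 d Q QH H).eval (m : ℝ) ≤ (𝓔.induced ι).parHilb k X L m := by
  have hcohW := induced_hcoh k ι hW hE 𝓔 hcoh
  have hcmp : ∀ j : Fin (𝓔.l + 1), ∃ N : ℕ, ∀ m : ℕ, N ≤ m →
      StabCat.alpha (d - 1) (H j.succ) * (QH j.succ).eval (m : ℚ) ≤
        StabCat.alpha (d - 1) (QH j.succ) * (H j.succ).eval (m : ℚ) := by
    intro j
    have h1 := hQH j.succ
    have h2 := hcohW j.succ
    rw [Groth.Agent.Lib.Helper25.ParShA.pieceX_induced] at h1 h2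
    exact quot_compare k L hL hE (𝓔.pieceX j.succ) (hcoh j.succ) (d - 1) (hq j) ι hW h2
      (H j.succ) (QH j.succ) (hH j.succ) h1
  choose N hN using hcmp
  refine ⟨Finset.univ.sup N, fun m hm => ?_⟩
  have hS : (𝓔.induced ι).parHilb k X L m = ((Q.eval (m : ℚ) : ℚ) : ℝ) -
      ∑ j : Fin (𝓔.l + 1), (𝓔.wtX j.succ - 𝓔.wtX j.castSucc) *
        (((QH j.succ).eval (m : ℚ) : ℚ) : ℝ) :=
    Groth.Agent.S18526.result k X L hL W hW (𝓔.induced ι) hcohW Q hQ QH hQH m
  rw [hS, parPolyOne_eval]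
  have hterm : ∀ j : Fin (𝓔.l + 1),
      (𝓔.wtX j.succ - 𝓔.wtX j.castSucc) * (((QH j.succ).eval (m : ℚ) : ℚ) : ℝ) ≤
      ((𝓔.wtX j.succ - 𝓔.wtX j.castSucc) *
        ((StabCat.alpha (d - 1) (QH j.succ) / StabCat.alpha (d - 1) (H j.succ) : ℚ) : ℝ)) *
          (((H j.succ).eval (m : ℚ) : ℚ) : ℝ) := by
    intro j
    have hΔ : 0 ≤ 𝓔.wtX j.succ - 𝓔.wtX j.castSucc := sub_nonneg.mpr (wtX_castSucc_le_succ 𝓔 j)
    have hpos : 0 < StabCat.alpha (d - 1) (H j.succ) :=
      Groth.Agent.Lib.Helper23.HilbP.alpha_pos_of_isSemistable k hL (hq j) (hH j.succ)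
    have h3 := hN j m ((Finset.le_sup (Finset.mem_univ j)).trans hm)
    have h4 : (QH j.succ).eval (m : ℚ) ≤
        StabCat.alpha (d - 1) (QH j.succ) / StabCat.alpha (d - 1) (H j.succ) *
          (H j.succ).eval (m : ℚ) := by
      rw [div_mul_eq_mul_div, le_div_iff₀ hpos, mul_comm]
      exact h3
    have h5 : (((QH j.succ).eval (m : ℚ) : ℚ) : ℝ) ≤
        ((StabCat.alpha (d - 1) (QH j.succ) / StabCat.alpha (d - 1) (H j.succ) : ℚ) : ℝ) *
          (((H j.succ).eval (m : ℚ) : ℚ) : ℝ) := by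
      exact_mod_cast h4
    rw [mul_assoc]
    exact mul_le_mul_of_nonneg_left h5 hΔ
  have hsum := Finset.sum_le_sum (fun j (_ : j ∈ Finset.univ) => hterm j)
  linarith [hsum]

end Groth.Agent.Lib.Helper25.ParShH
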