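import Mathlib
import Groth.Prelude
import Groth.Agent.Lib.Helper25.ParShH
import Groth.Agent.Lib.Helper23.HilbPC

/-!
# p₀-stability and stable flag quotients give p₁-stability (helper25)
-/

set_option autoImplicit false
set_option linter.style.haveILetI false
universe u
open CategoryTheory CategoryTheory.Limits AlgebraicGeometry TopologicalSpace Opposite Polynomial

namespace Groth.Agent.Lib.Helper25.ParShI

open Groth.Agent.Lib.Helper17 Groth.Agent.Lib.Helper17.DevBasic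
  Groth.Agent.Lib.Helper25.ParShD Groth.Agent.Lib.Helper25.ParShE Groth.Agent.Lib.Helper25.ParShG
  Groth.Agent.Lib.Helper25.ParShH

variable (k : Type u) [Field k] {X : Scheme.{u}} [X.Over (Spec (CommRingCat.of k))]
  [IsProper (X ↘ Spec (CommRingCat.of k))]

theorem p1Stable
    (L : X.Modules) (hL : CohB1.IsAmple L) (I : X.IdealSheafData)
    (E : X.Modules) (hE : Coh.IsCoh E) (𝓔 : ParSh.Str E)
    (hcoh : ∀ j, Coh.IsCoh ((𝓔.pieceX j : Subobject E) : X.Modules)) (d : ℕ)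
    (h0 : ¬ IsZero E) (hpure : ShStab.IsPure X E d)
    (P : ℚ[X]) (hP : ShStab.IsHilbPoly k X L E P) (PX : Fin (𝓔.l + 2) → ℚ[X])
    (H : Fin (𝓔.l + 2) → ℚ[X]) (hH : ∀ j, ShStab.IsHilbPoly k X L (cokernel (𝓔.pieceX j).arrow) (H j))
    (hst : (∀ (W : X.Modules) (ι : W ⟶ E), Mono ι → Coh.IsCoh W → ¬ IsZero W → ¬ IsIso ι → ShStab.IsPure X (cokernel ι) d →
        ∀ (Q : ℚ[X]) (QX : Fin (𝓔.l + 2) → ℚ[X]), ShStab.IsHilbPoly k X L W Q →
          (∀ j, ShStab.IsHilbPoly k X L (((𝓔.induced ι).pieceX j : Subobject W) : X.Modules) (QX j)) →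
          ∃ M : ℕ, ∀ m : ℕ, M ≤ m →
            (W4swparbununimod.parPoly (𝓔.induced ι) QX).eval (m : ℝ) * (StabCat.alpha d P : ℝ) <
              (W4swparbununimod.parPoly 𝓔 PX).eval (m : ℝ) * (StabCat.alpha d Q : ℝ)))
    (hq : ∀ j : Fin (𝓔.l + 1), ShStab.IsStable k X L (cokernel (𝓔.pieceX j.succ).arrow) (d - 1))
    {W : X.Modules} (ι : W ⟶ E) [Mono ι] (hW : Coh.IsCoh W)
    (Q : ℚ[X]) (hQ : ShStab.IsHilbPoly k X L W Q) (QH : Fin (𝓔.l + 2) → ℚ[X])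
    (hQH : ∀ j, ShStab.IsHilbPoly k X L (cokernel ((𝓔.induced ι).pieceX j).arrow) (QH j))
    (hW0 : ¬ IsZero W) (hWp : ¬ IsIso ι) (hWsat : ShStab.IsPure X (cokernel ι) d) :
    ∃ M : ℕ, ∀ m : ℕ, M ≤ m →
      (W4swparbununimod.parPolyOne 𝓔 d Q QH H).eval (m : ℝ) * (StabCat.alpha d P : ℝ) <
        (W4swparbununimod.parPoly 𝓔 PX).eval (m : ℝ) * (StabCat.alpha d Q : ℝ) := by
  have hcohW := induced_hcoh k ι hW hE 𝓔 hcoh
  have hex : ∀ j, ∃ q : ℚ[X], ShStab.IsHilbPoly k X L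
      (((𝓔.induced ι).pieceX j : Subobject W) : X.Modules) q := fun j =>
    Groth.Agent.Lib.Helper23.HilbP.exists_isHilbPoly k X hL _ (hcohW j)
  choose QX hQX using hex
  obtain ⟨M1, hM1⟩ := hst W ι inferInstance hW hW0 hWp hWsat Q QX hQ hQX
  obtain ⟨M2, hM2⟩ := parPolyOne_le_parHilb k L hL I E hE 𝓔 hcoh d H hH
    (fun j => Groth.Agent.Lib.Helper23.HilbP.IsStable.isSemistable k (hq j)) ι hW Q hQ QH hQH
  have hαP : 0 < StabCat.alpha d P :=
    Groth.Agent.Lib.Helper23.HilbP.alpha_pos_of_pure k hL hpure (𝟙 E) hE h0 hP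
  have hαP' : (0 : ℝ) < ((StabCat.alpha d P : ℚ) : ℝ) := by exact_mod_cast hαP
  refine ⟨max M1 M2, fun m hm => ?_⟩
  have h1 := hM1 m ((le_max_left _ _).trans hm)
  have h2 := hM2 m ((le_max_right _ _).trans hm)
  rw [← parPoly_eval_eq_parHilb k L (𝓔.induced ι) QX hQX m] at h2
  exact lt_of_le_of_lt (mul_le_mul_of_nonneg_right h2 hαP'.le) h1

end Groth.Agent.Lib.Helper25.ParShI
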