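import Mathlib
import Groth.Prelude
import Groth.Agent.Lib.Helper25.ParShI
import Groth.Agent.Lib.Helper23.HilbPX
import Groth.Agent.Lib.Helper23.HilbPD

/-!
# p₀-semistability and semistable flag quotients give p₁-semistability (helper25)
-/

set_option autoImplicit false
set_option linter.style.haveILetI false
universe u
open CategoryTheory CategoryTheory.Limits AlgebraicGeometry TopologicalSpace Opposite Polynomial

namespace Groth.Agent.Lib.Helper25.ParShJ

open Groth.Agent.Lib.Helper17 Groth.Agent.Lib.Helper17.DevBasic Groth.Agent.Lib.Helper17.DevKey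
  Groth.Agent.Lib.Helper25.ParShD Groth.Agent.Lib.Helper25.ParShE Groth.Agent.Lib.Helper25.ParShG
  Groth.Agent.Lib.Helper25.ParShH

section Generic

theorem abel2 (l : ℕ) (w : Fin (l + 1) → ℝ) (wX : Fin (l + 2) → ℝ)
    (hc : ∀ j : Fin (l + 1), wX j.castSucc = w j) (hl : wX (Fin.last (l + 1)) = 1)
    (δ : Fin (l + 2) → ℝ) :
    δ (Fin.last (l + 1)) + ∑ j : Fin (l + 1), w j * (δ j.castSucc - δ j.succ) =
      wX 0 * δ 0 + ∑ j : Fin (l + 1), (wX j.succ - wX j.castSucc) * δ j.succ := by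
  obtain ⟨g, hg⟩ : ∃ g : Fin (l + 2) → ℝ, ∀ i, g i = wX i * δ i := ⟨_, fun _ => rfl⟩
  have hg1 : ∑ i, g i = g 0 + ∑ j : Fin (l + 1), g j.succ := Fin.sum_univ_succ g
  have hg2 : ∑ i, g i = ∑ j : Fin (l + 1), g j.castSucc + g (Fin.last _) :=
    Fin.sum_univ_castSucc g
  have hgl : g (Fin.last (l + 1)) = δ (Fin.last (l + 1)) := by rw [hg, hl, one_mul]
  have hL1 : ∑ j : Fin (l + 1), w j * (δ j.castSucc - δ j.succ) =
      ∑ j : Fin (l + 1), g j.castSucc - ∑ j : Fin (l + 1), w j * δ j.succ := by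
    rw [← Finset.sum_sub_distrib]
    refine Finset.sum_congr rfl (fun j _ => ?_)
    rw [hg, hc]
    ring
  have hR1 : ∑ j : Fin (l + 1), (wX j.succ - wX j.castSucc) * δ j.succ =
      ∑ j : Fin (l + 1), g j.succ - ∑ j : Fin (l + 1), w j * δ j.succ := by
    rw [← Finset.sum_sub_distrib]
    refine Finset.sum_congr rfl (fun j _ => ?_)
    rw [hg, hc]
    ring
  rw [hL1, hR1, ← hg 0]
  linarith

theorem parSum_mono' (l : ℕ) (w : Fin (l + 1) → ℝ) (wX : Fin (l + 2) → ℝ)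
    (hc : ∀ j : Fin (l + 1), wX j.castSucc = w j) (hl : wX (Fin.last (l + 1)) = 1)
    (h0 : 0 ≤ wX 0) (hstep : ∀ j : Fin (l + 1), wX j.castSucc ≤ wX j.succ)
    (c c' : Fin (l + 2) → ℝ) (h : ∀ i, c i ≤ c' i) :
    c (Fin.last (l + 1)) + ∑ j : Fin (l + 1), w j * (c j.castSucc - c j.succ) ≤
      c' (Fin.last (l + 1)) + ∑ j : Fin (l + 1), w j * (c' j.castSucc - c' j.succ) := by
  have e := abel2 l w wX hc hl (fun i => c' i - c i)
  have hnn : 0 ≤ wX 0 * (c' 0 - c 0) +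
      ∑ j : Fin (l + 1), (wX j.succ - wX j.castSucc) * (c' j.succ - c j.succ) :=
    add_nonneg (mul_nonneg h0 (sub_nonneg.mpr (h 0)))
      (Finset.sum_nonneg fun j _ =>
        mul_nonneg (sub_nonneg.mpr (hstep j)) (sub_nonneg.mpr (h _)))
  have hsplit : ∑ j : Fin (l + 1),
      w j * ((c' j.castSucc - c j.castSucc) - (c' j.succ - c j.succ)) =
      ∑ j : Fin (l + 1), w j * (c' j.castSucc - c' j.succ) -
        ∑ j : Fin (l + 1), w j * (c j.castSucc - c j.succ) := by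
    rw [← Finset.sum_sub_distrib]
    exact Finset.sum_congr rfl (fun j _ => by ring)
  rw [hsplit] at e
  linarith

end Generic

variable (k : Type u) [Field k] {X : Scheme.{u}} [X.Over (Spec (CommRingCat.of k))]
  [IsProper (X ↘ Spec (CommRingCat.of k))]

/-- for large twists the Euler characteristic of `j⁻¹S` is at most that of `S` -/
theorem euler_pullback_le (L : X.Modules) (hL : CohB1.IsAmple L) {W W' : X.Modules} (j : W ⟶ W')
    [Mono j] (hW : Coh.IsCoh W) (hW' : Coh.IsCoh W') (S : Subobject W')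
    (hS : Coh.IsCoh (S : X.Modules)) :
    ∃ N : ℕ, ∀ m : ℕ, N ≤ m →
      Curv2.euler k X (ShStab.twist X L
        (((Subobject.pullback j).obj S : Subobject W) : X.Modules) m) ≤
      Curv2.euler k X (ShStab.twist X L (S : X.Modules) m) := by
  have hA : Coh.IsCoh (((Subobject.pullback j).obj S : Subobject W) : X.Modules) :=
    (Groth.Agent.Lib.Helper25.ParShB.isCoh_pieces k X j (cokernel.π j) (cokernel.condition j)
      (shortExact_of_mono j) (isCoh_cokernel j hW.1 hW') S hS).1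
  have hpb := Subobject.isPullback j S
  haveI : Mono (Subobject.pullbackπ j S) := by
    haveI : Mono (Subobject.pullbackπ j S ≫ S.arrow) := by
      rw [hpb.w]
      infer_instance
    exact mono_of_mono _ S.arrow
  have hC : Coh.IsCoh (cokernel (Subobject.pullbackπ j S)) := isCoh_cokernel _ hA.1 hS
  have hadd : ∀ m : ℕ, Curv2.euler k X (ShStab.twist X L (S : X.Modules) m) =
      Curv2.euler k X (ShStab.twist X L
        (((Subobject.pullback j).obj S : Subobject W) : X.Modules) m) +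
      Curv2.euler k X (ShStab.twist X L (cokernel (Subobject.pullbackπ j S)) m) := fun m =>
    Groth.Agent.Lib.Helper23.HilbP.euler_twist_add k X hL.1 _
      (shortExact_of_mono (Subobject.pullbackπ j S)) hA hS hC m
  by_cases hz : IsZero (cokernel (Subobject.pullbackπ j S))
  · refine ⟨0, fun m _ => ?_⟩
    have h0 : Curv2.euler k X (ShStab.twist X L (cokernel (Subobject.pullbackπ j S)) m) = 0 := by
      have := Groth.Agent.Lib.Helper23.HilbP.isHilbPoly_zero k (L := L) hz m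
      rw [eval_zero] at this
      exact_mod_cast this
    rw [hadd m, h0, add_zero]
  · obtain ⟨N, hN⟩ := Groth.Agent.Lib.Helper23.HilbP.eventually_pos k X hL _ hC hz
    refine ⟨N, fun m hm => ?_⟩
    rw [hadd m]
    linarith [hN m hm]

/-- the parabolic Hilbert function of the induced structure grows with the submodule -/
theorem parHilb_induced_mono (L : X.Modules) (hL : CohB1.IsAmple L) {E : X.Modules}
    (hE : Coh.IsCoh E) (𝓔 : ParSh.Str E)
    (hcoh : ∀ j, Coh.IsCoh ((𝓔.pieceX j : Subobject E) : X.Modules))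
    {W W' : X.Modules} (j : W ⟶ W') [Mono j] (ι' : W' ⟶ E) [Mono ι'] (hW : Coh.IsCoh W)
    (hW' : Coh.IsCoh W') :
    ∃ M : ℕ, ∀ m : ℕ, M ≤ m →
      (𝓔.induced (j ≫ ι')).parHilb k X L m ≤ (𝓔.induced ι').parHilb k X L m := by
  have hcohW' := induced_hcoh k ι' hW' hE 𝓔 hcoh
  have hcmp : ∀ i : Fin (𝓔.l + 2), ∃ N : ℕ, ∀ m : ℕ, N ≤ m →
      Curv2.euler k X (ShStab.twist X L
        (((Subobject.pullback (j ≫ ι')).obj (𝓔.pieceX i) : Subobject W) : X.Modules) m) ≤
      Curv2.euler k X (ShStab.twist X L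
        (((Subobject.pullback ι').obj (𝓔.pieceX i) : Subobject W') : X.Modules) m) := by
    intro i
    have hS := hcohW' i
    rw [Groth.Agent.Lib.Helper25.ParShA.pieceX_induced] at hS
    have h1 := euler_pullback_le k L hL j hW hW' ((Subobject.pullback ι').obj (𝓔.pieceX i)) hS
    rw [← Subobject.pullback_comp] at h1
    exact h1
  choose N hN using hcmp
  refine ⟨Finset.univ.sup N, fun m hm => ?_⟩
  unfold ParSh.Str.parHilb
  rw [Groth.Agent.Lib.Helper25.ParShA.parSum_eq, Groth.Agent.Lib.Helper25.ParShA.parSum_eq]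
  have h00 : (0 : ℝ) ≤ 𝓔.wtX 0 := by
    have : (0 : Fin (𝓔.l + 2)) = Fin.castSucc 0 := rfl
    rw [this, ParSh.Str.wtX_castSucc]
    exact 𝓔.wt_nonneg
  exact parSum_mono' 𝓔.l 𝓔.wt 𝓔.wtX (fun j => 𝓔.wtX_castSucc j) 𝓔.wtX_last h00
    (wtX_castSucc_le_succ 𝓔)
    (fun i => ((Curv2.euler k X (ShStab.twist X L
      (((𝓔.induced (j ≫ ι')).pieceX i : Subobject W) : X.Modules) m) : ℤ) : ℝ))
    (fun i => ((Curv2.euler k X (ShStab.twist X L
      (((𝓔.induced ι').pieceX i : Subobject W') : X.Modules) m) : ℤ) : ℝ))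
    (fun i => by
      rw [Groth.Agent.Lib.Helper25.ParShA.pieceX_induced,
        Groth.Agent.Lib.Helper25.ParShA.pieceX_induced]
      exact_mod_cast hN i m ((Finset.le_sup (Finset.mem_univ i)).trans hm))

theorem p1Semistable
    (L : X.Modules) (hL : CohB1.IsAmple L) (I : X.IdealSheafData)
    (E : X.Modules) (hE : Coh.IsCoh E) (𝓔 : ParSh.Str E)
    (hcoh : ∀ j, Coh.IsCoh ((𝓔.pieceX j : Subobject E) : X.Modules)) (d : ℕ)
    (h0 : ¬ IsZero E) (hpure : ShStab.IsPure X E d)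
    (P : ℚ[X]) (hP : ShStab.IsHilbPoly k X L E P) (PX : Fin (𝓔.l + 2) → ℚ[X])
    (H : Fin (𝓔.l + 2) → ℚ[X]) (hH : ∀ j, ShStab.IsHilbPoly k X L (cokernel (𝓔.pieceX j).arrow) (H j))
    (hss : (∀ (W : X.Modules) (ι : W ⟶ E), Mono ι → Coh.IsCoh W → ¬ IsZero W → ShStab.IsPure X (cokernel ι) d →
        ∀ (Q : ℚ[X]) (QX : Fin (𝓔.l + 2) → ℚ[X]), ShStab.IsHilbPoly k X L W Q →
          (∀ j, ShStab.IsHilbPoly k X L (((𝓔.induced ι).pieceX j : Subobject W) : X.Modules) (QX j)) →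
          ∃ M : ℕ, ∀ m : ℕ, M ≤ m →
            (W4swparbununimod.parPoly (𝓔.induced ι) QX).eval (m : ℝ) * (StabCat.alpha d P : ℝ) ≤
              (W4swparbununimod.parPoly 𝓔 PX).eval (m : ℝ) * (StabCat.alpha d Q : ℝ)))
    (hq : ∀ j : Fin (𝓔.l + 1), ShStab.IsSemistable k X L (cokernel (𝓔.pieceX j.succ).arrow) (d - 1))
    {W : X.Modules} (ι : W ⟶ E) [Mono ι] (hW : Coh.IsCoh W)
    (Q : ℚ[X]) (hQ : ShStab.IsHilbPoly k X L W Q) (QH : Fin (𝓔.l + 2) → ℚ[X])
    (hQH : ∀ j, ShStab.IsHilbPoly k X L (cokernel ((𝓔.induced ι).pieceX j).arrow) (QH j))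
    (hW0 : ¬ IsZero W) :
    ∃ M : ℕ, ∀ m : ℕ, M ≤ m →
      (W4swparbununimod.parPolyOne 𝓔 d Q QH H).eval (m : ℝ) * (StabCat.alpha d P : ℝ) ≤
        (W4swparbununimod.parPoly 𝓔 PX).eval (m : ℝ) * (StabCat.alpha d Q : ℝ) := by
  have hdimE : topologicalKrullDim ↥(CohB1.support E) = (d : WithBot ℕ∞) :=
    hpure E (𝟙 E) inferInstance hE h0
  obtain ⟨W', ι', j, pT, hι', rfl, hW', hpure', hHilb, hpTdeg, -⟩ :=
    Groth.Agent.Lib.Helper23.HilbP.exists_saturation k hL hE hdimE.le ι hW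
  haveI := hι'
  haveI : Mono j := mono_of_mono j ι'
  have hW'0 : ¬ IsZero W' := fun hz => hW0 (IsZero.of_mono j hz)
  have hcohW' := induced_hcoh k ι' hW' hE 𝓔 hcoh
  have hex : ∀ i, ∃ q : ℚ[X], ShStab.IsHilbPoly k X L
      (((𝓔.induced ι').pieceX i : Subobject W') : X.Modules) q := fun i =>
    Groth.Agent.Lib.Helper23.HilbP.exists_isHilbPoly k X hL _ (hcohW' i)
  choose QX' hQX' using hex
  have hQ' := hHilb Q hQ
  obtain ⟨M1, hM1⟩ := hss W' ι' hι' hW' hW'0 hpure' (Q + pT) QX' hQ' hQX'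
  have hα : StabCat.alpha d (Q + pT) = StabCat.alpha d Q := by
    rw [Groth.Agent.Lib.Helper23.HilbP.alpha_add]
    unfold StabCat.alpha
    rw [hpTdeg d le_rfl]
    ring
  obtain ⟨M2, hM2⟩ := parPolyOne_le_parHilb k L hL I E hE 𝓔 hcoh d H hH hq (j ≫ ι') hW Q hQ QH hQH
  obtain ⟨M3, hM3⟩ := parHilb_induced_mono k L hL hE 𝓔 hcoh j ι' hW hW'
  have hαP : 0 < StabCat.alpha d P :=
    Groth.Agent.Lib.Helper23.HilbP.alpha_pos_of_pure k hL hpure (𝟙 E) hE h0 hP
  have hαP' : (0 : ℝ) < ((StabCat.alpha d P : ℚ) : ℝ) := by exact_mod_cast hαP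
  refine ⟨max M1 (max M2 M3), fun m hm => ?_⟩
  have h1 := hM1 m ((le_max_left _ _).trans hm)
  have h2 := hM2 m (((le_max_left _ _).trans (le_max_right _ _)).trans hm)
  have h3 := hM3 m (((le_max_right _ _).trans (le_max_right _ _)).trans hm)
  rw [hα, parPoly_eval_eq_parHilb k L (𝓔.induced ι') QX' hQX' m] at h1
  exact ((mul_le_mul_of_nonneg_right h2 hαP'.le).trans
    (mul_le_mul_of_nonneg_right h3 hαP'.le)).trans h1

end Groth.Agent.Lib.Helper25.ParShJ
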