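import Mathlib
import Groth.Prelude
import Groth.Agent.Lib.Helper25.ParShJ
import Groth.Agent.S18524

/-!
# Kernel and image of a parabolic homomorphism between p₀-semistable parabolic sheaves (helper25)
-/

set_option autoImplicit false
set_option linter.style.haveILetI false
universe v u
open CategoryTheory CategoryTheory.Limits AlgebraicGeometry TopologicalSpace Opposite Polynomial

namespace Groth.Agent.Lib.Helper25.ParShL

open Groth.Agent.Lib.Helper17 Groth.Agent.Lib.Helper17.DevBasic Groth.Agent.Lib.Helper17.DevKey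
  Groth.Agent.Lib.Helper25.ParShD Groth.Agent.Lib.Helper25.ParShE Groth.Agent.Lib.Helper25.ParShG
  Groth.Agent.Lib.Helper25.ParShH Groth.Agent.Lib.Helper25.ParShJ

section Real

theorem chain_eq {pk v1 v2 v' A B aP aR aK aV : ℝ} (hP : 0 < aP) (hR : 0 < aR)
    (h1 : pk * aP ≤ A * aK) (h2 : pk + v1 = A) (h3 : aK + aV = aP) (h4 : v1 ≤ v2) (h5 : v2 ≤ v')
    (h6 : v' * aR ≤ B * aV) (h7 : A * aR = B * aP) :
    pk * aP = A * aK ∧ v1 = v2 ∧ v2 = v' := by
  have e1 : pk * aP * aR ≤ A * aK * aR := mul_le_mul_of_nonneg_right h1 hR.le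
  have a1 : v1 * aR ≤ v2 * aR := mul_le_mul_of_nonneg_right h4 hR.le
  have a2 : v2 * aR ≤ v' * aR := mul_le_mul_of_nonneg_right h5 hR.le
  have e2 : v1 * aR ≤ B * aV := (a1.trans a2).trans h6
  have e3 : v1 * aR * aP ≤ B * aV * aP := mul_le_mul_of_nonneg_right e2 hP.le
  have hsum : pk * aP * aR + v1 * aR * aP = A * aK * aR + B * aV * aP := by
    calc pk * aP * aR + v1 * aR * aP = (pk + v1) * aP * aR := by ring
      _ = A * aP * aR := by rw [h2]
      _ = (A * aR) * (aK + aV) := by rw [h3]; ring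
      _ = A * aK * aR + (A * aR) * aV := by ring
      _ = A * aK * aR + (B * aP) * aV := by rw [h7]
      _ = A * aK * aR + B * aV * aP := by ring
  have eq1 : pk * aP * aR = A * aK * aR := by linarith
  have eq3 : v1 * aR * aP = B * aV * aP := by linarith
  have eq1' : pk * aP = A * aK := mul_right_cancel₀ hR.ne' eq1
  have eq3' : v1 * aR = B * aV := mul_right_cancel₀ hP.ne' eq3
  exact ⟨eq1', mul_right_cancel₀ hR.ne' (by linarith), mul_right_cancel₀ hR.ne' (by linarith)⟩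

theorem parSum_eq_case (l : ℕ) (w : Fin (l + 1) → ℝ) (wX : Fin (l + 2) → ℝ)
    (hc : ∀ j : Fin (l + 1), wX j.castSucc = w j) (hl : wX (Fin.last (l + 1)) = 1)
    (h0 : 0 < wX 0) (hstep : ∀ j : Fin (l + 1), wX j.castSucc < wX j.succ)
    (c c' : Fin (l + 2) → ℝ) (h : ∀ i, c i ≤ c' i)
    (heq : c (Fin.last (l + 1)) + ∑ j : Fin (l + 1), w j * (c j.castSucc - c j.succ) =
      c' (Fin.last (l + 1)) + ∑ j : Fin (l + 1), w j * (c' j.castSucc - c' j.succ)) :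
    ∀ i, c i = c' i := by
  have e := abel2 l w wX hc hl (fun i => c' i - c i)
  have hsplit : ∑ j : Fin (l + 1),
      w j * ((c' j.castSucc - c j.castSucc) - (c' j.succ - c j.succ)) =
      ∑ j : Fin (l + 1), w j * (c' j.castSucc - c' j.succ) -
        ∑ j : Fin (l + 1), w j * (c j.castSucc - c j.succ) := by
    rw [← Finset.sum_sub_distrib]
    exact Finset.sum_congr rfl (fun j _ => by ring)
  rw [hsplit] at e
  have hterm : ∀ j ∈ (Finset.univ : Finset (Fin (l + 1))),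
      0 ≤ (wX j.succ - wX j.castSucc) * (c' j.succ - c j.succ) := fun j _ =>
    mul_nonneg (sub_nonneg.mpr (hstep j).le) (sub_nonneg.mpr (h _))
  have hS := Finset.sum_nonneg hterm
  have h00 : 0 ≤ wX 0 * (c' 0 - c 0) := mul_nonneg h0.le (sub_nonneg.mpr (h 0))
  have hz0 : wX 0 * (c' 0 - c 0) = 0 := by linarith
  have hzS : ∑ j : Fin (l + 1), (wX j.succ - wX j.castSucc) * (c' j.succ - c j.succ) = 0 := by
    linarith
  have hzj := (Finset.sum_eq_zero_iff_of_nonneg hterm).1 hzS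
  intro i
  refine Fin.cases ?_ (fun j => ?_) i
  · have := (mul_eq_zero.1 hz0).resolve_left h0.ne'
    linarith
  · have := (mul_eq_zero.1 (hzj j (Finset.mem_univ j))).resolve_left
      (sub_pos.mpr (hstep j)).ne'
    linarith

theorem poly_ext_real (p q : ℝ[X]) (M : ℕ)
    (h : ∀ m : ℕ, M ≤ m → p.eval (m : ℝ) = q.eval (m : ℝ)) : p = q := by
  apply Polynomial.eq_of_infinite_eval_eq
  have hinj : Function.Injective (fun n : ℕ => ((n + M : ℕ) : ℝ)) := by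
    intro a b hab
    have h1 : ((a + M : ℕ) : ℝ) = ((b + M : ℕ) : ℝ) := hab
    have h2 : a + M = b + M := Nat.cast_injective h1
    omega
  refine (Set.infinite_range_of_injective hinj).mono ?_
  rintro _ ⟨n, rfl⟩
  exact h _ (Nat.le_add_left _ _)

end Real

section Generic

variable {C : Type u} [Category.{v} C] [Abelian C]

theorem wtX_castSucc_lt_succ {E : C} (𝓔 : ParSh.Str E) (j : Fin (𝓔.l + 1)) :
    𝓔.wtX j.castSucc < 𝓔.wtX j.succ := by
  rw [ParSh.Str.wtX_castSucc]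
  induction j using Fin.lastCases with
  | last =>
    rw [Fin.succ_last, ParSh.Str.wtX_last]
    exact 𝓔.wt_lt_one
  | cast j' =>
    rw [← Fin.castSucc_succ, ParSh.Str.wtX_castSucc]
    exact 𝓔.wt_strictMono (Fin.lt_iff_val_lt_val.mpr (by simp))

theorem factors_piece_of_isParHom {E F : C} (𝓔 : ParSh.Str E) (𝓕 : ParSh.Str F) (f : E ⟶ F)
    (hf : ParSh.IsParHom 𝓔 𝓕 f) (i : Fin (𝓔.l + 1)) (i' : Fin (𝓕.l + 1))
    (hi : 𝓕.wt i' = 𝓔.wt i) : (𝓕.piece i').Factors ((𝓔.piece i).arrow ≫ f) := by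
  have h := hf (𝓔.wt i) (wt_nonneg' 𝓔 i) (wt_le_one 𝓔 i)
  have h1 : 𝓔.at (𝓔.wt i) = 𝓔.piece i :=
    𝓔.at_eq_piece i le_rfl (fun j' hj' => 𝓔.wt_strictMono hj')
  have h2 : 𝓕.at (𝓔.wt i) = 𝓕.piece i' :=
    𝓕.at_eq_piece i' hi.ge (fun j' hj' => (𝓕.wt_strictMono hj').trans_eq hi)
  rw [h1, h2] at h
  exact h

theorem factors_bot_of_isParHom {E F : C} (𝓔 : ParSh.Str E) (𝓕 : ParSh.Str F) (f : E ⟶ F)
    (hf : ParSh.IsParHom 𝓔 𝓕 f) : (𝓕.bot).Factors (𝓔.bot.arrow ≫ f) := by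
  have h := hf 1 zero_le_one le_rfl
  have h1 : 𝓔.at 1 = 𝓔.bot := 𝓔.at_eq_bot (fun j =>
    (𝓔.wt_strictMono.monotone (Fin.le_last j)).trans_lt 𝓔.wt_lt_one)
  have h2 : 𝓕.at 1 = 𝓕.bot := 𝓕.at_eq_bot (fun j =>
    (𝓕.wt_strictMono.monotone (Fin.le_last j)).trans_lt 𝓕.wt_lt_one)
  rw [h1, h2] at h
  exact h

theorem epi_of_isZero_cokernel_pullbackπ {W W' : C} (j : W ⟶ W') (S : Subobject W') (hS : S = ⊤)
    (hz : IsZero (cokernel (Subobject.pullbackπ j S))) : Epi j := by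
  subst hS
  have hpb := Subobject.isPullback j (⊤ : Subobject W')
  haveI : Epi (Subobject.pullbackπ j ⊤) := Preadditive.epi_of_isZero_cokernel _ hz
  haveI h3 : Epi (Subobject.pullbackπ j ⊤ ≫ (⊤ : Subobject W').arrow) := epi_comp _ _
  rw [hpb.w] at h3
  exact epi_of_epi ((Subobject.pullback j).obj ⊤).arrow j

/-- a parabolic structure on `F` with the length and the weights of `𝓔` -/
@[reducible] def mkStr {E F : C} (𝓔 : ParSh.Str E) (pF : Fin (𝓔.l + 1) → Subobject F)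
    (bF : Subobject F) (h1 : pF 0 = ⊤) (h2 : Antitone pF) (h3 : ∀ j, bF ≤ pF j) : ParSh.Str F :=
  ⟨𝓔.l, pF, bF, 𝓔.wt, h1, h2, h3, 𝓔.wt_strictMono, 𝓔.wt_nonneg, 𝓔.wt_lt_one⟩

theorem factors_pieceX {E F : C} (𝓔 : ParSh.Str E) (pF : Fin (𝓔.l + 1) → Subobject F)
    (bF : Subobject F) (h1 : pF 0 = ⊤) (h2 : Antitone pF) (h3 : ∀ j, bF ≤ pF j) (f : E ⟶ F)
    (hf : ParSh.IsParHom 𝓔 (mkStr 𝓔 pF bF h1 h2 h3) f) (i : Fin (𝓔.l + 2)) :
    ((mkStr 𝓔 pF bF h1 h2 h3).pieceX i).Factors ((𝓔.pieceX i).arrow ≫ f) := by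
  induction i using Fin.lastCases with
  | last =>
    have e1 : 𝓔.pieceX (Fin.last (𝓔.l + 1)) = 𝓔.bot := 𝓔.pieceX_last
    have e2 : (mkStr 𝓔 pF bF h1 h2 h3).pieceX (Fin.last (𝓔.l + 1)) =
        (mkStr 𝓔 pF bF h1 h2 h3).bot := (mkStr 𝓔 pF bF h1 h2 h3).pieceX_last
    rw [e1, e2]
    exact factors_bot_of_isParHom 𝓔 _ f hf
  | cast i =>
    have e1 : 𝓔.pieceX i.castSucc = 𝓔.piece i := 𝓔.pieceX_castSucc i
    have e2 : (mkStr 𝓔 pF bF h1 h2 h3).pieceX i.castSucc =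
        (mkStr 𝓔 pF bF h1 h2 h3).piece i := (mkStr 𝓔 pF bF h1 h2 h3).pieceX_castSucc i
    rw [e1, e2]
    exact factors_piece_of_isParHom 𝓔 _ f hf i i rfl

end Generic

end Groth.Agent.Lib.Helper25.ParShL
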