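import Mathlib
import Groth.Prelude
import Groth.Agent.Lib.Helper25.ParShL

/-!
# Euler characteristic comparisons with their cases of equality (helper25)
-/

set_option autoImplicit false
set_option linter.style.haveILetI false
universe v u
open CategoryTheory CategoryTheory.Limits AlgebraicGeometry TopologicalSpace Opposite Polynomial

namespace Groth.Agent.Lib.Helper25.ParShM

open Groth.Agent.Lib.Helper17 Groth.Agent.Lib.Helper17.DevBasic Groth.Agent.Lib.Helper17.DevKey
  Groth.Agent.Lib.Helper25.ParShD Groth.Agent.Lib.Helper25.ParShE Groth.Agent.Lib.Helper25.ParShG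
  Groth.Agent.Lib.Helper25.ParShH Groth.Agent.Lib.Helper25.ParShJ Groth.Agent.Lib.Helper25.ParShL

variable (k : Type u) [Field k] {X : Scheme.{u}} [X.Over (Spec (CommRingCat.of k))]

theorem parHilb_induced_zero (L : X.Modules) {E W : X.Modules} (𝓔 : ParSh.Str E) (ι : W ⟶ E)
    (hW : IsZero W) (m : ℕ) : (𝓔.induced ι).parHilb k X L m = 0 := by
  have hz : ∀ S : Subobject W,
      ((Curv2.euler k X (ShStab.twist X L (S : X.Modules) m) : ℤ) : ℝ) = 0 := by
    intro S
    have hS : IsZero (S : X.Modules) := IsZero.of_mono S.arrow hW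
    have := Groth.Agent.Lib.Helper23.HilbP.isHilbPoly_zero k (L := L) hS m
    rw [eval_zero] at this
    exact_mod_cast this
  unfold ParSh.Str.parHilb ParSh.Str.parSum
  simp [hz]

variable [IsProper (X ↘ Spec (CommRingCat.of k))]

/-- comparison of the Euler characteristics of nested coherent subobjects, with the case of
equality -/
theorem euler_le_of_le (L : X.Modules) (hL : CohB1.IsAmple L) {G : X.Modules}
    (S S' : Subobject G) (h : S ≤ S') (hS : Coh.IsCoh (S : X.Modules))
    (hS' : Coh.IsCoh (S' : X.Modules)) :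
    ∃ N : ℕ, ∀ m : ℕ, N ≤ m →
      Curv2.euler k X (ShStab.twist X L (S : X.Modules) m) ≤
        Curv2.euler k X (ShStab.twist X L (S' : X.Modules) m) ∧
      (Curv2.euler k X (ShStab.twist X L (S : X.Modules) m) =
        Curv2.euler k X (ShStab.twist X L (S' : X.Modules) m) → S = S') := by
  have hC : Coh.IsCoh (cokernel (Subobject.ofLE S S' h)) := isCoh_cokernel _ hS.1 hS'
  have hadd : ∀ m : ℕ, Curv2.euler k X (ShStab.twist X L (S' : X.Modules) m) =
      Curv2.euler k X (ShStab.twist X L (S : X.Modules) m) +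
      Curv2.euler k X (ShStab.twist X L (cokernel (Subobject.ofLE S S' h)) m) := fun m =>
    Groth.Agent.Lib.Helper23.HilbP.euler_twist_add k X hL.1 _
      (shortExact_of_mono (Subobject.ofLE S S' h)) hS hS' hC m
  by_cases hz : IsZero (cokernel (Subobject.ofLE S S' h))
  · refine ⟨0, fun m _ => ?_⟩
    have h0 : Curv2.euler k X (ShStab.twist X L (cokernel (Subobject.ofLE S S' h)) m) = 0 := by
      have := Groth.Agent.Lib.Helper23.HilbP.isHilbPoly_zero k (L := L) hz m
      rw [eval_zero] at this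
      exact_mod_cast this
    rw [hadd m, h0, add_zero]
    refine ⟨le_rfl, fun _ => ?_⟩
    haveI : Epi (Subobject.ofLE S S' h) := Preadditive.epi_of_isZero_cokernel _ hz
    haveI : IsIso (Subobject.ofLE S S' h) := isIso_of_mono_of_epi _
    refine le_antisymm h (Subobject.le_of_comm (inv (Subobject.ofLE S S' h)) ?_)
    rw [IsIso.inv_comp_eq, Subobject.ofLE_arrow]
  · obtain ⟨N, hN⟩ := Groth.Agent.Lib.Helper23.HilbP.eventually_pos k X hL _ hC hz
    refine ⟨N, fun m hm => ?_⟩
    have := hN m hm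
    rw [hadd m]
    exact ⟨by omega, fun he => absurd he (by omega)⟩

/-- for large twists the Euler characteristic of `j⁻¹S` is at most that of `S`, with equality
for `S = ⊤` only if `j` is an epimorphism -/
theorem euler_pullback_le' (L : X.Modules) (hL : CohB1.IsAmple L) {W W' : X.Modules} (j : W ⟶ W')
    [Mono j] (hW : Coh.IsCoh W) (hW' : Coh.IsCoh W') (S : Subobject W')
    (hS : Coh.IsCoh (S : X.Modules)) (T : Subobject W) (hT : T = (Subobject.pullback j).obj S) :
    ∃ N : ℕ, ∀ m : ℕ, N ≤ m →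
      Curv2.euler k X (ShStab.twist X L (T : X.Modules) m) ≤
        Curv2.euler k X (ShStab.twist X L (S : X.Modules) m) ∧
      (Curv2.euler k X (ShStab.twist X L (T : X.Modules) m) =
        Curv2.euler k X (ShStab.twist X L (S : X.Modules) m) → S = ⊤ → Epi j) := by
  subst hT
  have hA : Coh.IsCoh (((Subobject.pullback j).obj S : Subobject W) : X.Modules) :=
    (Groth.Agent.Lib.Helper25.ParShB.isCoh_pieces k X j (cokernel.π j) (cokernel.condition j)
      (shortExact_of_mono j) (isCoh_cokernel j hW.1 hW') S hS).1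
  have hpb := Subobject.isPullback j S
  haveI : Mono (Subobject.pullbackπ j S) := by
    haveI : Mono (Subobject.pullbackπ j S ≫ S.arrow) := by
      rw [hpb.w]
      infer_instance
    exact mono_of_mono _ S.arrow
  have hC : Coh.IsCoh (cokernel (Subobject.pullbackπ j S)) := isCoh_cokernel _ hA.1 hS
  have hadd : ∀ m : ℕ, Curv2.euler k X (ShStab.twist X L (S : X.Modules) m) =
      Curv2.euler k X (ShStab.twist X L
        (((Subobject.pullback j).obj S : Subobject W) : X.Modules) m) +
      Curv2.euler k X (ShStab.twist X L (cokernel (Subobject.pullbackπ j S)) m) := fun m =>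
    Groth.Agent.Lib.Helper23.HilbP.euler_twist_add k X hL.1 _
      (shortExact_of_mono (Subobject.pullbackπ j S)) hA hS hC m
  by_cases hz : IsZero (cokernel (Subobject.pullbackπ j S))
  · refine ⟨0, fun m _ => ?_⟩
    have h0 : Curv2.euler k X (ShStab.twist X L (cokernel (Subobject.pullbackπ j S)) m) = 0 := by
      have := Groth.Agent.Lib.Helper23.HilbP.isHilbPoly_zero k (L := L) hz m
      rw [eval_zero] at this
      exact_mod_cast this
    rw [hadd m, h0, add_zero]
    exact ⟨le_rfl, fun _ hS' => epi_of_isZero_cokernel_pullbackπ j S hS' hz⟩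
  · obtain ⟨N, hN⟩ := Groth.Agent.Lib.Helper23.HilbP.eventually_pos k X hL _ hC hz
    refine ⟨N, fun m hm => ?_⟩
    have := hN m hm
    rw [hadd m]
    exact ⟨by omega, fun he => absurd he (by omega)⟩

/-- the parabolic Hilbert function of the induced structure grows with the submodule, with
equality only if the submodules agree -/
theorem parHilb_induced_mono' (L : X.Modules) (hL : CohB1.IsAmple L) {E : X.Modules}
    (hE : Coh.IsCoh E) (𝓔 : ParSh.Str E)
    (hcoh : ∀ j, Coh.IsCoh ((𝓔.pieceX j : Subobject E) : X.Modules)) (hw0 : 0 < 𝓔.wt 0)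
    {W W' : X.Modules} (j : W ⟶ W') [Mono j] (ι' : W' ⟶ E) [Mono ι'] (hW : Coh.IsCoh W)
    (hW' : Coh.IsCoh W') :
    ∃ M : ℕ, ∀ m : ℕ, M ≤ m →
      (𝓔.induced (j ≫ ι')).parHilb k X L m ≤ (𝓔.induced ι').parHilb k X L m ∧
      ((𝓔.induced (j ≫ ι')).parHilb k X L m = (𝓔.induced ι').parHilb k X L m → Epi j) := by
  have hcohW' := induced_hcoh k ι' hW' hE 𝓔 hcoh
  have hcmp : ∀ i : Fin (𝓔.l + 2), ∃ N : ℕ, ∀ m : ℕ, N ≤ m →
      Curv2.euler k X (ShStab.twist X L
        (((Subobject.pullback (j ≫ ι')).obj (𝓔.pieceX i) : Subobject W) : X.Modules) m) ≤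
      Curv2.euler k X (ShStab.twist X L
        (((Subobject.pullback ι').obj (𝓔.pieceX i) : Subobject W') : X.Modules) m) ∧
      (Curv2.euler k X (ShStab.twist X L
        (((Subobject.pullback (j ≫ ι')).obj (𝓔.pieceX i) : Subobject W) : X.Modules) m) =
      Curv2.euler k X (ShStab.twist X L
        (((Subobject.pullback ι').obj (𝓔.pieceX i) : Subobject W') : X.Modules) m) →
        (Subobject.pullback ι').obj (𝓔.pieceX i) = ⊤ → Epi j) := by
    intro i
    have hS := hcohW' i
    rw [Groth.Agent.Lib.Helper25.ParShA.pieceX_induced] at hS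
    exact euler_pullback_le' k L hL j hW hW' ((Subobject.pullback ι').obj (𝓔.pieceX i)) hS
      ((Subobject.pullback (j ≫ ι')).obj (𝓔.pieceX i)) (Subobject.pullback_comp j ι' _)
  choose N hN using hcmp
  refine ⟨Finset.univ.sup N, fun m hm => ?_⟩
  have h00 : (0 : ℝ) < 𝓔.wtX 0 := by
    have : (0 : Fin (𝓔.l + 2)) = Fin.castSucc 0 := rfl
    rw [this, ParSh.Str.wtX_castSucc]
    exact hw0
  have hle : ∀ i : Fin (𝓔.l + 2),
      ((Curv2.euler k X (ShStab.twist X L
        (((𝓔.induced (j ≫ ι')).pieceX i : Subobject W) : X.Modules) m) : ℤ) : ℝ) ≤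
      ((Curv2.euler k X (ShStab.twist X L
        (((𝓔.induced ι').pieceX i : Subobject W') : X.Modules) m) : ℤ) : ℝ) := fun i => by
    rw [Groth.Agent.Lib.Helper25.ParShA.pieceX_induced,
      Groth.Agent.Lib.Helper25.ParShA.pieceX_induced]
    exact_mod_cast (hN i m ((Finset.le_sup (Finset.mem_univ i)).trans hm)).1
  unfold ParSh.Str.parHilb
  rw [Groth.Agent.Lib.Helper25.ParShA.parSum_eq, Groth.Agent.Lib.Helper25.ParShA.parSum_eq]
  refine ⟨parSum_mono' 𝓔.l 𝓔.wt 𝓔.wtX (fun j => 𝓔.wtX_castSucc j) 𝓔.wtX_last h00.le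
    (wtX_castSucc_le_succ 𝓔)
    (fun i => ((Curv2.euler k X (ShStab.twist X L
      (((𝓔.induced (j ≫ ι')).pieceX i : Subobject W) : X.Modules) m) : ℤ) : ℝ))
    (fun i => ((Curv2.euler k X (ShStab.twist X L
      (((𝓔.induced ι').pieceX i : Subobject W') : X.Modules) m) : ℤ) : ℝ)) hle, fun heq => ?_⟩
  have hall := parSum_eq_case 𝓔.l 𝓔.wt 𝓔.wtX (fun j => 𝓔.wtX_castSucc j) 𝓔.wtX_last h00
    (wtX_castSucc_lt_succ 𝓔)
    (fun i => ((Curv2.euler k X (ShStab.twist X L
      (((𝓔.induced (j ≫ ι')).pieceX i : Subobject W) : X.Modules) m) : ℤ) : ℝ))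
    (fun i => ((Curv2.euler k X (ShStab.twist X L
      (((𝓔.induced ι').pieceX i : Subobject W') : X.Modules) m) : ℤ) : ℝ)) hle heq
  have h0 : ((Curv2.euler k X (ShStab.twist X L
        (((𝓔.induced (j ≫ ι')).pieceX 0 : Subobject W) : X.Modules) m) : ℤ) : ℝ) =
      ((Curv2.euler k X (ShStab.twist X L
        (((𝓔.induced ι').pieceX 0 : Subobject W') : X.Modules) m) : ℤ) : ℝ) := hall 0
  rw [Groth.Agent.Lib.Helper25.ParShA.pieceX_induced,
    Groth.Agent.Lib.Helper25.ParShA.pieceX_induced] at h0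
  have h0' : Curv2.euler k X (ShStab.twist X L
        (((Subobject.pullback (j ≫ ι')).obj (𝓔.pieceX 0) : Subobject W) : X.Modules) m) =
      Curv2.euler k X (ShStab.twist X L
        (((Subobject.pullback ι').obj (𝓔.pieceX 0) : Subobject W') : X.Modules) m) := by
    exact_mod_cast h0
  exact (hN 0 m ((Finset.le_sup (Finset.mem_univ 0)).trans hm)).2 h0'
    (by rw [pieceX_zero, Subobject.pullback_top])

end Groth.Agent.Lib.Helper25.ParShM
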