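import Mathlib
import Groth.Prelude
import Groth.Agent.Lib.Helper25.ParShM

/-!
# Kernel and image of a parabolic homomorphism between p₀-semistable parabolic sheaves: the core
(helper25)
-/

set_option autoImplicit false
set_option linter.style.haveILetI false
universe v u
open CategoryTheory CategoryTheory.Limits AlgebraicGeometry TopologicalSpace Opposite Polynomial

namespace Groth.Agent.Lib.Helper25.ParShN

open Groth.Agent.Lib.Helper17 Groth.Agent.Lib.Helper17.DevBasic Groth.Agent.Lib.Helper17.DevKey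
  Groth.Agent.Lib.Helper25.ParShD Groth.Agent.Lib.Helper25.ParShE Groth.Agent.Lib.Helper25.ParShG
  Groth.Agent.Lib.Helper25.ParShH Groth.Agent.Lib.Helper25.ParShJ Groth.Agent.Lib.Helper25.ParShL
  Groth.Agent.Lib.Helper25.ParShM Groth.Agent.Lib.Helper23.HilbP

variable (k : Type u) [Field k] {X : Scheme.{u}} [X.Over (Spec (CommRingCat.of k))]
  [IsProper (X ↘ Spec (CommRingCat.of k))]

section Core

variable {E F : X.Modules} (𝓔 : ParSh.Str E) (pF : Fin (𝓔.l + 1) → Subobject F)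
  (bF : Subobject F) (h1 : pF 0 = ⊤) (h2 : Antitone pF) (h3 : ∀ j, bF ≤ pF j)

local notation "𝓕" => mkStr 𝓔 pF bF h1 h2 h3

theorem core (L : X.Modules) (hL : CohB1.IsAmple L) (d : ℕ)
    (hE : Coh.IsCoh E) (hF : Coh.IsCoh F) (hE0 : ¬ IsZero E) (hF0 : ¬ IsZero F)
    (hEp : ShStab.IsPure X E d) (hFp : ShStab.IsPure X F d)
    (hcE : ∀ j, Coh.IsCoh ((𝓔.pieceX j : Subobject E) : X.Modules))
    (hcF : ∀ j, Coh.IsCoh (((𝓕).pieceX j : Subobject F) : X.Modules))
    (hw0 : 0 < 𝓔.wt 0)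
    (P R : ℚ[X]) (hP : ShStab.IsHilbPoly k X L E P) (hR : ShStab.IsHilbPoly k X L F R)
    (PX : Fin (𝓔.l + 2) → ℚ[X]) (hPX : ∀ j, ShStab.IsHilbPoly k X L ((𝓔.pieceX j : Subobject E) : X.Modules) (PX j))
    (RX : Fin ((𝓕).l + 2) → ℚ[X]) (hRX : ∀ j, ShStab.IsHilbPoly k X L (((𝓕).pieceX j : Subobject F) : X.Modules) (RX j))
    (hssE : (∀ (W : X.Modules) (ι : W ⟶ E), Mono ι → Coh.IsCoh W → ¬ IsZero W → ShStab.IsPure X (cokernel ι) d →
        ∀ (Q : ℚ[X]) (QX : Fin (𝓔.l + 2) → ℚ[X]), ShStab.IsHilbPoly k X L W Q →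
          (∀ j, ShStab.IsHilbPoly k X L (((𝓔.induced ι).pieceX j : Subobject W) : X.Modules) (QX j)) →
          ∃ M : ℕ, ∀ m : ℕ, M ≤ m →
            (W4swparbununimod.parPoly (𝓔.induced ι) QX).eval (m : ℝ) * (StabCat.alpha d P : ℝ) ≤
              (W4swparbununimod.parPoly 𝓔 PX).eval (m : ℝ) * (StabCat.alpha d Q : ℝ)))
    (hssF : (∀ (W : X.Modules) (ι : W ⟶ F), Mono ι → Coh.IsCoh W → ¬ IsZero W → ShStab.IsPure X (cokernel ι) d →
        ∀ (Q : ℚ[X]) (QX : Fin ((𝓕).l + 2) → ℚ[X]), ShStab.IsHilbPoly k X L W Q →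
          (∀ j, ShStab.IsHilbPoly k X L ((((𝓕).induced ι).pieceX j : Subobject W) : X.Modules) (QX j)) →
          ∃ M : ℕ, ∀ m : ℕ, M ≤ m →
            (W4swparbununimod.parPoly ((𝓕).induced ι) QX).eval (m : ℝ) * (StabCat.alpha d R : ℝ) ≤
              (W4swparbununimod.parPoly 𝓕 RX).eval (m : ℝ) * (StabCat.alpha d Q : ℝ)))
    (hred : W4swparbununimod.parPoly 𝓔 PX * Polynomial.C (StabCat.alpha d R : ℝ) =
      W4swparbununimod.parPoly 𝓕 RX * Polynomial.C (StabCat.alpha d P : ℝ))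
    (f : E ⟶ F) (hf : ParSh.IsParHom 𝓔 𝓕 f)
    {K V : X.Modules} (j : K ⟶ E) [Mono j] (w : j ≫ f = 0) (hex : (ShortComplex.mk j f w).Exact)
    (q : E ⟶ V) [Epi q] (u : V ⟶ F) [Mono u] (hqu : q ≫ u = f) :
    (∀ (QK : ℚ[X]) (QKX : Fin (𝓔.l + 2) → ℚ[X]), ShStab.IsHilbPoly k X L K QK →
        (∀ j', ShStab.IsHilbPoly k X L (((𝓔.induced j).pieceX j' : Subobject K) : X.Modules) (QKX j')) →
        W4swparbununimod.parPoly (𝓔.induced j) QKX * Polynomial.C (StabCat.alpha d P : ℝ) =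
          W4swparbununimod.parPoly 𝓔 PX * Polynomial.C (StabCat.alpha d QK : ℝ)) ∧
    ShStab.IsPure X (cokernel u) d ∧
    (∀ a : ℝ, 0 ≤ a → a ≤ 1 → (𝓔.coinduced q).at a = ((𝓕).induced u).at a) := by
  haveI : IsNoetherian X := isNoetherian_of_isProper k X
  -- the short exact sequence `0 → K → E → V → 0`
  have w' : j ≫ q = 0 := by
    rw [← cancel_mono u, Category.assoc, hqu, w, Limits.zero_comp]
  haveI : Mono (ShortComplex.mk j f w).f := by dsimp; infer_instance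
  have hk := hex.fIsKernel
  have hSE : (ShortComplex.mk j q w').ShortExact := by
    refine ShortComplex.ShortExact.mk' ?_ (by dsimp; infer_instance) (by dsimp; infer_instance)
    apply ShortComplex.exact_of_f_is_kernel
    dsimp
    refine KernelFork.IsLimit.ofι' _ _ (fun {A} t ht => ?_)
    have h1' : t ≫ f = 0 := by rw [← hqu, ← Category.assoc, ht, Limits.zero_comp]
    exact ⟨hk.lift (KernelFork.ofι t h1'), Fork.IsLimit.lift_ι hk⟩
  -- coherence
  have hK : Coh.IsCoh K :=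
    isCoh_of_mono j
      (Groth.Agent.Lib.Helper25.ParShB.isQuasicoherent_of_isKernel hE.1 hF.1 j f w hk) hE
  let eV : cokernel j ≅ V :=
    IsColimit.coconePointUniqueUpToIso (cokernelIsCokernel j) hSE.gIsCokernel
  have hV : Coh.IsCoh V := isCoh_of_iso eV (isCoh_cokernel j hK.1 hE)
  have hpK : ShStab.IsPure X (cokernel j) d := isPure_of_mono hFp (eV.hom ≫ u)
  -- Hilbert polynomials
  obtain ⟨QK, hQK⟩ := exists_isHilbPoly k X hL K hK
  have hQV : ShStab.IsHilbPoly k X L V (P - QK) :=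
    isHilbPoly_X₃ k hL.1 _ hSE hK hE hV hQK hP
  have hcK := induced_hcoh k j hK hE 𝓔 hcE
  have hexK : ∀ i, ∃ p : ℚ[X], ShStab.IsHilbPoly k X L
      (((𝓔.induced j).pieceX i : Subobject K) : X.Modules) p := fun i =>
    exists_isHilbPoly k X hL _ (hcK i)
  choose QKX hQKX using hexK
  have hcV1 : ∀ i, Coh.IsCoh (((𝓔.coinduced q).pieceX i : Subobject V) : X.Modules) := by
    intro i
    rw [Groth.Agent.Lib.Helper25.ParShA.pieceX_coinduced]
    exact (Groth.Agent.Lib.Helper25.ParShB.isCoh_pieces k X j q w' hSE hV (𝓔.pieceX i) (hcE i)).2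
  -- (F1)
  have hF1 : ∀ m : ℕ, (𝓔.induced j).parHilb k X L m + (𝓔.coinduced q).parHilb k X L m =
      𝓔.parHilb k X L m := fun m =>
    Groth.Agent.S18524.result k X L hL hK hE hV j q (𝓔.induced j) 𝓔 (𝓔.coinduced q)
      ⟨w', hSE, rfl, rfl⟩
      (fun i => by have := hcE i.castSucc; rwa [ParSh.Str.pieceX_castSucc] at this)
      (by have := hcE (Fin.last _); rwa [ParSh.Str.pieceX_last] at this) m
  have hαP : 0 < StabCat.alpha d P := alpha_pos_of_pure k hL hEp (𝟙 E) hE hE0 hP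
  have hαR : 0 < StabCat.alpha d R := alpha_pos_of_pure k hL hFp (𝟙 F) hF hF0 hR
  -- (F2)
  have hF2 : ∃ M : ℕ, ∀ m : ℕ, M ≤ m →
      (𝓔.induced j).parHilb k X L m * (StabCat.alpha d P : ℝ) ≤
        𝓔.parHilb k X L m * (StabCat.alpha d QK : ℝ) := by
    by_cases hK0 : IsZero K
    · refine ⟨0, fun m _ => ?_⟩
      rw [parHilb_induced_zero k L 𝓔 j hK0 m,
        isHilbPoly_unique k hQK (isHilbPoly_zero k hK0), alpha_zero]
      simp
    · obtain ⟨M, hM⟩ := hssE K j inferInstance hK hK0 hpK QK QKX hQK hQKX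
      refine ⟨M, fun m hm => ?_⟩
      have := hM m hm
      rwa [parPoly_eval_eq_parHilb k L (𝓔.induced j) QKX hQKX m,
        parPoly_eval_eq_parHilb k L 𝓔 PX hPX m] at this
  -- (F4)
  have hpx : ∀ i : Fin (𝓔.l + 2), (𝓔.coinduced q).pieceX i ≤ ((𝓕).induced u).pieceX i := by
    intro i
    have hfac : ((𝓕).pieceX i).Factors (((𝓔.pieceX i).arrow ≫ q) ≫ u) := by
      rw [Category.assoc, hqu]
      exact factors_pieceX 𝓔 pF bF h1 h2 h3 f hf i
    exact (Groth.Agent.Lib.Helper25.ParShA.pieceX_coinduced 𝓔 q i).le.trans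
      ((imageSubobject_le_pullback _ u _ hfac).trans
        (Groth.Agent.Lib.Helper25.ParShA.pieceX_induced 𝓕 u i).ge)
  have hcV2 := induced_hcoh k u hV hF 𝓕 hcF
  have hcmp12 : ∀ i : Fin (𝓔.l + 2), ∃ N : ℕ, ∀ m : ℕ, N ≤ m →
      Curv2.euler k X (ShStab.twist X L
        (((𝓔.coinduced q).pieceX i : Subobject V) : X.Modules) m) ≤
      Curv2.euler k X (ShStab.twist X L
        ((((𝓕).induced u).pieceX i : Subobject V) : X.Modules) m) ∧
      (Curv2.euler k X (ShStab.twist X L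
        (((𝓔.coinduced q).pieceX i : Subobject V) : X.Modules) m) =
      Curv2.euler k X (ShStab.twist X L
        ((((𝓕).induced u).pieceX i : Subobject V) : X.Modules) m) →
        (𝓔.coinduced q).pieceX i = ((𝓕).induced u).pieceX i) := fun i =>
    euler_le_of_le k L hL _ _ (hpx i) (hcV1 i) (hcV2 i)
  have h00 : (0 : ℝ) < 𝓔.wtX 0 := by
    have : (0 : Fin (𝓔.l + 2)) = Fin.castSucc 0 := rfl
    rw [this, ParSh.Str.wtX_castSucc]
    exact hw0
  have hF4 : ∃ M : ℕ, ∀ m : ℕ, M ≤ m →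
      (𝓔.coinduced q).parHilb k X L m ≤ ((𝓕).induced u).parHilb k X L m ∧
      ((𝓔.coinduced q).parHilb k X L m = ((𝓕).induced u).parHilb k X L m →
        ∀ i : Fin (𝓔.l + 2), (𝓔.coinduced q).pieceX i = ((𝓕).induced u).pieceX i) := by
    choose N hN using hcmp12
    refine ⟨Finset.univ.sup N, fun m hm => ?_⟩
    have hle : ∀ i : Fin (𝓔.l + 2),
        ((Curv2.euler k X (ShStab.twist X L
          (((𝓔.coinduced q).pieceX i : Subobject V) : X.Modules) m) : ℤ) : ℝ) ≤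
        ((Curv2.euler k X (ShStab.twist X L
          ((((𝓕).induced u).pieceX i : Subobject V) : X.Modules) m) : ℤ) : ℝ) := fun i => by
      exact_mod_cast (hN i m ((Finset.le_sup (Finset.mem_univ i)).trans hm)).1
    unfold ParSh.Str.parHilb
    rw [Groth.Agent.Lib.Helper25.ParShA.parSum_eq, Groth.Agent.Lib.Helper25.ParShA.parSum_eq]
    refine ⟨parSum_mono' 𝓔.l 𝓔.wt 𝓔.wtX (fun j => 𝓔.wtX_castSucc j) 𝓔.wtX_last h00.le
      (wtX_castSucc_le_succ 𝓔)
      (fun i => ((Curv2.euler k X (ShStab.twist X L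
        (((𝓔.coinduced q).pieceX i : Subobject V) : X.Modules) m) : ℤ) : ℝ))
      (fun i => ((Curv2.euler k X (ShStab.twist X L
        ((((𝓕).induced u).pieceX i : Subobject V) : X.Modules) m) : ℤ) : ℝ)) hle, fun heq i => ?_⟩
    have hall := parSum_eq_case 𝓔.l 𝓔.wt 𝓔.wtX (fun j => 𝓔.wtX_castSucc j) 𝓔.wtX_last h00
      (wtX_castSucc_lt_succ 𝓔)
      (fun i => ((Curv2.euler k X (ShStab.twist X L
        (((𝓔.coinduced q).pieceX i : Subobject V) : X.Modules) m) : ℤ) : ℝ))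
      (fun i => ((Curv2.euler k X (ShStab.twist X L
        ((((𝓕).induced u).pieceX i : Subobject V) : X.Modules) m) : ℤ) : ℝ)) hle heq
    have hi : ((Curv2.euler k X (ShStab.twist X L
          (((𝓔.coinduced q).pieceX i : Subobject V) : X.Modules) m) : ℤ) : ℝ) =
        ((Curv2.euler k X (ShStab.twist X L
          ((((𝓕).induced u).pieceX i : Subobject V) : X.Modules) m) : ℤ) : ℝ) := hall i
    exact (hN i m ((Finset.le_sup (Finset.mem_univ i)).trans hm)).2 (by exact_mod_cast hi)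
  -- the saturation of `V` in `F`
  have hdimF : topologicalKrullDim ↥(CohB1.support F) = (d : WithBot ℕ∞) :=
    hFp F (𝟙 F) inferInstance hF hF0
  obtain ⟨V', ι', j', pT, hι', hj', hV', hpure', hHilb, hpTdeg, -⟩ :=
    exists_saturation k hL hF hdimF.le u hV
  haveI := hι'
  haveI : Mono j' := by
    haveI : Mono (j' ≫ ι') := by rw [hj']; infer_instance
    exact mono_of_mono j' ι'
  -- (F5)
  have hF5 : ∃ M : ℕ, ∀ m : ℕ, M ≤ m →
      ((𝓕).induced u).parHilb k X L m ≤ ((𝓕).induced ι').parHilb k X L m ∧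
      (((𝓕).induced u).parHilb k X L m = ((𝓕).induced ι').parHilb k X L m → Epi j') := by
    have h := parHilb_induced_mono' k L hL hF 𝓕 hcF hw0 j' ι' hV hV'
    rw [hj'] at h
    exact h
  -- (F6)
  have hQV' := hHilb (P - QK) hQV
  have hcV' := induced_hcoh k ι' hV' hF 𝓕 hcF
  have hexV' : ∀ i, ∃ p : ℚ[X], ShStab.IsHilbPoly k X L
      ((((𝓕).induced ι').pieceX i : Subobject V') : X.Modules) p := fun i =>
    exists_isHilbPoly k X hL _ (hcV' i)
  choose QX' hQX' using hexV'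
  have hα : StabCat.alpha d (P - QK + pT) = StabCat.alpha d (P - QK) := by
    rw [alpha_add]
    unfold StabCat.alpha
    rw [hpTdeg d le_rfl]
    ring
  have hF6 : ∃ M : ℕ, ∀ m : ℕ, M ≤ m →
      ((𝓕).induced ι').parHilb k X L m * (StabCat.alpha d R : ℝ) ≤
        (𝓕).parHilb k X L m * (StabCat.alpha d (P - QK) : ℝ) := by
    by_cases hV'0 : IsZero V'
    · refine ⟨0, fun m _ => ?_⟩
      have hz : P - QK + pT = 0 := isHilbPoly_unique k hQV' (isHilbPoly_zero k hV'0)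
      have hz' : StabCat.alpha d (P - QK) = 0 := by rw [← hα, hz, alpha_zero]
      rw [parHilb_induced_zero k L 𝓕 ι' hV'0 m, hz']
      simp
    · obtain ⟨M, hM⟩ := hssF V' ι' hι' hV' hV'0 hpure' (P - QK + pT) QX' hQV' hQX'
      refine ⟨M, fun m hm => ?_⟩
      have := hM m hm
      rwa [hα, parPoly_eval_eq_parHilb k L ((𝓕).induced ι') QX' hQX' m,
        parPoly_eval_eq_parHilb k L 𝓕 RX hRX m] at this
  -- the chain
  obtain ⟨M2, hM2⟩ := hF2
  obtain ⟨M4, hM4⟩ := hF4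
  obtain ⟨M5, hM5⟩ := hF5
  obtain ⟨M6, hM6⟩ := hF6
  have hF7 : ∀ m : ℕ, 𝓔.parHilb k X L m * (StabCat.alpha d R : ℝ) =
      (𝓕).parHilb k X L m * (StabCat.alpha d P : ℝ) := by
    intro m
    have := congrArg (Polynomial.eval (m : ℝ)) hred
    rwa [eval_mul, eval_mul, eval_C, eval_C, parPoly_eval_eq_parHilb k L 𝓔 PX hPX m,
      parPoly_eval_eq_parHilb k L 𝓕 RX hRX m] at this
  have hα3 : ((StabCat.alpha d QK : ℚ) : ℝ) + ((StabCat.alpha d (P - QK) : ℚ) : ℝ) =
      ((StabCat.alpha d P : ℚ) : ℝ) := by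
    rw [alpha_sub]
    push_cast
    ring
  have hαP' : (0 : ℝ) < ((StabCat.alpha d P : ℚ) : ℝ) := by exact_mod_cast hαP
  have hαR' : (0 : ℝ) < ((StabCat.alpha d R : ℚ) : ℝ) := by exact_mod_cast hαR
  obtain ⟨M, hMdef⟩ : ∃ M : ℕ, M = max (max M2 M4) (max M5 M6) := ⟨_, rfl⟩
  have hm2 : M2 ≤ M := hMdef ▸ ((le_max_left _ _).trans (le_max_left _ _))
  have hm4 : M4 ≤ M := hMdef ▸ ((le_max_right _ _).trans (le_max_left _ _))
  have hm5 : M5 ≤ M := hMdef ▸ ((le_max_left _ _).trans (le_max_right _ _))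
  have hm6 : M6 ≤ M := hMdef ▸ ((le_max_right _ _).trans (le_max_right _ _))
  have hchain : ∀ m : ℕ, M ≤ m →
      (𝓔.induced j).parHilb k X L m * (StabCat.alpha d P : ℝ) =
        𝓔.parHilb k X L m * (StabCat.alpha d QK : ℝ) ∧
      (𝓔.coinduced q).parHilb k X L m = ((𝓕).induced u).parHilb k X L m ∧
      ((𝓕).induced u).parHilb k X L m = ((𝓕).induced ι').parHilb k X L m := fun m hm =>
    chain_eq hαP' hαR' (hM2 m (hm2.trans hm)) (hF1 m) hα3 (hM4 m (hm4.trans hm)).1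
      (hM5 m (hm5.trans hm)).1 (hM6 m (hm6.trans hm)) (hF7 m)
  have hcM := hchain M le_rfl
  have hpxeq := (hM4 M hm4).2 hcM.2.1
  haveI hepi : Epi j' := (hM5 M hm5).2 hcM.2.2
  refine ⟨?_, ?_, ?_⟩
  · intro QK' QKX' hQK' hQKX'
    rw [isHilbPoly_unique k hQK' hQK]
    refine poly_ext_real _ _ M (fun m hm => ?_)
    rw [eval_mul, eval_mul, eval_C, eval_C,
      parPoly_eval_eq_parHilb k L (𝓔.induced j) QKX' hQKX' m,
      parPoly_eval_eq_parHilb k L 𝓔 PX hPX m]
    exact (hchain m hm).1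
  · rw [← hj']
    exact isPure_of_mono hpure' (cokernelEpiComp j' ι').hom
  · intro a _ _
    have hpiece : ∀ i : Fin (𝓔.l + 1), (𝓔.coinduced q).piece i = ((𝓕).induced u).piece i :=
      fun i => ((𝓔.coinduced q).pieceX_castSucc i).symm.trans
        ((hpxeq i.castSucc).trans (((𝓕).induced u).pieceX_castSucc i))
    have hbot : (𝓔.coinduced q).bot = ((𝓕).induced u).bot :=
      ((𝓔.coinduced q).pieceX_last).symm.trans
        ((hpxeq (Fin.last _)).trans (((𝓕).induced u).pieceX_last))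
    apply le_antisymm
    · exact (𝓔.coinduced q).at_le
        (fun i hi => (hpiece i).le.trans (((𝓕).induced u).piece_le_at i hi))
        (hbot.le.trans (((𝓕).induced u).bot_le_at a))
    · exact ((𝓕).induced u).at_le
        (fun i hi => (hpiece i).ge.trans ((𝓔.coinduced q).piece_le_at i hi))
        (hbot.ge.trans ((𝓔.coinduced q).bot_le_at a))

end Core

end Groth.Agent.Lib.Helper25.ParShN
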