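import Mathlib

/-!
# Step functions on `[0,1]`: the weighted sum of the jumps is the integral (helper25)
-/

set_option autoImplicit false
open MeasureTheory

namespace Groth.Agent.Lib.Helper25.ParShR

/-- indicator of `a ≤ w` -/
noncomputable def ind (w a : ℝ) : ℝ := if a ≤ w then 1 else 0

theorem ind_of_le {w a : ℝ} (h : a ≤ w) : ind w a = 1 := if_pos h

theorem ind_of_lt {w a : ℝ} (h : w < a) : ind w a = 0 := if_neg (not_le.mpr h)

theorem ind_antitone (w : ℝ) : Antitone (ind w) := by
  intro a b hab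
  unfold ind
  by_cases hb : b ≤ w
  · rw [if_pos hb, if_pos (hab.trans hb)]
  · rw [if_neg hb]
    split_ifs <;> norm_num

theorem intervalIntegrable_ind (w a b : ℝ) : IntervalIntegrable (ind w) volume a b :=
  (ind_antitone w).intervalIntegrable

theorem integral_ind {w : ℝ} (h0 : 0 ≤ w) (h1 : w ≤ 1) : ∫ a in (0:ℝ)..1, ind w a = w := by
  rw [← intervalIntegral.integral_add_adjacent_intervals (intervalIntegrable_ind w 0 w)
    (intervalIntegrable_ind w w 1)]
  have e1 : ∫ a in (0:ℝ)..w, ind w a = ∫ a in (0:ℝ)..w, (1:ℝ) := by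
    apply intervalIntegral.integral_congr
    intro a ha
    rw [Set.uIcc_of_le h0] at ha
    exact ind_of_le ha.2
  have e2 : ∫ a in w..1, ind w a = ∫ a in w..1, (0:ℝ) := by
    rw [intervalIntegral.integral_of_le h1, intervalIntegral.integral_of_le h1]
    apply MeasureTheory.setIntegral_congr_fun measurableSet_Ioc
    intro a ha
    exact ind_of_lt ha.1
  rw [e1, e2]
  simp

theorem integral_step (n : ℕ) (v d : Fin n → ℝ) (hv : ∀ j, 0 ≤ v j ∧ v j ≤ 1) :
    ∫ a in (0:ℝ)..1, ∑ j, d j * ind (v j) a = ∑ j, v j * d j := by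
  rw [intervalIntegral.integral_finset_sum
    (fun j _ => (intervalIntegrable_ind (v j) 0 1).const_mul (d j))]
  refine Finset.sum_congr rfl (fun j _ => ?_)
  rw [intervalIntegral.integral_const_mul, integral_ind (hv j).1 (hv j).2, mul_comm]

theorem intervalIntegrable_step (n : ℕ) (v d : Fin n → ℝ) :
    IntervalIntegrable (fun a => ∑ j, d j * ind (v j) a) volume 0 1 := by
  have h := IntervalIntegrable.sum (μ := volume) (a := (0:ℝ)) (b := 1) Finset.univ
    (f := fun j a => d j * ind (v j) a)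
    (fun j _ => (intervalIntegrable_ind (v j) 0 1).const_mul (d j))
  have e : (∑ j, fun a => d j * ind (v j) a) = fun a => ∑ j, d j * ind (v j) a := by
    ext a
    simp [Finset.sum_apply]
  rwa [e] at h

/-- comparison of two weighted sums of jumps through the step functions on `[0,1]` -/
theorem sum_le_of_step_le (n n' : ℕ) (w : Fin n → ℝ) (w' : Fin n' → ℝ)
    (δ : Fin n → ℝ) (δ' : Fin n' → ℝ) (K : ℝ)
    (hw : ∀ j, 0 ≤ w j ∧ w j ≤ 1) (hw' : ∀ j, 0 ≤ w' j ∧ w' j ≤ 1)
    (h : ∀ a : ℝ, 0 ≤ a → a ≤ 1 →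
      ∑ j, δ j * ind (w j) a ≤ ∑ j, δ' j * ind (w' j) a + K) :
    ∑ j, w j * δ j ≤ ∑ j, w' j * δ' j + K := by
  have hmono := intervalIntegral.integral_mono_on (μ := volume) (zero_le_one' ℝ)
    (intervalIntegrable_step n w δ)
    ((intervalIntegrable_step n' w' δ').add (intervalIntegrable_const (c := K)))
    (fun a ha => h a ha.1 ha.2)
  rw [intervalIntegral.integral_add (intervalIntegrable_step n' w' δ') intervalIntegrable_const,
    integral_step n w δ hw, integral_step n' w' δ' hw'] at hmono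
  simpa using hmono

theorem tele (l : ℕ) (c : Fin (l + 2) → ℝ) :
    ∑ j : Fin (l + 1), (c j.castSucc - c j.succ) = c 0 - c (Fin.last (l + 1)) := by
  rw [Finset.sum_sub_distrib]
  have h1 : ∑ i, c i = c 0 + ∑ j : Fin (l + 1), c j.succ := Fin.sum_univ_succ c
  have h2 : ∑ i, c i = ∑ j : Fin (l + 1), c j.castSucc + c (Fin.last _) := Fin.sum_univ_castSucc c
  linarith

theorem tele_from (l : ℕ) (c : Fin (l + 2) → ℝ) (j₀ : Fin (l + 1)) :
    ∑ j : Fin (l + 1), (c j.castSucc - c j.succ) * (if j₀ ≤ j then (1:ℝ) else 0) =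
      c j₀.castSucc - c (Fin.last (l + 1)) := by
  have h := tele l (fun i => c (max i j₀.castSucc))
  have e0 : max (0 : Fin (l + 2)) j₀.castSucc = j₀.castSucc := max_eq_right (Fin.zero_le _)
  have el : max (Fin.last (l + 1)) j₀.castSucc = Fin.last (l + 1) := max_eq_left (Fin.le_last _)
  simp only [e0, el] at h
  rw [← h]
  refine Finset.sum_congr rfl (fun j _ => ?_)
  by_cases hj : j₀ ≤ j
  · have hj' : (j₀ : ℕ) ≤ (j : ℕ) := hj
    have h1 : j₀.castSucc ≤ j.castSucc := by
      rw [Fin.le_iff_val_le_val]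
      simpa using hj'
    have h2 : j₀.castSucc ≤ j.succ := by
      rw [Fin.le_iff_val_le_val]
      simp only [Fin.coe_castSucc, Fin.val_succ]
      omega
    rw [if_pos hj, mul_one, max_eq_left h1, max_eq_left h2]
  · have hj' : (j : ℕ) < (j₀ : ℕ) := not_le.mp hj
    have h1 : j.castSucc ≤ j₀.castSucc := by
      rw [Fin.le_iff_val_le_val]
      simp only [Fin.coe_castSucc]
      omega
    have h2 : j.succ ≤ j₀.castSucc := by
      rw [Fin.le_iff_val_le_val]
      simp only [Fin.coe_castSucc, Fin.val_succ]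
      omega
    rw [if_neg hj, mul_zero, max_eq_right h1, max_eq_right h2, sub_self]

end Groth.Agent.Lib.Helper25.ParShR
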