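import Mathlib
import Groth.Prelude
import Groth.Agent.Lib.Helper25.ParShR

/-!
# The real-indexed filtration of induced and coinduced structures; the step formula (helper25)
-/

set_option autoImplicit false
universe v u
open CategoryTheory CategoryTheory.Limits

namespace Groth.Agent.Lib.Helper25.ParShS

open Groth.Agent.Lib.Helper25.ParShR

variable {C : Type u} [Category.{v} C] [Abelian C]

theorem at_cases {E : C} (𝓢 : ParSh.Str E) (a : ℝ) :
    (∀ j, 𝓢.wt j < a) ∨ ∃ j, a ≤ 𝓢.wt j ∧ ∀ j' < j, 𝓢.wt j' < a := by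
  classical
  by_cases h : ∃ j, a ≤ 𝓢.wt j
  · right
    let P : Finset (Fin (𝓢.l + 1)) := Finset.univ.filter (fun j => a ≤ 𝓢.wt j)
    have hP : P.Nonempty := by
      obtain ⟨j, hj⟩ := h
      exact ⟨j, Finset.mem_filter.2 ⟨Finset.mem_univ _, hj⟩⟩
    refine ⟨P.min' hP, (Finset.mem_filter.1 (P.min'_mem hP)).2, fun j' hj' => ?_⟩
    by_contra hcon
    have : j' ∈ P := Finset.mem_filter.2 ⟨Finset.mem_univ _, not_lt.mp hcon⟩
    exact absurd (P.min'_le j' this) (not_le.mpr hj')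
  · left
    intro j
    exact not_le.mp (fun hj => h ⟨j, hj⟩)

theorem at_induced {E F : C} (𝓔 : ParSh.Str E) (i : F ⟶ E) (a : ℝ) :
    (𝓔.induced i).at a = (Subobject.pullback i).obj (𝓔.at a) := by
  rcases at_cases 𝓔 a with h | ⟨j, hj, hlt⟩
  · rw [𝓔.at_eq_bot h]
    exact (𝓔.induced i).at_eq_bot h
  · rw [𝓔.at_eq_piece j hj hlt]
    exact (𝓔.induced i).at_eq_piece j hj hlt

theorem at_coinduced {E G : C} (𝓔 : ParSh.Str E) (p : E ⟶ G) [Epi p] (a : ℝ) :
    (𝓔.coinduced p).at a = imageSubobject ((𝓔.at a).arrow ≫ p) := by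
  rcases at_cases 𝓔 a with h | ⟨j, hj, hlt⟩
  · rw [𝓔.at_eq_bot h]
    exact (𝓔.coinduced p).at_eq_bot h
  · rw [𝓔.at_eq_piece j hj hlt]
    exact (𝓔.coinduced p).at_eq_piece j hj hlt

/-- the step formula: `f(F_a) - f(bot)` is the sum of the jumps of weight `≥ a` -/
theorem f_at_sub {E : C} (𝓢 : ParSh.Str E) (f : C → ℝ) (a : ℝ) :
    f ((𝓢.at a : Subobject E) : C) - f (𝓢.bot : C) =
      ∑ j : Fin (𝓢.l + 1), (f (𝓢.piece j : C) - f (𝓢.pieceX j.succ : C)) * ind (𝓢.wt j) a := by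
  rcases at_cases 𝓢 a with h | ⟨j₀, hj, hlt⟩
  · rw [𝓢.at_eq_bot h, sub_self]
    symm
    apply Finset.sum_eq_zero
    intro j _
    rw [ind_of_lt (h j), mul_zero]
  · rw [𝓢.at_eq_piece j₀ hj hlt]
    have hind : ∀ j, ind (𝓢.wt j) a = if j₀ ≤ j then (1:ℝ) else 0 := by
      intro j
      by_cases hjj : j₀ ≤ j
      · rw [if_pos hjj]
        exact ind_of_le (hj.trans (𝓢.wt_strictMono.monotone hjj))
      · rw [if_neg hjj]
        exact ind_of_lt (hlt j (not_le.mp hjj))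
    have h := tele_from 𝓢.l (fun i => f (𝓢.pieceX i : C)) j₀
    simp only [ParSh.Str.pieceX_castSucc, ParSh.Str.pieceX_last] at h
    rw [← h]
    exact Finset.sum_congr rfl (fun j _ => by rw [hind j])

/-- every `F_a` lies between the bottom and the top -/
theorem bot_le_at' {E : C} (𝓢 : ParSh.Str E) (a : ℝ) : 𝓢.bot ≤ 𝓢.at a := 𝓢.bot_le_at a

end Groth.Agent.Lib.Helper25.ParShS
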