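import Mathlib
import Groth.Prelude
import Groth.Agent.Lib.Helper23.Sat
import Groth.Agent.Lib.Helper25.ParShS
import Groth.Agent.Lib.Helper25.ParShT

/-!
# Parabolic homomorphisms compose; parabolic degree is additive in parabolic extensions (helper25)
-/

set_option autoImplicit false
set_option linter.style.haveILetI false
universe v u
open CategoryTheory CategoryTheory.Limits AlgebraicGeometry TopologicalSpace Opposite

namespace Groth.Agent.Lib.Helper25.ParShV

open Groth.Agent.Lib.Helper25.ParShS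

section Generic

variable {C : Type u} [Category.{v} C] [Abelian C]

theorem isParHom_comp {A B D : C} (𝓐 : ParSh.Str A) (𝓑 : ParSh.Str B) (𝓓 : ParSh.Str D)
    (f : A ⟶ B) (g : B ⟶ D) (hf : ParSh.IsParHom 𝓐 𝓑 f) (hg : ParSh.IsParHom 𝓑 𝓓 g) :
    ParSh.IsParHom 𝓐 𝓓 (f ≫ g) := by
  intro a h0 h1
  have h := hf a h0 h1
  have h' := hg a h0 h1
  rw [← Category.assoc, ← Subobject.factorThru_arrow _ _ h, Category.assoc]
  exact Subobject.factors_of_factors_right _ h'

theorem isParHom_induced {E F : C} (𝓔 : ParSh.Str E) (i : F ⟶ E) :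
    ParSh.IsParHom (𝓔.induced i) 𝓔 i := by
  intro a _ _
  rw [at_induced]
  have hpb := Subobject.isPullback i (𝓔.at a)
  rw [← hpb.w]
  exact Subobject.factors_comp_arrow _

theorem isParHom_coinduced {E G : C} (𝓔 : ParSh.Str E) (p : E ⟶ G) [Epi p] :
    ParSh.IsParHom 𝓔 (𝓔.coinduced p) p := by
  intro a _ _
  rw [at_coinduced]
  have := Subobject.factors_comp_arrow (P := imageSubobject ((𝓔.at a).arrow ≫ p))
    (factorThruImageSubobject ((𝓔.at a).arrow ≫ p))
  rwa [imageSubobject_arrow_comp] at this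

end Generic

open Groth.Agent.Lib.Helper23.T2 Groth.Agent.Lib.Helper23.Curve
open Groth.Agent.Lib.Helper25.ParShA Groth.Agent.Lib.Helper25.ParShB

variable {X : Scheme.{u}}

theorem isFinLocFree_of_isFinLocFreeOfRank {n : ℕ} {M : X.Modules}
    (h : FlatMod.IsFinLocFreeOfRank n M) : FlatMod.IsFinLocFree M := fun x =>
  let ⟨U, hx, e⟩ := h x
  ⟨U, n, hx, e⟩

theorem isFinLocFree_cokernel_of_shortExact {A B D : X.Modules} (i : A ⟶ B) (p : B ⟶ D)
    (w : i ≫ p = 0) (hS : (ShortComplex.mk i p w).ShortExact) {c : ℕ}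
    (hD : FlatMod.IsFinLocFreeOfRank c D) : FlatMod.IsFinLocFree (cokernel i) := by
  have e : cokernel i ≅ D :=
    IsColimit.coconePointUniqueUpToIso (cokernelIsCokernel i) hS.gIsCokernel
  exact isFinLocFree_of_isFinLocFreeOfRank
    (Groth.Agent.Lib.Helper23.Sat.isFinLocFreeOfRank_of_iso e.symm hD)

variable (k : Type u) [Field k] [X.Over (Spec (CommRingCat.of k))]
  [IsProper (X ↘ Spec (CommRingCat.of k))]

set_option maxHeartbeats 400000 in
theorem euler_piece_add' {K F V : X.Modules} (κ : K ⟶ F) (q : F ⟶ V) [Epi q] (w : κ ≫ q = 0)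
    (hS : (ShortComplex.mk κ q w).ShortExact) (hV : Coh.IsCoh V) (T : Subobject F)
    (hT : Coh.IsCoh (T : X.Modules)) :
    Curv2.euler k X (T : X.Modules) =
      Curv2.euler k X (((Subobject.pullback κ).obj T : Subobject K) : X.Modules) +
        Curv2.euler k X ((imageSubobject (T.arrow ≫ q) : Subobject V) : X.Modules) := by
  obtain ⟨w', hS'⟩ := shortExact_piece κ q w hS T
  obtain ⟨h1, h3⟩ := isCoh_pieces k X κ q w hS hV T hT
  have h := euler_additive k X _ hS' h1 hT h3
  dsimp only at h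
  exact h

theorem euler_pieceX_add {K F V : X.Modules} (κ : K ⟶ F) (q : F ⟶ V) [Epi q] (w : κ ≫ q = 0)
    (hS : (ShortComplex.mk κ q w).ShortExact) (hV : Coh.IsCoh V) (𝓕 : ParSh.Str F)
    (hcoh : ∀ j, Coh.IsCoh ((𝓕.pieceX j : Subobject F) : X.Modules)) (j : Fin (𝓕.l + 2)) :
    Curv2.euler k X ((𝓕.pieceX j : Subobject F) : X.Modules) =
      Curv2.euler k X (((𝓕.induced κ).pieceX j : Subobject K) : X.Modules) +
        Curv2.euler k X (((𝓕.coinduced q).pieceX j : Subobject V) : X.Modules) := by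
  have e1 : (𝓕.induced κ).pieceX j = (Subobject.pullback κ).obj (𝓕.pieceX j) :=
    pieceX_induced 𝓕 κ j
  have e2 : (𝓕.coinduced q).pieceX j = imageSubobject ((𝓕.pieceX j).arrow ≫ q) :=
    pieceX_coinduced 𝓕 q j
  rw [e1, e2]
  exact euler_piece_add' k κ q w hS hV (𝓕.pieceX j) (hcoh j)

/-- additivity of the parabolic degree in a parabolic extension -/
theorem parDeg_add {K F V : X.Modules} (κ : K ⟶ F) (q : F ⟶ V) [Epi q] (w : κ ≫ q = 0)
    (hS : (ShortComplex.mk κ q w).ShortExact) (hV : Coh.IsCoh V) (𝓕 : ParSh.Str F)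
    (hcoh : ∀ j, Coh.IsCoh ((𝓕.pieceX j : Subobject F) : X.Modules)) (a r b : ℕ)
    (hdeg : Curv2.deg k X F r = Curv2.deg k X K a + Curv2.deg k X V b) :
    𝓕.parDeg k X r = (𝓕.induced κ).parDeg k X a + (𝓕.coinduced q).parDeg k X b := by
  have hj := euler_pieceX_add k κ q w hS hV 𝓕 hcoh
  have hp : ∀ j : Fin (𝓕.l + 1),
      Curv2.euler k X ((𝓕.piece j : Subobject F) : X.Modules) =
        Curv2.euler k X (((𝓕.induced κ).piece j : Subobject K) : X.Modules) +
          Curv2.euler k X (((𝓕.coinduced q).piece j : Subobject V) : X.Modules) := by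
    intro j
    have := hj j.castSucc
    rw [ParSh.Str.pieceX_castSucc] at this
    rw [this]
    congr 2
    · exact congrArg _ ((𝓕.induced κ).pieceX_castSucc j)
    · exact congrArg _ ((𝓕.coinduced q).pieceX_castSucc j)
  have hK : (𝓕.induced κ).parWt k X = ∑ j : Fin (𝓕.l + 1), 𝓕.wt j *
      (((Curv2.euler k X (((𝓕.induced κ).piece j : Subobject K) : X.Modules) : ℤ) : ℝ) -
        ((Curv2.euler k X (((𝓕.induced κ).pieceX j.succ : Subobject K) : X.Modules) : ℤ) : ℝ)) :=
    rfl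
  have hVq : (𝓕.coinduced q).parWt k X = ∑ j : Fin (𝓕.l + 1), 𝓕.wt j *
      (((Curv2.euler k X (((𝓕.coinduced q).piece j : Subobject V) : X.Modules) : ℤ) : ℝ) -
        ((Curv2.euler k X (((𝓕.coinduced q).pieceX j.succ : Subobject V) : X.Modules) : ℤ) : ℝ)) :=
    rfl
  have hF' : 𝓕.parWt k X = ∑ j : Fin (𝓕.l + 1), 𝓕.wt j *
      (((Curv2.euler k X ((𝓕.piece j : Subobject F) : X.Modules) : ℤ) : ℝ) -
        ((Curv2.euler k X ((𝓕.pieceX j.succ : Subobject F) : X.Modules) : ℤ) : ℝ)) := rfl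
  have hsum : 𝓕.parWt k X = (𝓕.induced κ).parWt k X + (𝓕.coinduced q).parWt k X := by
    rw [hK, hVq, hF', ← Finset.sum_add_distrib]
    refine Finset.sum_congr rfl (fun j _ => ?_)
    rw [hp j, hj j.succ]
    push_cast
    ring
  unfold ParSh.Str.parDeg
  rw [hsum, hdeg]
  push_cast
  ring

end Groth.Agent.Lib.Helper25.ParShV
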