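import Mathlib

/-!
# Kronecker's theorem on products of polynomials over an integrally closed domain (helper25)

* `coeff_mul_coeff_mem`: Gauss' lemma for a valuation subring `V` of a field `K`: if `f * g` has all its
  coefficients in `V`, so has every product `f.coeff i * g.coeff j`.
* `isIntegral_of_forall_valuationSubring`: an element lying in all valuation subrings containing the image
  of `A` is integral over `A`.
* `kronecker`: for an integrally closed domain `A` with fraction field `K`: if `f * g ∈ A[X]` then all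
  `f.coeff i * g.coeff j ∈ A`.
-/

set_option autoImplicit false
universe u
open Polynomial

namespace Groth.Agent.Lib.Helper25.PicPolyGauss

section Val
variable {K : Type*} [Field K]

theorem exists_lead (V : ValuationSubring K) (f : K[X]) (hf : f ≠ 0) :
    ∃ (i0 : ℕ) (α : V.ValueGroup), α ≠ 0 ∧ V.valuation (f.coeff i0) = α ∧
      (∀ i, V.valuation (f.coeff i) ≤ α) ∧ ∀ i, i < i0 → V.valuation (f.coeff i) < α := by
  classical
  obtain ⟨i1, hi1s, hi1⟩ := Finset.exists_max_image f.support (fun i => V.valuation (f.coeff i))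
    (nonempty_support_iff.2 hf)
  have hle : ∀ i, V.valuation (f.coeff i) ≤ V.valuation (f.coeff i1) := by
    intro i
    by_cases hi : i ∈ f.support
    · exact hi1 i hi
    · rw [notMem_support_iff.1 hi, map_zero]; exact zero_le'
  have hex : ∃ i, V.valuation (f.coeff i) = V.valuation (f.coeff i1) := ⟨i1, rfl⟩
  refine ⟨Nat.find hex, V.valuation (f.coeff i1), ?_, Nat.find_spec hex, hle, ?_⟩
  · intro h0
    exact (mem_support_iff.1 hi1s) ((Valuation.zero_iff _).1 h0)
  · intro i hi
    exact lt_of_le_of_ne (hle i) (Nat.find_min hex hi)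

/-- Gauss' lemma for a valuation subring. -/
theorem coeff_mul_coeff_mem (V : ValuationSubring K) (f g : K[X])
    (h : ∀ l, (f * g).coeff l ∈ V) (i j : ℕ) : f.coeff i * g.coeff j ∈ V := by
  classical
  by_cases hf : f = 0
  · rw [hf, coeff_zero, zero_mul]; exact V.zero_mem
  by_cases hg : g = 0
  · rw [hg, coeff_zero, mul_zero]; exact V.zero_mem
  obtain ⟨i0, α, hα0, hα, hαle, hαlt⟩ := exists_lead V f hf
  obtain ⟨j0, β, hβ0, hβ, hβle, hβlt⟩ := exists_lead V g hg
  have hαβ0 : α * β ≠ 0 := mul_ne_zero hα0 hβ0
  have hmem : (i0, j0) ∈ Finset.HasAntidiagonal.antidiagonal (i0 + j0) := Finset.HasAntidiagonal.mem_antidiagonal.2 rfl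
  have hsplit : (f * g).coeff (i0 + j0) = f.coeff i0 * g.coeff j0 +
      ∑ p ∈ (Finset.HasAntidiagonal.antidiagonal (i0 + j0)).erase (i0, j0), f.coeff p.1 * g.coeff p.2 := by
    rw [coeff_mul, ← Finset.add_sum_erase _ _ hmem]
  have hrest : V.valuation (∑ p ∈ (Finset.HasAntidiagonal.antidiagonal (i0 + j0)).erase (i0, j0),
      f.coeff p.1 * g.coeff p.2) < α * β := by
    refine Valuation.map_sum_lt _ hαβ0 ?_
    intro p hp
    rw [Finset.mem_erase, Finset.HasAntidiagonal.mem_antidiagonal] at hp
    obtain ⟨hne, hsum⟩ := hp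
    rw [map_mul]
    have hcases : p.1 < i0 ∨ p.2 < j0 := by
      by_contra hcon
      push_neg at hcon
      apply hne
      have h1 : p.1 = i0 := by omega
      have h2 : p.2 = j0 := by omega
      exact Prod.ext h1 h2
    rcases hcases with h1 | h2
    · exact mul_lt_mul_of_lt_of_le_of_nonneg_of_pos (hαlt _ h1) (hβle _) zero_le'
        (zero_lt_iff.2 hβ0)
    · exact mul_lt_mul_of_le_of_lt_of_nonneg_of_pos (hαle _) (hβlt _ h2) zero_le'
        (zero_lt_iff.2 hα0)
  have h2 : V.valuation (f.coeff i0 * g.coeff j0) = α * β := by rw [map_mul, hα, hβ]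
  have hval : V.valuation ((f * g).coeff (i0 + j0)) = α * β := by
    rw [hsplit, Valuation.map_add_eq_of_lt_left _ (by rw [h2]; exact hrest), h2]
  have hle1 : α * β ≤ 1 := by
    rw [← hval]; exact (V.valuation_le_one_iff _).2 (h _)
  refine (V.valuation_le_one_iff _).1 ?_
  rw [map_mul]
  exact le_trans (mul_le_mul' (hαle i) (hβle j)) hle1

end Val

theorem isIntegral_of_forall_valuationSubring {A K : Type*} [CommRing A] [Field K] [Algebra A K]
    (x : K) (h : ∀ V : ValuationSubring K, (∀ a : A, algebraMap A K a ∈ V) → x ∈ V) :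
    IsIntegral A x := by
  have key := iInf_valuationSubring_superset (K := K) (s := Set.range (algebraMap A K))
  have hx : x ∈ (⨅ V : {V : ValuationSubring K // Set.range (algebraMap A K) ⊆ V.toSubring},
      V.1.toSubring) := by
    rw [Subring.mem_iInf]
    rintro ⟨V, hV⟩
    exact h V (fun a => hV ⟨a, rfl⟩)
  rw [key] at hx
  have hx' : IsIntegral (Subring.closure (Set.range (algebraMap A K))) x := hx
  obtain ⟨p, hp, hpx⟩ := hx'
  have hcl : Subring.closure (Set.range (algebraMap A K)) = (algebraMap A K).range := by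
    rw [← RingHom.coe_range, Subring.closure_eq]
  let ρ : A →+* Subring.closure (Set.range (algebraMap A K)) :=
    (algebraMap A K).codRestrict _ (fun a => Subring.subset_closure ⟨a, rfl⟩)
  have hρ : Function.Surjective ρ := by
    rintro ⟨y, hy⟩
    have hy' : y ∈ (algebraMap A K).range := hcl ▸ hy
    obtain ⟨a, rfl⟩ := hy'
    exact ⟨a, rfl⟩
  obtain ⟨q, hq, -, hqm⟩ := lifts_and_natDegree_eq_and_monic (mem_lifts_of_surjective hρ p) hp
  refine ⟨q, hqm, ?_⟩
  have hcomp : (algebraMap (Subring.closure (Set.range (algebraMap A K))) K).comp ρ =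
      algebraMap A K := RingHom.ext fun a => rfl
  rw [← hq, eval₂_map, hcomp] at hpx
  exact hpx

/-- **Kronecker's theorem** for an integrally closed domain. -/
theorem kronecker {A K : Type*} [CommRing A] [IsDomain A] [IsIntegrallyClosed A] [Field K]
    [Algebra A K] [IsFractionRing A K] (f g : K[X]) (h : A[X])
    (hfg : f * g = h.map (algebraMap A K)) (i j : ℕ) :
    ∃ a : A, algebraMap A K a = f.coeff i * g.coeff j := by
  have hint : IsIntegral A (f.coeff i * g.coeff j) := by
    refine isIntegral_of_forall_valuationSubring _ (fun V hV => ?_)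
    refine coeff_mul_coeff_mem V f g (fun l => ?_) i j
    rw [hfg, coeff_map]; exact hV _
  exact IsIntegrallyClosed.isIntegral_iff.1 hint

end Groth.Agent.Lib.Helper25.PicPolyGauss
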