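import Mathlib
import Groth.Agent.Lib.Helper25.PicPolyGauss

/-!
# `Pic A → Pic A[X]` is surjective for an integrally closed domain `A` (helper25)

Every invertible `A[X]`-module is isomorphic to an invertible `A[X]`-submodule `I` of `K[X]`
(`K = Frac A`, as `Pic K[X] = 0`); the `A`-submodule `cont I ⊆ K` generated by the coefficients of the
elements of `I` is invertible with inverse `cont I⁻¹` (Kronecker's theorem), and `I = A[X] ⊗_A cont I`.
-/

set_option autoImplicit false
universe u
open Polynomial TensorProduct CommRing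

namespace Groth.Agent.Lib.Helper25.PicPolyCont

attribute [local instance] Polynomial.algebra

variable {A : Type u} [CommRing A] [IsDomain A] [IsIntegrallyClosed A]
variable {K : Type u} [Field K] [Algebra A K] [IsFractionRing A K]

/-- The `A`-submodule of `K` generated by the coefficients of the elements of `N`. -/
def cont (N : Submodule A[X] K[X]) : Submodule A K :=
  Submodule.span A {x | ∃ f ∈ N, ∃ i : ℕ, f.coeff i = x}

theorem coeff_mem_cont {N : Submodule A[X] K[X]} {f : K[X]} (hf : f ∈ N) (i : ℕ) :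
    f.coeff i ∈ cont N :=
  Submodule.subset_span ⟨f, hf, i, rfl⟩

theorem coeff_mul_coeff_mem_range (I : (Submodule A[X] K[X])ˣ) {f g : K[X]}
    (hf : f ∈ (I : Submodule A[X] K[X])) (hg : g ∈ ((I⁻¹ : (Submodule A[X] K[X])ˣ) : Submodule A[X] K[X]))
    (i j : ℕ) : ∃ a : A, algebraMap A K a = f.coeff i * g.coeff j := by
  have h1 : f * g ∈ (1 : Submodule A[X] K[X]) := by
    rw [← I.mul_inv]; exact Submodule.mul_mem_mul hf hg
  obtain ⟨h, hh⟩ := Submodule.mem_one.1 h1
  exact PicPolyGauss.kronecker f g h hh.symm i j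

theorem cont_mul_cont_le (I : (Submodule A[X] K[X])ˣ) :
    cont (I : Submodule A[X] K[X]) * cont ((I⁻¹ : (Submodule A[X] K[X])ˣ) : Submodule A[X] K[X]) ≤ 1 := by
  unfold cont
  rw [Submodule.span_mul_span]
  refine Submodule.span_le.2 ?_
  intro x hx
  obtain ⟨a, ⟨f, hf, i, rfl⟩, b, ⟨g, hg, j, rfl⟩, rfl⟩ := Set.mem_mul.1 hx
  obtain ⟨c, hc⟩ := coeff_mul_coeff_mem_range I hf hg i j
  exact Submodule.mem_one.2 ⟨c, hc⟩

theorem coeff_mem_cont_mul (I J : Submodule A[X] K[X]) {h : K[X]} (hh : h ∈ I * J) (l : ℕ) :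
    h.coeff l ∈ cont I * cont J := by
  refine Submodule.mul_induction_on (C := fun h => ∀ l, h.coeff l ∈ cont I * cont J) hh ?_ ?_ l
  · intro m hm n hn l
    rw [coeff_mul]
    exact Submodule.sum_mem _ (fun p _ =>
      Submodule.mul_mem_mul (coeff_mem_cont hm _) (coeff_mem_cont hn _))
  · intro x y hx hy l
    rw [coeff_add]; exact Submodule.add_mem _ (hx l) (hy l)

theorem one_le_cont_mul_cont (I : (Submodule A[X] K[X])ˣ) :
    1 ≤ cont (I : Submodule A[X] K[X]) *
      cont ((I⁻¹ : (Submodule A[X] K[X])ˣ) : Submodule A[X] K[X]) := by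
  rw [Submodule.one_le]
  have h1 : (1 : K[X]) ∈ (I : Submodule A[X] K[X]) *
      ((I⁻¹ : (Submodule A[X] K[X])ˣ) : Submodule A[X] K[X]) := by
    rw [I.mul_inv]; exact Submodule.one_le.1 le_rfl
  have := coeff_mem_cont_mul _ _ h1 0
  rwa [coeff_one_zero] at this

/-- The content submodule of an invertible submodule, as a unit. -/
noncomputable def contUnit (I : (Submodule A[X] K[X])ˣ) : (Submodule A K)ˣ :=
  Units.mkOfMulEqOne (cont (I : Submodule A[X] K[X]))
    (cont ((I⁻¹ : (Submodule A[X] K[X])ˣ) : Submodule A[X] K[X]))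
    (le_antisymm (cont_mul_cont_le I) (one_le_cont_mul_cont I))

theorem C_mem (I : (Submodule A[X] K[X])ˣ) {x : K}
    (hx : x ∈ cont (I : Submodule A[X] K[X])) : C x ∈ (I : Submodule A[X] K[X]) := by
  have hgen : ∀ (f : K[X]), f ∈ (I : Submodule A[X] K[X]) → ∀ i : ℕ,
      C (f.coeff i) ∈ (I : Submodule A[X] K[X]) := by
    intro f hf i
    have h1 : (1 : K[X]) ∈ ((I⁻¹ : (Submodule A[X] K[X])ˣ) : Submodule A[X] K[X]) *
        (I : Submodule A[X] K[X]) := by
      rw [I.inv_mul]; exact Submodule.one_le.1 le_rfl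
    have key : ∀ w ∈ ((I⁻¹ : (Submodule A[X] K[X])ˣ) : Submodule A[X] K[X]) *
        (I : Submodule A[X] K[X]), C (f.coeff i) * w ∈ (I : Submodule A[X] K[X]) := by
      intro w hw
      refine Submodule.mul_induction_on hw ?_ ?_
      · intro g hg f' hf'
        have hlift : C (f.coeff i) * g ∈ Polynomial.lifts (algebraMap A K) := by
          rw [Polynomial.lifts_iff_coeff_lifts]
          intro n
          rw [coeff_C_mul]
          obtain ⟨a, ha⟩ := coeff_mul_coeff_mem_range I hf hg i n
          exact ⟨a, ha⟩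
        obtain ⟨q, hq⟩ := (Polynomial.mem_lifts _).1 hlift
        have hq' : algebraMap A[X] K[X] q = C (f.coeff i) * g := hq
        have : C (f.coeff i) * (g * f') = q • f' := by
          rw [Algebra.smul_def, hq', mul_assoc]
        rw [this]
        exact Submodule.smul_mem _ q hf'
      · intro x y hx hy
        rw [mul_add]; exact Submodule.add_mem _ hx hy
    have := key 1 h1
    rwa [mul_one] at this
  let S' : Submodule A K :=
    { carrier := {x | C x ∈ (I : Submodule A[X] K[X])}
      zero_mem' := by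
        show C (0 : K) ∈ (I : Submodule A[X] K[X])
        rw [map_zero]; exact Submodule.zero_mem _
      add_mem' := fun {x y} hx hy => by
        show C (x + y) ∈ (I : Submodule A[X] K[X])
        rw [map_add]; exact Submodule.add_mem _ hx hy
      smul_mem' := fun a x hx => by
        show C (a • x) ∈ (I : Submodule A[X] K[X])
        have e : algebraMap A[X] K[X] (C a) = C (algebraMap A K a) := Polynomial.map_C _
        have : C (a • x) = (C a : A[X]) • (C x : K[X]) := by
          rw [Algebra.smul_def, Algebra.smul_def, map_mul, e]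
        rw [this]; exact Submodule.smul_mem _ _ hx }
  have hle : cont (I : Submodule A[X] K[X]) ≤ S' :=
    Submodule.span_le.2 (by rintro x ⟨f, hf, i, rfl⟩; exact hgen f hf i)
  exact hle hx

/-- `x ↦ C x` from the content module to `I`. -/
noncomputable def lin (I : (Submodule A[X] K[X])ˣ) :
    ↥((contUnit I : (Submodule A K)ˣ) : Submodule A K) →ₗ[A] ↥(I : Submodule A[X] K[X]) where
  toFun x := ⟨C x.1, C_mem I x.2⟩
  map_add' x y := Subtype.ext (by
    show C (x.1 + y.1) = C x.1 + C y.1
    exact map_add _ _ _)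
  map_smul' a x := Subtype.ext (by
    show C (a • x.1) = a • C x.1
    rw [Polynomial.smul_C])

theorem liftBaseChange_surjective (I : (Submodule A[X] K[X])ˣ) :
    Function.Surjective ((lin I).liftBaseChange A[X]) := by
  rintro ⟨f, hf⟩
  refine ⟨∑ i ∈ f.support, (X ^ i : A[X]) ⊗ₜ[A]
    (⟨f.coeff i, coeff_mem_cont hf i⟩ : ↥((contUnit I : (Submodule A K)ˣ) : Submodule A K)), ?_⟩
  rw [map_sum]
  apply Subtype.ext
  rw [Submodule.coe_sum]
  have hf_eq : f = ∑ i ∈ f.support, C (f.coeff i) * X ^ i := f.as_sum_support_C_mul_X_pow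
  refine Eq.trans ?_ hf_eq.symm
  refine Finset.sum_congr rfl (fun i _ => ?_)
  rw [LinearMap.liftBaseChange_tmul]
  show (X ^ i : A[X]) • (C (f.coeff i) : K[X]) = C (f.coeff i) * X ^ i
  have e : algebraMap A[X] K[X] (X ^ i) = X ^ i := by
    show Polynomial.map (algebraMap A K) (X ^ i) = X ^ i
    rw [Polynomial.map_pow, Polynomial.map_X]
  rw [Algebra.smul_def, e, mul_comm]

include K in
/-- Every invertible `A[X]`-module is extended from `A` (`A` an integrally closed domain). -/
theorem exists_mapAlgebra_eq (y : Pic A[X]) : ∃ z : Pic A, Pic.mapAlgebra A A[X] z = y := by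
  have : FaithfulSMul A K :=
    (faithfulSMul_iff_algebraMap_injective A K).2 (IsFractionRing.injective A K)
  have hy : y ∈ (Submodule.unitsToPic A[X] K[X]).range := by
    rw [Submodule.range_unitsToPic, relPic_eq_top]; exact Subgroup.mem_top _
  obtain ⟨I, rfl⟩ := hy
  refine ⟨Submodule.unitsToPic A K (contUnit I), ?_⟩
  have hbij := Module.Invertible.bijective_of_surjective (liftBaseChange_surjective I)
  let e : (A[X] ⊗[A] Pic.AsModule (Submodule.unitsToPic A K (contUnit I))) ≃ₗ[A[X]]
      ↥(I : Submodule A[X] K[X]) :=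
    TensorProduct.AlgebraTensorModule.congr (LinearEquiv.refl A[X] A[X])
      (Submodule.unitsToPicEquiv (contUnit I)) ≪≫ₗ LinearEquiv.ofBijective _ hbij
  show Pic.mk A[X] (A[X] ⊗[A] Pic.AsModule (Submodule.unitsToPic A K (contUnit I))) =
    Pic.mk A[X] ↥(I : Submodule A[X] K[X])
  exact Pic.mk_eq_mk_iff.2 ⟨e⟩

end Groth.Agent.Lib.Helper25.PicPolyCont
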