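import Mathlib
import Groth.Agent.Lib.Helper25.PicPolyCont

/-!
# The Picard group of a normal cone is trivial (helper25)

* `free_of_homotopy`: if an integrally closed domain `A` over a field `k` admits a ring map
  `φ : A → A[X]` with `ev₁ ∘ φ = id` and `ev₀ ∘ φ` factoring through `k`, every invertible `A`-module
  is free.
* `exists_homotopy`: such a `φ` exists for `A = k[x_i]/I` with `I` generated by homogeneous polynomials
  (`x_i ↦ x_i T`).
-/

set_option autoImplicit false
universe u
open Polynomial CommRing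

namespace Groth.Agent.Lib.Helper25.PicCone

theorem free_of_homotopy {A : Type u} [CommRing A] [IsDomain A] [IsIntegrallyClosed A]
    {k : Type u} [Field k] [Algebra k A]
    (φ : A →+* A[X]) (π : A →+* k)
    (h1 : (evalRingHom (1 : A)).comp φ = RingHom.id A)
    (h0 : (evalRingHom (0 : A)).comp φ = (algebraMap k A).comp π)
    (M : Type u) [AddCommGroup M] [Module A M] [Module.Invertible A M] : Module.Free A M := by
  obtain ⟨z, hz⟩ := PicPolyCont.exists_mapAlgebra_eq (K := FractionRing A)
    (Pic.mapRingHom φ (Pic.mk A M))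
  have hz' : Pic.mapRingHom (algebraMap A A[X]) z = Pic.mapRingHom φ (Pic.mk A M) := by
    rw [Pic.mapRingHom_algebraMap]; exact hz
  have e1 : (evalRingHom (1 : A)).comp (algebraMap A A[X]) = RingHom.id A :=
    RingHom.ext fun a => by
      show Polynomial.eval 1 (algebraMap A A[X] a) = a
      rw [Polynomial.algebraMap_apply, Polynomial.eval_C]; rfl
  have e0 : (evalRingHom (0 : A)).comp (algebraMap A A[X]) = RingHom.id A :=
    RingHom.ext fun a => by
      show Polynomial.eval 0 (algebraMap A A[X] a) = a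
      rw [Polynomial.algebraMap_apply, Polynomial.eval_C]; rfl
  have hx1 : Pic.mk A M = z := by
    have := congrArg (Pic.mapRingHom (evalRingHom (1 : A))) hz'
    rw [Pic.mapRingHom_mapRingHom, Pic.mapRingHom_mapRingHom, e1, h1, Pic.mapRingHom_id_apply,
      Pic.mapRingHom_id_apply] at this
    exact this.symm
  have hx0 : Pic.mapRingHom ((algebraMap k A).comp π) (Pic.mk A M) = z := by
    have := congrArg (Pic.mapRingHom (evalRingHom (0 : A))) hz'
    rw [Pic.mapRingHom_mapRingHom, Pic.mapRingHom_mapRingHom, e0, h0,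
      Pic.mapRingHom_id_apply] at this
    exact this.symm
  have hx : Pic.mk A M = 1 := by
    rw [hx1, ← hx0, ← Pic.mapRingHom_mapRingHom (f := π) (g := algebraMap k A),
      Subsingleton.elim (Pic.mapRingHom π (Pic.mk A M)) 1, map_one]
  exact Pic.mk_eq_one_iff_free.1 hx

theorem aeval_C_mul_X_of_isHomogeneous {k : Type*} [CommRing k] {σ : Type*} {B : Type*}
    [CommRing B] [Algebra k B] (b : σ → B) {f : MvPolynomial σ k} {d : ℕ}
    (hf : f.IsHomogeneous d) :
    MvPolynomial.aeval (fun i => (C (b i) * X : B[X])) f =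
      C (MvPolynomial.aeval b f) * X ^ d := by
  classical
  have key : ∀ m ∈ f.support,
      MvPolynomial.aeval (fun i => (C (b i) * X : B[X])) (MvPolynomial.monomial m (f.coeff m)) =
        C (MvPolynomial.aeval b (MvPolynomial.monomial m (f.coeff m))) * X ^ d := by
    intro m hm
    have hd : ∑ i ∈ m.support, m i = d := (hf.degree_eq_sum_deg_support hm).symm
    rw [MvPolynomial.aeval_monomial, MvPolynomial.aeval_monomial, Finsupp.prod, Finsupp.prod,
      map_mul, map_prod]
    simp only [mul_pow, map_pow, Finset.prod_mul_distrib, Finset.prod_pow_eq_pow_sum, hd,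
      Polynomial.algebraMap_apply]
    ring
  have hsum : f = ∑ m ∈ f.support, MvPolynomial.monomial m (f.coeff m) := f.as_sum
  have hL : MvPolynomial.aeval (fun i => (C (b i) * X : B[X])) f =
      ∑ m ∈ f.support, MvPolynomial.aeval (fun i => (C (b i) * X : B[X]))
        (MvPolynomial.monomial m (f.coeff m)) := by
    conv_lhs => rw [hsum]
    rw [map_sum]
  have hR : MvPolynomial.aeval b f =
      ∑ m ∈ f.support, MvPolynomial.aeval b (MvPolynomial.monomial m (f.coeff m)) := by
    conv_lhs => rw [hsum]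
    rw [map_sum]
  rw [hL, hR, map_sum, Finset.sum_mul]
  exact Finset.sum_congr rfl key

theorem exists_hom {k : Type u} [Field k] {σ : Type*} (s : Set (MvPolynomial σ k))
    (hs : ∀ f ∈ s, ∃ d : ℕ, f.IsHomogeneous d) :
    ∃ Φ : MvPolynomial σ k →+* (MvPolynomial σ k ⧸ Ideal.span s)[X],
      (∀ r, Φ (MvPolynomial.C r) = C (algebraMap k (MvPolynomial σ k ⧸ Ideal.span s) r)) ∧
      (∀ i, Φ (MvPolynomial.X i) =
        C (Ideal.Quotient.mk (Ideal.span s) (MvPolynomial.X i)) * X) ∧
      (∀ f ∈ Ideal.span s, Φ f = 0) := by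
  classical
  let b : σ → (MvPolynomial σ k ⧸ Ideal.span s) :=
    fun i => Ideal.Quotient.mkₐ k (Ideal.span s) (MvPolynomial.X i)
  have hb : ∀ f, MvPolynomial.aeval b f = Ideal.Quotient.mk (Ideal.span s) f := by
    intro f
    have := MvPolynomial.aeval_unique (Ideal.Quotient.mkₐ k (Ideal.span s))
    exact (DFunLike.congr_fun this f).symm
  refine ⟨(MvPolynomial.aeval (fun i => (C (b i) * X :
    (MvPolynomial σ k ⧸ Ideal.span s)[X])) : MvPolynomial σ k →ₐ[k] _).toRingHom, ?_, ?_, ?_⟩
  · intro r
    show MvPolynomial.aeval _ (MvPolynomial.C r) = _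
    rw [MvPolynomial.aeval_C, Polynomial.algebraMap_apply]
  · intro i
    show MvPolynomial.aeval _ (MvPolynomial.X i) = _
    rw [MvPolynomial.aeval_X]
    rfl
  · have hle : Ideal.span s ≤ RingHom.ker ((MvPolynomial.aeval (fun i => (C (b i) * X :
        (MvPolynomial σ k ⧸ Ideal.span s)[X])) : MvPolynomial σ k →ₐ[k] _).toRingHom) := by
      refine Ideal.span_le.2 (fun f hf => RingHom.mem_ker.2 ?_)
      obtain ⟨d, hd⟩ := hs f hf
      show MvPolynomial.aeval _ f = 0
      rw [aeval_C_mul_X_of_isHomogeneous b hd, hb,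
        Ideal.Quotient.eq_zero_iff_mem.2 (Ideal.subset_span hf), map_zero, zero_mul]
    intro f hf
    exact RingHom.mem_ker.1 (hle hf)

theorem exists_homotopy {k : Type u} [Field k] {σ : Type*} (I : Ideal (MvPolynomial σ k))
    (hI : ∃ s : Set (MvPolynomial σ k), (∀ f ∈ s, ∃ d : ℕ, f.IsHomogeneous d) ∧ I = Ideal.span s)
    [Nontrivial (MvPolynomial σ k ⧸ I)] :
    ∃ (φ : (MvPolynomial σ k ⧸ I) →+* (MvPolynomial σ k ⧸ I)[X])
      (π : (MvPolynomial σ k ⧸ I) →+* k),
      (evalRingHom (1 : MvPolynomial σ k ⧸ I)).comp φ = RingHom.id _ ∧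
      (evalRingHom (0 : MvPolynomial σ k ⧸ I)).comp φ =
        (algebraMap k (MvPolynomial σ k ⧸ I)).comp π := by
  classical
  obtain ⟨s, hs, rfl⟩ := hI
  obtain ⟨Φ, hΦC, hΦX, hΦ0⟩ := exists_hom s hs
  have h0' : (evalRingHom (0 : MvPolynomial σ k ⧸ Ideal.span s)).comp Φ =
      (algebraMap k (MvPolynomial σ k ⧸ Ideal.span s)).comp MvPolynomial.constantCoeff := by
    refine MvPolynomial.ringHom_ext (fun r => ?_) (fun i => ?_)
    · simp only [RingHom.comp_apply, Polynomial.coe_evalRingHom, hΦC, Polynomial.eval_C,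
        MvPolynomial.constantCoeff_C]
    · simp only [RingHom.comp_apply, Polynomial.coe_evalRingHom, hΦX, Polynomial.eval_mul,
        Polynomial.eval_X, mul_zero, MvPolynomial.constantCoeff_X, map_zero]
  have hπ : ∀ f ∈ Ideal.span s, MvPolynomial.constantCoeff f = 0 := by
    intro f hf
    have h2 : Polynomial.eval 0 (Φ f) =
        algebraMap k (MvPolynomial σ k ⧸ Ideal.span s) (MvPolynomial.constantCoeff f) :=
      DFunLike.congr_fun h0' f
    rw [hΦ0 f hf, Polynomial.eval_zero] at h2
    exact (map_eq_zero_iff _ (RingHom.injective _)).1 h2.symm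
  refine ⟨Ideal.Quotient.lift (Ideal.span s) Φ hΦ0,
    Ideal.Quotient.lift (Ideal.span s) MvPolynomial.constantCoeff hπ, ?_, ?_⟩
  · refine Ideal.Quotient.ringHom_ext (MvPolynomial.ringHom_ext (fun r => ?_) (fun i => ?_))
    · simp only [RingHom.comp_apply, RingHom.id_apply, Polynomial.coe_evalRingHom,
        Ideal.Quotient.lift_mk, hΦC, Polynomial.eval_C] <;> rfl
    · simp only [RingHom.comp_apply, RingHom.id_apply, Polynomial.coe_evalRingHom,
        Ideal.Quotient.lift_mk, hΦX, Polynomial.eval_mul, Polynomial.eval_C, Polynomial.eval_X,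
        mul_one]
  · refine Ideal.Quotient.ringHom_ext (RingHom.ext (fun f => ?_))
    simp only [RingHom.comp_apply, Ideal.Quotient.lift_mk]
    exact DFunLike.congr_fun h0' f

end Groth.Agent.Lib.Helper25.PicCone
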