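import Mathlib
import Groth.Prelude.Def_CAlgX
import Groth.Agent.Lib.Helper13.PureBasic

/-!
# Pure (universally exact) resolutions: translation between `QuasiIso` after tensoring and
concrete exactness of `rTensor`ed linear maps; lifting lemmas for pure projectives / pure injectives.
-/

set_option autoImplicit false
universe u

open CategoryTheory CategoryTheory.Limits

namespace Groth.Agent.Lib.Helper25.PureRes

variable {R : Type u} [CommRing R]

/-- plain exactness from exactness after `⊗ R`. -/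
lemma exact_of_rTensor_self {A B C : Type u} [AddCommGroup A] [Module R A] [AddCommGroup B]
    [Module R B] [AddCommGroup C] [Module R C] (f : A →ₗ[R] B) (g : B →ₗ[R] C)
    (h : Function.Exact (f.rTensor R) (g.rTensor R)) : Function.Exact f g := by
  refine (Function.Exact.iff_of_ladder_linearEquiv (e₁ := TensorProduct.rid R A)
    (e₂ := TensorProduct.rid R B) (e₃ := TensorProduct.rid R C) ?_ ?_).mpr h
  · apply TensorProduct.ext'
    intro a r
    simp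
  · apply TensorProduct.ext'
    intro a r
    simp

lemma surjective_of_rTensor_self {A B : Type u} [AddCommGroup A] [Module R A] [AddCommGroup B]
    [Module R B] (f : A →ₗ[R] B)
    (h : Function.Surjective (f.rTensor R)) : Function.Surjective f := by
  intro b
  obtain ⟨x, hx⟩ := h (b ⊗ₜ[R] (1 : R))
  refine ⟨TensorProduct.rid R A x, ?_⟩
  have h1 : f ∘ₗ (TensorProduct.rid R A).toLinearMap =
      (TensorProduct.rid R B).toLinearMap ∘ₗ f.rTensor R := by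
    apply TensorProduct.ext'
    intro a r
    simp
  have h2 := LinearMap.congr_fun h1 x
  simp only [LinearMap.coe_comp, LinearEquiv.coe_coe, Function.comp_apply] at h2
  rw [h2, hx]
  simp

lemma injective_of_rTensor_self {A B : Type u} [AddCommGroup A] [Module R A] [AddCommGroup B]
    [Module R B] (f : A →ₗ[R] B)
    (h : Function.Injective (f.rTensor R)) : Function.Injective f := by
  intro a a' haa
  have h1 : (f.rTensor R) (a ⊗ₜ[R] (1 : R)) = (f.rTensor R) (a' ⊗ₜ[R] (1 : R)) := by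
    rw [LinearMap.rTensor_tmul, LinearMap.rTensor_tmul, haa]
  have h2 := congrArg (TensorProduct.rid R A) (h h1)
  simpa using h2

/-- `(- ⊗ T)` applied degreewise to chain complexes. -/
noncomputable abbrev FT (T : ModuleCat.{u} R) :=
  (MonoidalCategory.tensorRight T).mapHomologicalComplex (ComplexShape.down ℕ)

/-- `(- ⊗ T)` applied degreewise to cochain complexes. -/
noncomputable abbrev FTup (T : ModuleCat.{u} R) :=
  (MonoidalCategory.tensorRight T).mapHomologicalComplex (ComplexShape.up ℕ)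

section Down

variable (P : ChainComplex (ModuleCat.{u} R) ℕ) {M : ModuleCat.{u} R}
  (π : P ⟶ (ChainComplex.single₀ (ModuleCat.{u} R)).obj M) (T : ModuleCat.{u} R)

lemma isZero_target_succ (n : ℕ) :
    IsZero (((FT T).obj ((ChainComplex.single₀ (ModuleCat.{u} R)).obj M)).X (n + 1)) := by
  show IsZero ((MonoidalCategory.tensorRight T).obj
    (((ChainComplex.single₀ (ModuleCat.{u} R)).obj M).X (n + 1)))
  exact Functor.map_isZero _ (HomologicalComplex.isZero_single_obj_X (ComplexShape.down ℕ) 0 M (n + 1) (Nat.succ_ne_zero n))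

lemma quasiIsoAt_succ_iff (n : ℕ) :
    QuasiIsoAt ((FT T).map π) (n + 1) ↔
      Function.Exact ((P.d (n + 2) (n + 1)).hom.rTensor T) ((P.d (n + 1) n).hom.rTensor T) := by
  rw [quasiIsoAt_iff_exactAt' _ _
    (HomologicalComplex.ExactAt.of_isZero (isZero_target_succ T n)),
    HomologicalComplex.exactAt_iff' _ (n + 2) (n + 1) n (by simp) (by simp),
    ShortComplex.ShortExact.moduleCat_exact_iff_function_exact]
  rfl

lemma quasiIsoAt_zero_iff :
    QuasiIsoAt ((FT T).map π) 0 ↔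
      Function.Exact ((P.d 1 0).hom.rTensor T) ((π.f 0).hom.rTensor T) ∧
        Function.Surjective ((π.f 0).hom.rTensor T) := by
  rw [ChainComplex.quasiIsoAt₀_iff, ShortComplex.quasiIso_iff_of_zeros' _
    (((FT T).obj P).shape 0 0 (by simp))
    ((isZero_target_succ (M := M) T 0).eq_of_src _ _)
    (((FT T).obj ((ChainComplex.single₀ (ModuleCat.{u} R)).obj M)).shape 0 0 (by simp)),
    ShortComplex.ShortExact.moduleCat_exact_iff_function_exact, ModuleCat.epi_iff_surjective]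
  rfl

lemma quasiIso_iff :
    QuasiIso ((FT T).map π) ↔
      (∀ n : ℕ, Function.Exact ((P.d (n + 2) (n + 1)).hom.rTensor T)
        ((P.d (n + 1) n).hom.rTensor T)) ∧
      Function.Exact ((P.d 1 0).hom.rTensor T) ((π.f 0).hom.rTensor T) ∧
        Function.Surjective ((π.f 0).hom.rTensor T) := by
  rw [_root_.quasiIso_iff]
  constructor
  · intro h
    exact ⟨fun n => (quasiIsoAt_succ_iff P π T n).mp (h (n + 1)),
      (quasiIsoAt_zero_iff P π T).mp (h 0)⟩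
  · rintro ⟨h1, h0⟩ i
    cases i with
    | zero => exact (quasiIsoAt_zero_iff P π T).mpr h0
    | succ n => exact (quasiIsoAt_succ_iff P π T n).mpr (h1 n)

end Down

section Up

variable (I : CochainComplex (ModuleCat.{u} R) ℕ) {M : ModuleCat.{u} R}
  (η : (CochainComplex.single₀ (ModuleCat.{u} R)).obj M ⟶ I) (T : ModuleCat.{u} R)

lemma isZero_source_succ (n : ℕ) :
    IsZero (((FTup T).obj ((CochainComplex.single₀ (ModuleCat.{u} R)).obj M)).X (n + 1)) := by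
  show IsZero ((MonoidalCategory.tensorRight T).obj
    (((CochainComplex.single₀ (ModuleCat.{u} R)).obj M).X (n + 1)))
  exact Functor.map_isZero _ (HomologicalComplex.isZero_single_obj_X (ComplexShape.up ℕ) 0 M (n + 1) (Nat.succ_ne_zero n))

lemma up_quasiIsoAt_succ_iff (n : ℕ) :
    QuasiIsoAt ((FTup T).map η) (n + 1) ↔
      Function.Exact ((I.d n (n + 1)).hom.rTensor T) ((I.d (n + 1) (n + 2)).hom.rTensor T) := by
  rw [quasiIsoAt_iff_exactAt _ _
    (HomologicalComplex.ExactAt.of_isZero (isZero_source_succ (M := M) T n)),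
    HomologicalComplex.exactAt_iff' _ n (n + 1) (n + 2) (by simp) (by simp),
    ShortComplex.ShortExact.moduleCat_exact_iff_function_exact]
  rfl

lemma up_quasiIsoAt_zero_iff :
    QuasiIsoAt ((FTup T).map η) 0 ↔
      Function.Exact ((η.f 0).hom.rTensor T) ((I.d 0 1).hom.rTensor T) ∧
        Function.Injective ((η.f 0).hom.rTensor T) := by
  rw [CochainComplex.quasiIsoAt₀_iff, ShortComplex.quasiIso_iff_of_zeros _
    (((FTup T).obj ((CochainComplex.single₀ (ModuleCat.{u} R)).obj M)).shape 0 0 (by simp))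
    ((isZero_source_succ (M := M) T 0).eq_of_tgt _ _)
    (((FTup T).obj I).shape 0 0 (by simp)),
    ShortComplex.ShortExact.moduleCat_exact_iff_function_exact, ModuleCat.mono_iff_injective]
  rfl

lemma up_quasiIso_iff :
    QuasiIso ((FTup T).map η) ↔
      (∀ n : ℕ, Function.Exact ((I.d n (n + 1)).hom.rTensor T)
        ((I.d (n + 1) (n + 2)).hom.rTensor T)) ∧
      Function.Exact ((η.f 0).hom.rTensor T) ((I.d 0 1).hom.rTensor T) ∧
        Function.Injective ((η.f 0).hom.rTensor T) := by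
  rw [_root_.quasiIso_iff]
  constructor
  · intro h
    exact ⟨fun n => (up_quasiIsoAt_succ_iff I η T n).mp (h (n + 1)),
      (up_quasiIsoAt_zero_iff I η T).mp (h 0)⟩
  · rintro ⟨h1, h0⟩ i
    cases i with
    | zero => exact (up_quasiIsoAt_zero_iff I η T).mpr h0
    | succ n => exact (up_quasiIsoAt_succ_iff I η T n).mpr (h1 n)

end Up

section Modules

open Groth.Agent.Lib.Helper13.PureBasic

variable (R) in
/-- the lifting property of pure projectives -/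
abbrev LP (X : Type u) [AddCommGroup X] [Module R X] : Prop :=
  ∀ ⦃L T : Type u⦄ [AddCommGroup L] [Module R L] [AddCommGroup T] [Module R T] (g : L →ₗ[R] T),
    Function.Surjective g → CAlgX.UniversallyInjective R (LinearMap.ker g).subtype →
    ∀ φ : X →ₗ[R] T, ∃ ψ : X →ₗ[R] L, g ∘ₗ ψ = φ

variable (R) in
/-- the extension property of pure injectives -/
abbrev EP (I : Type u) [AddCommGroup I] [Module R I] : Prop :=
  ∀ ⦃K L : Type u⦄ [AddCommGroup K] [Module R K] [AddCommGroup L] [Module R L] (g : K →ₗ[R] L),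
    CAlgX.UniversallyInjective R g → ∀ φ : K →ₗ[R] I, ∃ ψ : L →ₗ[R] I, ψ ∘ₗ g = φ

variable {X Y Z A B C : Type u} [AddCommGroup X] [Module R X] [AddCommGroup Y] [Module R Y]
  [AddCommGroup Z] [Module R Z] [AddCommGroup A] [Module R A] [AddCommGroup B] [Module R B]
  [AddCommGroup C] [Module R C]

lemma LP.lift_surj (hX : LP R X) (y : Y →ₗ[R] Z) (e : Z →ₗ[R] A) (g : A →ₗ[R] B)
    (hZ : ∀ (Q : Type u) [AddCommGroup Q] [Module R Q],
      Function.Exact (y.rTensor Q) (e.rTensor Q))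
    (hA : Function.Exact e g) (hg : Function.Surjective g) (φ : X →ₗ[R] B) :
    ∃ ψ : X →ₗ[R] A, g ∘ₗ ψ = φ := by
  have hpure := univInj_range R y e hZ
  have hker : LinearMap.ker g = LinearMap.range e := LinearMap.exact_iff.mp hA
  have hpure' : CAlgX.UniversallyInjective R (LinearMap.ker g).subtype := by
    rw [hker]; exact hpure
  exact hX g hg hpure' φ

lemma LP.lift_exact (hX : LP R X) (y : Y →ₗ[R] Z) (e : Z →ₗ[R] A) (f : A →ₗ[R] B)
    (g : B →ₗ[R] C)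
    (hZ : ∀ (Q : Type u) [AddCommGroup Q] [Module R Q],
      Function.Exact (y.rTensor Q) (e.rTensor Q))
    (hA : Function.Exact e f) (hB : Function.Exact f g)
    (φ : X →ₗ[R] B) (hφ : g ∘ₗ φ = 0) : ∃ ψ : X →ₗ[R] A, f ∘ₗ ψ = φ := by
  have hmem : ∀ x, φ x ∈ LinearMap.range f := fun x => (hB (φ x)).mp (LinearMap.congr_fun hφ x)
  have hA' : Function.Exact e f.rangeRestrict := by
    intro a
    rw [← hA a]
    constructor
    · intro h; exact congrArg Subtype.val h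
    · intro h; exact Subtype.ext h
  obtain ⟨ψ, hψ⟩ := LP.lift_surj hX y e f.rangeRestrict hZ hA'
    (LinearMap.surjective_rangeRestrict f) (φ.codRestrict _ hmem)
  refine ⟨ψ, ?_⟩
  ext x
  have := congrArg Subtype.val (LinearMap.congr_fun hψ x)
  simpa using this

lemma EP.extend {I : Type u} [AddCommGroup I] [Module R I] (hI : EP R I)
    (d : A →ₗ[R] B) (d' : B →ₗ[R] C)
    (hB : ∀ (Q : Type u) [AddCommGroup Q] [Module R Q],
      Function.Exact (d.rTensor Q) (d'.rTensor Q))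
    (φ : B →ₗ[R] I) (hφ : φ ∘ₗ d = 0) : ∃ ψ : C →ₗ[R] I, ψ ∘ₗ d' = φ := by
  have hpure := univInj_range R d d' hB
  have hex : Function.Exact d d' := exact_of_rTensor_self d d' (hB R)
  have hle : LinearMap.ker d' ≤ LinearMap.ker φ := by
    intro b hb
    obtain ⟨a, rfl⟩ := (hex b).mp hb
    exact LinearMap.congr_fun hφ a
  let φbar : LinearMap.range d' →ₗ[R] I :=
    ((LinearMap.ker d').liftQ φ hle) ∘ₗ d'.quotKerEquivRange.symm.toLinearMap
  have hφbar : φbar ∘ₗ d'.rangeRestrict = φ := by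
    ext b
    simp only [φbar, LinearMap.coe_comp, LinearEquiv.coe_coe, Function.comp_apply]
    have : d'.quotKerEquivRange.symm (d'.rangeRestrict b) = (LinearMap.ker d').mkQ b :=
      LinearMap.quotKerEquivRange_symm_apply_image d' b _
    rw [this]; simp
  obtain ⟨ψ, hψ⟩ := hI (LinearMap.range d').subtype hpure φbar
  refine ⟨ψ, ?_⟩
  have h1 : (LinearMap.range d').subtype ∘ₗ d'.rangeRestrict = d' :=
    LinearMap.subtype_comp_codRestrict _ _ _
  calc ψ ∘ₗ d' = ψ ∘ₗ ((LinearMap.range d').subtype ∘ₗ d'.rangeRestrict) := by rw [h1]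
    _ = (ψ ∘ₗ (LinearMap.range d').subtype) ∘ₗ d'.rangeRestrict :=
        (LinearMap.comp_assoc _ _ _).symm
    _ = φ := by rw [hψ, hφbar]

lemma EP_charMod (Q : Type u) [AddCommGroup Q] [Module R Q] : EP R (CharacterModule Q) := by
  intro K L _ _ _ _ g hg φ
  have h1 := (rTensor_injective_iff_lcomp_surjective (B := Q)).1 (hg Q)
  obtain ⟨ψ, hψ⟩ := h1 φ
  exact ⟨ψ, hψ⟩

end Modules

section DownCompare

variable {N' : ChainComplex (ModuleCat.{u} R) ℕ} {N : ModuleCat.{u} R}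
  (ε : N' ⟶ (ChainComplex.single₀ (ModuleCat.{u} R)).obj N)
  (hN' : ∀ T : ModuleCat.{u} R, QuasiIso ((FT T).map ε))

include hN'

lemma ue_succ (n : ℕ) (Q : Type u) [AddCommGroup Q] [Module R Q] :
    Function.Exact ((N'.d (n + 2) (n + 1)).hom.rTensor Q) ((N'.d (n + 1) n).hom.rTensor Q) :=
  ((quasiIso_iff N' ε (ModuleCat.of R Q)).mp (hN' _)).1 n

lemma ue_zero (Q : Type u) [AddCommGroup Q] [Module R Q] :
    Function.Exact ((N'.d 1 0).hom.rTensor Q) ((ε.f 0).hom.rTensor Q) ∧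
      Function.Surjective ((ε.f 0).hom.rTensor Q) :=
  ((quasiIso_iff N' ε (ModuleCat.of R Q)).mp (hN' _)).2

lemma lift_zero {X : ModuleCat.{u} R} (hX : LP R X)
    (φ : X ⟶ ((ChainComplex.single₀ (ModuleCat.{u} R)).obj N).X 0) :
    ∃ ψ : X ⟶ N'.X 0, ψ ≫ ε.f 0 = φ := by
  obtain ⟨ψ, hψ⟩ := LP.lift_surj hX (N'.d 2 1).hom (N'.d 1 0).hom (ε.f 0).hom
    (fun Q _ _ => ue_succ ε hN' 0 Q)
    (exact_of_rTensor_self _ _ (ue_zero ε hN' R).1)
    (surjective_of_rTensor_self _ (ue_zero ε hN' R).2) φ.hom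
  exact ⟨ModuleCat.ofHom ψ, ModuleCat.hom_ext hψ⟩

lemma lift_one {X : ModuleCat.{u} R} (hX : LP R X) (φ : X ⟶ N'.X 0) (hφ : φ ≫ ε.f 0 = 0) :
    ∃ ψ : X ⟶ N'.X 1, ψ ≫ N'.d 1 0 = φ := by
  obtain ⟨ψ, hψ⟩ := LP.lift_exact hX (N'.d 3 2).hom (N'.d 2 1).hom (N'.d 1 0).hom (ε.f 0).hom
    (fun Q _ _ => ue_succ ε hN' 1 Q)
    (exact_of_rTensor_self _ _ (ue_succ ε hN' 0 R))
    (exact_of_rTensor_self _ _ (ue_zero ε hN' R).1) φ.hom
    (congrArg ModuleCat.Hom.hom hφ)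
  exact ⟨ModuleCat.ofHom ψ, ModuleCat.hom_ext hψ⟩

lemma lift_succ {X : ModuleCat.{u} R} (hX : LP R X) (n : ℕ) (φ : X ⟶ N'.X (n + 1))
    (hφ : φ ≫ N'.d (n + 1) n = 0) :
    ∃ ψ : X ⟶ N'.X (n + 2), ψ ≫ N'.d (n + 2) (n + 1) = φ := by
  obtain ⟨ψ, hψ⟩ := LP.lift_exact hX (N'.d (n + 4) (n + 3)).hom (N'.d (n + 3) (n + 2)).hom
    (N'.d (n + 2) (n + 1)).hom (N'.d (n + 1) n).hom
    (fun Q _ _ => ue_succ ε hN' (n + 2) Q)
    (exact_of_rTensor_self _ _ (ue_succ ε hN' (n + 1) R))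
    (exact_of_rTensor_self _ _ (ue_succ ε hN' n R)) φ.hom
    (congrArg ModuleCat.Hom.hom hφ)
  exact ⟨ModuleCat.ofHom ψ, ModuleCat.hom_ext hψ⟩

lemma lift_two {X : ModuleCat.{u} R} (hX : LP R X) (φ : X ⟶ N'.X 1)
    (hφ : φ ≫ N'.d 1 0 = 0) : ∃ ψ : X ⟶ N'.X 2, ψ ≫ N'.d 2 1 = φ :=
  lift_succ ε hN' hX 0 φ hφ

lemma lift_succ' {X : ModuleCat.{u} R} (hX : LP R X) (n : ℕ) (φ : X ⟶ N'.X (n + 2))
    (hφ : φ ≫ N'.d (n + 2) (n + 1) = 0) :
    ∃ ψ : X ⟶ N'.X (n + 3), ψ ≫ N'.d (n + 3) (n + 2) = φ :=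
  lift_succ ε hN' hX (n + 1) φ hφ

theorem exists_chainMap {M : ModuleCat.{u} R} (f : M ⟶ N) (P : ChainComplex (ModuleCat.{u} R) ℕ)
    (π : P ⟶ (ChainComplex.single₀ (ModuleCat.{u} R)).obj M) (hP : ∀ n, LP R (P.X n)) :
    ∃ φ : P ⟶ N', φ ≫ ε = π ≫ (ChainComplex.single₀ (ModuleCat.{u} R)).map f := by
  obtain ⟨z, hz⟩ := lift_zero ε hN' (hP 0)
    (π.f 0 ≫ ((ChainComplex.single₀ (ModuleCat.{u} R)).map f).f 0)
  have hπ : P.d 1 0 ≫ π.f 0 = 0 := by
    rw [← π.comm 1 0, HomologicalComplex.single_obj_d, comp_zero]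
  have h1 : (P.d 1 0 ≫ z) ≫ ε.f 0 = 0 := by
    rw [Category.assoc, hz, ← Category.assoc, hπ, zero_comp]
  obtain ⟨o, ho⟩ := lift_one ε hN' (hP 1) (P.d 1 0 ≫ z) h1
  have hsucc : ∀ (n : ℕ) (p : Σ' (f : P.X n ⟶ N'.X n) (f' : P.X (n + 1) ⟶ N'.X (n + 1)),
      f' ≫ N'.d (n + 1) n = P.d (n + 1) n ≫ f),
      ∃ f'' : P.X (n + 2) ⟶ N'.X (n + 2),
        f'' ≫ N'.d (n + 2) (n + 1) = P.d (n + 2) (n + 1) ≫ p.2.1 := by
    intro n p
    apply lift_succ ε hN' (hP (n + 2)) n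
    rw [Category.assoc, p.2.2, ← Category.assoc, P.d_comp_d, zero_comp]
  let φ : P ⟶ N' := ChainComplex.mkHom P N' z o ho
    (fun n p => ⟨(hsucc n p).choose, (hsucc n p).choose_spec⟩)
  refine ⟨φ, ?_⟩
  apply HomologicalComplex.to_single_hom_ext
  exact hz

theorem exists_homotopy {M : ModuleCat.{u} R} (f : M ⟶ N) (P : ChainComplex (ModuleCat.{u} R) ℕ)
    (π : P ⟶ (ChainComplex.single₀ (ModuleCat.{u} R)).obj M) (hP : ∀ n, LP R (P.X n))
    (α β : P ⟶ N') (hα : α ≫ ε = π ≫ (ChainComplex.single₀ (ModuleCat.{u} R)).map f)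
    (hβ : β ≫ ε = π ≫ (ChainComplex.single₀ (ModuleCat.{u} R)).map f) :
    Nonempty (Homotopy α β) := by
  set e := α - β with he
  have hcomm : e ≫ ε = 0 := by rw [he, Preadditive.sub_comp, hα, hβ, sub_self]
  have hcomm0 : e.f 0 ≫ ε.f 0 = 0 := congrArg (fun k => k.f 0) hcomm
  obtain ⟨z, hz⟩ := lift_one ε hN' (hP 0) (e.f 0) hcomm0
  have h1 : (e.f 1 - P.d 1 0 ≫ z) ≫ N'.d 1 0 = 0 := by
    rw [Preadditive.sub_comp, Category.assoc, hz, e.comm 1 0, sub_self]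
  obtain ⟨o, ho⟩ := lift_two ε hN' (hP 1) (e.f 1 - P.d 1 0 ≫ z) h1
  have hsucc : ∀ (n : ℕ) (p : Σ' (f : P.X n ⟶ N'.X (n + 1)) (f' : P.X (n + 1) ⟶ N'.X (n + 2)),
        e.f (n + 1) = P.d (n + 1) n ≫ f + f' ≫ N'.d (n + 2) (n + 1)),
      ∃ f'' : P.X (n + 2) ⟶ N'.X (n + 3),
        e.f (n + 2) = P.d (n + 2) (n + 1) ≫ p.2.1 + f'' ≫ N'.d (n + 3) (n + 2) := by
    rintro n ⟨g, g', w⟩
    dsimp only
    have h2 : (e.f (n + 2) - P.d (n + 2) (n + 1) ≫ g') ≫ N'.d (n + 2) (n + 1) = 0 := by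
      have hw : P.d (n + 2) (n + 1) ≫ e.f (n + 1) =
          P.d (n + 2) (n + 1) ≫ g' ≫ N'.d (n + 2) (n + 1) := by
        rw [w, Preadditive.comp_add, HomologicalComplex.d_comp_d_assoc, zero_comp, zero_add]
      rw [Preadditive.sub_comp, Category.assoc, e.comm (n + 2) (n + 1), hw, sub_self]
    obtain ⟨x, hx⟩ := lift_succ' ε hN' (hP (n + 2)) n _ h2
    exact ⟨x, by rw [hx]; abel⟩
  exact ⟨Homotopy.equivSubZero.symm (Homotopy.mkInductive e z hz.symm o (by rw [ho]; abel)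
    (fun n p => ⟨(hsucc n p).choose, (hsucc n p).choose_spec⟩))⟩

end DownCompare

section UpCompare

variable {M' : CochainComplex (ModuleCat.{u} R) ℕ} {M : ModuleCat.{u} R}
  (η : (CochainComplex.single₀ (ModuleCat.{u} R)).obj M ⟶ M')
  (hM' : ∀ T : ModuleCat.{u} R, QuasiIso ((FTup T).map η))

include hM'

lemma up_ue_succ (n : ℕ) (Q : Type u) [AddCommGroup Q] [Module R Q] :
    Function.Exact ((M'.d n (n + 1)).hom.rTensor Q) ((M'.d (n + 1) (n + 2)).hom.rTensor Q) :=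
  ((up_quasiIso_iff M' η (ModuleCat.of R Q)).mp (hM' _)).1 n

lemma up_ue_zero (Q : Type u) [AddCommGroup Q] [Module R Q] :
    Function.Exact ((η.f 0).hom.rTensor Q) ((M'.d 0 1).hom.rTensor Q) ∧
      Function.Injective ((η.f 0).hom.rTensor Q) :=
  ((up_quasiIso_iff M' η (ModuleCat.of R Q)).mp (hM' _)).2

lemma ext_zero {X : ModuleCat.{u} R} (hX : EP R X)
    (φ : ((CochainComplex.single₀ (ModuleCat.{u} R)).obj M).X 0 ⟶ X) :
    ∃ ψ : M'.X 0 ⟶ X, η.f 0 ≫ ψ = φ := by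
  obtain ⟨ψ, hψ⟩ := hX (η.f 0).hom (fun Q _ _ => (up_ue_zero η hM' Q).2) φ.hom
  exact ⟨ModuleCat.ofHom ψ, ModuleCat.hom_ext hψ⟩

lemma ext_one {X : ModuleCat.{u} R} (hX : EP R X) (φ : M'.X 0 ⟶ X) (hφ : η.f 0 ≫ φ = 0) :
    ∃ ψ : M'.X 1 ⟶ X, M'.d 0 1 ≫ ψ = φ := by
  obtain ⟨ψ, hψ⟩ := EP.extend hX (η.f 0).hom (M'.d 0 1).hom
    (fun Q _ _ => (up_ue_zero η hM' Q).1) φ.hom (congrArg ModuleCat.Hom.hom hφ)
  exact ⟨ModuleCat.ofHom ψ, ModuleCat.hom_ext hψ⟩

lemma ext_succ {X : ModuleCat.{u} R} (hX : EP R X) (n : ℕ) (φ : M'.X (n + 1) ⟶ X)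
    (hφ : M'.d n (n + 1) ≫ φ = 0) :
    ∃ ψ : M'.X (n + 2) ⟶ X, M'.d (n + 1) (n + 2) ≫ ψ = φ := by
  obtain ⟨ψ, hψ⟩ := EP.extend hX (M'.d n (n + 1)).hom (M'.d (n + 1) (n + 2)).hom
    (fun Q _ _ => up_ue_succ η hM' n Q) φ.hom (congrArg ModuleCat.Hom.hom hφ)
  exact ⟨ModuleCat.ofHom ψ, ModuleCat.hom_ext hψ⟩

lemma ext_two {X : ModuleCat.{u} R} (hX : EP R X) (φ : M'.X 1 ⟶ X)
    (hφ : M'.d 0 1 ≫ φ = 0) : ∃ ψ : M'.X 2 ⟶ X, M'.d 1 2 ≫ ψ = φ :=
  ext_succ η hM' hX 0 φ hφ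

lemma ext_succ' {X : ModuleCat.{u} R} (hX : EP R X) (n : ℕ) (φ : M'.X (n + 2) ⟶ X)
    (hφ : M'.d (n + 1) (n + 2) ≫ φ = 0) :
    ∃ ψ : M'.X (n + 3) ⟶ X, M'.d (n + 2) (n + 3) ≫ ψ = φ :=
  ext_succ η hM' hX (n + 1) φ hφ

theorem exists_cochainMap {N : ModuleCat.{u} R} (f : M ⟶ N)
    (I : CochainComplex (ModuleCat.{u} R) ℕ)
    (ε : (CochainComplex.single₀ (ModuleCat.{u} R)).obj N ⟶ I) (hI : ∀ n, EP R (I.X n)) :
    ∃ φ : M' ⟶ I, η ≫ φ = (CochainComplex.single₀ (ModuleCat.{u} R)).map f ≫ ε := by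
  obtain ⟨z, hz⟩ := ext_zero η hM' (hI 0)
    (((CochainComplex.single₀ (ModuleCat.{u} R)).map f).f 0 ≫ ε.f 0)
  have hε : ε.f 0 ≫ I.d 0 1 = 0 := by
    rw [ε.comm 0 1, HomologicalComplex.single_obj_d, zero_comp]
  have h1 : η.f 0 ≫ (z ≫ I.d 0 1) = 0 := by
    rw [← Category.assoc, hz, Category.assoc, hε, comp_zero]
  obtain ⟨o, ho⟩ := ext_one η hM' (hI 1) (z ≫ I.d 0 1) h1
  have hsucc : ∀ (n : ℕ) (p : Σ' (f : M'.X n ⟶ I.X n) (f' : M'.X (n + 1) ⟶ I.X (n + 1)),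
      f ≫ I.d n (n + 1) = M'.d n (n + 1) ≫ f'),
      ∃ f'' : M'.X (n + 2) ⟶ I.X (n + 2),
        p.2.1 ≫ I.d (n + 1) (n + 2) = M'.d (n + 1) (n + 2) ≫ f'' := by
    rintro n ⟨g, g', w⟩
    dsimp only
    have h2 : M'.d n (n + 1) ≫ (g' ≫ I.d (n + 1) (n + 2)) = 0 := by
      rw [← Category.assoc, ← w, Category.assoc, I.d_comp_d, comp_zero]
    obtain ⟨x, hx⟩ := ext_succ η hM' (hI (n + 2)) n _ h2
    exact ⟨x, hx.symm⟩
  let φ : M' ⟶ I := CochainComplex.mkHom M' I z o ho.symm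
    (fun n p => ⟨(hsucc n p).choose, (hsucc n p).choose_spec⟩)
  refine ⟨φ, ?_⟩
  apply HomologicalComplex.from_single_hom_ext
  exact hz

theorem exists_cohomotopy {N : ModuleCat.{u} R} (f : M ⟶ N)
    (I : CochainComplex (ModuleCat.{u} R) ℕ)
    (ε : (CochainComplex.single₀ (ModuleCat.{u} R)).obj N ⟶ I) (hI : ∀ n, EP R (I.X n))
    (α β : M' ⟶ I) (hα : η ≫ α = (CochainComplex.single₀ (ModuleCat.{u} R)).map f ≫ ε)
    (hβ : η ≫ β = (CochainComplex.single₀ (ModuleCat.{u} R)).map f ≫ ε) :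
    Nonempty (Homotopy α β) := by
  set e := α - β with he
  have hcomm : η ≫ e = 0 := by rw [he, Preadditive.comp_sub, hα, hβ, sub_self]
  have hcomm0 : η.f 0 ≫ e.f 0 = 0 := congrArg (fun k => k.f 0) hcomm
  obtain ⟨z, hz⟩ := ext_one η hM' (hI 0) (e.f 0) hcomm0
  have h1 : M'.d 0 1 ≫ (e.f 1 - z ≫ I.d 0 1) = 0 := by
    rw [Preadditive.comp_sub, ← Category.assoc, hz, e.comm 0 1, sub_self]
  obtain ⟨o, ho⟩ := ext_two η hM' (hI 1) (e.f 1 - z ≫ I.d 0 1) h1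
  have hsucc : ∀ (n : ℕ) (p : Σ' (f : M'.X (n + 1) ⟶ I.X n) (f' : M'.X (n + 2) ⟶ I.X (n + 1)),
        e.f (n + 1) = f ≫ I.d n (n + 1) + M'.d (n + 1) (n + 2) ≫ f'),
      ∃ f'' : M'.X (n + 3) ⟶ I.X (n + 2),
        e.f (n + 2) = p.2.1 ≫ I.d (n + 1) (n + 2) + M'.d (n + 2) (n + 3) ≫ f'' := by
    rintro n ⟨g, g', w⟩
    dsimp only
    have h2 : M'.d (n + 1) (n + 2) ≫ (e.f (n + 2) - g' ≫ I.d (n + 1) (n + 2)) = 0 := by
      have hw : e.f (n + 1) ≫ I.d (n + 1) (n + 2) =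
          (M'.d (n + 1) (n + 2) ≫ g') ≫ I.d (n + 1) (n + 2) := by
        rw [w, Preadditive.add_comp, Category.assoc, I.d_comp_d, comp_zero, zero_add]
      rw [Preadditive.comp_sub, ← e.comm (n + 1) (n + 2), hw, Category.assoc, sub_self]
    obtain ⟨x, hx⟩ := ext_succ' η hM' (hI (n + 2)) n _ h2
    exact ⟨x, by rw [hx]; abel⟩
  exact ⟨Homotopy.equivSubZero.symm (Homotopy.mkCoinductive e z hz.symm o (by rw [ho]; abel)
    (fun n p => ⟨(hsucc n p).choose, (hsucc n p).choose_spec⟩))⟩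

end UpCompare

end Groth.Agent.Lib.Helper25.PureRes
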