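import Mathlib
import Groth.Prelude.Def_CAlgX
import Groth.Agent.Lib.Helper13.PureBasic
import Groth.Agent.Lib.Helper25.PureRes
import Groth.Agent.S8770

/-!
# Existence of pure projective and pure injective resolutions
-/

set_option autoImplicit false
universe u

open CategoryTheory CategoryTheory.Limits

namespace Groth.Agent.Lib.Helper25.PureRes

open Groth.Agent.Lib.Helper13.PureBasic

variable {R : Type u} [CommRing R]

section ModLevel

variable {A B X : Type u} [AddCommGroup A] [Module R A] [AddCommGroup B] [Module R B]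
  [AddCommGroup X] [Module R X]

/-- the kernel of `d` is pure in the source and `ker d ⊗ Q → B ⊗ Q → A ⊗ Q` is exact. -/
def KerPure (d : B →ₗ[R] A) : Prop :=
  CAlgX.UniversallyInjective R (LinearMap.ker d).subtype ∧
  ∀ (Q : Type u) [AddCommGroup Q] [Module R Q],
    Function.Exact ((LinearMap.ker d).subtype.rTensor Q) (d.rTensor Q)

lemma kerPure_of_surj (g : B →ₗ[R] A) (hs : Function.Surjective g)
    (hp : CAlgX.UniversallyInjective R (LinearMap.ker g).subtype) : KerPure g :=
  ⟨hp, fun Q _ _ => rTensor_exact Q (LinearMap.exact_subtype_ker_map g) hs⟩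

lemma exact_next (d : B →ₗ[R] A) (g : X →ₗ[R] LinearMap.ker d) (hs : Function.Surjective g)
    (h : KerPure d) (Q : Type u) [AddCommGroup Q] [Module R Q] :
    Function.Exact (((LinearMap.ker d).subtype ∘ₗ g).rTensor Q) (d.rTensor Q) := by
  intro y
  rw [h.2 Q y, LinearMap.rTensor_comp]
  constructor
  · rintro ⟨k, rfl⟩
    obtain ⟨x, rfl⟩ := LinearMap.rTensor_surjective Q hs k
    exact ⟨x, rfl⟩
  · rintro ⟨x, rfl⟩
    exact ⟨g.rTensor Q x, rfl⟩

lemma kerPure_next (d : B →ₗ[R] A) (g : X →ₗ[R] LinearMap.ker d) (hs : Function.Surjective g)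
    (hp : CAlgX.UniversallyInjective R (LinearMap.ker g).subtype)
    (h : KerPure d) : KerPure ((LinearMap.ker d).subtype ∘ₗ g) := by
  have hker : LinearMap.ker ((LinearMap.ker d).subtype ∘ₗ g) = LinearMap.ker g :=
    LinearMap.ker_comp_of_ker_eq_bot g (Submodule.ker_subtype _)
  have hex : ∀ (Q : Type u) [AddCommGroup Q] [Module R Q],
      Function.Exact ((LinearMap.ker g).subtype.rTensor Q)
        (((LinearMap.ker d).subtype ∘ₗ g).rTensor Q) := by
    intro Q _ _ y
    have hex := rTensor_exact Q (LinearMap.exact_subtype_ker_map g) hs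
    rw [← hex y, LinearMap.rTensor_comp, LinearMap.comp_apply]
    constructor
    · intro h0
      exact h.1 Q (by rw [h0, map_zero])
    · intro h0
      rw [h0, map_zero]
  unfold KerPure
  rw [hker]
  exact ⟨hp, hex⟩

lemma exact_charEval_mkQ (d : A →ₗ[R] B) (Q : Type u) [AddCommGroup Q] [Module R Q] :
    Function.Exact (d.rTensor Q)
      ((PureExt.charEval R (B ⧸ LinearMap.range d) ∘ₗ (LinearMap.range d).mkQ).rTensor Q) := by
  have hex : Function.Exact (d.rTensor Q) ((LinearMap.range d).mkQ.rTensor Q) :=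
    rTensor_exact Q (LinearMap.exact_map_mkQ_range d) (Submodule.mkQ_surjective _)
  intro y
  rw [← hex y, LinearMap.rTensor_comp, LinearMap.comp_apply]
  constructor
  · intro h
    exact univInj_charEval R _ Q (by rw [h, map_zero])
  · intro h
    rw [h, map_zero]

variable (R) in
/-- pure projective in the sense of S8774: a direct summand of a direct sum of finitely
presented modules. -/
abbrev IsPP (X : Type u) [AddCommGroup X] [Module R X] : Prop :=
  ∃ (ι : Type u) (Q : ι → Type u) (_ : ∀ i, AddCommGroup (Q i)) (_ : ∀ i, Module R (Q i)),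
    (∀ i, Module.FinitePresentation R (Q i)) ∧
    ∃ (s : X →ₗ[R] (Π₀ i, Q i)) (r : (Π₀ i, Q i) →ₗ[R] X), r ∘ₗ s = LinearMap.id

variable (R) in
/-- a pure-projective cover of a module. -/
structure Cover (M : Type u) [AddCommGroup M] [Module R M] where
  X : ModuleCat.{u} R
  g : X →ₗ[R] M
  surj : Function.Surjective g
  pure : CAlgX.UniversallyInjective R (LinearMap.ker g).subtype
  pp : IsPP R X

variable (R) in
lemma nonempty_cover (M : Type u) [AddCommGroup M] [Module R M] : Nonempty (Cover R M) := by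
  obtain ⟨ι, Q, i1, i2, hfp, g, hs, hp⟩ := Groth.Agent.S8770.result R M
  exact ⟨⟨ModuleCat.of R (Π₀ i, Q i), g, hs, hp, ι, Q, i1, i2, hfp, LinearMap.id, LinearMap.id,
    rfl⟩⟩

variable (R) in
/-- a chosen cover -/
noncomputable def cov (M : Type u) [AddCommGroup M] [Module R M] : Cover R M :=
  (nonempty_cover R M).some

end ModLevel

section Down

variable (R) in
/-- one step of a resolution -/
structure Stage where
  A : ModuleCat.{u} R
  B : ModuleCat.{u} R
  d : B ⟶ A

/-- next step: cover the kernel. -/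
noncomputable def Stage.next (s : Stage R) : Stage R where
  A := s.B
  B := (cov R (LinearMap.ker s.d.hom)).X
  d := ModuleCat.ofHom ((LinearMap.ker s.d.hom).subtype ∘ₗ (cov R (LinearMap.ker s.d.hom)).g)

lemma Stage.next_d_comp (s : Stage R) : s.next.d ≫ s.d = 0 := by
  apply ModuleCat.hom_ext
  apply LinearMap.ext
  intro x
  exact LinearMap.mem_ker.mp (((cov R (LinearMap.ker s.d.hom)).g x).2)

lemma Stage.exact (s : Stage R) (h : KerPure s.d.hom) (Q : Type u) [AddCommGroup Q]
    [Module R Q] : Function.Exact (s.next.d.hom.rTensor Q) (s.d.hom.rTensor Q) :=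
  exact_next s.d.hom (cov R _).g (cov R _).surj h Q

lemma Stage.kerPure_next' (s : Stage R) (h : KerPure s.d.hom) : KerPure s.next.d.hom :=
  kerPure_next s.d.hom (cov R _).g (cov R _).surj (cov R _).pure h

/-- initial step -/
noncomputable def stage0 (M : ModuleCat.{u} R) : Stage R where
  A := M
  B := (cov R M).X
  d := ModuleCat.ofHom (cov R M).g

/-- all steps -/
noncomputable def stage (M : ModuleCat.{u} R) : ℕ → Stage R
  | 0 => stage0 M
  | n + 1 => (stage M n).next

lemma stage_kerPure (M : ModuleCat.{u} R) : ∀ n, KerPure (stage M n).d.hom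
  | 0 => kerPure_of_surj (cov R M).g (cov R M).surj (cov R M).pure
  | n + 1 => Stage.kerPure_next' (stage M n) (stage_kerPure M n)

lemma stage_pp (M : ModuleCat.{u} R) : ∀ n, IsPP R (stage M n).B
  | 0 => (cov R M).pp
  | n + 1 => (cov R (LinearMap.ker (stage M n).d.hom)).pp

/-- the pure projective resolution -/
noncomputable def resP (M : ModuleCat.{u} R) : ChainComplex (ModuleCat.{u} R) ℕ :=
  ChainComplex.of (fun n => (stage M n).B) (fun n => (stage M n).next.d)
    (fun n => Stage.next_d_comp (stage M (n + 1)))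

lemma resP_d (M : ModuleCat.{u} R) (n : ℕ) : (resP M).d (n + 1) n = (stage M (n + 1)).d :=
  ChainComplex.of_d (fun n => (stage M n).B) (fun n => (stage M n).next.d) n

lemma resP_d2 (M : ModuleCat.{u} R) (n : ℕ) :
    (resP M).d (n + 2) (n + 1) = (stage M (n + 1)).next.d :=
  ChainComplex.of_d (fun n => (stage M n).B) (fun n => (stage M n).next.d) (n + 1)

lemma resP_d10 (M : ModuleCat.{u} R) : (resP M).d 1 0 = (stage M 0).next.d :=
  ChainComplex.of_d (fun n => (stage M n).B) (fun n => (stage M n).next.d) 0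

/-- the augmentation -/
noncomputable def resπ (M : ModuleCat.{u} R) :
    resP M ⟶ (ChainComplex.single₀ (ModuleCat.{u} R)).obj M :=
  (ChainComplex.toSingle₀Equiv (resP M) M).symm ⟨(stage M 0).d, by
    rw [resP_d10]; exact Stage.next_d_comp (stage M 0)⟩

lemma resπ_f0 (M : ModuleCat.{u} R) : (resπ M).f 0 = (stage M 0).d :=
  ChainComplex.toSingle₀Equiv_symm_apply_f_zero _ _

theorem exists_pureProjRes (M : ModuleCat.{u} R) :
    ∃ (P : ChainComplex (ModuleCat.{u} R) ℕ)
      (π : P ⟶ (ChainComplex.single₀ (ModuleCat.{u} R)).obj M),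
      (∀ n, IsPP R (P.X n)) ∧ ∀ T : ModuleCat.{u} R, QuasiIso ((FT T).map π) := by
  refine ⟨resP M, resπ M, stage_pp M, fun T => ?_⟩
  refine (quasiIso_iff (resP M) (resπ M) T).mpr ⟨fun n => ?_, ?_, ?_⟩
  · rw [resP_d2, resP_d]
    exact Stage.exact (stage M (n + 1)) (stage_kerPure M (n + 1)) T
  · rw [resP_d10, resπ_f0]
    exact Stage.exact (stage M 0) (stage_kerPure M 0) T
  · rw [resπ_f0]
    exact LinearMap.rTensor_surjective T (cov R M).surj

end Down

section UpExist

variable (R) in
/-- one step of a coresolution -/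
structure StageU where
  A : ModuleCat.{u} R
  B : ModuleCat.{u} R
  d : A ⟶ B

/-- next step: embed the cokernel in its double character module. -/
noncomputable def StageU.next (s : StageU R) : StageU R where
  A := s.B
  B := ModuleCat.of R (CharacterModule (CharacterModule (s.B ⧸ LinearMap.range s.d.hom)))
  d := ModuleCat.ofHom (PureExt.charEval R (s.B ⧸ LinearMap.range s.d.hom) ∘ₗ
    (LinearMap.range s.d.hom).mkQ)

lemma StageU.d_comp_next (s : StageU R) : s.d ≫ s.next.d = 0 := by
  apply ModuleCat.hom_ext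
  apply LinearMap.ext
  intro x
  have h : (LinearMap.range s.d.hom).mkQ (s.d.hom x) = 0 := by
    rw [Submodule.mkQ_apply, Submodule.Quotient.mk_eq_zero]
    exact LinearMap.mem_range_self _ x
  show PureExt.charEval R _ ((LinearMap.range s.d.hom).mkQ (s.d.hom x)) = 0
  rw [h, map_zero]

lemma StageU.exact (s : StageU R) (Q : Type u) [AddCommGroup Q] [Module R Q] :
    Function.Exact (s.d.hom.rTensor Q) (s.next.d.hom.rTensor Q) :=
  exact_charEval_mkQ s.d.hom Q

/-- initial step -/
noncomputable def stageU0 (M : ModuleCat.{u} R) : StageU R where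
  A := M
  B := ModuleCat.of R (CharacterModule (CharacterModule M))
  d := ModuleCat.ofHom (PureExt.charEval R M)

/-- all steps -/
noncomputable def stageU (M : ModuleCat.{u} R) : ℕ → StageU R
  | 0 => stageU0 M
  | n + 1 => (stageU M n).next

lemma stageU_EP (M : ModuleCat.{u} R) : ∀ n, EP R (stageU M n).B
  | 0 => EP_charMod (R := R) (CharacterModule M)
  | n + 1 => EP_charMod (R := R)
      (CharacterModule ((stageU M n).B ⧸ LinearMap.range (stageU M n).d.hom))

/-- the pure injective resolution -/
noncomputable def resI (M : ModuleCat.{u} R) : CochainComplex (ModuleCat.{u} R) ℕ :=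
  CochainComplex.of (fun n => (stageU M n).B) (fun n => (stageU M n).next.d)
    (fun n => StageU.d_comp_next (stageU M (n + 1)))

lemma resI_d (M : ModuleCat.{u} R) (n : ℕ) : (resI M).d n (n + 1) = (stageU M (n + 1)).d :=
  CochainComplex.of_d (fun n => (stageU M n).B) (fun n => (stageU M n).next.d) n

lemma resI_d2 (M : ModuleCat.{u} R) (n : ℕ) :
    (resI M).d (n + 1) (n + 2) = (stageU M (n + 1)).next.d :=
  CochainComplex.of_d (fun n => (stageU M n).B) (fun n => (stageU M n).next.d) (n + 1)

lemma resI_d01 (M : ModuleCat.{u} R) : (resI M).d 0 1 = (stageU M 0).next.d :=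
  CochainComplex.of_d (fun n => (stageU M n).B) (fun n => (stageU M n).next.d) 0

/-- the coaugmentation -/
noncomputable def resη (M : ModuleCat.{u} R) :
    (CochainComplex.single₀ (ModuleCat.{u} R)).obj M ⟶ resI M :=
  (CochainComplex.fromSingle₀Equiv (resI M) M).symm ⟨(stageU M 0).d, by
    rw [resI_d01]; exact StageU.d_comp_next (stageU M 0)⟩

lemma resη_f0 (M : ModuleCat.{u} R) : (resη M).f 0 = (stageU M 0).d :=
  CochainComplex.fromSingle₀Equiv_symm_apply_f_zero _ _

theorem exists_pureInjRes (M : ModuleCat.{u} R) :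
    ∃ (I : CochainComplex (ModuleCat.{u} R) ℕ)
      (η : (CochainComplex.single₀ (ModuleCat.{u} R)).obj M ⟶ I),
      (∀ n, EP R (I.X n)) ∧ ∀ T : ModuleCat.{u} R, QuasiIso ((FTup T).map η) := by
  refine ⟨resI M, resη M, stageU_EP M, fun T => ?_⟩
  refine (up_quasiIso_iff (resI M) (resη M) T).mpr ⟨fun n => ?_, ?_, ?_⟩
  · rw [resI_d2, resI_d]
    exact StageU.exact (stageU M (n + 1)) T
  · rw [resI_d01, resη_f0]
    exact StageU.exact (stageU M 0) T
  · rw [resη_f0]
    exact univInj_charEval R M T

end UpExist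

end Groth.Agent.Lib.Helper25.PureRes
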