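import Mathlib
import Groth.Prelude.Def_Neron
import Groth.Agent.Lib.Helper25.SecTensor

/-!
# Flat algebras over a Dedekind domain with quasi-finite generic fibre are quasi-finite
-/

set_option autoImplicit false
set_option linter.style.haveILetI false
set_option linter.deprecated false
universe u
open CategoryTheory CategoryTheory.Limits AlgebraicGeometry Opposite TopologicalSpace TensorProduct

noncomputable section

namespace Groth.Agent.Lib.Helper25.QFDedekind

open Groth.Agent.Lib.Helper17.SpecBC Groth.Agent.Lib.Helper25.SecTensor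

theorem quasiFinite_of_flat_of_finite_generic (R : Type u) [CommRing R] [IsDedekindDomain R]
    (A : Type u) [CommRing A] [Algebra R A] [Module.Flat R A]
    (hfin : Module.Finite (FractionRing R) (FractionRing R ⊗[R] A)) :
    Algebra.QuasiFinite R A := by
  classical
  refine ⟨fun P _ => ?_⟩
  have hspan : Submodule.span P.ResidueField
      (Set.range (fun a : A => ((1 : P.ResidueField) ⊗ₜ[R] a : P.Fiber A))) = ⊤ := by
    rw [eq_top_iff]
    rintro x -
    induction x using TensorProduct.induction_on with
    | zero => exact Submodule.zero_mem _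
    | tmul c a =>
      have h1 : (c ⊗ₜ[R] a : P.Fiber A) = c • ((1 : P.ResidueField) ⊗ₜ[R] a) := by
        rw [TensorProduct.smul_tmul', smul_eq_mul, mul_one]
      rw [h1]
      exact Submodule.smul_mem _ _ (Submodule.subset_span ⟨a, rfl⟩)
    | add x y hx hy => exact Submodule.add_mem _ hx hy
  obtain ⟨b, hbt, hbspan, hbli⟩ := exists_linearIndependent P.ResidueField
    (Set.range (fun a : A => ((1 : P.ResidueField) ⊗ₜ[R] a : P.Fiber A)))
  have hpre : ∀ x : b, ∃ a : A, ((1 : P.ResidueField) ⊗ₜ[R] a : P.Fiber A) = (x : P.Fiber A) :=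
    fun x => hbt x.2
  choose g hg using hpre
  let F : A →ₗ[R] FractionRing R ⊗[R] A :=
    (Algebra.TensorProduct.includeRight : A →ₐ[R] FractionRing R ⊗[R] A).toLinearMap
  let f' : A →ₗ[R] P.Fiber A :=
    (Algebra.TensorProduct.includeRight : A →ₐ[R] P.ResidueField ⊗[R] A).toLinearMap
  have hF : Function.Injective F :=
    Algebra.TensorProduct.includeRight_injective (IsFractionRing.injective R (FractionRing R))
  have hli' : LinearIndependent P.ResidueField (f' ∘ g) := by
    have h1 : f' ∘ g = Subtype.val := funext fun x => hg x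
    rw [h1]
    exact hbli
  have hker : RingHom.ker (algebraMap R P.ResidueField) ≠ ⊤ := by
    rw [Ideal.ker_algebraMap_residueField]
    exact Ideal.IsPrime.ne_top ‹_›
  have hliK : LinearIndependent (FractionRing R) (F ∘ g) :=
    Ideal.FinrankQuotientMap.linearIndependent_of_nontrivial (FractionRing R) hker F hF f' hli'
  haveI : Finite b := hliK.finite
  have htop : Submodule.span P.ResidueField (b : Set (P.Fiber A)) = ⊤ := by
    rw [hbspan, hspan]
  exact Module.finite_def.mpr (by rw [← htop]; exact Submodule.fg_span (Set.toFinite b))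

theorem main18485 (R : Type u) [CommRing R] [IsDedekindDomain R]
    (H : Over (Spec (CommRingCat.of R))) [Flat H.hom] [LocallyOfFiniteType H.hom]
    [LocallyQuasiFinite ((Neron.genericFibre R).obj H).hom] : LocallyQuasiFinite H.hom := by
  let φK : CommRingCat.of R ⟶ CommRingCat.of (FractionRing R) :=
    CommRingCat.ofHom (algebraMap R (FractionRing R))
  have sq : IsPullback (pullback.fst H.hom (Neron.genPt R)) (pullback.snd H.hom (Neron.genPt R))
      H.hom (Spec.map φK) := IsPullback.of_hasPullback _ _
  have hq : LocallyQuasiFinite (pullback.snd H.hom (Neron.genPt R)) :=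
    ‹LocallyQuasiFinite ((Neron.genericFibre R).obj H).hom›
  refine HasRingHomProperty.of_iSup_eq_top (P := @LocallyQuasiFinite)
    (fun V : H.left.affineOpens => V) (iSup_affineOpens_eq_top _) (fun V => ?_)
  have hiff : RingHom.QuasiFinite (toSec H.hom V.1).hom ↔
      RingHom.QuasiFinite (H.hom.appLE ⊤ V.1 le_top).hom :=
    RingHom.QuasiFinite.respectsIso.cancel_left_isIso
      (Scheme.ΓSpecIso (CommRingCat.of R)).inv (H.hom.appLE ⊤ V.1 le_top)
  rw [← hiff]
  letI algA : Algebra R Γ(H.left, V.1) := (toSec H.hom V.1).hom.toAlgebra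
  change Algebra.QuasiFinite R Γ(H.left, V.1)
  haveI : Module.Flat R Γ(H.left, V.1) := by
    have h1 : RingHom.Flat (H.hom.appLE ⊤ V.1 le_top).hom :=
      HasRingHomProperty.appLE (P := @Flat) H.hom inferInstance ⟨⊤, isAffineOpen_top _⟩ V le_top
    have h2 : RingHom.Flat (toSec H.hom V.1).hom :=
      (RingHom.Flat.respectsIso.cancel_left_isIso
        (Scheme.ΓSpecIso (CommRingCat.of R)).inv (H.hom.appLE ⊤ V.1 le_top)).mpr h1
    exact h2
  have hVK : IsAffineOpen (pullback.fst H.hom (Neron.genPt R) ⁻¹ᵁ V.1) :=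
    isAffineOpen_preimage sq V.2
  have PX := isPushout_sections sq V.2
  obtain ⟨e, he⟩ := exists_equiv_of_isPushout (R := R) (S := FractionRing R)
    (A := Γ(H.left, V.1))
    (T := Γ(pullback H.hom (Neron.genPt R), pullback.fst H.hom (Neron.genPt R) ⁻¹ᵁ V.1))
    (toSec (pullback.snd H.hom (Neron.genPt R))
      (pullback.fst H.hom (Neron.genPt R) ⁻¹ᵁ V.1)).hom
    ((pullback.fst H.hom (Neron.genPt R)).appLE V.1
      (pullback.fst H.hom (Neron.genPt R) ⁻¹ᵁ V.1) le_rfl).hom PX
  have hqf : RingHom.QuasiFinite (toSec (pullback.snd H.hom (Neron.genPt R))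
      (pullback.fst H.hom (Neron.genPt R) ⁻¹ᵁ V.1)).hom := by
    have h1 := HasRingHomProperty.appLE (P := @LocallyQuasiFinite)
      (pullback.snd H.hom (Neron.genPt R)) hq ⟨⊤, isAffineOpen_top _⟩ ⟨_, hVK⟩ le_top
    exact (RingHom.QuasiFinite.respectsIso.cancel_left_isIso
      (Scheme.ΓSpecIso (CommRingCat.of (FractionRing R))).inv _).mpr h1
  letI algT : Algebra (FractionRing R)
      Γ(pullback H.hom (Neron.genPt R), pullback.fst H.hom (Neron.genPt R) ⁻¹ᵁ V.1) :=
    (toSec (pullback.snd H.hom (Neron.genPt R))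
      (pullback.fst H.hom (Neron.genPt R) ⁻¹ᵁ V.1)).hom.toAlgebra
  haveI : Algebra.QuasiFinite (FractionRing R)
      Γ(pullback H.hom (Neron.genPt R), pullback.fst H.hom (Neron.genPt R) ⁻¹ᵁ V.1) := hqf
  haveI : Module.Finite (FractionRing R)
      Γ(pullback H.hom (Neron.genPt R), pullback.fst H.hom (Neron.genPt R) ⁻¹ᵁ V.1) :=
    Module.Finite.of_quasiFinite
  have hfin : Module.Finite (FractionRing R) (FractionRing R ⊗[R] Γ(H.left, V.1)) := by
    let eL : (FractionRing R ⊗[R] Γ(H.left, V.1)) ≃ₗ[FractionRing R]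
        Γ(pullback H.hom (Neron.genPt R), pullback.fst H.hom (Neron.genPt R) ⁻¹ᵁ V.1) :=
      { e.toAddEquiv with
        map_smul' := fun c z => by
          change e (c • z) = (toSec (pullback.snd H.hom (Neron.genPt R))
            (pullback.fst H.hom (Neron.genPt R) ⁻¹ᵁ V.1)).hom c * e z
          have h1 : c • z = (algebraMap (FractionRing R)
              (FractionRing R ⊗[R] Γ(H.left, V.1)) c) * z := Algebra.smul_def c z
          rw [h1, map_mul, Algebra.TensorProduct.algebraMap_apply, he, map_one, mul_one]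
          rfl }
    exact Module.Finite.equiv eL.symm
  exact quasiFinite_of_flat_of_finite_generic R Γ(H.left, V.1) hfin

end Groth.Agent.Lib.Helper25.QFDedekind
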