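import Mathlib

/-!
# A directed decreasing family of ideals which is locally in all symbolic powers is eventually zero
(sub-lemma (A) requested by helper27 for S5309), via primary decomposition.
-/

set_option autoImplicit false
universe u

namespace Groth.Agent.Lib.Helper25.QfFiltA

/-- (A) algebra -/
theorem exists_eq_bot_of_directed_ideals {B : Type u} [CommRing B] [IsNoetherianRing B]
    {D : Type u} [Preorder D] [IsDirected D (fun a b => a ≤ b)] [Nonempty D] (I : D → Ideal B)
    (hanti : ∀ i j, i ≤ j → I j ≤ I i)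
    (h : ∀ (q : PrimeSpectrum B) (n : ℕ), ∃ i, ∀ b ∈ I i,
      ∃ t : B, t ∉ q.asIdeal ∧ t * b ∈ q.asIdeal ^ (n + 1)) :
    ∃ i, I i = ⊥ := by
  classical
  have hL : IsLasker B B := Submodule.isLasker B B
  obtain ⟨T, hT, hprim⟩ : ∃ s : Finset (Ideal B), s.inf id = (⊥ : Ideal B) ∧
      ∀ ⦃J : Ideal B⦄, J ∈ s → Ideal.IsPrimary J := hL (⊥ : Ideal B)
  have key : ∀ J : Ideal B, J ∈ T → ∃ i, I i ≤ J := by
    intro J hJ
    have hJp : Ideal.IsPrimary J := hprim hJ
    have hprime : J.radical.IsPrime := Ideal.isPrime_radical hJp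
    obtain ⟨m, hm⟩ := Ideal.exists_radical_pow_le_of_fg J (IsNoetherian.noetherian _)
    obtain ⟨i, hi⟩ := h ⟨J.radical, hprime⟩ m
    refine ⟨i, fun b hb => ?_⟩
    obtain ⟨t, ht, htb⟩ := hi b hb
    have h1 : b * t ∈ J := by
      rw [mul_comm]
      exact hm (Ideal.pow_le_pow_right (Nat.le_succ m) htb)
    rcases (Ideal.isPrimary_iff.1 hJp).2 h1 with hbJ | htr
    · exact hbJ
    · exact absurd htr ht
  have hdir : ∀ S : Finset (Ideal B), (∀ J : Ideal B, J ∈ S → ∃ i, I i ≤ J) →
      ∃ i, ∀ J : Ideal B, J ∈ S → I i ≤ J := by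
    intro S
    induction S using Finset.induction_on with
    | empty =>
      intro _
      exact ⟨Classical.arbitrary D, fun J hJ => absurd hJ (Finset.notMem_empty J)⟩
    | insert a s ha ih =>
      intro hS
      obtain ⟨i₁, h₁⟩ := hS a (Finset.mem_insert_self a s)
      obtain ⟨i₂, h₂⟩ := ih (fun J hJ => hS J (Finset.mem_insert_of_mem hJ))
      obtain ⟨k, hk₁, hk₂⟩ := directed_of (fun a b : D => a ≤ b) i₁ i₂
      refine ⟨k, fun J hJ => ?_⟩
      rcases Finset.mem_insert.1 hJ with hJa | hJ'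
      · rw [hJa]
        exact (hanti i₁ k hk₁).trans h₁
      · exact (hanti i₂ k hk₂).trans (h₂ J hJ')
  obtain ⟨i, hi⟩ := hdir T key
  have hle : I i ≤ T.inf id := Finset.le_inf (fun J hJ => hi J hJ)
  rw [hT] at hle
  exact ⟨i, le_bot_iff.1 hle⟩

end Groth.Agent.Lib.Helper25.QfFiltA
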