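import Groth.Agent.Lib.Helper25.KoszExt

/-!
# Quasi-regularity of (weakly) regular sequences, from the exactness of the Koszul complex in
degree one
-/

set_option autoImplicit false
open ExteriorAlgebra

namespace Groth.Agent.Lib.Helper25.QuasiReg

open Groth.Agent.Lib.Helper25.KoszExt

variable {R : Type*} [CommRing R] {M : Type*} [AddCommGroup M] [Module R M]

theorem dd_mem_of_sq (φ : M →ₗ[R] R) (η : ExteriorAlgebra R M)
    (hη : η ∈ SS (⊤ : Submodule R M) ^ 2) :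
    ∃ m' ∈ (LinearMap.range φ : Ideal R) • (⊤ : Submodule R M), dd φ η = ι R m' := by
  rw [pow_two] at hη
  refine Submodule.mul_induction_on hη ?_ ?_
  · intro x hx y hy
    obtain ⟨a, -, rfl⟩ := mem_SS.mp hx
    obtain ⟨b, -, rfl⟩ := mem_SS.mp hy
    refine ⟨φ a • b - φ b • a, ?_, ?_⟩
    · exact Submodule.sub_mem _ (Submodule.smul_mem_smul ⟨a, rfl⟩ trivial)
        (Submodule.smul_mem_smul ⟨b, rfl⟩ trivial)
    · rw [dd_ι_mul, dd_ι, map_sub, map_smul, map_smul, Algebra.smul_def (φ b), Algebra.commutes]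
  · rintro x y ⟨mx, hmx, hx⟩ ⟨my, hmy, hy⟩
    exact ⟨mx + my, add_mem hmx hmy, by rw [map_add, hx, hy, map_add]⟩

variable {n : ℕ} (b : Fin n → M)

/-- syzygies of a regular sequence have their coefficients in the ideal -/
theorem mem_of_form_eq_zero (hspan : Submodule.span R (Set.range b) = ⊤)
    (ψ : Fin n → M →ₗ[R] R) (hψ : ∀ k j, ψ k (b j) = if j = k then 1 else 0) (φ : M →ₗ[R] R)
    (hreg : ∀ (k : Fin n) (r : R), φ (b k) * r ∈ (Nk b k).map φ → r ∈ (Nk b k).map φ)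
    (m : M) (hm : φ m = 0) : m ∈ (LinearMap.range φ : Ideal R) • (⊤ : Submodule R M) := by
  have h1 : ι R m ∈ SS (Nk b n) ^ (0 + 1) := by
    rw [Nk_top b hspan, zero_add, pow_one]
    exact mem_SS.mpr ⟨m, trivial, rfl⟩
  have h2 : dd φ (ι R m) = 0 := by rw [dd_ι, hm, map_zero]
  obtain ⟨η, hη, hdη⟩ := exact_aux b ψ hψ φ hreg n le_rfl 0 (ι R m) h1 h2
  have hη' : η ∈ SS (⊤ : Submodule R M) ^ 2 := by
    rw [Nk_top b hspan] at hη
    exact hη
  obtain ⟨m', hm', hm'eq⟩ := dd_mem_of_sq φ η hη'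
  have h3 : ι R m = ι R m' := by rw [← hdη, hm'eq]
  rw [ExteriorAlgebra.ι_inj] at h3
  rw [h3]
  exact hm'

/-- quasi-regularity in degree one -/
theorem mem_of_form_mem_sq (hspan : Submodule.span R (Set.range b) = ⊤)
    (ψ : Fin n → M →ₗ[R] R) (hψ : ∀ k j, ψ k (b j) = if j = k then 1 else 0) (φ : M →ₗ[R] R)
    (hreg : ∀ (k : Fin n) (r : R), φ (b k) * r ∈ (Nk b k).map φ → r ∈ (Nk b k).map φ)
    (m : M) (hm : φ m ∈ (LinearMap.range φ : Ideal R) * (LinearMap.range φ : Ideal R)) :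
    m ∈ (LinearMap.range φ : Ideal R) • (⊤ : Submodule R M) := by
  have key : ∀ r ∈ (LinearMap.range φ : Ideal R) • (LinearMap.range φ : Ideal R),
      ∃ m' ∈ (LinearMap.range φ : Ideal R) • (⊤ : Submodule R M), φ m' = r := by
    intro r hr
    refine Submodule.smul_induction_on hr ?_ ?_
    · rintro a ha _ ⟨m'', rfl⟩
      exact ⟨a • m'', Submodule.smul_mem_smul ha trivial, by rw [map_smul]⟩
    · rintro x y ⟨mx, hmx, rfl⟩ ⟨my, hmy, rfl⟩
      exact ⟨mx + my, add_mem hmx hmy, map_add _ _ _⟩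
  obtain ⟨m', hm', hφ⟩ := key _ hm
  have h0 : φ (m - m') = 0 := by rw [map_sub, hφ, sub_self]
  have h1 := mem_of_form_eq_zero b hspan ψ hψ φ hreg (m - m') h0
  have h2 : m = (m - m') + m' := by abel
  rw [h2]
  exact add_mem h1 hm'

end Groth.Agent.Lib.Helper25.QuasiReg
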