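import Mathlib
import Groth.Prelude
import Groth.Agent.Lib.Helper25.RegSES2
import Groth.Agent.Lib.Helper13.RelMV

/-!
# Regular sheaves on `P^n_T`: the first term of a short exact sequence
-/

set_option autoImplicit false
set_option linter.style.haveILetI false
universe u

open CategoryTheory CategoryTheory.Limits AlgebraicGeometry TopologicalSpace Opposite
open Groth.Agent.Lib.Helper3 Groth.Agent.Lib.Helper13 Groth.Agent.Lib.Helper17

namespace Groth.Agent.Lib.Helper25.RegSES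

theorem nonempty_twF_zero (n : ℕ) (T : Scheme.{u}) (F : (KRR.PY n T).Modules) :
    Nonempty (KRR.twF n T 0 F ≅ F) := by
  have ε : Nonempty (Twist.twistOver n T 0 ≅ Coh.structureModule (KRR.PY n T)) := by
    unfold Twist.twistOver Twist.twistProjSpace
    exact ⟨(Scheme.Modules.pullback _).mapIso
      (TwistMul.unitIso (𝒜 := CohB1.polyGrading n (ULift.{u} ℤ))).symm ≪≫ PbBasic.pbUnit _⟩
  obtain ⟨ε⟩ := ε
  show Nonempty (CohB1.tensorMod (Twist.twistOver n T 0) F ≅ F)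
  exact ⟨InvMonoidal.tensorMapIso ε (Iso.refl F) ≪≫ InvMonoidal.unitorL F⟩

theorem nonempty_twF_neg_one_one (n : ℕ) (T : Scheme.{u}) (F : (KRR.PY n T).Modules) :
    Nonempty (KRR.twF n T (-((1 : ℕ) : ℤ)) (KRR.twF n T 1 F) ≅ F) := by
  obtain ⟨e⟩ := nonempty_twF_twF n T (-((1 : ℕ) : ℤ)) 1 F
  have hcast : (-((1 : ℕ) : ℤ)) + 1 = 0 := by norm_num
  rw [hcast] at e
  obtain ⟨e0⟩ := nonempty_twF_zero n T F
  exact ⟨e ≪≫ e0⟩

theorem epi_R0 (n : ℕ) (T : Scheme.{u}) (S : ShortComplex (KRR.PY n T).Modules)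
    (hepi : Epi ((Scheme.Modules.pushforward (KRR.pr n T)).map S.g)) :
    Epi (((Coh.pushAb (KRR.pr n T)).rightDerived 0).map ((SerreCrit1.TT _).map S.g)) := by
  haveI := hepi
  haveI : PreservesFiniteLimits (Coh.pushAb (KRR.pr n T)) := RelMV.push_pfl (KRR.pr n T).base
  have h1 : Epi ((SerreCrit1.TT T).map ((Scheme.Modules.pushforward (KRR.pr n T)).map S.g)) :=
    inferInstance
  haveI h2 : Epi ((Coh.pushAb (KRR.pr n T)).map ((SerreCrit1.TT _).map S.g)) := h1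
  let α := (Coh.pushAb (KRR.pr n T)).rightDerivedZeroIsoSelf
  have h3 : ((Coh.pushAb (KRR.pr n T)).rightDerived 0).map ((SerreCrit1.TT _).map S.g) =
      α.hom.app _ ≫ (Coh.pushAb (KRR.pr n T)).map ((SerreCrit1.TT _).map S.g) ≫ α.inv.app _ := by
    simp
  rw [h3]
  infer_instance

theorem isRegSheaf_twF_one_X₁ (n : ℕ) (T : Scheme.{u}) (S : ShortComplex (KRR.PY n T).Modules)
    (hS : S.ShortExact) (hreg₂ : KRR.IsRegSheaf n T (KRR.twF n T 1 S.X₂))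
    (hreg₃ : KRR.IsRegSheaf n T S.X₃)
    (hepi : Epi ((Scheme.Modules.pushforward (KRR.pr n T)).map S.g)) :
    KRR.IsRegSheaf n T (KRR.twF n T 1 S.X₁) := by
  intro j hj
  obtain rfl | hj2 : j = 1 ∨ 2 ≤ j := by omega
  · have h2 := SerreCrit1.shortExact_map_toSheaf _ hS
    obtain ⟨Tres⟩ := H10SES.nonempty_sesRes h2
    have hex3 := H10SES.les_exact₃ (Coh.pushAb (KRR.pr n T)) Tres 0 1 rfl
    have hex1 := H10SES.les_exact₁ (Coh.pushAb (KRR.pr n T)) Tres 0 1 rfl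
    have hδ : Tres.delta (Coh.pushAb (KRR.pr n T)) 0 1 rfl = 0 :=
      hex3.epi_f_iff.1 (epi_R0 n T S hepi)
    haveI hmono : Mono (((Coh.pushAb (KRR.pr n T)).rightDerived 1).map
        ((SerreCrit1.TT _).map S.f)) := hex1.mono_g_iff.2 hδ
    obtain ⟨e₂⟩ := nonempty_twF_neg_one_one n T S.X₂
    obtain ⟨e₁⟩ := nonempty_twF_neg_one_one n T S.X₁
    have hz2 : IsZero ((Coh.RpushAb (KRR.pr n T) 1).obj (Coh.toAb S.X₂)) :=
      IsZero.of_iso (hreg₂ 1 le_rfl) ((Coh.RpushAb (KRR.pr n T) 1).mapIso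
        ((SerreCrit1.TT _).mapIso e₂.symm))
    have hz1 : IsZero ((Coh.RpushAb (KRR.pr n T) 1).obj (Coh.toAb S.X₁)) :=
      IsZero.of_mono (((Coh.pushAb (KRR.pr n T)).rightDerived 1).map
        ((SerreCrit1.TT _).map S.f)) hz2
    exact IsZero.of_iso hz1 ((Coh.RpushAb (KRR.pr n T) 1).mapIso
      ((SerreCrit1.TT _).mapIso e₁))
  · obtain ⟨k, rfl⟩ : ∃ k, j = k + 2 := ⟨j - 2, by omega⟩
    have hcast : (-((k + 2 : ℕ) : ℤ)) + 1 = -((k + 1 : ℕ) : ℤ) := by push_cast; ring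
    obtain ⟨e₁⟩ := nonempty_twF_twF n T (-((k + 2 : ℕ) : ℤ)) 1 S.X₁
    obtain ⟨e₂⟩ := nonempty_twF_twF n T (-((k + 2 : ℕ) : ℤ)) 1 S.X₂
    rw [hcast] at e₁ e₂
    have h1 := shortExact_twF n T (-((k + 1 : ℕ) : ℤ)) S hS
    have h2 := SerreCrit1.shortExact_map_toSheaf _ h1
    obtain ⟨Tres⟩ := H10SES.nonempty_sesRes h2
    have hex := H10SES.les_exact₁ (Coh.pushAb (KRR.pr n T)) Tres (k + 1) (k + 2) rfl
    have hz3 : IsZero ((Coh.RpushAb (KRR.pr n T) (k + 1)).obj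
        (Coh.toAb (KRR.twF n T (-((k + 1 : ℕ) : ℤ)) S.X₃))) := hreg₃ (k + 1) (by omega)
    have hz2 : IsZero ((Coh.RpushAb (KRR.pr n T) (k + 2)).obj
        (Coh.toAb (KRR.twF n T (-((k + 1 : ℕ) : ℤ)) S.X₂))) :=
      IsZero.of_iso (hreg₂ (k + 2) (by omega)) ((Coh.RpushAb (KRR.pr n T) (k + 2)).mapIso
        ((SerreCrit1.TT _).mapIso e₂.symm))
    have hmid : IsZero ((Coh.RpushAb (KRR.pr n T) (k + 2)).obj
        (Coh.toAb (KRR.twF n T (-((k + 1 : ℕ) : ℤ)) S.X₁))) :=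
      hex.isZero_of_both_zeros (hz3.eq_of_src _ _) (hz2.eq_of_tgt _ _)
    exact IsZero.of_iso hmid ((Coh.RpushAb (KRR.pr n T) (k + 2)).mapIso
      ((SerreCrit1.TT _).mapIso e₁))

end Groth.Agent.Lib.Helper25.RegSES
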