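import Groth.Agent.Lib.Helper25.TorMain
import Groth.Agent.Lib.Helper25.QuasiReg
import Groth.Agent.Lib.Helper17.AffIso
import Groth.Agent.Lib.Helper17.PbStalk

/-!
# Pulling back a regular section to its zero scheme: `E|_Y ≅ I_Y / I_Y²`
-/

set_option autoImplicit false
set_option linter.style.haveILetI false
universe u
open CategoryTheory CategoryTheory.Limits AlgebraicGeometry TopologicalSpace Opposite
open Scheme.Modules

namespace Groth.Agent.Lib.Helper25.RegSecPb

open Groth.Agent.Lib.Helper3 Groth.Agent.Lib.Helper3.QCSec Groth.Agent.Lib.Helper3.PbBasic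
  Groth.Agent.Lib.Helper17 Groth.Agent.Lib.Helper17.UnitBC Groth.Agent.Lib.Helper17.DevAlg
  Groth.Agent.Lib.Helper25

theorem bijective_app {X Y : Scheme.{u}} {n : ℕ} (E : X.Modules) [E.IsQuasicoherent]
    (s : E ⟶ Coh.structureModule X) (i : Y ⟶ X) [IsClosedImmersion i]
    (t : E ⟶ ClSub.idealMod i.ker) [Epi t] (hts : t ≫ ClSub.idealModι i.ker = s)
    (U : X.affineOpens) (b : Module.Basis (Fin n) Γ(X, U.1) Γ(E, U.1))
    (hb : RingTheory.Sequence.IsWeaklyRegular Γ(X, U.1)
      (List.ofFn fun k => KoszSh.secForm s U.1 (b k))) :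
    Function.Bijective (((Scheme.Modules.pullback i).map t).app (i ⁻¹ᵁ U.1)) := by
  have hU : IsAffineOpen U.1 := U.2
  have hρ : Function.Surjective (i.app U.1).hom := i.app_surjective U.1 hU
  have hker : RingHom.ker (i.app U.1).hom = i.ker.ideal U := by
    rw [← Scheme.Hom.ker_apply]
  have hbcE := DevStep.isBCHom_pull i E U
  have hbcI := DevStep.isBCHom_pull i (ClSub.idealMod i.ker) U
  have hnat : ∀ e : Γ(E, U.1), ((Scheme.Modules.pullback i).map t).app (i ⁻¹ᵁ U.1)
      (pull i E U.1 e) = pull i (ClSub.idealMod i.ker) U.1 (t.app U.1 e) := by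
    intro e
    exact (TorSec.app_congr
      ((Scheme.Modules.pullbackPushforwardAdjunction i).unit.naturality t) U.1 e).symm
  have htsurj : Function.Surjective (t.app U.1) :=
    (QCExact.epi_iff_surjective_on_affines t).mp inferInstance U.1 hU
  let φU := KoszSh.secForm s U.1
  have hφval : ∀ e : Γ(E, U.1), φU e = IdealMod.val i.ker (t.app U.1 e) := by
    intro e
    subst hts
    rfl
  have hrange : (LinearMap.range φU : Ideal Γ(X, U.1)) = i.ker.ideal U := by
    ext g
    constructor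
    · rintro ⟨e, rfl⟩
      rw [hφval]
      exact (EffCartMod.mem_ideal_iff i.ker U _).mpr ⟨_, rfl⟩
    · intro hg
      obtain ⟨m, rfl⟩ := (EffCartMod.mem_ideal_iff i.ker U g).mp hg
      obtain ⟨e, rfl⟩ := htsurj m
      exact ⟨e, hφval e⟩
  have hψ : ∀ k j, (b.coord k) (b j) = if j = k then 1 else 0 := by
    intro k j
    rw [Module.Basis.coord_apply, Module.Basis.repr_self, Finsupp.single_apply]
  have hreg := KoszExt.hreg_of_isWeaklyRegular (fun k => b k) φU hb
  have key0 : ∀ ξ, ((Scheme.Modules.pullback i).map t).app (i ⁻¹ᵁ U.1) ξ = 0 → ξ = 0 := by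
    intro ξ hξ
    obtain ⟨e, rfl⟩ := surjective_of_isBCHom hρ hbcE ξ
    rw [hnat] at hξ
    have h1 := mem_smul_top_of_isBCHom hρ hbcI (t.app U.1 e) hξ
    rw [hker] at h1
    have h2 : IdealMod.val i.ker (t.app U.1 e) ∈ i.ker.ideal U * i.ker.ideal U := by
      refine Submodule.smul_induction_on h1 ?_ ?_
      · intro a ha m _
        rw [IdealMod.val_smul]
        exact Ideal.mul_mem_mul ha ((EffCartMod.mem_ideal_iff i.ker U _).mpr ⟨m, rfl⟩)
      · intro x y hx hy
        rw [IdealMod.val_add]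
        exact add_mem hx hy
    rw [← hφval, ← hrange] at h2
    have h3 := QuasiReg.mem_of_form_mem_sq (fun k => b k) b.span_eq (fun k => b.coord k) hψ φU
      hreg e h2
    rw [hrange, ← hker] at h3
    refine Submodule.smul_induction_on h3 ?_ ?_
    · intro a ha m _
      exact smul_eq_zero_of_isBCHom hbcE a ha m
    · intro x y hx hy
      have hadd : pull i E U.1 (x + y) = pull i E U.1 x + pull i E U.1 y :=
        QCExact.app_add _ U.1 x y
      rw [hadd, hx, hy, add_zero]
  constructor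
  · intro ξ₁ ξ₂ h
    have h0 : ((Scheme.Modules.pullback i).map t).app (i ⁻¹ᵁ U.1) (ξ₁ - ξ₂) = 0 := by
      rw [QCExact.app_sub, h, sub_self]
    exact sub_eq_zero.mp (key0 _ h0)
  · intro ζ
    obtain ⟨a, rfl⟩ := surjective_of_isBCHom hρ hbcI ζ
    obtain ⟨e, rfl⟩ := htsurj a
    exact ⟨pull i E U.1 e, hnat e⟩

theorem isIso_pullback_map {X Y : Scheme.{u}} (n : ℕ) (E : X.Modules)
    (hE : FlatMod.IsFinLocFreeOfRank n E) (s : E ⟶ Coh.structureModule X)
    (hs : ∀ x : X, ∃ U : X.affineOpens, x ∈ U.1 ∧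
      ∃ b : Module.Basis (Fin n) Γ(X, U.1) Γ(E, U.1),
        RingTheory.Sequence.IsWeaklyRegular Γ(X, U.1)
          (List.ofFn fun k => KoszSh.secForm s U.1 (b k)))
    (i : Y ⟶ X) [IsClosedImmersion i] (t : E ⟶ ClSub.idealMod i.ker) [Epi t]
    (hts : t ≫ ClSub.idealModι i.ker = s) :
    IsIso ((Scheme.Modules.pullback i).map t) := by
  haveI qcE : E.IsQuasicoherent := SecLoc.isQuasicoherent_of_isFinLocFreeOfRank hE
  haveI : ((Scheme.Modules.pullback i).obj E).IsQuasicoherent :=
    PbStalk.isQuasicoherent_pullback i E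
  haveI : ((Scheme.Modules.pullback i).obj (ClSub.idealMod i.ker)).IsQuasicoherent :=
    PbStalk.isQuasicoherent_pullback i (ClSub.idealMod i.ker)
  apply AffIso.isIso_of_bijective_on_affine_cover
  intro y
  obtain ⟨U, hyU, b, hb⟩ := hs (i.base y)
  exact ⟨i ⁻¹ᵁ U.1, U.2.preimage i, hyU, bijective_app E s i t hts U b hb⟩

end Groth.Agent.Lib.Helper25.RegSecPb
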