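import Mathlib

/-!
# Length additivity for short complexes / homological complexes of modules (helper25)

* `length_sc`: for a short complex `S` of modules, `ℓ(X₂) = ℓ(im f) + ℓ(H) + ℓ(im g)`.
* `gam K i j`: the length of the image of `K.d i j`.
* `length_X_eq`, `length_X_eq_up'`: the same for homological complexes.
* `d_eq_zero_of_gam_eq_zero`, `length_homology_le`, `gam_eq_zero_of_length_homology_eq`.
* `length_eq_add_cokernel`: `ℓ(N) = ℓ(M) + ℓ(coker f)` for a mono `f : M ⟶ N`.
-/

set_option autoImplicit false
universe v u

namespace Groth.Agent.Lib.Helper25.SCLength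

open CategoryTheory CategoryTheory.Limits

variable {A : Type u} [Ring A]

theorem length_sc (S : ShortComplex (ModuleCat.{v} A)) :
    Module.length A S.X₂ = Module.length A (LinearMap.range S.f.hom) + Module.length A S.homology
      + Module.length A (LinearMap.range S.g.hom) := by
  have h1 : Module.length A S.X₂ = Module.length A (LinearMap.ker S.g.hom)
      + Module.length A (LinearMap.range S.g.hom) := by
    refine Module.length_eq_add_of_exact (LinearMap.ker S.g.hom).subtype S.g.hom.rangeRestrict
      (Submodule.subtype_injective _) (LinearMap.surjective_rangeRestrict _) ?_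
    intro y
    constructor
    · intro hy
      have hy' : S.g.hom y = 0 := congrArg Subtype.val hy
      exact ⟨⟨y, LinearMap.mem_ker.mpr hy'⟩, rfl⟩
    · rintro ⟨z, rfl⟩
      apply Subtype.ext
      exact LinearMap.mem_ker.mp z.2
  have hle : LinearMap.range S.f.hom ≤ LinearMap.ker S.g.hom := by
    rintro _ ⟨x, rfl⟩
    exact LinearMap.mem_ker.mpr (S.moduleCat_zero_apply x)
  have h2 : Module.length A (LinearMap.ker S.g.hom) = Module.length A (LinearMap.range S.f.hom)
      + Module.length A (LinearMap.ker S.g.hom ⧸ LinearMap.range S.moduleCatToCycles) := by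
    refine Module.length_eq_add_of_exact (Submodule.inclusion hle)
      (LinearMap.range S.moduleCatToCycles).mkQ
      (Submodule.inclusion_injective hle) (Submodule.mkQ_surjective _) ?_
    intro y
    rw [Submodule.mkQ_apply, Submodule.Quotient.mk_eq_zero]
    constructor
    · rintro ⟨x, rfl⟩
      exact ⟨⟨S.f.hom x, ⟨x, rfl⟩⟩, Subtype.ext rfl⟩
    · rintro ⟨⟨_, ⟨x, rfl⟩⟩, rfl⟩
      exact ⟨x, Subtype.ext rfl⟩
  have h3 : Module.length A S.homology
      = Module.length A (LinearMap.ker S.g.hom ⧸ LinearMap.range S.moduleCatToCycles) :=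
    S.moduleCatHomologyIso.toLinearEquiv.length_eq
  rw [h1, h2, h3]

theorem length_range_le_right {M N : Type*} [AddCommGroup M] [Module A M] [AddCommGroup N]
    [Module A N] (f : M →ₗ[A] N) : Module.length A (LinearMap.range f) ≤ Module.length A N :=
  Module.length_le_of_injective (LinearMap.range f).subtype (Submodule.subtype_injective _)

theorem length_range_le_left {M N : Type*} [AddCommGroup M] [Module A M] [AddCommGroup N]
    [Module A N] (f : M →ₗ[A] N) : Module.length A (LinearMap.range f) ≤ Module.length A M :=
  Module.length_le_of_surjective f.rangeRestrict (LinearMap.surjective_rangeRestrict _)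

section complex

variable {ι : Type*} {c : ComplexShape ι}

/-- The length of the image of the differential `K.d i j`. -/
noncomputable def gam (K : HomologicalComplex (ModuleCat.{v} A) c) (i j : ι) : ℕ∞ :=
  Module.length A (LinearMap.range (K.d i j).hom)

theorem gam_le_right (K : HomologicalComplex (ModuleCat.{v} A) c) (i j : ι) :
    gam K i j ≤ Module.length A (K.X j) := length_range_le_right _

theorem gam_le_left (K : HomologicalComplex (ModuleCat.{v} A) c) (i j : ι) :
    gam K i j ≤ Module.length A (K.X i) := length_range_le_left _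

theorem length_X_eq (K : HomologicalComplex (ModuleCat.{v} A) c) (j : ι) :
    Module.length A (K.X j) =
      gam K (c.prev j) j + Module.length A (K.homology j) + gam K j (c.next j) :=
  length_sc (K.sc j)

theorem d_eq_zero_of_gam_eq_zero (K : HomologicalComplex (ModuleCat.{v} A) c) (i j : ι)
    (h : gam K i j = 0) : K.d i j = 0 := by
  have h1 : Subsingleton (LinearMap.range (K.d i j).hom) := Module.length_eq_zero_iff.mp h
  have h2 : LinearMap.range (K.d i j).hom = ⊥ := Submodule.subsingleton_iff_eq_bot.mp h1
  have h3 : (K.d i j).hom = 0 := LinearMap.range_eq_bot.mp h2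
  exact ModuleCat.hom_ext h3

theorem length_homology_le (K : HomologicalComplex (ModuleCat.{v} A) c) (j : ι) :
    Module.length A (K.homology j) ≤ Module.length A (K.X j) := by
  rw [length_X_eq K j]
  exact le_trans (le_add_left le_rfl) (le_add_right le_rfl)

theorem gam_eq_zero_of_length_homology_eq (K : HomologicalComplex (ModuleCat.{v} A) c) (j : ι)
    (h : Module.length A (K.homology j) = Module.length A (K.X j))
    (hfin : Module.length A (K.X j) ≠ ⊤) :
    gam K (c.prev j) j = 0 ∧ gam K j (c.next j) = 0 := by
  have h1 := length_X_eq K j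
  rw [h] at h1
  obtain ⟨x, hx⟩ := ENat.ne_top_iff_exists.mp hfin
  obtain ⟨a', ha'⟩ := ENat.ne_top_iff_exists.mp
    (ne_top_of_le_ne_top hfin (gam_le_right K (c.prev j) j))
  obtain ⟨b', hb'⟩ := ENat.ne_top_iff_exists.mp
    (ne_top_of_le_ne_top hfin (gam_le_left K j (c.next j)))
  rw [← hx, ← ha', ← hb'] at h1
  have h2 : x = a' + x + b' := by exact_mod_cast h1
  have h3 : a' = 0 ∧ b' = 0 := by omega
  rw [← ha', ← hb', h3.1, h3.2]
  exact ⟨rfl, rfl⟩

end complex

theorem length_X_eq_up' (w : ℤ × ℤ)
    (K : HomologicalComplex (ModuleCat.{v} A) (ComplexShape.up' w)) (pq : ℤ × ℤ) :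
    Module.length A (K.X pq) =
      gam K (pq - w) pq + Module.length A (K.homology pq) + gam K pq (pq + w) := by
  have h1 := length_X_eq K pq
  have hprev : (ComplexShape.up' w).prev pq = pq - w :=
    (ComplexShape.up' w).prev_eq' (show pq - w + w = pq from sub_add_cancel pq w)
  have hnext : (ComplexShape.up' w).next pq = pq + w :=
    (ComplexShape.up' w).next_eq' (show pq + w = pq + w from rfl)
  rw [hprev, hnext] at h1
  exact h1

theorem length_eq_add_cokernel {M N : ModuleCat.{v} A} (f : M ⟶ N) [Mono f] :
    Module.length A N = Module.length A M + Module.length A (cokernel f : ModuleCat.{v} A) := by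
  refine Module.length_eq_add_of_exact f.hom (cokernel.π f).hom
    ((ModuleCat.mono_iff_injective f).mp inferInstance)
    ((ModuleCat.epi_iff_surjective (cokernel.π f)).mp inferInstance) ?_
  exact (ShortComplex.ShortExact.moduleCat_exact_iff_function_exact _).mp
    (ShortComplex.exact_cokernel f)

end Groth.Agent.Lib.Helper25.SCLength
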