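import Groth.Agent.Lib.Helper25.LG
import Mathlib.RingTheory.Spectrum.Prime.FreeLocus
import Mathlib.RingTheory.TensorProduct.Free
import Mathlib.RingTheory.Finiteness.Projective
import Mathlib.LinearAlgebra.Matrix.ToLin
import Mathlib.LinearAlgebra.Determinant

/-!
Over an LG-ring, two finite projective modules with the same rank function are isomorphic.
-/

set_option autoImplicit false
universe u v w

namespace Groth.Agent.Lib.Helper25

open LGRing MvPolynomial Matrix TensorProduct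

/-- The variables: entries of a `b × a` matrix and of an `a × b` matrix. -/
abbrev IsoVars (a b : ℕ) : Type := (Fin b × Fin a) ⊕ (Fin a × Fin b)

/-- `e₁ * y * e₂ * x * e₁ + (1 - e₁)` -/
def sandwich {S : Type*} [CommRing S] {a b : ℕ} (e₁ : Matrix (Fin a) (Fin a) S)
    (e₂ : Matrix (Fin b) (Fin b) S) (x : Matrix (Fin b) (Fin a) S) (y : Matrix (Fin a) (Fin b) S) :
    Matrix (Fin a) (Fin a) S :=
  e₁ * y * e₂ * x * e₁ + (1 - e₁)

theorem sandwich_mapMatrix {S T : Type*} [CommRing S] [CommRing T] (ρ : S →+* T) {a b : ℕ}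
    (e₁ : Matrix (Fin a) (Fin a) S)
    (e₂ : Matrix (Fin b) (Fin b) S) (x : Matrix (Fin b) (Fin a) S) (y : Matrix (Fin a) (Fin b) S) :
    (sandwich e₁ e₂ x y).map ρ = sandwich (e₁.map ρ) (e₂.map ρ) (x.map ρ) (y.map ρ) := by
  simp only [sandwich, Matrix.map_add (f := ρ) (map_add ρ), Matrix.map_sub (f := ρ) (map_sub ρ),
    Matrix.map_mul, Matrix.map_one (f := ρ) (map_zero ρ) (map_one ρ)]

section poly
variable {R : Type u} [CommRing R]

/-- generic `b × a` matrix -/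
noncomputable def genX (R : Type u) [CommRing R] (a b : ℕ) :
    Matrix (Fin b) (Fin a) (MvPolynomial (IsoVars a b) R) :=
  Matrix.of fun j k => X (Sum.inl (j, k))

/-- generic `a × b` matrix -/
noncomputable def genY (R : Type u) [CommRing R] (a b : ℕ) :
    Matrix (Fin a) (Fin b) (MvPolynomial (IsoVars a b) R) :=
  Matrix.of fun k j => X (Sum.inr (k, j))

/-- The polynomial whose values being units forces the existence of an isomorphism. -/
noncomputable def isoPoly {a b : ℕ} (e₁ : Matrix (Fin a) (Fin a) R) (e₂ : Matrix (Fin b) (Fin b) R) :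
    MvPolynomial (IsoVars a b) R :=
  (sandwich (e₁.map C) (e₂.map C) (genX R a b) (genY R a b)).det *
    (sandwich (e₂.map C) (e₁.map C) (genY R a b) (genX R a b)).det

theorem eval₂_isoPoly {S : Type*} [CommRing S] (φ : R →+* S) {a b : ℕ}
    (e₁ : Matrix (Fin a) (Fin a) R) (e₂ : Matrix (Fin b) (Fin b) R) (s : IsoVars a b → S) :
    eval₂ φ s (isoPoly e₁ e₂) =
      (sandwich (e₁.map φ) (e₂.map φ) (Matrix.of fun j k => s (Sum.inl (j, k)))
        (Matrix.of fun k j => s (Sum.inr (k, j)))).det *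
      (sandwich (e₂.map φ) (e₁.map φ) (Matrix.of fun k j => s (Sum.inr (k, j)))
        (Matrix.of fun j k => s (Sum.inl (j, k)))).det := by
  have h1 : ∀ {n : ℕ} (e : Matrix (Fin n) (Fin n) R),
      (e.map (C : R →+* MvPolynomial (IsoVars a b) R)).map (eval₂Hom φ s) = e.map φ := by
    intro n e
    ext i j
    simp
  have h2 : (genX R a b).map (eval₂Hom φ s) = Matrix.of fun j k => s (Sum.inl (j, k)) := by
    ext i j
    simp [genX]
  have h3 : (genY R a b).map (eval₂Hom φ s) = Matrix.of fun k j => s (Sum.inr (k, j)) := by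
    ext i j
    simp [genY]
  change eval₂Hom φ s (isoPoly e₁ e₂) = _
  rw [isoPoly, map_mul, RingHom.map_det, RingHom.map_det, RingHom.mapMatrix_apply,
    RingHom.mapMatrix_apply, sandwich_mapMatrix, sandwich_mapMatrix, h1, h1, h2, h3]

end poly

section bij
variable {R : Type u} [CommRing R]

/-- If `i h π + (1 - i π)` has unit determinant then `h` is bijective. -/
theorem bijective_of_isUnit_det {M : Type v} [AddCommGroup M] [Module R M] {a : ℕ}
    (i : M →ₗ[R] (Fin a → R)) (π : (Fin a → R) →ₗ[R] M) (hπi : π ∘ₗ i = LinearMap.id)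
    (h : M →ₗ[R] M)
    (hu : IsUnit (LinearMap.toMatrix' (i ∘ₗ h ∘ₗ π) + (1 - LinearMap.toMatrix' (i ∘ₗ π))).det) :
    Function.Bijective h := by
  classical
  have hπi' : ∀ x, π (i x) = x := fun x => LinearMap.congr_fun hπi x
  let g : (Fin a → R) →ₗ[R] (Fin a → R) := i ∘ₗ h ∘ₗ π + (LinearMap.id - i ∘ₗ π)
  have hg : LinearMap.toMatrix (Pi.basisFun R (Fin a)) (Pi.basisFun R (Fin a)) g =
      LinearMap.toMatrix' (i ∘ₗ h ∘ₗ π) + (1 - LinearMap.toMatrix' (i ∘ₗ π)) := by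
    rw [LinearMap.toMatrix_eq_toMatrix']
    simp only [g, map_add, map_sub, LinearMap.toMatrix'_id]
  rw [← hg] at hu
  let E := LinearEquiv.ofIsUnitDet hu
  have hE : ∀ v, E v = i (h (π v)) + (v - i (π v)) := fun v => rfl
  constructor
  · intro x y hxy
    have : E (i x) = E (i y) := by
      rw [hE, hE, hπi', hπi', hxy]
      simp
    have := E.injective this
    calc x = π (i x) := (hπi' x).symm
      _ = π (i y) := by rw [this]
      _ = y := hπi' y
  · intro y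
    obtain ⟨v, hv⟩ := E.surjective (i y)
    refine ⟨π v, ?_⟩
    have := congrArg π hv
    rw [hE, map_add, map_sub, hπi', hπi', hπi'] at this
    simpa using this

end bij

section field
variable {R : Type u} [CommRing R]

theorem finrank_quotient_tensor_eq_rankAtStalk (m : Ideal R) [hm : m.IsMaximal]
    (M : Type v) [AddCommGroup M] [Module R M] [Module.Finite R M] [Module.Flat R M] :
    Module.finrank (R ⧸ m) ((R ⧸ m) ⊗[R] M) = Module.rankAtStalk M ⟨m, hm.isPrime⟩ := by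
  let _ : Field (R ⧸ m) := Ideal.Quotient.field m
  have h1 := Module.rankAtStalk_baseChange (R := R) (M := M) (S := R ⧸ m) (⊥ : PrimeSpectrum (R ⧸ m))
  have h2 : Module.rankAtStalk ((R ⧸ m) ⊗[R] M) (⊥ : PrimeSpectrum (R ⧸ m)) =
      Module.finrank (R ⧸ m) ((R ⧸ m) ⊗[R] M) :=
    congrFun (Module.rankAtStalk_eq_finrank_of_free (R := R ⧸ m) (M := (R ⧸ m) ⊗[R] M)) _
  have h3 : PrimeSpectrum.comap (algebraMap R (R ⧸ m)) (⊥ : PrimeSpectrum (R ⧸ m)) =
      ⟨m, hm.isPrime⟩ := by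
    ext x
    change algebraMap R (R ⧸ m) x ∈ (⊥ : Ideal (R ⧸ m)) ↔ x ∈ m
    rw [Ideal.mem_bot]
    exact Ideal.Quotient.eq_zero_iff_mem
  rw [← h2, h1, h3]

/-- Given an isomorphism of base changes, there are matrices making both sandwiches trivial. -/
theorem exists_sandwich_eq_one (k : Type*) [CommRing k] [Algebra R k]
    {M₁ : Type v} {M₂ : Type w} [AddCommGroup M₁] [Module R M₁] [AddCommGroup M₂] [Module R M₂]
    {a b : ℕ} (i₁ : M₁ →ₗ[R] (Fin a → R)) (π₁ : (Fin a → R) →ₗ[R] M₁)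
    (h₁ : π₁ ∘ₗ i₁ = LinearMap.id)
    (i₂ : M₂ →ₗ[R] (Fin b → R)) (π₂ : (Fin b → R) →ₗ[R] M₂)
    (h₂ : π₂ ∘ₗ i₂ = LinearMap.id)
    (θ : (k ⊗[R] M₁) ≃ₗ[k] (k ⊗[R] M₂)) :
    ∃ (x : Matrix (Fin b) (Fin a) k) (y : Matrix (Fin a) (Fin b) k),
      sandwich ((LinearMap.toMatrix' (i₁ ∘ₗ π₁)).map (algebraMap R k))
        ((LinearMap.toMatrix' (i₂ ∘ₗ π₂)).map (algebraMap R k)) x y = 1 ∧
      sandwich ((LinearMap.toMatrix' (i₂ ∘ₗ π₂)).map (algebraMap R k))
        ((LinearMap.toMatrix' (i₁ ∘ₗ π₁)).map (algebraMap R k)) y x = 1 := by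
  classical
  let Ba := Algebra.TensorProduct.basis k (Pi.basisFun R (Fin a))
  let Bb := Algebra.TensorProduct.basis k (Pi.basisFun R (Fin b))
  let I₁ := i₁.baseChange k
  let P₁ := π₁.baseChange k
  let I₂ := i₂.baseChange k
  let P₂ := π₂.baseChange k
  have hP₁ : ∀ z, P₁ (I₁ z) = z := by
    intro z
    have : P₁ ∘ₗ I₁ = LinearMap.id := by
      rw [← LinearMap.baseChange_comp, h₁, LinearMap.baseChange_id]
    exact LinearMap.congr_fun this z
  have hP₂ : ∀ z, P₂ (I₂ z) = z := by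
    intro z
    have : P₂ ∘ₗ I₂ = LinearMap.id := by
      rw [← LinearMap.baseChange_comp, h₂, LinearMap.baseChange_id]
    exact LinearMap.congr_fun this z
  have he₁ : (LinearMap.toMatrix' (i₁ ∘ₗ π₁)).map (algebraMap R k) =
      LinearMap.toMatrix Ba Ba (I₁ ∘ₗ P₁) := by
    rw [← LinearMap.baseChange_comp, LinearMap.toMatrix_baseChange, LinearMap.toMatrix_eq_toMatrix']
  have he₂ : (LinearMap.toMatrix' (i₂ ∘ₗ π₂)).map (algebraMap R k) =
      LinearMap.toMatrix Bb Bb (I₂ ∘ₗ P₂) := by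
    rw [← LinearMap.baseChange_comp, LinearMap.toMatrix_baseChange, LinearMap.toMatrix_eq_toMatrix']
  refine ⟨LinearMap.toMatrix Ba Bb (I₂ ∘ₗ θ.toLinearMap ∘ₗ P₁),
    LinearMap.toMatrix Bb Ba (I₁ ∘ₗ θ.symm.toLinearMap ∘ₗ P₂), ?_, ?_⟩
  · rw [he₁, he₂, sandwich, ← LinearMap.toMatrix_comp, ← LinearMap.toMatrix_comp,
      ← LinearMap.toMatrix_comp, ← LinearMap.toMatrix_comp]
    have : ((((I₁ ∘ₗ P₁) ∘ₗ (I₁ ∘ₗ θ.symm.toLinearMap ∘ₗ P₂)) ∘ₗ (I₂ ∘ₗ P₂)) ∘ₗ
        (I₂ ∘ₗ θ.toLinearMap ∘ₗ P₁)) ∘ₗ (I₁ ∘ₗ P₁) = I₁ ∘ₗ P₁ := by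
      apply LinearMap.ext
      intro z
      simp [hP₁, hP₂]
    rw [this]
    simp
  · rw [he₁, he₂, sandwich, ← LinearMap.toMatrix_comp, ← LinearMap.toMatrix_comp,
      ← LinearMap.toMatrix_comp, ← LinearMap.toMatrix_comp]
    have : ((((I₂ ∘ₗ P₂) ∘ₗ (I₂ ∘ₗ θ.toLinearMap ∘ₗ P₁)) ∘ₗ (I₁ ∘ₗ P₁)) ∘ₗ
        (I₁ ∘ₗ θ.symm.toLinearMap ∘ₗ P₂)) ∘ₗ (I₂ ∘ₗ P₂) = I₂ ∘ₗ P₂ := by
      apply LinearMap.ext
      intro z
      simp [hP₁, hP₂]
    rw [this]
    simp

end field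

section main
variable {R : Type u} [CommRing R]

/-- Over an LG-ring, finite projective modules with the same rank at every maximal ideal are
isomorphic. -/
theorem nonempty_linearEquiv_of_rankAtStalk_eq_of_isMaximal (hR : IsLGRing R)
    (M₁ : Type v) (M₂ : Type w) [AddCommGroup M₁] [Module R M₁] [Module.Finite R M₁]
    [Module.Projective R M₁] [AddCommGroup M₂] [Module R M₂] [Module.Finite R M₂]
    [Module.Projective R M₂]
    (h : ∀ (m : Ideal R) [hm : m.IsMaximal],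
      Module.rankAtStalk M₁ ⟨m, hm.isPrime⟩ = Module.rankAtStalk M₂ ⟨m, hm.isPrime⟩) :
    Nonempty (M₁ ≃ₗ[R] M₂) := by
  classical
  obtain ⟨a, π₁, i₁, -, -, h₁⟩ := Module.Finite.exists_comp_eq_id_of_projective R M₁
  obtain ⟨b, π₂, i₂, -, -, h₂⟩ := Module.Finite.exists_comp_eq_id_of_projective R M₂
  have key : ∀ (m : Ideal R) [m.IsMaximal], ∃ s : IsoVars a b → R ⧸ m,
      eval₂ (Ideal.Quotient.mk m) s
        (isoPoly (LinearMap.toMatrix' (i₁ ∘ₗ π₁)) (LinearMap.toMatrix' (i₂ ∘ₗ π₂))) ≠ 0 := by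
    intro m hm
    let _ : Field (R ⧸ m) := Ideal.Quotient.field m
    have hfr : Module.finrank (R ⧸ m) ((R ⧸ m) ⊗[R] M₁) =
        Module.finrank (R ⧸ m) ((R ⧸ m) ⊗[R] M₂) := by
      rw [finrank_quotient_tensor_eq_rankAtStalk, finrank_quotient_tensor_eq_rankAtStalk, h m]
    obtain ⟨θ⟩ := FiniteDimensional.nonempty_linearEquiv_of_finrank_eq hfr
    obtain ⟨x, y, hxy, hyx⟩ := exists_sandwich_eq_one (R ⧸ m) i₁ π₁ h₁ i₂ π₂ h₂ θ
    refine ⟨Sum.elim (fun p => x p.1 p.2) (fun p => y p.1 p.2), ?_⟩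
    rw [eval₂_isoPoly]
    have hx : (Matrix.of fun j k => Sum.elim (fun p : Fin b × Fin a => x p.1 p.2)
        (fun p : Fin a × Fin b => y p.1 p.2) (Sum.inl (j, k))) = x := by
      ext; simp
    have hy : (Matrix.of fun k j => Sum.elim (fun p : Fin b × Fin a => x p.1 p.2)
        (fun p : Fin a × Fin b => y p.1 p.2) (Sum.inr (k, j))) = y := by
      ext; simp
    rw [hx, hy]
    change (sandwich ((LinearMap.toMatrix' (i₁ ∘ₗ π₁)).map (algebraMap R (R ⧸ m)))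
        ((LinearMap.toMatrix' (i₂ ∘ₗ π₂)).map (algebraMap R (R ⧸ m))) x y).det *
      (sandwich ((LinearMap.toMatrix' (i₂ ∘ₗ π₂)).map (algebraMap R (R ⧸ m)))
        ((LinearMap.toMatrix' (i₁ ∘ₗ π₁)).map (algebraMap R (R ⧸ m))) y x).det ≠ 0
    rw [hxy, hyx]
    simp
  obtain ⟨s, hs⟩ := exists_isUnit_eval_of_finite hR _ key
  change IsUnit (eval₂ (RingHom.id R) s _) at hs
  rw [eval₂_isoPoly] at hs
  set X : Matrix (Fin b) (Fin a) R := Matrix.of fun j k => s (Sum.inl (j, k)) with hX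
  set Y : Matrix (Fin a) (Fin b) R := Matrix.of fun k j => s (Sum.inr (k, j)) with hY
  have hid : ∀ {n : ℕ} (e : Matrix (Fin n) (Fin n) R), e.map (RingHom.id R) = e := by
    intro n e; ext; simp
  rw [hid, hid] at hs
  have hu1 := isUnit_of_mul_isUnit_left hs
  have hu2 := isUnit_of_mul_isUnit_right hs
  let φ : M₁ →ₗ[R] M₂ := π₂ ∘ₗ Matrix.toLin' X ∘ₗ i₁
  let ψ : M₂ →ₗ[R] M₁ := π₁ ∘ₗ Matrix.toLin' Y ∘ₗ i₂
  have hψφ : Function.Bijective (ψ ∘ₗ φ) := by
    apply bijective_of_isUnit_det i₁ π₁ h₁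
    convert hu1 using 2
    have : i₁ ∘ₗ (ψ ∘ₗ φ) ∘ₗ π₁ =
        (i₁ ∘ₗ π₁) ∘ₗ Matrix.toLin' Y ∘ₗ (i₂ ∘ₗ π₂) ∘ₗ Matrix.toLin' X ∘ₗ (i₁ ∘ₗ π₁) := by
      simp only [φ, ψ, LinearMap.comp_assoc]
    rw [this, sandwich]
    simp only [LinearMap.toMatrix'_comp, LinearMap.toMatrix'_toLin', Matrix.mul_assoc]
  have hφψ : Function.Bijective (φ ∘ₗ ψ) := by
    apply bijective_of_isUnit_det i₂ π₂ h₂
    convert hu2 using 2
    have : i₂ ∘ₗ (φ ∘ₗ ψ) ∘ₗ π₂ =
        (i₂ ∘ₗ π₂) ∘ₗ Matrix.toLin' X ∘ₗ (i₁ ∘ₗ π₁) ∘ₗ Matrix.toLin' Y ∘ₗ (i₂ ∘ₗ π₂) := by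
      simp only [φ, ψ, LinearMap.comp_assoc]
    rw [this, sandwich]
    simp only [LinearMap.toMatrix'_comp, LinearMap.toMatrix'_toLin', Matrix.mul_assoc]
  have hinj : Function.Injective φ := by
    have : Function.Injective (ψ ∘ φ) := hψφ.1
    exact Function.Injective.of_comp this
  have hsurj : Function.Surjective φ := by
    have : Function.Surjective (φ ∘ ψ) := hφψ.2
    exact Function.Surjective.of_comp this
  exact ⟨LinearEquiv.ofBijective φ ⟨hinj, hsurj⟩⟩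

/-- Over an LG-ring, finite projective modules with the same rank function are isomorphic. -/
theorem nonempty_linearEquiv_of_rankAtStalk_eq (hR : IsLGRing R)
    (M₁ : Type v) (M₂ : Type w) [AddCommGroup M₁] [Module R M₁] [Module.Finite R M₁]
    [Module.Projective R M₁] [AddCommGroup M₂] [Module R M₂] [Module.Finite R M₂]
    [Module.Projective R M₂]
    (h : ∀ p : PrimeSpectrum R, Module.rankAtStalk M₁ p = Module.rankAtStalk M₂ p) :
    Nonempty (M₁ ≃ₗ[R] M₂) :=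
  nonempty_linearEquiv_of_rankAtStalk_eq_of_isMaximal hR M₁ M₂ fun _ _ => h _

end main

end Groth.Agent.Lib.Helper25
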