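import Mathlib
import Groth.Agent.Lib.Helper1.SecReg

/-!
# Sections of standard smooth algebras of relative dimension `n` (helper25)
A copy of `Helper1.SecReg.exists_regular_of_section` which keeps track of the length of the
regular sequence.
-/

set_option autoImplicit false
set_option linter.style.haveILetI false
universe u

namespace Groth.Agent.Lib.Helper25.SecRegN

open MvPolynomial TensorProduct
open Groth.Agent.Lib.Helper1 Groth.Agent.Lib.Helper1.SecReg

set_option maxHeartbeats 800000 in
/-- a section of a standard smooth algebra is, near the section, cut out by a regular sequence -/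
theorem exists_regular_of_section_n {A S : Type u} [CommRing A] [CommRing S] [Algebra A S]
    (n : ℕ) [Algebra.IsStandardSmoothOfRelativeDimension n A S] (ε : S →ₐ[A] A) :
    ∃ (s : S) (l : List S), l.length = n ∧ ε s = 1 ∧
      ∀ (S' : Type u) [CommRing S'] [Algebra S S'] [Module.Flat S S'],
        IsUnit (algebraMap S S' s) →
        RingTheory.Sequence.IsWeaklyRegular S' (l.map (algebraMap S S')) ∧
        (RingHom.ker ε.toRingHom).map (algebraMap S S') =
          Ideal.ofList (l.map (algebraMap S S')) := by
  classical
  obtain ⟨g, hgC, hg⟩ := RingHom.IsStandardSmoothOfRelativeDimension.exists_etale_mvPolynomial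
    (f := algebraMap A S) (n := n)
    ((RingHom.isStandardSmoothOfRelativeDimension_algebraMap n).mpr inferInstance)
  let T := MvPolynomial (Fin n) A
  let a : Fin n → A := fun i => ε (g (X i))
  let τ : T ≃ₐ[A] T := AlgEquiv.ofAlgHom (aeval fun i => X i + C (-a i))
    (aeval fun i => X i + C (a i)) (translate_comp A n _ _ (fun i => neg_add_cancel (a i)))
    (translate_comp A n _ _ (fun i => add_neg_cancel (a i)))
  let g₂ : T →+* S := g.comp (τ : T →+* T)
  have hg₂ : g₂.Etale := RingHom.Etale.stableUnderComposition _ _
    (RingHom.Etale.of_bijective τ.bijective) hg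
  letI algTS : Algebra T S := g₂.toAlgebra
  have hgCb : ∀ b : A, g (C b) = algebraMap A S b := fun b => congr($hgC b)
  haveI tow : IsScalarTower A T S := IsScalarTower.of_algebraMap_eq fun b => by
    change algebraMap A S b = g (τ (C b))
    have : τ (C b) = C b := aeval_C _ b
    rw [this, hgCb]
  haveI : Algebra.Etale T S := RingHom.etale_algebraMap.mp hg₂
  have hX : ∀ i : Fin n, algebraMap T S (X i) = g (X i) - algebraMap A S (a i) := by
    intro i
    change g (τ (X i)) = _
    have : τ (X i) = X i + C (-a i) := aeval_X _ i
    rw [this, map_add, hgCb, map_neg, sub_eq_add_neg]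
  have hε : ∀ i : Fin n, ε (algebraMap T S (X i)) = 0 := by
    intro i
    rw [hX, map_sub, ε.commutes]
    exact sub_self _
  obtain ⟨s, hs1, hs2⟩ := core n ε hε
  refine ⟨s, List.ofFn fun i : Fin n => algebraMap T S (X i), List.length_ofFn, hs1, ?_⟩
  intro S' _ _ _ hunit
  letI algTS' : Algebra T S' := ((algebraMap S S').comp (algebraMap T S)).toAlgebra
  haveI tow' : IsScalarTower T S S' := IsScalarTower.of_algebraMap_eq fun _ => rfl
  haveI : Module.Flat T S := Algebra.Smooth.flat _ _
  haveI : Module.Flat T S' := Module.Flat.trans T S S'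
  have hl : (List.ofFn fun i : Fin n => algebraMap T S (X i)).map (algebraMap S S') =
      (List.ofFn fun i : Fin n => (X i : T)).map (algebraMap T S') := by
    rw [List.map_ofFn, List.map_ofFn]
    rfl
  refine ⟨?_, ?_⟩
  · rw [hl]
    exact (isWeaklyRegular_X A n).of_flat
  · have hIS : Ideal.ofList ((List.ofFn fun i : Fin n => algebraMap T S (X i)).map
        (algebraMap S S')) = ((Ideal.ofList (List.ofFn fun i : Fin n => (X i : T))).map
          (algebraMap T S)).map (algebraMap S S') := by
      have h0 : (List.ofFn fun i : Fin n => algebraMap T S (X i)) =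
          (List.ofFn fun i : Fin n => (X i : T)).map (algebraMap T S) := by
        rw [List.map_ofFn]; rfl
      rw [RegComp.ofList_map, h0, RegComp.ofList_map]
    rw [hIS]
    apply le_antisymm
    · rw [Ideal.map_le_iff_le_comap]
      intro x hx
      rw [Ideal.mem_comap]
      have h1 := Ideal.mem_map_of_mem (algebraMap S S') (hs2 x hx)
      rw [map_mul] at h1
      exact (Ideal.unit_mul_mem_iff_mem _ hunit).mp h1
    · apply Ideal.map_mono
      rw [Ideal.map_le_iff_le_comap, ofList_ofFn, Ideal.span_le]
      rintro _ ⟨i, rfl⟩
      exact hε i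

end Groth.Agent.Lib.Helper25.SecRegN
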