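import Mathlib
import Groth.Agent.Lib.Helper1.SecSch
import Groth.Agent.Lib.Helper25.SecRegN

/-!
# Sections of smooth morphisms of relative dimension `n` are regular immersions of codimension `n`
(helper25).  A copy of `Helper1.SecSch.exists_chart_of_section` keeping track of the length of the
regular sequence.
-/

set_option autoImplicit false
set_option linter.style.haveILetI false
universe u
open CategoryTheory CategoryTheory.Limits AlgebraicGeometry TopologicalSpace Opposite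
open Groth.Agent.Lib.Helper1 Groth.Agent.Lib.Helper1.SecSch

namespace Groth.Agent.Lib.Helper25.SecSchN

section StdSmooth

variable {P Y : Scheme.{u}} (π : P ⟶ Y) (n : ℕ) [SmoothOfRelativeDimension n π]

theorem exists_stdSmooth_basicOpen_n {VY : Y.Opens} (hVY : IsAffineOpen VY) {D₁ : P.Opens}
    (hD₁ : IsAffineOpen D₁) (e : D₁ ≤ π ⁻¹ᵁ VY) (p : P) (hp : p ∈ D₁) :
    ∃ x : Γ(P, D₁), p ∈ P.basicOpen x ∧
      (π.appLE VY (P.basicOpen x)
        ((P.basicOpen_le x).trans e)).hom.IsStandardSmoothOfRelativeDimension n := by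
  have hloc : RingHom.Locally (RingHom.IsStandardSmoothOfRelativeDimension n)
      (π.appLE VY D₁ e).hom :=
    HasRingHomProperty.appLE (P := @SmoothOfRelativeDimension n) π inferInstance ⟨VY, hVY⟩
      ⟨D₁, hD₁⟩ e
  obtain ⟨s, hs, hstd⟩ := hloc
  have hcov := (hD₁.iSup_basicOpen_eq_self_iff (s := s)).mpr hs
  have hp' : p ∈ ⨆ f : s, P.basicOpen f.1 := by rw [hcov]; exact hp
  obtain ⟨⟨x, hxs⟩, hpx⟩ := TopologicalSpace.Opens.mem_iSup.mp hp'
  refine ⟨x, hpx, ?_⟩
  have h1 := hstd x hxs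
  letI alg₂ : Algebra Γ(P, D₁) Γ(P, P.basicOpen x) :=
    (P.presheaf.map (homOfLE (P.basicOpen_le x)).op).hom.toAlgebra
  haveI : IsLocalization.Away x Γ(P, P.basicOpen x) := hD₁.isLocalization_basicOpen x
  let eq₁ : Localization.Away x ≃ₐ[Γ(P, D₁)] Γ(P, P.basicOpen x) :=
    IsLocalization.algEquiv (Submonoid.powers x) _ _
  have h2 := (RingHom.isStandardSmoothOfRelativeDimension_respectsIso (n := n)).left _
    eq₁.toRingEquiv h1
  have heq : (π.appLE VY (P.basicOpen x) ((P.basicOpen_le x).trans e)).hom =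
      eq₁.toRingEquiv.toRingHom.comp
        ((algebraMap Γ(P, D₁) (Localization.Away x)).comp (π.appLE VY D₁ e).hom) := by
    ext r
    show _ = eq₁ (algebraMap Γ(P, D₁) (Localization.Away x) ((π.appLE VY D₁ e).hom r))
    rw [eq₁.commutes]
    have h3 := Scheme.Hom.appLE_map π e (homOfLE (P.basicOpen_le x)).op
    exact congr($h3.symm r)
  rw [heq]
  exact h2

end StdSmooth

section Main

variable {P X : Scheme.{u}} (p : P ⟶ X) (n : ℕ) [SmoothOfRelativeDimension n p] (σ : X ⟶ P)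

set_option maxHeartbeats 1600000 in
include p in
theorem exists_chart_of_section_n (hσ : σ ≫ p = 𝟙 X) (x : X) :
    ∃ D : P.Opens, IsAffineOpen D ∧ σ x ∈ D ∧ IsAffineOpen (σ ⁻¹ᵁ D) ∧
      Function.Surjective (σ.app D) ∧
      ∃ rs : List Γ(P, D), rs.length = n ∧ RingTheory.Sequence.IsWeaklyRegular Γ(P, D) rs ∧
        RingHom.ker (σ.app D).hom = Ideal.ofList rs := by
  classical
  have hpσ : ∀ z : X, p (σ z) = z := fun z => congrArg (fun g => g.base z) hσ
  -- (a)
  obtain ⟨_, ⟨U : X.Opens, hU, rfl⟩, hxU, -⟩ := X.isBasis_affineOpens.exists_subset_of_mem_open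
    (Set.mem_univ x) isOpen_univ
  have hU : IsAffineOpen U := hU
  -- (b)
  have hy : σ x ∈ p ⁻¹ᵁ U := by
    change p (σ x) ∈ U
    rw [hpσ]; exact hxU
  obtain ⟨_, ⟨W₁ : P.Opens, hW₁, rfl⟩, hyW₁, hW₁le⟩ :=
    P.isBasis_affineOpens.exists_subset_of_mem_open hy (p ⁻¹ᵁ U).2
  have hW₁ : IsAffineOpen W₁ := hW₁
  obtain ⟨w, hyw, hstd⟩ := exists_stdSmooth_basicOpen_n p n hU hW₁ hW₁le (σ x) hyW₁
  have hW : IsAffineOpen (P.basicOpen w) := hW₁.basicOpen w
  have hWle : P.basicOpen w ≤ p ⁻¹ᵁ U := (P.basicOpen_le w).trans hW₁le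
  -- (c)
  obtain ⟨a, hale, hxa⟩ := hU.exists_basicOpen_le (V := U ⊓ σ ⁻¹ᵁ (P.basicOpen w))
    ⟨x, ⟨hxU, hyw⟩⟩ hxU
  have hU' : IsAffineOpen (X.basicOpen a) := hU.basicOpen a
  -- (d)
  have hW' : IsAffineOpen (P.basicOpen ((p.appLE U (P.basicOpen w) hWle).hom a)) :=
    hW.basicOpen _
  have hW'eq : P.basicOpen ((p.appLE U (P.basicOpen w) hWle).hom a) =
      P.basicOpen w ⊓ p ⁻¹ᵁ (X.basicOpen a) := by
    rw [Scheme.preimage_basicOpen, Scheme.Hom.appLE]
    exact Scheme.basicOpen_res P _ _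
  have hW'le : P.basicOpen ((p.appLE U (P.basicOpen w) hWle).hom a) ≤ p ⁻¹ᵁ (X.basicOpen a) := by
    rw [hW'eq]; exact inf_le_right
  have hW'W : P.basicOpen ((p.appLE U (P.basicOpen w) hWle).hom a) ≤ P.basicOpen w := by
    rw [hW'eq]; exact inf_le_left
  have hU'le : X.basicOpen a ≤ σ ⁻¹ᵁ (P.basicOpen ((p.appLE U (P.basicOpen w) hWle).hom a)) := by
    intro z hz
    change σ z ∈ P.basicOpen ((p.appLE U (P.basicOpen w) hWle).hom a)
    rw [hW'eq]
    refine ⟨(hale hz).2, ?_⟩
    change p (σ z) ∈ X.basicOpen a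
    rw [hpσ]; exact hz
  have hEq : σ ⁻¹ᵁ (P.basicOpen ((p.appLE U (P.basicOpen w) hWle).hom a)) = X.basicOpen a := by
    apply le_antisymm _ hU'le
    intro z hz
    have h1 : p (σ z) ∈ X.basicOpen a := hW'le hz
    rwa [hpσ] at h1
  -- the localised ring map is standard smooth
  letI algAS : Algebra Γ(X, U) Γ(P, P.basicOpen w) :=
    (p.appLE U (P.basicOpen w) hWle).hom.toAlgebra
  letI algAA' : Algebra Γ(X, U) Γ(X, X.basicOpen a) :=
    (X.presheaf.map (homOfLE (X.basicOpen_le a)).op).hom.toAlgebra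
  haveI locA : IsLocalization.Away a Γ(X, X.basicOpen a) := hU.isLocalization_basicOpen a
  letI algSS' : Algebra Γ(P, P.basicOpen w)
      Γ(P, P.basicOpen ((p.appLE U (P.basicOpen w) hWle).hom a)) :=
    (P.presheaf.map (homOfLE (P.basicOpen_le _)).op).hom.toAlgebra
  haveI locS : IsLocalization.Away ((p.appLE U (P.basicOpen w) hWle).hom a)
      Γ(P, P.basicOpen ((p.appLE U (P.basicOpen w) hWle).hom a)) :=
    hW.isLocalization_basicOpen _
  have hloc : (IsLocalization.Away.map Γ(X, X.basicOpen a)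
      Γ(P, P.basicOpen ((p.appLE U (P.basicOpen w) hWle).hom a))
      (p.appLE U (P.basicOpen w) hWle).hom a).IsStandardSmoothOfRelativeDimension n :=
    (RingHom.isStandardSmoothOfRelativeDimension_localizationPreserves n).away _ a _ _ hstd
  have hmap : IsLocalization.Away.map Γ(X, X.basicOpen a)
      Γ(P, P.basicOpen ((p.appLE U (P.basicOpen w) hWle).hom a))
      (p.appLE U (P.basicOpen w) hWle).hom a =
      (p.appLE (X.basicOpen a) (P.basicOpen ((p.appLE U (P.basicOpen w) hWle).hom a)) hW'le).hom := by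
    apply IsLocalization.ringHom_ext (Submonoid.powers a)
    rw [IsLocalization.Away.map, IsLocalization.map_comp]
    ext r
    have h1 := Scheme.Hom.appLE_map p hWle (homOfLE hW'W).op
    have h2 := Scheme.Hom.map_appLE p hW'le (homOfLE (X.basicOpen_le a)).op
    exact (congr($h1 r)).trans (congr($h2 r)).symm
  rw [hmap] at hloc
  -- (e) the section on rings
  letI algA'S' : Algebra Γ(X, X.basicOpen a)
      Γ(P, P.basicOpen ((p.appLE U (P.basicOpen w) hWle).hom a)) :=
    (p.appLE (X.basicOpen a) (P.basicOpen ((p.appLE U (P.basicOpen w) hWle).hom a)) hW'le).hom.toAlgebra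
  haveI hstd'' : Algebra.IsStandardSmoothOfRelativeDimension n Γ(X, X.basicOpen a)
      Γ(P, P.basicOpen ((p.appLE U (P.basicOpen w) hWle).hom a)) := hloc
  have hsec : p.appLE (X.basicOpen a) (P.basicOpen ((p.appLE U (P.basicOpen w) hWle).hom a)) hW'le ≫
      σ.appLE (P.basicOpen ((p.appLE U (P.basicOpen w) hWle).hom a)) (X.basicOpen a) hU'le = 𝟙 _ := by
    rw [Scheme.Hom.appLE_comp_appLE]
    have h1 : (σ ≫ p).appLE (X.basicOpen a) (X.basicOpen a) (hU'le.trans (σ.preimage_mono hW'le)) =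
        (𝟙 X : X ⟶ X).appLE (X.basicOpen a) (X.basicOpen a) le_rfl :=
      ConormSES.appLE_congr' hσ _ _ _ _
    rw [h1]
    exact id_appLE _ _
  let ε : Γ(P, P.basicOpen ((p.appLE U (P.basicOpen w) hWle).hom a)) →ₐ[Γ(X, X.basicOpen a)]
      Γ(X, X.basicOpen a) :=
    { toRingHom := (σ.appLE (P.basicOpen ((p.appLE U (P.basicOpen w) hWle).hom a))
        (X.basicOpen a) hU'le).hom
      commutes' := fun r => congr($hsec r) }
  obtain ⟨s, l, hlen, hs1, H⟩ := SecRegN.exists_regular_of_section_n n ε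
  -- (g) the chart
  have hD : IsAffineOpen (P.basicOpen s) := hW'.basicOpen s
  letI algS'D : Algebra Γ(P, P.basicOpen ((p.appLE U (P.basicOpen w) hWle).hom a))
      Γ(P, P.basicOpen s) := (P.presheaf.map (homOfLE (P.basicOpen_le s)).op).hom.toAlgebra
  haveI locD : IsLocalization.Away s Γ(P, P.basicOpen s) := hW'.isLocalization_basicOpen s
  haveI flatD : Module.Flat Γ(P, P.basicOpen ((p.appLE U (P.basicOpen w) hWle).hom a))
      Γ(P, P.basicOpen s) := IsLocalization.flat _ (Submonoid.powers s)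
  have hunit : IsUnit (algebraMap Γ(P, P.basicOpen ((p.appLE U (P.basicOpen w) hWle).hom a))
      Γ(P, P.basicOpen s) s) := IsLocalization.Away.algebraMap_isUnit s
  obtain ⟨hreg, hker⟩ := H Γ(P, P.basicOpen s) hunit
  -- (i) goodness at W'
  have hσW' : IsAffineOpen (σ ⁻¹ᵁ (P.basicOpen ((p.appLE U (P.basicOpen w) hWle).hom a))) := by
    rw [hEq]; exact hU'
  have hεs : Function.Surjective (σ.appLE (P.basicOpen ((p.appLE U (P.basicOpen w) hWle).hom a))
      (X.basicOpen a) hU'le) := fun r =>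
    ⟨(p.appLE (X.basicOpen a) (P.basicOpen ((p.appLE U (P.basicOpen w) hWle).hom a)) hW'le).hom r,
      congr($hsec r)⟩
  have hsW' : Function.Surjective (σ.app (P.basicOpen ((p.appLE U (P.basicOpen w) hWle).hom a))) :=
    app_surjective_of_appLE σ hEq hU'le hεs
  obtain ⟨hσD, hsD, hkerD⟩ := UTKoszul.good_basicOpen σ hW' hσW' hsW' s
  have hkerW' : RingHom.ker (σ.app (P.basicOpen ((p.appLE U (P.basicOpen w) hWle).hom a))).hom =
      RingHom.ker ε.toRingHom := ker_app_eq_ker_appLE σ hEq hU'le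
  refine ⟨P.basicOpen s, hD, ?_, hσD, hsD, _, ?_, hreg, ?_⟩
  · -- σ x ∈ D
    change x ∈ σ ⁻¹ᵁ (P.basicOpen s)
    rw [Scheme.preimage_basicOpen]
    have h1 : (X.presheaf.map (homOfLE hU'le).op).hom
        ((σ.app (P.basicOpen ((p.appLE U (P.basicOpen w) hWle).hom a))).hom s) = 1 := hs1
    have h2 := Scheme.basicOpen_res X
      ((σ.app (P.basicOpen ((p.appLE U (P.basicOpen w) hWle).hom a))).hom s) (homOfLE hU'le).op
    rw [h1, Scheme.basicOpen_of_isUnit X isUnit_one] at h2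
    have h3 : x ∈ X.basicOpen a ⊓ X.basicOpen
        ((σ.app (P.basicOpen ((p.appLE U (P.basicOpen w) hWle).hom a))).hom s) := by
      rw [← h2]; exact hxa
    exact h3.2
  · rw [List.length_map]; exact hlen
  · rw [hkerD, hkerW']
    exact hker

include p in
/-- a section of a smooth morphism of relative dimension `n` is a regular immersion of
codimension `n` -/
theorem isRegularImmersionOfCodim_of_section (hσ : σ ≫ p = 𝟙 X) :
    RegImm.IsRegularImmersionOfCodim .regular n σ := by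
  haveI : Smooth p := SmoothOfRelativeDimension.smooth n p
  refine ⟨SecSch.isImmersion_of_section p σ hσ, fun x => ?_⟩
  obtain ⟨D, hD, hxD, hσD, hsD, rs, hlen, hreg, hker⟩ := exists_chart_of_section_n p n σ hσ x
  have hR : RingTheory.Sequence.IsRegular Γ(P, D) rs := by
    refine ⟨hreg, ?_⟩
    haveI : Nonempty (σ ⁻¹ᵁ D) := ⟨⟨x, hxD⟩⟩
    intro htop
    have h1 : Ideal.ofList rs • (⊤ : Submodule Γ(P, D) Γ(P, D)) = Ideal.ofList rs := by
      rw [smul_eq_mul, Ideal.mul_top]
    rw [h1, ← hker] at htop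
    have h2 : (1 : Γ(P, D)) ∈ RingHom.ker (σ.app D).hom := by rw [← htop]; trivial
    rw [RingHom.mem_ker, map_one] at h2
    exact one_ne_zero h2
  exact ⟨⟨D, hD⟩, hxD, SecSch.isClosedImmersion_restrict_of_surjective σ hD hσD hsD, rs, hlen,
    hR, hker⟩

end Main

end Groth.Agent.Lib.Helper25.SecSchN
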