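import Mathlib

/-!
# Injective semilinear endomorphisms of finite-dimensional spaces are surjective
(when the twisting ring endomorphism is bijective).
-/
set_option autoImplicit false

namespace Groth.Agent.Lib.Helper25.SemilinSurj

open Module

theorem surjective_of_injective_semilinear {k V : Type*} [Field k] [AddCommGroup V] [Module k V]
    [FiniteDimensional k V] (σ : k →+* k) (hσ : Function.Bijective σ)
    (f : V →+ V) (hf : ∀ (c : k) (v : V), f (c • v) = σ c • f v)
    (hinj : Function.Injective f) : Function.Surjective f := by
  classical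
  let e : k ≃+* k := RingEquiv.ofBijective σ hσ
  have he : ∀ c : k, σ (e.symm c) = c := fun c => e.apply_symm_apply c
  let b := Module.finBasis k V
  have hli : LinearIndependent k (⇑f ∘ ⇑b) := by
    refine b.linearIndependent.map_of_injective_injective (fun c => e.symm c) f ?_ ?_ ?_
    · intro r hr
      rw [← he r, hr, map_zero]
    · intro m hm
      exact hinj (by rw [hm, map_zero])
    · intro r m
      rw [hf, he]
  have hspan := hli.span_eq_top_of_card_eq_finrank' (by simp)
  let W : Submodule k V :=
    { carrier := Set.range f
      add_mem' := by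
        rintro _ _ ⟨x, rfl⟩ ⟨y, rfl⟩
        exact ⟨x + y, map_add f x y⟩
      zero_mem' := ⟨0, map_zero f⟩
      smul_mem' := by
        rintro c _ ⟨x, rfl⟩
        exact ⟨e.symm c • x, by rw [hf, he]⟩ }
  have hW : (⊤ : Submodule k V) ≤ W := by
    rw [← hspan]
    refine Submodule.span_le.2 ?_
    rintro _ ⟨j, rfl⟩
    exact ⟨b j, rfl⟩
  intro w
  exact hW (Submodule.mem_top : w ∈ ⊤)

end Groth.Agent.Lib.Helper25.SemilinSurj
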