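import Mathlib
import Groth.Prelude
import Groth.Agent.S4989

/-!
# Stalks of a scheme smooth over a field are domains (sub-lemma G1 requested by helper3)
-/

set_option autoImplicit false
universe u
open CategoryTheory CategoryTheory.Limits AlgebraicGeometry

namespace Groth.Agent.Lib.Helper25.SmoothDomStalk

theorem isIntegrallyClosed_stalk_Spec_field (k : Type u) [Field k]
    (y : Spec (CommRingCat.of k)) :
    IsIntegrallyClosed ((Spec (CommRingCat.of k)).presheaf.stalk y) := by
  let R : CommRingCat.{u} := CommRingCat.of k
  letI : Algebra ↑R ↑((Spec R).presheaf.stalk y) := StructureSheaf.stalkAlgebra (↑R) y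
  haveI : IsLocalization.AtPrime (↑((Spec R).presheaf.stalk y)) y.asIdeal :=
    StructureSheaf.IsLocalization.to_stalk R y
  haveI : IsDomain ↑R := inferInstanceAs (IsDomain k)
  haveI : IsIntegrallyClosed ↑R := inferInstanceAs (IsIntegrallyClosed k)
  exact isIntegrallyClosed_of_isLocalization (R := ↑R) (↑((Spec R).presheaf.stalk y))
    y.asIdeal.primeCompl
    (fun x hx => mem_nonZeroDivisors_of_ne_zero (fun h =>
      (Ideal.mem_primeCompl_iff.1 hx) (by rw [h]; exact y.asIdeal.zero_mem)))

/-- (G1) the local rings of a scheme smooth over a field are domains. -/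
theorem isDomain_stalk_of_smooth_over_field {k : Type u} [Field k] {S : Scheme.{u}}
    (g : S ⟶ Spec (.of k)) [Smooth g] (s : S) : IsDomain (S.presheaf.stalk s) := by
  have hs : s ∈ g.smoothLocus := by
    rw [g.smoothLocus_eq_top]
    trivial
  have h := (Groth.Agent.S4989.result g s hs).2
  exact (h.2 ⟨inferInstance, isIntegrallyClosed_stalk_Spec_field k (g.base s)⟩).1

end Groth.Agent.Lib.Helper25.SmoothDomStalk
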