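import Mathlib

/-!
# Smooth + quasi-finite over a field implies unramified

* `not_pow_dvd_comp`: a polynomial identity used below.
* `derivation_eq_zero`: a finite formally smooth algebra over a field has no nonzero derivation
  into a field which is an `A`-algebra.
* `formallyUnramified_of_formallySmooth_of_finite`: a finite formally smooth algebra over a field
  is formally unramified.
* `formallyUnramified_of_smooth_of_locallyQuasiFinite`: scheme version over the spectrum of a field.
-/

set_option autoImplicit false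
set_option linter.style.haveILetI false

open Polynomial

namespace Groth.Agent.Lib.Helper25.SmoothFinite

universe u

section Poly

variable {L : Type u} [Field L]

/-- If `p = c₀ + c₁ X + X² r` with `c₁ ≠ 0` and `h ≠ 0` has degree `< N`, then `X ^ N` does not
divide `h ∘ p`. -/
theorem not_pow_dvd_comp (h : L[X]) (hh : h ≠ 0) (c₀ c₁ : L) (hc₁ : c₁ ≠ 0) (r : L[X]) (N : ℕ)
    (hN : h.natDegree < N) :
    ¬ (X : L[X]) ^ N ∣ h.comp (C c₀ + C c₁ * X + X ^ 2 * r) := by
  intro hdvd
  obtain ⟨q, hq, hnd⟩ := Polynomial.exists_eq_pow_rootMultiplicity_mul_and_not_dvd h hh c₀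
  set p : L[X] := C c₀ + C c₁ * X + X ^ 2 * r with hp
  set m := h.rootMultiplicity c₀ with hm
  have hq0 : q ≠ 0 := by
    rintro rfl
    rw [mul_zero] at hq
    exact hh hq
  have hqc : q.eval c₀ ≠ 0 := by
    intro h0
    exact hnd ((Polynomial.dvd_iff_isRoot).mpr h0)
  have hmle : m ≤ h.natDegree := by
    conv_rhs => rw [hq]
    rw [Polynomial.natDegree_mul (pow_ne_zero _ (Polynomial.X_sub_C_ne_zero c₀)) hq0,
      Polynomial.natDegree_pow, Polynomial.natDegree_X_sub_C, mul_one]
    exact Nat.le_add_right _ _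
  have hmN : m + 1 ≤ N := by omega
  set s : L[X] := C c₁ + X * r with hs
  have hps : p - C c₀ = X * s := by rw [hp, hs]; ring
  have hcomp : h.comp p = X ^ m * (s ^ m * q.comp p) := by
    conv_lhs => rw [hq]
    rw [Polynomial.mul_comp, Polynomial.pow_comp, Polynomial.sub_comp, Polynomial.X_comp,
      Polynomial.C_comp, hps, mul_pow]
    ring
  have h1 : (X : L[X]) ^ m * X ∣ X ^ m * (s ^ m * q.comp p) := by
    rw [← hcomp, ← pow_succ]
    exact (pow_dvd_pow _ hmN).trans hdvd
  have h2 : (X : L[X]) ∣ s ^ m * q.comp p :=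
    (mul_dvd_mul_iff_left (pow_ne_zero m Polynomial.X_ne_zero)).mp h1
  rw [Polynomial.X_dvd_iff, Polynomial.coeff_zero_eq_eval_zero, Polynomial.eval_mul,
    Polynomial.eval_pow, Polynomial.eval_comp] at h2
  have hs0 : s.eval 0 = c₁ := by simp [hs]
  have hp0 : p.eval 0 = c₀ := by simp [hp]
  rw [hs0, hp0] at h2
  exact mul_ne_zero (pow_ne_zero _ hc₁) hqc h2

end Poly

section Der

variable (K A L : Type u) [Field K] [CommRing A] [Algebra K A] [Field L] [Algebra K L]
  [Algebra A L] [IsScalarTower K A L]

/-- A finite formally smooth algebra over a field has no nonzero derivation into a field. -/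
theorem derivation_eq_zero [Module.Finite K A] [Algebra.FormallySmooth K A]
    (D : Derivation K A L) : D = 0 := by
  by_contra hD
  obtain ⟨a₀, ha₀⟩ : ∃ a₀, D a₀ ≠ 0 := by
    by_contra hcon
    push_neg at hcon
    exact hD (Derivation.ext hcon)
  set d := Module.finrank K A with hd
  set N := d + 2 with hN
  let J₂ : Ideal L[X] := Ideal.span {(X : L[X]) ^ 2}
  let J : Ideal L[X] := Ideal.span {(X : L[X]) ^ N}
  let π : A →+* L := algebraMap A L
  have hsm : ∀ (a : A) (x : L), a • x = π a * x := fun a x => Algebra.smul_def a x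
  let ψ : A →ₐ[K] (L[X] ⧸ J₂) :=
    { toFun := fun a => Ideal.Quotient.mk J₂ (C (π a) + C (D a) * X)
      map_one' := by
        simp only [map_one, Derivation.map_one_eq_zero, map_zero, zero_mul, add_zero]
      map_mul' := fun a b => by
        rw [← map_mul, Ideal.Quotient.eq, Ideal.mem_span_singleton]
        refine ⟨-(C (D a) * C (D b)), ?_⟩
        have hl : D (a * b) = π a * D b + π b * D a := by
          rw [Derivation.leibniz, hsm, hsm]
        rw [hl, map_mul]
        simp only [map_add, map_mul]
        ring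
      map_zero' := by
        simp only [map_zero, zero_mul, add_zero]
      map_add' := fun a b => by
        rw [← map_add]
        congr 1
        simp only [map_add]
        ring
      commutes' := fun k => by
        simp only [Derivation.map_algebraMap, map_zero, zero_mul, add_zero]
        rw [show π (algebraMap K A k) = algebraMap K L k from
          (IsScalarTower.algebraMap_apply K A L k).symm]
        rfl }
  have hψ : ∀ a, ψ a = Ideal.Quotient.mk J₂ (C (π a) + C (D a) * X) := fun _ => rfl
  have hJJ₂ : J ≤ J₂ := by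
    rw [Ideal.span_singleton_le_span_singleton]
    exact pow_dvd_pow X (by omega)
  let g : (L[X] ⧸ J) →ₐ[K] (L[X] ⧸ J₂) := Ideal.Quotient.factorₐ K hJJ₂
  have hgmk : ∀ p : L[X], g (Ideal.Quotient.mk J p) = Ideal.Quotient.mk J₂ p := fun _ => rfl
  have hg : Function.Surjective g := Ideal.Quotient.factor_surjective hJJ₂
  have hker : IsNilpotent (RingHom.ker (g : (L[X] ⧸ J) →+* (L[X] ⧸ J₂))) := by
    have hle : RingHom.ker (g : (L[X] ⧸ J) →+* (L[X] ⧸ J₂)) ≤
        Ideal.span {Ideal.Quotient.mk J ((X : L[X]) ^ 2)} := by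
      intro y hy
      obtain ⟨p', rfl⟩ := Ideal.Quotient.mk_surjective y
      rw [RingHom.mem_ker] at hy
      have h0 : Ideal.Quotient.mk J₂ p' = 0 := hy
      rw [Ideal.Quotient.eq_zero_iff_mem, Ideal.mem_span_singleton] at h0
      obtain ⟨t, rfl⟩ := h0
      rw [map_mul]
      exact Ideal.mul_mem_right _ _ (Ideal.subset_span rfl)
    have h2 : (Ideal.span {Ideal.Quotient.mk J ((X : L[X]) ^ 2)}) ^ N = ⊥ := by
      rw [Ideal.span_singleton_pow, ← map_pow, ← pow_mul, Ideal.span_singleton_eq_bot,
        Ideal.Quotient.eq_zero_iff_mem, Ideal.mem_span_singleton]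
      exact pow_dvd_pow X (by omega)
    refine ⟨N, ?_⟩
    exact le_bot_iff.mp (h2 ▸ Ideal.pow_right_mono hle N)
  let φ : A →ₐ[K] (L[X] ⧸ J) := Algebra.FormallySmooth.liftOfSurjective ψ g hg hker
  have hφ : ∀ a, g (φ a) = ψ a := Algebra.FormallySmooth.liftOfSurjective_apply ψ g hg hker
  obtain ⟨p, hp⟩ := Ideal.Quotient.mk_surjective (φ a₀)
  have hp2 : Ideal.Quotient.mk J₂ p = Ideal.Quotient.mk J₂ (C (π a₀) + C (D a₀) * X) := by
    rw [← hgmk, hp, hφ, hψ]
  rw [Ideal.Quotient.eq, Ideal.mem_span_singleton] at hp2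
  obtain ⟨r, hr⟩ := hp2
  have hpr : p = C (π a₀) + C (D a₀) * X + X ^ 2 * r := by
    rw [← hr]; ring
  -- the minimal polynomial
  have hint : IsIntegral K a₀ := Algebra.IsIntegral.isIntegral a₀
  set h := minpoly K a₀ with hh
  have hh0 : h ≠ 0 := minpoly.ne_zero hint
  have hdeg : h.natDegree ≤ d := minpoly.natDegree_le a₀
  set hL : L[X] := h.map (algebraMap K L) with hhL
  have hL0 : hL ≠ 0 := (Polynomial.map_ne_zero_iff (algebraMap K L).injective).mpr hh0
  have hLdeg : hL.natDegree < N := by
    rw [hhL, Polynomial.natDegree_map]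
    omega
  have haev : Polynomial.aeval p h = hL.comp p := by
    rw [Polynomial.aeval_def, Polynomial.comp, hhL, Polynomial.eval₂_map]
    rfl
  have hzero : Ideal.Quotient.mk J (hL.comp p) = 0 := by
    rw [← haev]
    have e1 : Polynomial.aeval (Ideal.Quotient.mkₐ K J p) h =
        Ideal.Quotient.mkₐ K J (Polynomial.aeval p h) :=
      Polynomial.aeval_algHom_apply (Ideal.Quotient.mkₐ K J) p h
    have e2 : Polynomial.aeval (φ a₀) h = φ (Polynomial.aeval a₀ h) :=
      Polynomial.aeval_algHom_apply φ a₀ h
    rw [minpoly.aeval, map_zero] at e2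
    rw [Ideal.Quotient.mkₐ_eq_mk] at e1
    rw [← e1, hp]
    exact e2
  rw [Ideal.Quotient.eq_zero_iff_mem, Ideal.mem_span_singleton, hpr] at hzero
  exact not_pow_dvd_comp hL hL0 (π a₀) (D a₀) ha₀ r N hLdeg hzero

end Der

section Main

variable (K A : Type u) [Field K] [CommRing A] [Algebra K A]

/-- A finite formally smooth algebra over a field is formally unramified. -/
theorem formallyUnramified_of_formallySmooth_of_finite [Module.Finite K A]
    [Algebra.FormallySmooth K A] : Algebra.FormallyUnramified K A := by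
  constructor
  by_contra hns
  rw [not_subsingleton_iff_nontrivial] at hns
  haveI : Module.Finite A Ω[A⁄K] := inferInstance
  obtain ⟨Nsub, hNco, -⟩ :=
    (eq_top_or_exists_le_coatom (⊥ : Submodule A Ω[A⁄K])).resolve_left bot_ne_top
  have hsimple : IsSimpleModule A (Ω[A⁄K] ⧸ Nsub) := isSimpleModule_iff_isCoatom.mpr hNco
  obtain ⟨I, hI, ⟨e⟩⟩ := isSimpleModule_iff_quot_maximal.mp hsimple
  haveI := hI
  letI : Field (A ⧸ I) := Ideal.Quotient.field I
  let ℓ : Ω[A⁄K] →ₗ[A] (A ⧸ I) := e.toLinearMap ∘ₗ Nsub.mkQ
  have hℓ : Function.Surjective ℓ := e.surjective.comp (Submodule.mkQ_surjective _)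
  let D : Derivation K A (A ⧸ I) := ℓ.compDer (KaehlerDifferential.D K A)
  have hD0 : D = 0 := derivation_eq_zero K A (A ⧸ I) D
  have hzero : ℓ = 0 := by
    apply LinearMap.ext_on (KaehlerDifferential.span_range_derivation K A)
    rintro _ ⟨a, rfl⟩
    have : D a = 0 := by rw [hD0]; rfl
    exact this
  obtain ⟨w, hw⟩ := hℓ 1
  rw [hzero] at hw
  exact zero_ne_one hw

end Main

section RingHom

/-- Ring hom version, with the base only assumed to be a field via `IsField`. -/
theorem ringHom_formallyUnramified {R S : Type u} [CommRing R] [CommRing S] (f : R →+* S)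
    (hR : IsField R) (h1 : f.Smooth) (h2 : f.QuasiFinite) : f.FormallyUnramified := by
  letI := hR.toField
  algebraize [f]
  haveI : Module.Finite R S := Module.Finite.of_quasiFinite
  exact formallyUnramified_of_formallySmooth_of_finite R S

end RingHom

section Sch

open AlgebraicGeometry CategoryTheory

/-- A smooth, locally quasi-finite scheme over a field is unramified over it. -/
theorem formallyUnramified_of_smooth_of_locallyQuasiFinite {K : CommRingCat.{u}} (hK : IsField K)
    {Z : Scheme.{u}} (g : Z ⟶ Spec K) [Smooth g] [LocallyQuasiFinite g] :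
    FormallyUnramified g := by
  rw [HasRingHomProperty.iff_of_source_openCover (P := @FormallyUnramified) Z.affineCover]
  intro i
  have h1 : RingHom.Smooth ((Z.affineCover.f i ≫ g).appTop).hom :=
    (HasRingHomProperty.iff_of_source_openCover (P := @Smooth) Z.affineCover).mp inferInstance i
  have h2 : RingHom.QuasiFinite ((Z.affineCover.f i ≫ g).appTop).hom :=
    (HasRingHomProperty.iff_of_source_openCover (P := @LocallyQuasiFinite)
      Z.affineCover).mp inferInstance i
  have hF : IsField Γ(Spec K, ⊤) :=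
    MulEquiv.isField hK (Scheme.ΓSpecIso K).commRingCatIsoToRingEquiv.toMulEquiv
  exact ringHom_formallyUnramified _ hF h1 h2

end Sch

end Groth.Agent.Lib.Helper25.SmoothFinite
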