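import Mathlib
import Groth.Prelude.Def_SpSeq
import Groth.Agent.Lib.Helper21.TraceBound

/-!
# Traces of "multiplication by `X`" on `ℂ[X]`-modules, and spectral sequences

* `trace_eq_add`: additivity of the trace on short exact sequences (universe-general).
* `T M`, `tr M`: the `ℂ`-linear endomorphism "multiplication by `X`" of a `ℂ[X]`-module and its
  trace; `T_comm`, `tr_iso`, `tr_ses`, `tr_sc`, `tr_add_cokernel`.
* `Bd N a b c d Xf`: the boundedness condition on a family of `ℂ[X]`-modules indexed by `ℤ × ℤ`;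
  `Bd_of_subquot`, `summable_F`, `tsum_F`.
* `page_step`, `page_succ`, `page_all`: passing from a page to the next.
* `d_zero_of_large`, `page_iso_of_d_zero`, `fin_tr_filtration`, `tr_abut`.
-/

set_option autoImplicit false
universe u
open CategoryTheory CategoryTheory.Limits

namespace Groth.Agent.Lib.Helper25.SpTrace

noncomputable section

section SES

variable {R : Type*} [CommRing R] {M' : Type*} {M : Type*} {M'' : Type*}
  [AddCommGroup M'] [AddCommGroup M] [AddCommGroup M''] [Module R M'] [Module R M] [Module R M'']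

/-- a short exact sequence with projective cokernel splits -/
theorem exists_splitting (i : M' →ₗ[R] M) (p : M →ₗ[R] M'') (hi : Function.Injective i)
    (hp : Function.Surjective p) (hex : Function.Exact i p) [Module.Projective R M''] :
    ∃ (r : M →ₗ[R] M') (s : M'' →ₗ[R] M), r ∘ₗ i = LinearMap.id ∧ p ∘ₗ s = LinearMap.id ∧
      i ∘ₗ r + s ∘ₗ p = LinearMap.id := by
  obtain ⟨s, hs⟩ := Module.projective_lifting_property p LinearMap.id hp
  have hps : ∀ y, p (s y) = y := fun y => LinearMap.congr_fun hs y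
  have hmem : ∀ m : M, ((LinearMap.id : M →ₗ[R] M) - s ∘ₗ p) m ∈ LinearMap.range i := by
    intro m
    have h0 : p (m - s (p m)) = 0 := by
      rw [map_sub, hps, sub_self]
    exact LinearMap.mem_range.mpr ((hex _).mp h0)
  let e := LinearEquiv.ofInjective i hi
  let g : M →ₗ[R] LinearMap.range i :=
    LinearMap.codRestrict (LinearMap.range i) (LinearMap.id - s ∘ₗ p) hmem
  let r : M →ₗ[R] M' := e.symm.toLinearMap ∘ₗ g
  have hir : ∀ m, i (r m) = m - s (p m) := by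
    intro m
    have h1 : e (e.symm (g m)) = g m := e.apply_symm_apply _
    have h2 : ((e (e.symm (g m)) : LinearMap.range i) : M) = i (e.symm (g m)) := rfl
    show i (e.symm (g m)) = _
    rw [← h2, h1]
    rfl
  refine ⟨r, s, ?_, hs, ?_⟩
  · apply LinearMap.ext
    intro x
    apply hi
    show i (r (i x)) = i x
    rw [hir]
    have h0 : p (i x) = 0 := (hex (i x)).mpr ⟨x, rfl⟩
    rw [h0, map_zero, sub_zero]
  · apply LinearMap.ext
    intro m
    show i (r m) + s (p m) = m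
    rw [hir]
    abel

/-- additivity of the trace on a short exact sequence of finite free modules -/
theorem trace_eq_add (i : M' →ₗ[R] M) (p : M →ₗ[R] M'') (hi : Function.Injective i)
    (hp : Function.Surjective p) (hex : Function.Exact i p)
    [Module.Free R M'] [Module.Finite R M'] [Module.Free R M] [Module.Finite R M]
    [Module.Free R M''] [Module.Finite R M'']
    (f' : M' →ₗ[R] M') (f : M →ₗ[R] M) (f'' : M'' →ₗ[R] M'')
    (h1 : i ∘ₗ f' = f ∘ₗ i) (h2 : p ∘ₗ f = f'' ∘ₗ p) :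
    LinearMap.trace R M f = LinearMap.trace R M' f' + LinearMap.trace R M'' f'' := by
  obtain ⟨r, s, hri, hps, hsum⟩ := exists_splitting i p hi hp hex
  have e1 : f = (i ∘ₗ (f' ∘ₗ r)) + ((f ∘ₗ s) ∘ₗ p) := by
    calc f = f ∘ₗ LinearMap.id := (LinearMap.comp_id f).symm
      _ = f ∘ₗ (i ∘ₗ r + s ∘ₗ p) := by rw [hsum]
      _ = (f ∘ₗ i) ∘ₗ r + (f ∘ₗ s) ∘ₗ p := by
        rw [LinearMap.comp_add, LinearMap.comp_assoc, LinearMap.comp_assoc]
      _ = (i ∘ₗ f') ∘ₗ r + (f ∘ₗ s) ∘ₗ p := by rw [h1]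
      _ = _ := by rw [LinearMap.comp_assoc]
  have t1 : LinearMap.trace R M (i ∘ₗ (f' ∘ₗ r)) = LinearMap.trace R M' ((f' ∘ₗ r) ∘ₗ i) :=
    LinearMap.trace_comp_comm' (f' ∘ₗ r) i
  have t2 : LinearMap.trace R M ((f ∘ₗ s) ∘ₗ p) = LinearMap.trace R M'' (p ∘ₗ (f ∘ₗ s)) :=
    LinearMap.trace_comp_comm' p (f ∘ₗ s)
  have e2 : (f' ∘ₗ r) ∘ₗ i = f' := by
    rw [LinearMap.comp_assoc, hri, LinearMap.comp_id]
  have e3 : p ∘ₗ (f ∘ₗ s) = f'' := by
    rw [← LinearMap.comp_assoc, h2, LinearMap.comp_assoc, hps, LinearMap.comp_id]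
  conv_lhs => rw [e1]
  rw [map_add, t1, t2, e2, e3]

end SES

section Eigen

variable {V : Type*} {W : Type*} [AddCommGroup V] [Module ℂ V] [AddCommGroup W] [Module ℂ W]

theorem hasEigenvalue_of_injective (i : V →ₗ[ℂ] W) (hi : Function.Injective i)
    (f : Module.End ℂ V) (g : Module.End ℂ W) (hc : i ∘ₗ f = g ∘ₗ i) (μ : ℂ)
    (h : f.HasEigenvalue μ) : g.HasEigenvalue μ := by
  obtain ⟨v, hv⟩ := h.exists_hasEigenvector
  refine Module.End.hasEigenvalue_of_hasEigenvector (x := i v) ⟨?_, ?_⟩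
  · apply Module.End.mem_eigenspace_iff.mpr
    have h1 : g (i v) = i (f v) := (LinearMap.congr_fun hc v).symm
    rw [h1, hv.apply_eq_smul, map_smul]
  · intro h0
    exact hv.2 (hi (by rw [h0, map_zero]))

theorem hasEigenvalue_of_surjective [FiniteDimensional ℂ V] (p : V →ₗ[ℂ] W)
    (hp : Function.Surjective p)
    (f : Module.End ℂ V) (g : Module.End ℂ W) (hc : p ∘ₗ f = g ∘ₗ p) (μ : ℂ)
    (h : g.HasEigenvalue μ) : f.HasEigenvalue μ := by
  by_contra hne
  haveI : FiniteDimensional ℂ W := Module.Finite.of_surjective p hp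
  have hinj : Function.Injective (f - μ • (LinearMap.id : V →ₗ[ℂ] V)) := by
    rw [← LinearMap.ker_eq_bot, LinearMap.ker_eq_bot']
    intro x hx
    by_contra hx0
    apply hne
    refine Module.End.hasEigenvalue_of_hasEigenvector (x := x)
      ⟨Module.End.mem_eigenspace_iff.mpr ?_, hx0⟩
    have h1 : f x - μ • x = 0 := hx
    exact sub_eq_zero.mp h1
  have hsurj : Function.Surjective (f - μ • (LinearMap.id : V →ₗ[ℂ] V)) :=
    LinearMap.injective_iff_surjective.mp hinj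
  have hsurj' : Function.Surjective (g - μ • (LinearMap.id : W →ₗ[ℂ] W)) := by
    intro y
    obtain ⟨x, rfl⟩ := hp y
    obtain ⟨x', rfl⟩ := hsurj x
    refine ⟨p x', ?_⟩
    have h1 : g (p x') = p (f x') := (LinearMap.congr_fun hc x').symm
    show g (p x') - μ • p x' = p (f x' - μ • x')
    rw [h1, map_sub, map_smul]
  have hinj' : Function.Injective (g - μ • (LinearMap.id : W →ₗ[ℂ] W)) :=
    LinearMap.injective_iff_surjective.mpr hsurj'
  obtain ⟨v, hv⟩ := h.exists_hasEigenvector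
  apply hv.2
  apply hinj'
  rw [map_zero]
  show g v - μ • v = 0
  rw [hv.apply_eq_smul, sub_self]

end Eigen

/-- the polynomial ring `ℂ[X]` -/
abbrev P := Polynomial ℂ

/-- restriction of scalars from `ℂ[X]` to `ℂ` -/
abbrev rs : ModuleCat.{u} P ⥤ ModuleCat.{u} ℂ := ModuleCat.restrictScalars (algebraMap ℂ P)

/-- multiplication by `X` as a `ℂ`-linear endomorphism -/
def T (M : ModuleCat.{u} P) : Module.End ℂ (rs.obj M) :=
  (rs.map ((Polynomial.X : P) • 𝟙 M)).hom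

/-- the trace of multiplication by `X` -/
def tr (M : ModuleCat.{u} P) : ℂ := LinearMap.trace ℂ (rs.obj M) (T M)

theorem T_comm {M M' : ModuleCat.{u} P} (f : M ⟶ M') :
    (rs.map f).hom ∘ₗ T M = T M' ∘ₗ (rs.map f).hom := by
  have h : ((Polynomial.X : P) • 𝟙 M) ≫ f = f ≫ ((Polynomial.X : P) • 𝟙 M') := by
    rw [Linear.smul_comp, Linear.comp_smul, Category.id_comp, Category.comp_id]
  have h2 : rs.map ((Polynomial.X : P) • 𝟙 M) ≫ rs.map f =
      rs.map f ≫ rs.map ((Polynomial.X : P) • 𝟙 M') := by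
    rw [← CategoryTheory.Functor.map_comp, ← CategoryTheory.Functor.map_comp, h]
  have h3 := congrArg ModuleCat.Hom.hom h2
  rw [ModuleCat.hom_comp, ModuleCat.hom_comp] at h3
  exact h3

theorem tr_iso {M M' : ModuleCat.{u} P} (e : M ≅ M') : tr M = tr M' := by
  let e' : rs.obj M ≃ₗ[ℂ] rs.obj M' := (rs.mapIso e).toLinearEquiv
  have h : e'.conj (T M) = T M' := by
    apply LinearMap.ext
    intro x
    rw [LinearEquiv.conj_apply_apply]
    have h1 : (rs.map e.hom).hom (T M (e'.symm x)) = T M' ((rs.map e.hom).hom (e'.symm x)) :=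
      LinearMap.congr_fun (T_comm e.hom) (e'.symm x)
    have h2 : (rs.map e.hom).hom (e'.symm x) = x := e'.apply_symm_apply x
    show (rs.map e.hom).hom (T M (e'.symm x)) = T M' x
    rw [h1, h2]
  unfold tr
  rw [← h, LinearMap.trace_conj']

theorem fin_of_inj {M₁ M₂ : ModuleCat.{u} P} (i : M₁ ⟶ M₂) (hi : Function.Injective i.hom)
    (h : Module.Finite ℂ (rs.obj M₂)) : Module.Finite ℂ (rs.obj M₁) := by
  haveI := h
  have hi' : Function.Injective (rs.map i).hom := hi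
  exact Module.Finite.of_injective (rs.map i).hom hi'

theorem fin_of_surj {M₂ M₃ : ModuleCat.{u} P} (p : M₂ ⟶ M₃) (hp : Function.Surjective p.hom)
    (h : Module.Finite ℂ (rs.obj M₂)) : Module.Finite ℂ (rs.obj M₃) := by
  haveI := h
  have hp' : Function.Surjective (rs.map p).hom := hp
  exact Module.Finite.of_surjective (rs.map p).hom hp'

theorem fin_of_iso {M M' : ModuleCat.{u} P} (e : M ≅ M') (h : Module.Finite ℂ (rs.obj M)) :
    Module.Finite ℂ (rs.obj M') :=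
  fin_of_inj e.inv ((ModuleCat.mono_iff_injective e.inv).mp inferInstance) h

theorem fin_of_ses {M₁ M₂ M₃ : ModuleCat.{u} P} (i : M₁ ⟶ M₂) (p : M₂ ⟶ M₃)
    (hp : Function.Surjective p.hom) (hex : Function.Exact i.hom p.hom)
    (h1 : Module.Finite ℂ (rs.obj M₁)) (h3 : Module.Finite ℂ (rs.obj M₃)) :
    Module.Finite ℂ (rs.obj M₂) := by
  haveI := h1
  haveI := h3
  have hp' : Function.Surjective (rs.map p).hom := hp
  have hex' : Function.Exact (rs.map i).hom (rs.map p).hom := hex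
  exact Module.Finite.of_exact hex' hp'

theorem fin_of_isZero {M : ModuleCat.{u} P} (h : IsZero M) : Module.Finite ℂ (rs.obj M) := by
  haveI : Subsingleton (rs.obj M) := (ModuleCat.subsingleton_of_isZero h : Subsingleton M)
  infer_instance

theorem tr_of_isZero {M : ModuleCat.{u} P} (h : IsZero M) : tr M = 0 := by
  haveI : Subsingleton (rs.obj M) := (ModuleCat.subsingleton_of_isZero h : Subsingleton M)
  have h0 : T M = 0 := LinearMap.ext fun x => Subsingleton.elim _ _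
  unfold tr
  rw [h0, map_zero]

theorem tr_ses {M₁ M₂ M₃ : ModuleCat.{u} P} (i : M₁ ⟶ M₂) (p : M₂ ⟶ M₃)
    (hi : Function.Injective i.hom) (hp : Function.Surjective p.hom)
    (hex : Function.Exact i.hom p.hom) (hM : Module.Finite ℂ (rs.obj M₂)) :
    tr M₂ = tr M₁ + tr M₃ := by
  have hi' : Function.Injective (rs.map i).hom := hi
  have hp' : Function.Surjective (rs.map p).hom := hp
  have hex' : Function.Exact (rs.map i).hom (rs.map p).hom := hex
  haveI := hM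
  haveI : Module.Finite ℂ (rs.obj M₁) := Module.Finite.of_injective (rs.map i).hom hi'
  haveI : Module.Finite ℂ (rs.obj M₃) := Module.Finite.of_surjective (rs.map p).hom hp'
  exact trace_eq_add (rs.map i).hom (rs.map p).hom hi' hp' hex' (T M₁) (T M₂) (T M₃)
    (T_comm i) (T_comm p)

theorem tr_add_cokernel {M₁ M₂ : ModuleCat.{u} P} (f : M₁ ⟶ M₂) [Mono f]
    (h : Module.Finite ℂ (rs.obj M₂)) : tr M₂ = tr M₁ + tr (cokernel f) :=
  tr_ses f (cokernel.π f) ((ModuleCat.mono_iff_injective f).mp inferInstance)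
    ((ModuleCat.epi_iff_surjective (cokernel.π f)).mp inferInstance)
    ((ShortComplex.ShortExact.moduleCat_exact_iff_function_exact _).mp
      (ShortComplex.exact_cokernel f)) h

theorem fin_of_cokernel {M₁ M₂ : ModuleCat.{u} P} (f : M₁ ⟶ M₂) [Mono f]
    (h1 : Module.Finite ℂ (rs.obj M₁)) (h3 : Module.Finite ℂ (rs.obj (cokernel f))) :
    Module.Finite ℂ (rs.obj M₂) :=
  fin_of_ses f (cokernel.π f)
    ((ModuleCat.epi_iff_surjective (cokernel.π f)).mp inferInstance)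
    ((ShortComplex.ShortExact.moduleCat_exact_iff_function_exact _).mp
      (ShortComplex.exact_cokernel f)) h1 h3

/-- the trace of `X` on the image of a morphism -/
def trIm {M M' : ModuleCat.{u} P} (f : M ⟶ M') : ℂ :=
  tr (ModuleCat.of P (LinearMap.range f.hom))

theorem tr_sc (S : ShortComplex (ModuleCat.{u} P)) (hS : Module.Finite ℂ (rs.obj S.X₂)) :
    tr S.X₂ = trIm S.f + tr S.homology + trIm S.g := by
  have h1 : tr S.X₂ = tr (ModuleCat.of P (LinearMap.ker S.g.hom)) + trIm S.g := by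
    refine tr_ses (M₁ := ModuleCat.of P (LinearMap.ker S.g.hom)) (M₂ := S.X₂)
      (M₃ := ModuleCat.of P (LinearMap.range S.g.hom))
      (ModuleCat.ofHom (LinearMap.ker S.g.hom).subtype) (ModuleCat.ofHom S.g.hom.rangeRestrict)
      (Submodule.subtype_injective _) (LinearMap.surjective_rangeRestrict _) ?_ hS
    intro y
    constructor
    · intro hy
      have hy' : S.g.hom y = 0 := congrArg Subtype.val hy
      exact ⟨⟨y, LinearMap.mem_ker.mpr hy'⟩, rfl⟩
    · rintro ⟨z, rfl⟩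
      apply Subtype.ext
      exact LinearMap.mem_ker.mp z.2
  have hle : LinearMap.range S.f.hom ≤ LinearMap.ker S.g.hom := by
    rintro _ ⟨x, rfl⟩
    exact LinearMap.mem_ker.mpr (S.moduleCat_zero_apply x)
  have hZ : Module.Finite ℂ (rs.obj (ModuleCat.of P (LinearMap.ker S.g.hom))) :=
    fin_of_inj (M₁ := ModuleCat.of P (LinearMap.ker S.g.hom)) (M₂ := S.X₂)
      (ModuleCat.ofHom (LinearMap.ker S.g.hom).subtype) (Submodule.subtype_injective _) hS
  have h2 : tr (ModuleCat.of P (LinearMap.ker S.g.hom)) = trIm S.f +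
      tr (ModuleCat.of P (LinearMap.ker S.g.hom ⧸ LinearMap.range S.moduleCatToCycles)) := by
    refine tr_ses (M₁ := ModuleCat.of P (LinearMap.range S.f.hom))
      (M₂ := ModuleCat.of P (LinearMap.ker S.g.hom))
      (M₃ := ModuleCat.of P (LinearMap.ker S.g.hom ⧸ LinearMap.range S.moduleCatToCycles))
      (ModuleCat.ofHom (Submodule.inclusion hle))
      (ModuleCat.ofHom (LinearMap.range S.moduleCatToCycles).mkQ)
      (Submodule.inclusion_injective hle) (Submodule.mkQ_surjective _) ?_ hZ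
    intro y
    show (LinearMap.range S.moduleCatToCycles).mkQ y = 0 ↔ y ∈ Set.range (Submodule.inclusion hle)
    rw [Submodule.mkQ_apply, Submodule.Quotient.mk_eq_zero]
    constructor
    · rintro ⟨x, rfl⟩
      exact ⟨⟨S.f.hom x, ⟨x, rfl⟩⟩, Subtype.ext rfl⟩
    · rintro ⟨⟨_, ⟨x, rfl⟩⟩, rfl⟩
      exact ⟨x, Subtype.ext rfl⟩
  have h3 : tr S.homology =
      tr (ModuleCat.of P (LinearMap.ker S.g.hom ⧸ LinearMap.range S.moduleCatToCycles)) :=
    tr_iso S.moduleCatHomologyIso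
  rw [h1, h2, h3]

theorem subquot_props {Z M H : ModuleCat.{u} P} (i : Z ⟶ M) (p : Z ⟶ H)
    (hi : Function.Injective i.hom) (hp : Function.Surjective p.hom)
    (hM : Module.Finite ℂ (rs.obj M)) :
    Module.Finite ℂ (rs.obj H) ∧
    Module.finrank ℂ (rs.obj H) ≤ Module.finrank ℂ (rs.obj M) ∧
    (∀ μ, Module.End.HasEigenvalue (T H) μ → Module.End.HasEigenvalue (T M) μ) ∧
    (IsZero M → IsZero H) := by
  have hi' : Function.Injective (rs.map i).hom := hi
  have hp' : Function.Surjective (rs.map p).hom := hp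
  haveI := hM
  haveI hZ : Module.Finite ℂ (rs.obj Z) := Module.Finite.of_injective (rs.map i).hom hi'
  haveI hH : Module.Finite ℂ (rs.obj H) := Module.Finite.of_surjective (rs.map p).hom hp'
  refine ⟨hH, ?_, ?_, ?_⟩
  · exact (LinearMap.finrank_le_finrank_of_surjective hp').trans
      (LinearMap.finrank_le_finrank_of_injective hi')
  · intro μ hμ
    exact hasEigenvalue_of_injective (rs.map i).hom hi' (T Z) (T M) (T_comm i) μ
      (hasEigenvalue_of_surjective (rs.map p).hom hp' (T Z) (T H) (T_comm p) μ hμ)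
  · intro hM0
    haveI : Subsingleton M := ModuleCat.subsingleton_of_isZero hM0
    haveI : Subsingleton H := ⟨fun x y => by
      obtain ⟨x', rfl⟩ := hp x
      obtain ⟨y', rfl⟩ := hp y
      rw [hi (Subsingleton.elim (i.hom x') (i.hom y'))]⟩
    exact ModuleCat.isZero_of_subsingleton H

/-- the boundedness condition on a family of `ℂ[X]`-modules indexed by `ℤ × ℤ` -/
def Bd (N : ℕ) (a : ℕ → ℝ) (b : ℕ → ℕ) (c : ℕ → ℝ) (d : ℕ → ℕ)
    (Xf : ℤ × ℤ → ModuleCat.{u} P) : Prop :=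
  (∀ pq : ℤ × ℤ, pq.1 < 0 ∨ pq.2 < 0 → IsZero (Xf pq)) ∧
  (∀ pq : ℤ × ℤ, Module.Finite ℂ (rs.obj (Xf pq))) ∧
  (∀ p q : ℕ, N < q → IsZero (Xf ((p : ℤ), (q : ℤ)))) ∧
  (∀ (p q : ℕ) (μ : ℂ), Module.End.HasEigenvalue (T (Xf ((p : ℤ), (q : ℤ)))) μ →
    ‖μ‖ ≤ a q * c p) ∧
  (∀ p q : ℕ, Module.finrank ℂ (rs.obj (Xf ((p : ℤ), (q : ℤ)))) ≤ b q * d p)

section BdSec

variable {N : ℕ} {a : ℕ → ℝ} {b : ℕ → ℕ} {c : ℕ → ℝ} {d : ℕ → ℕ}

theorem Bd_of_subquot {Xf Yf : ℤ × ℤ → ModuleCat.{u} P} (h : Bd N a b c d Xf)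
    (hsq : ∀ pq, ∃ (Z : ModuleCat.{u} P) (i : Z ⟶ Xf pq) (p : Z ⟶ Yf pq),
      Function.Injective i.hom ∧ Function.Surjective p.hom) : Bd N a b c d Yf := by
  obtain ⟨hq, hfd, hN, hev, hrk⟩ := h
  have key : ∀ pq, Module.Finite ℂ (rs.obj (Yf pq)) ∧
      Module.finrank ℂ (rs.obj (Yf pq)) ≤ Module.finrank ℂ (rs.obj (Xf pq)) ∧
      (∀ μ, Module.End.HasEigenvalue (T (Yf pq)) μ → Module.End.HasEigenvalue (T (Xf pq)) μ) ∧
      (IsZero (Xf pq) → IsZero (Yf pq)) := by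
    intro pq
    obtain ⟨Z, i, p, hi, hp⟩ := hsq pq
    exact subquot_props i p hi hp (hfd pq)
  exact ⟨fun pq hpq => (key pq).2.2.2 (hq pq hpq), fun pq => (key pq).1,
    fun p q hNq => (key _).2.2.2 (hN p q hNq),
    fun p q μ hμ => hev p q μ ((key _).2.2.1 μ hμ),
    fun p q => ((key _).2.1).trans (hrk p q)⟩

theorem Bd.isZero {Xf : ℤ × ℤ → ModuleCat.{u} P} (h : Bd N a b c d Xf) (pq : ℤ × ℤ)
    (hpq : pq.1 < 0 ∨ pq.2 < 0 ∨ (N : ℤ) < pq.2) : IsZero (Xf pq) := by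
  obtain ⟨hq, -, hN, -, -⟩ := h
  by_cases h0 : pq.1 < 0 ∨ pq.2 < 0
  · exact hq pq h0
  · push_neg at h0
    have h3 : (N : ℤ) < pq.2 := by
      rcases hpq with h1 | h1 | h1
      · omega
      · omega
      · exact h1
    have e : pq = ((pq.1.toNat : ℤ), (pq.2.toNat : ℤ)) :=
      Prod.ext (Int.toNat_of_nonneg h0.1).symm (Int.toNat_of_nonneg h0.2).symm
    rw [e]
    exact hN _ _ (by omega)

/-- the sign `(-1)^(p+q)` -/
def sgn (pq : ℤ × ℤ) : ℂ := (-1 : ℂ) ^ (pq.1 + pq.2)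

/-- the inclusion `ℕ × ℕ → ℤ × ℤ` -/
def iota (x : ℕ × ℕ) : ℤ × ℤ := ((x.1 : ℤ), (x.2 : ℤ))

theorem iota_inj : Function.Injective iota := by
  intro x y h
  have h1 : ((x.1 : ℕ) : ℤ) = (y.1 : ℤ) := congrArg Prod.fst h
  have h2 : ((x.2 : ℕ) : ℤ) = (y.2 : ℤ) := congrArg Prod.snd h
  exact Prod.ext (by exact_mod_cast h1) (by exact_mod_cast h2)

theorem not_mem_range_iota (pq : ℤ × ℤ) (h : pq ∉ Set.range iota) : pq.1 < 0 ∨ pq.2 < 0 := by
  by_contra hn
  push_neg at hn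
  apply h
  refine ⟨(pq.1.toNat, pq.2.toNat), ?_⟩
  exact Prod.ext (Int.toNat_of_nonneg hn.1) (Int.toNat_of_nonneg hn.2)

theorem norm_sgn (pq : ℤ × ℤ) : ‖sgn pq‖ = 1 := by
  unfold sgn
  rw [norm_zpow, norm_neg, norm_one, one_zpow]

theorem sgn_add (v : ℤ × ℤ) (hv : v.1 + v.2 = 1) (pq : ℤ × ℤ) : sgn (pq + v) = - sgn pq := by
  unfold sgn
  have h1 : (pq + v).1 + (pq + v).2 = (pq.1 + pq.2) + 1 := by
    simp only [Prod.fst_add, Prod.snd_add]
    linarith
  rw [h1, zpow_add_one₀ (by norm_num : (-1 : ℂ) ≠ 0)]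
  ring

theorem sgn_iota (x : ℕ × ℕ) : sgn (iota x) = (-1 : ℂ) ^ (x.1 + x.2) := by
  show (-1 : ℂ) ^ (((x.1 : ℕ) : ℤ) + ((x.2 : ℕ) : ℤ)) = _
  rw [← Nat.cast_add, zpow_natCast]

theorem summable_norm_tr {Xf : ℤ × ℤ → ModuleCat.{u} P} (ha : ∀ q, 0 ≤ a q) (hc : ∀ p, 0 ≤ c p)
    (hsum : Summable fun p : ℕ => c p * (d p : ℝ)) (h : Bd N a b c d Xf) :
    Summable fun x : ℕ × ℕ => ‖tr (Xf (iota x))‖ := by
  obtain ⟨hq, hfd, hN, hev, hrk⟩ := h
  haveI : ∀ p q : ℕ, FiniteDimensional ℂ (rs.obj (Xf ((p : ℤ), (q : ℤ)))) := fun p q => hfd _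
  exact Groth.Agent.Lib.Helper21.TraceBound.summable_norm_trace
    (fun p q => rs.obj (Xf ((p : ℤ), (q : ℤ)))) (fun p q => T (Xf ((p : ℤ), (q : ℤ))))
    N a c b d ha hc (fun p q hNq => (ModuleCat.subsingleton_of_isZero (hN p q hNq) :
      Subsingleton (Xf ((p : ℤ), (q : ℤ))))) hev hrk hsum

theorem summable_F {Xf : ℤ × ℤ → ModuleCat.{u} P} (ha : ∀ q, 0 ≤ a q) (hc : ∀ p, 0 ≤ c p)
    (hsum : Summable fun p : ℕ => c p * (d p : ℝ)) (h : Bd N a b c d Xf) :
    Summable fun pq : ℤ × ℤ => sgn pq * tr (Xf pq) := by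
  have hs := summable_norm_tr ha hc hsum h
  obtain ⟨hq, hfd, hN, hev, hrk⟩ := h
  have h0 : ∀ pq ∉ Set.range iota, sgn pq * tr (Xf pq) = 0 := fun pq hpq => by
    rw [tr_of_isZero (hq pq (not_mem_range_iota pq hpq)), mul_zero]
  rw [← iota_inj.summable_iff h0]
  refine Summable.of_norm_bounded hs ?_
  intro x
  show ‖sgn (iota x) * tr (Xf (iota x))‖ ≤ ‖tr (Xf (iota x))‖
  rw [norm_mul, norm_sgn, one_mul]

theorem tsum_F {Xf : ℤ × ℤ → ModuleCat.{u} P} (h : Bd N a b c d Xf) :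
    ∑' pq : ℤ × ℤ, sgn pq * tr (Xf pq) =
      ∑' x : ℕ × ℕ, (-1 : ℂ) ^ (x.1 + x.2) * tr (Xf ((x.1 : ℤ), (x.2 : ℤ))) := by
  obtain ⟨hq, hfd, hN, hev, hrk⟩ := h
  have hsup : Function.support (fun pq : ℤ × ℤ => sgn pq * tr (Xf pq)) ⊆ Set.range iota := by
    intro pq hpq
    by_contra hn
    exact hpq (by
      show sgn pq * tr (Xf pq) = 0
      rw [tr_of_isZero (hq pq (not_mem_range_iota pq hn)), mul_zero])
  rw [← iota_inj.tsum_eq hsup]
  refine tsum_congr (fun x => ?_)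
  rw [sgn_iota]
  rfl

end BdSec

section Complex

variable {N : ℕ} {a : ℕ → ℝ} {b : ℕ → ℕ} {c : ℕ → ℝ} {d : ℕ → ℕ}

/-- the trace of `X` on the image of a differential -/
def bet {v : ℤ × ℤ} (K : HomologicalComplex (ModuleCat.{u} P) (ComplexShape.up' v))
    (i j : ℤ × ℤ) : ℂ := trIm (K.d i j)

theorem tr_X_eq {v : ℤ × ℤ} (K : HomologicalComplex (ModuleCat.{u} P) (ComplexShape.up' v))
    (pq : ℤ × ℤ) (hfd : Module.Finite ℂ (rs.obj (K.X pq))) :
    tr (K.X pq) = bet K (pq - v) pq + tr (K.homology pq) + bet K pq (pq + v) := by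
  have h1 := tr_sc (K.sc pq) hfd
  have hprev : (ComplexShape.up' v).prev pq = pq - v :=
    (ComplexShape.up' v).prev_eq' (show pq - v + v = pq from sub_add_cancel pq v)
  have hnext : (ComplexShape.up' v).next pq = pq + v :=
    (ComplexShape.up' v).next_eq' (show pq + v = pq + v from rfl)
  have hf : trIm (K.sc pq).f = bet K (pq - v) pq := by
    show trIm (K.d ((ComplexShape.up' v).prev pq) pq) = _
    rw [hprev]
    rfl
  have hg : trIm (K.sc pq).g = bet K pq (pq + v) := by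
    show trIm (K.d pq ((ComplexShape.up' v).next pq)) = _
    rw [hnext]
    rfl
  rw [hf, hg] at h1
  exact h1

theorem Bd_homology {v : ℤ × ℤ} (K : HomologicalComplex (ModuleCat.{u} P) (ComplexShape.up' v))
    (h : Bd N a b c d K.X) : Bd N a b c d (fun pq => K.homology pq) :=
  Bd_of_subquot h (fun pq => ⟨K.cycles pq, K.iCycles pq, K.homologyπ pq,
    (ModuleCat.mono_iff_injective _).mp inferInstance,
    (ModuleCat.epi_iff_surjective _).mp inferInstance⟩)

theorem Bd_image {v : ℤ × ℤ} (K : HomologicalComplex (ModuleCat.{u} P) (ComplexShape.up' v))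
    (h : Bd N a b c d K.X) :
    Bd N a b c d (fun pq => ModuleCat.of P (LinearMap.range (K.d (pq - v) pq).hom)) :=
  Bd_of_subquot h (fun pq => ⟨ModuleCat.of P (LinearMap.range (K.d (pq - v) pq).hom),
    ModuleCat.ofHom (LinearMap.range (K.d (pq - v) pq).hom).subtype, 𝟙 _,
    Submodule.subtype_injective _, fun x => ⟨x, rfl⟩⟩)

theorem page_step (v : ℤ × ℤ) (hv : v.1 + v.2 = 1)
    (K : HomologicalComplex (ModuleCat.{u} P) (ComplexShape.up' v))
    (ha : ∀ q, 0 ≤ a q) (hc : ∀ p, 0 ≤ c p)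
    (hsum : Summable fun p : ℕ => c p * (d p : ℝ))
    (h : Bd N a b c d K.X) :
    ∑' x : ℕ × ℕ, (-1 : ℂ) ^ (x.1 + x.2) * tr (K.homology ((x.1 : ℤ), (x.2 : ℤ))) =
    ∑' x : ℕ × ℕ, (-1 : ℂ) ^ (x.1 + x.2) * tr (K.X ((x.1 : ℤ), (x.2 : ℤ))) := by
  have hH : Bd N a b c d (fun pq => K.homology pq) := Bd_homology K h
  have hI := Bd_image K h
  have sH := summable_F ha hc hsum hH
  have sI := summable_F ha hc hsum hI
  set W : ℤ × ℤ → ℂ := fun pq => sgn pq * bet K (pq - v) pq with hW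
  have sW : Summable W := sI
  have sWs : Summable (fun pq => W (pq + v)) := (Equiv.addRight v).summable_iff.mpr sW
  have hshift : ∑' pq, W (pq + v) = ∑' pq, W pq := (Equiv.addRight v).tsum_eq W
  have hstep : ∀ pq, sgn pq * tr (K.X pq) =
      sgn pq * tr (K.homology pq) + (W pq - W (pq + v)) := by
    intro pq
    have h1 := tr_X_eq K pq (h.2.1 pq)
    have h2 : W (pq + v) = - (sgn pq * bet K pq (pq + v)) := by
      show sgn (pq + v) * bet K (pq + v - v) (pq + v) = _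
      rw [add_sub_cancel_right, sgn_add v hv]
      ring
    rw [h2, h1]
    show _ = _ + (sgn pq * bet K (pq - v) pq - _)
    ring
  have e1 : ∑' pq, sgn pq * tr (K.X pq) = ∑' pq, sgn pq * tr (K.homology pq) := by
    rw [tsum_congr hstep, Summable.tsum_add sH (sW.sub sWs), Summable.tsum_sub sW sWs, hshift,
      sub_self, add_zero]
  have hX := tsum_F h
  have hHs := tsum_F hH
  calc ∑' x : ℕ × ℕ, (-1 : ℂ) ^ (x.1 + x.2) * tr (K.homology ((x.1 : ℤ), (x.2 : ℤ)))
      = ∑' pq : ℤ × ℤ, sgn pq * tr (K.homology pq) := hHs.symm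
    _ = ∑' pq : ℤ × ℤ, sgn pq * tr (K.X pq) := e1.symm
    _ = _ := hX

end Complex

section Pages

variable {N : ℕ} {a : ℕ → ℝ} {b : ℕ → ℕ} {c : ℕ → ℝ} {d : ℕ → ℕ}

theorem page_succ (E : E₂CohomologicalSpectralSequence (ModuleCat.{u} P)) (r : ℤ) (hr : 2 ≤ r)
    (ha : ∀ q, 0 ≤ a q) (hc : ∀ p, 0 ≤ c p)
    (hsum : Summable fun p : ℕ => c p * (d p : ℝ))
    (h : Bd N a b c d (E.page r hr).X) :
    Bd N a b c d (E.page (r + 1) (Int.le_add_one hr)).X ∧
    ∑' x : ℕ × ℕ, (-1 : ℂ) ^ (x.1 + x.2) *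
        tr ((E.page (r + 1) (Int.le_add_one hr)).X ((x.1 : ℤ), (x.2 : ℤ))) =
    ∑' x : ℕ × ℕ, (-1 : ℂ) ^ (x.1 + x.2) * tr ((E.page r hr).X ((x.1 : ℤ), (x.2 : ℤ))) := by
  have hH := Bd_homology (E.page r hr) h
  have hv : ((r, 1 - r) : ℤ × ℤ).1 + ((r, 1 - r) : ℤ × ℤ).2 = 1 := by
    show r + (1 - r) = 1
    ring
  refine ⟨Bd_of_subquot hH (fun pq => ⟨_, 𝟙 _, (E.iso r (r + 1) pq rfl hr).hom,
    fun x y hxy => hxy, (ModuleCat.epi_iff_surjective _).mp inferInstance⟩), ?_⟩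
  refine Eq.trans (tsum_congr fun x => ?_)
    (page_step (r, 1 - r) hv (E.page r hr) ha hc hsum h)
  rw [tr_iso (E.iso r (r + 1) ((x.1 : ℤ), (x.2 : ℤ)) rfl hr)]

theorem page_all (E : E₂CohomologicalSpectralSequence (ModuleCat.{u} P))
    (ha : ∀ q, 0 ≤ a q) (hc : ∀ p, 0 ≤ c p)
    (hsum : Summable fun p : ℕ => c p * (d p : ℝ))
    (h2 : Bd N a b c d (E.page 2 le_rfl).X) (r : ℤ) (hr : 2 ≤ r) :
    Bd N a b c d (E.page r hr).X ∧
    ∑' x : ℕ × ℕ, (-1 : ℂ) ^ (x.1 + x.2) * tr ((E.page r hr).X ((x.1 : ℤ), (x.2 : ℤ))) =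
    ∑' x : ℕ × ℕ, (-1 : ℂ) ^ (x.1 + x.2) *
      tr ((E.page 2 le_rfl).X ((x.1 : ℤ), (x.2 : ℤ))) := by
  induction r, hr using Int.leInduction with
  | base => exact ⟨h2, rfl⟩
  | succ r hr ih =>
    obtain ⟨hB, hA⟩ := ih
    obtain ⟨hB', hA'⟩ := page_succ E r hr ha hc hsum hB
    exact ⟨hB', hA'.trans hA⟩

theorem d_zero_of_large (E : E₂CohomologicalSpectralSequence (ModuleCat.{u} P)) (r : ℤ)
    (hr : 2 ≤ r) (hrN : (N : ℤ) + 2 ≤ r) (h : Bd N a b c d (E.page r hr).X) (pq : ℤ × ℤ) :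
    (E.page r hr).d (pq - (r, 1 - r)) pq = 0 ∧ (E.page r hr).d pq (pq + (r, 1 - r)) = 0 := by
  constructor
  · by_cases h0 : pq.1 < 0 ∨ pq.2 < 0
    · exact (h.isZero pq (by tauto)).eq_of_tgt _ _
    · push_neg at h0
      refine (h.isZero (pq - (r, 1 - r)) ?_).eq_of_src _ _
      simp only [Prod.fst_sub, Prod.snd_sub]
      right; right
      omega
  · by_cases h0 : pq.1 < 0 ∨ pq.2 < 0
    · exact (h.isZero pq (by tauto)).eq_of_src _ _
    · push_neg at h0
      by_cases h1 : (N : ℤ) < pq.2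
      · exact (h.isZero pq (Or.inr (Or.inr h1))).eq_of_src _ _
      · refine (h.isZero (pq + (r, 1 - r)) ?_).eq_of_tgt _ _
        simp only [Prod.fst_add, Prod.snd_add]
        right; left
        omega

theorem page_iso_of_d_zero (E : E₂CohomologicalSpectralSequence (ModuleCat.{u} P)) (pq : ℤ × ℤ)
    (r₁ : ℤ) (h₁ : 2 ≤ r₁)
    (hz : ∀ (r' : ℤ) (h : 2 ≤ r'), r₁ ≤ r' →
      (E.page r' h).d (pq - (r', 1 - r')) pq = 0 ∧ (E.page r' h).d pq (pq + (r', 1 - r')) = 0)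
    (m : ℤ) (hm : r₁ ≤ m) :
    Nonempty ((E.page m (h₁.trans hm)).X pq ≅ (E.page r₁ h₁).X pq) := by
  induction m, hm using Int.leInduction with
  | base => exact ⟨Iso.refl _⟩
  | succ m hm ih =>
    obtain ⟨e⟩ := ih
    obtain ⟨hz1, hz2⟩ := hz m (h₁.trans hm) hm
    have hprev : (ComplexShape.up' (⟨m, 1 - m⟩ : ℤ × ℤ)).prev pq = pq - (m, 1 - m) :=
      (ComplexShape.up' (⟨m, 1 - m⟩ : ℤ × ℤ)).prev_eq'
        (show pq - (m, 1 - m) + (m, 1 - m) = pq from sub_add_cancel _ _)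
    have hnext : (ComplexShape.up' (⟨m, 1 - m⟩ : ℤ × ℤ)).next pq = pq + (m, 1 - m) :=
      (ComplexShape.up' (⟨m, 1 - m⟩ : ℤ × ℤ)).next_eq'
        (show pq + (m, 1 - m) = pq + (m, 1 - m) from rfl)
    exact ⟨(E.iso m (m + 1) pq rfl (h₁.trans hm)).symm ≪≫
      ((E.page m (h₁.trans hm)).isoHomologyπ (pq - (m, 1 - m)) pq hprev hz1).symm ≪≫
      (E.page m (h₁.trans hm)).iCyclesIso pq (pq + (m, 1 - m)) hnext hz2 ≪≫ e⟩

end Pages

section Filtration

theorem fin_tr_filtration {Hn : ModuleCat.{u} P} (F : ℤ → Subobject Hn) (hF : Antitone F)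
    (a₀ b₀ : ℤ) (hab : a₀ ≤ b₀) (ha : F a₀ = ⊤) (hb : F b₀ = ⊥)
    (hgr : ∀ p, Module.Finite ℂ (rs.obj (SpSeq.grPiece F hF p))) :
    Module.Finite ℂ (rs.obj Hn) ∧
      tr Hn = ∑ p ∈ Finset.Ico a₀ b₀, tr (SpSeq.grPiece F hF p) := by
  have hfinstep : ∀ p : ℤ,
      Module.Finite ℂ (rs.obj ((F (p + 1) : Subobject Hn) : ModuleCat.{u} P)) →
      Module.Finite ℂ (rs.obj ((F p : Subobject Hn) : ModuleCat.{u} P)) := by
    intro p h1
    exact fin_of_cokernel ((F (p + 1)).ofLE (F p) (hF (Int.le_add_one le_rfl))) h1 (hgr p)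
  have hbot : Module.Finite ℂ (rs.obj ((F b₀ : Subobject Hn) : ModuleCat.{u} P)) := by
    rw [hb]
    exact fin_of_isZero (IsZero.of_iso (isZero_zero _) Subobject.botCoeIsoZero)
  have hall : ∀ k : ℕ,
      Module.Finite ℂ (rs.obj ((F (b₀ - (k : ℤ)) : Subobject Hn) : ModuleCat.{u} P)) := by
    intro k
    induction k with
    | zero =>
      have e0 : b₀ - ((0 : ℕ) : ℤ) = b₀ := by simp
      rw [e0]
      exact hbot
    | succ k ih =>
      have e : b₀ - ((k + 1 : ℕ) : ℤ) + 1 = b₀ - (k : ℤ) := by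
        push_cast
        ring
      apply hfinstep
      rw [e]
      exact ih
  have hHn : Module.Finite ℂ (rs.obj Hn) := by
    have h1 := hall (b₀ - a₀).toNat
    have e : b₀ - ((b₀ - a₀).toNat : ℤ) = a₀ := by
      rw [Int.toNat_of_nonneg (by omega)]
      ring
    rw [e, ha] at h1
    exact fin_of_iso (asIso (⊤ : Subobject Hn).arrow) h1
  have hfinF : ∀ p, Module.Finite ℂ (rs.obj ((F p : Subobject Hn) : ModuleCat.{u} P)) :=
    fun p => fin_of_inj (F p).arrow ((ModuleCat.mono_iff_injective _).mp inferInstance) hHn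
  have hstep : ∀ p : ℤ, tr ((F p : Subobject Hn) : ModuleCat.{u} P) =
      tr ((F (p + 1) : Subobject Hn) : ModuleCat.{u} P) + tr (SpSeq.grPiece F hF p) :=
    fun p => tr_add_cokernel ((F (p + 1)).ofLE (F p) (hF (Int.le_add_one le_rfl))) (hfinF p)
  have htel : ∀ (b : ℤ) (_ : a₀ ≤ b), tr ((F a₀ : Subobject Hn) : ModuleCat.{u} P) =
      (∑ p ∈ Finset.Ico a₀ b, tr (SpSeq.grPiece F hF p)) +
        tr ((F b : Subobject Hn) : ModuleCat.{u} P) := by
    intro b hb
    induction b, hb using Int.leInduction with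
    | base => simp
    | succ b hb ih =>
      rw [← Finset.insert_Ico_right_eq_Ico_add_one hb,
        Finset.sum_insert Finset.right_notMem_Ico, ih, hstep b]
      ring
  have htop : tr ((F a₀ : Subobject Hn) : ModuleCat.{u} P) = tr Hn := by
    rw [ha]
    exact tr_iso (asIso (⊤ : Subobject Hn).arrow)
  have hbot0 : tr ((F b₀ : Subobject Hn) : ModuleCat.{u} P) = 0 := by
    rw [hb]
    exact tr_of_isZero (IsZero.of_iso (isZero_zero _) Subobject.botCoeIsoZero)
  refine ⟨hHn, ?_⟩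
  rw [← htop, htel b₀ hab, hbot0, add_zero]

end Filtration

end

end Groth.Agent.Lib.Helper25.SpTrace
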