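import Mathlib
import Groth.Agent.Lib.Helper25.SpTrace

/-!
# The trace formula for a first-quadrant spectral sequence of `ℂ[X]`-modules with abutment
-/

set_option autoImplicit false
universe u
open CategoryTheory CategoryTheory.Limits
open SpSeq
open Groth.Agent.Lib.Helper25.SpTrace

namespace Groth.Agent.Lib.Helper25.SpAbut

noncomputable section

variable {N : ℕ} {a : ℕ → ℝ} {b : ℕ → ℕ} {c : ℕ → ℝ} {d : ℕ → ℕ}

/-- the equivalence `(n, p) ↦ (p, n - p)` -/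
def shear : ℤ × ℤ ≃ ℤ × ℤ where
  toFun np := (np.2, np.1 - np.2)
  invFun pq := (pq.1 + pq.2, pq.1)
  left_inv np := by
    apply Prod.ext
    · show np.2 + (np.1 - np.2) = np.1
      ring
    · rfl
  right_inv pq := by
    apply Prod.ext
    · rfl
    · show pq.1 + pq.2 - pq.1 = pq.2
      ring

/-- the signed trace function on `ℤ × ℤ` -/
def FF (Xf : ℤ × ℤ → ModuleCat.{u} P) : ℤ × ℤ → ℂ := fun pq => sgn pq * tr (Xf pq)

theorem abut_iso (E : E₂CohomologicalSpectralSequence (ModuleCat.{u} P))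
    (H : ℤ → ModuleCat.{u} P) (abut : SpSeq.Abutment E H) (R : ℤ) (hR : 2 ≤ R)
    (hRN : (N : ℤ) + 2 ≤ R)
    (hBall : ∀ (r : ℤ) (hr : 2 ≤ r), Bd N a b c d (E.page r hr).X) (pq : ℤ × ℤ) :
    Nonempty ((E.page R hR).X pq ≅
      grPiece (abut.fil (pq.1 + pq.2)) (abut.anti (pq.1 + pq.2)) pq.1) := by
  obtain ⟨e1⟩ := page_iso_of_d_zero E pq R hR
    (fun r' h hr' => d_zero_of_large E r' h (hRN.trans hr') (hBall r' h) pq)
    (max R (abut.rk pq)) (le_max_left _ _)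
  obtain ⟨e2⟩ := page_iso_of_d_zero E pq (abut.rk pq) (abut.stat pq).1
    (fun r' h hr' => (abut.stat pq).2 r' h hr')
    (max R (abut.rk pq)) (le_max_right _ _)
  exact ⟨e1.symm ≪≫ e2 ≪≫ abut.β pq⟩

theorem tr_abut (E : E₂CohomologicalSpectralSequence (ModuleCat.{u} P))
    (H : ℤ → ModuleCat.{u} P) (abut : SpSeq.Abutment E H) (hfin : ∀ n, abut.IsFinite n)
    (R : ℤ) (hR : 2 ≤ R) (hRN : (N : ℤ) + 2 ≤ R)
    (hBall : ∀ (r : ℤ) (hr : 2 ≤ r), Bd N a b c d (E.page r hr).X) (n : ℤ) :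
    Module.Finite ℂ (rs.obj (H n)) ∧
      tr (H n) = ∑' p : ℤ, tr ((E.page R hR).X (p, n - p)) := by
  classical
  have gi : ∀ (pq : ℤ × ℤ) (m : ℤ), pq.1 + pq.2 = m →
      Nonempty ((E.page R hR).X pq ≅ grPiece (abut.fil m) (abut.anti m) pq.1) := by
    rintro pq m rfl
    exact abut_iso E H abut R hR hRN hBall pq
  have gi' : ∀ p : ℤ, Nonempty ((E.page R hR).X (p, n - p) ≅
      grPiece (abut.fil n) (abut.anti n) p) :=
    fun p => gi (p, n - p) n (by
      show p + (n - p) = n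
      ring)
  obtain ⟨⟨a₀, ha₀⟩, ⟨b₁, hb₁⟩⟩ := hfin n
  change abut.fil n a₀ = ⊤ at ha₀
  change abut.fil n b₁ = ⊥ at hb₁
  have ha' : abut.fil n (min a₀ 0) = ⊤ := by
    have h1 : abut.fil n a₀ ≤ abut.fil n (min a₀ 0) := abut.anti n (min_le_left a₀ 0)
    rw [ha₀] at h1
    exact top_le_iff.mp h1
  have hb' : abut.fil n (max b₁ (max (n + 1) 0)) = ⊥ := by
    have h1 : abut.fil n (max b₁ (max (n + 1) 0)) ≤ abut.fil n b₁ :=
      abut.anti n (le_max_left _ _)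
    rw [hb₁] at h1
    exact le_bot_iff.mp h1
  have hab : min a₀ 0 ≤ max b₁ (max (n + 1) 0) :=
    calc min a₀ 0 ≤ 0 := min_le_right _ _
      _ ≤ max (n + 1) 0 := le_max_right _ _
      _ ≤ _ := le_max_right _ _
  have hBR := hBall R hR
  have hgr : ∀ p, Module.Finite ℂ (rs.obj (grPiece (abut.fil n) (abut.anti n) p)) := by
    intro p
    obtain ⟨e⟩ := gi' p
    exact fin_of_iso e (hBR.2.1 _)
  obtain ⟨hfinH, htr⟩ := fin_tr_filtration (abut.fil n) (abut.anti n) _ _ hab ha' hb' hgr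
  refine ⟨hfinH, ?_⟩
  rw [htr]
  have hterm : ∀ p, tr (grPiece (abut.fil n) (abut.anti n) p) =
      tr ((E.page R hR).X (p, n - p)) := by
    intro p
    obtain ⟨e⟩ := gi' p
    exact (tr_iso e).symm
  rw [Finset.sum_congr rfl (fun p _ => hterm p)]
  symm
  apply tsum_eq_sum
  intro p hp
  apply tr_of_isZero
  apply hBR.1
  rw [Finset.mem_Ico] at hp
  show p < 0 ∨ n - p < 0
  by_contra hcon
  push Not at hcon
  apply hp
  constructor
  · exact (min_le_right _ _).trans hcon.1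
  · have h1 : p < n + 1 := by omega
    exact lt_of_lt_of_le h1 ((le_max_left _ _).trans (le_max_right _ _))

theorem main (E : E₂CohomologicalSpectralSequence (ModuleCat.{u} P))
    (H : ℤ → ModuleCat.{u} P) (abut : SpSeq.Abutment E H) (hfin : ∀ n, abut.IsFinite n)
    (ha : ∀ q, 0 ≤ a q) (hc : ∀ p, 0 ≤ c p)
    (hsum : Summable fun p : ℕ => c p * (d p : ℝ))
    (hB2 : Bd N a b c d (E.page 2 le_rfl).X) :
    Summable (fun n : ℕ => ‖tr (H (n : ℤ))‖) ∧
    ∑' n : ℕ, (-1 : ℂ) ^ n * tr (H (n : ℤ)) =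
      ∑' x : ℕ × ℕ, (-1 : ℂ) ^ (x.1 + x.2) *
        tr ((E.page 2 le_rfl).X ((x.1 : ℤ), (x.2 : ℤ))) := by
  have hall := page_all E ha hc hsum hB2
  have hR : (2 : ℤ) ≤ (N : ℤ) + 2 := by omega
  have hBall : ∀ (r : ℤ) (hr : 2 ≤ r), Bd N a b c d (E.page r hr).X :=
    fun r hr => (hall r hr).1
  have hBR := hBall ((N : ℤ) + 2) hR
  have hAR := (hall ((N : ℤ) + 2) hR).2
  have hab := fun n : ℤ => tr_abut E H abut hfin ((N : ℤ) + 2) hR le_rfl hBall n
  have sF : Summable (FF (E.page ((N : ℤ) + 2) hR).X) := summable_F ha hc hsum hBR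
  have sFe : Summable (FF (E.page ((N : ℤ) + 2) hR).X ∘ shear) := shear.summable_iff.mpr sF
  have hn : ∀ n : ℤ, ∑' p : ℤ, (FF (E.page ((N : ℤ) + 2) hR).X ∘ shear) (n, p) =
      (-1 : ℂ) ^ n * tr (H n) := by
    intro n
    rw [(hab n).2, ← tsum_mul_left]
    refine tsum_congr (fun p => ?_)
    show sgn (p, n - p) * tr ((E.page ((N : ℤ) + 2) hR).X (p, n - p)) = _
    congr 1
    show (-1 : ℂ) ^ (p + (n - p)) = (-1 : ℂ) ^ n
    congr 1
    ring
  have htot : ∑' n : ℤ, (-1 : ℂ) ^ n * tr (H n) =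
      ∑' pq, FF (E.page ((N : ℤ) + 2) hR).X pq :=
    calc ∑' n : ℤ, (-1 : ℂ) ^ n * tr (H n)
        = ∑' n : ℤ, ∑' p : ℤ, (FF (E.page ((N : ℤ) + 2) hR).X ∘ shear) (n, p) :=
          (tsum_congr hn).symm
      _ = ∑' np : ℤ × ℤ, (FF (E.page ((N : ℤ) + 2) hR).X ∘ shear) np :=
          (Summable.tsum_prod sFe).symm
      _ = ∑' pq, FF (E.page ((N : ℤ) + 2) hR).X pq :=
          shear.tsum_eq (FF (E.page ((N : ℤ) + 2) hR).X)
  have hneg : ∀ n : ℤ, n < 0 → tr (H n) = 0 := by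
    intro n hn0
    have h0 : ∀ p : ℤ, tr ((E.page ((N : ℤ) + 2) hR).X (p, n - p)) = 0 := fun p =>
      tr_of_isZero (hBR.1 _ (by
        show p < 0 ∨ n - p < 0
        omega))
    rw [(hab n).2, tsum_congr h0, tsum_zero]
  have hnat : ∑' k : ℕ, (-1 : ℂ) ^ k * tr (H (k : ℤ)) =
      ∑' n : ℤ, (-1 : ℂ) ^ n * tr (H n) := by
    have hsup : Function.support (fun n : ℤ => (-1 : ℂ) ^ n * tr (H n)) ⊆
        Set.range (Nat.cast : ℕ → ℤ) := by
      intro n hn'
      by_contra hcon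
      apply hn'
      have hlt : n < 0 := by
        by_contra h0
        push Not at h0
        exact hcon ⟨n.toNat, Int.toNat_of_nonneg h0⟩
      show (-1 : ℂ) ^ n * tr (H n) = 0
      rw [hneg n hlt, mul_zero]
    rw [← Nat.cast_injective.tsum_eq hsup]
    refine tsum_congr (fun k => ?_)
    rw [zpow_natCast]
  refine ⟨?_, ?_⟩
  · have sNorm : Summable (fun np : ℤ × ℤ => ‖(FF (E.page ((N : ℤ) + 2) hR).X ∘ shear) np‖) :=
      summable_norm_iff.mpr sFe
    have s1 : Summable (fun n : ℤ =>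
        ∑' p : ℤ, ‖(FF (E.page ((N : ℤ) + 2) hR).X ∘ shear) (n, p)‖) := sNorm.prod
    have s2 : Summable (fun n : ℤ => ‖tr (H n)‖) := by
      refine Summable.of_nonneg_of_le (fun n => norm_nonneg _) (fun n => ?_) s1
      have e : ‖tr (H n)‖ = ‖∑' p : ℤ, (FF (E.page ((N : ℤ) + 2) hR).X ∘ shear) (n, p)‖ := by
        rw [hn n, norm_mul, norm_zpow, norm_neg, norm_one, one_zpow, one_mul]
      rw [e]
      exact norm_tsum_le_tsum_norm (sNorm.prod_factor n)
    exact s2.comp_injective Nat.cast_injective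
  · rw [hnat, htot]
    exact (tsum_F hBR).trans hAR

end

end Groth.Agent.Lib.Helper25.SpAbut
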