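import Mathlib

/-!
# An algebra as the directed colimit of its finitely generated subalgebras; kernels of retractions
-/

set_option autoImplicit false
universe u
open CategoryTheory Limits

namespace Groth.Agent.Lib.Helper25.SubalgColim

noncomputable section

variable (R A : Type u) [CommRing R] [CommRing A] [Algebra R A]

/-- finitely generated subalgebras -/
def Idx : Type u := {S : Subalgebra R A // S.FG}

instance : Preorder (Idx R A) := Subtype.preorder _

instance : Nonempty (Idx R A) := ⟨⟨⊥, Subalgebra.fg_bot⟩⟩

instance : IsDirected (Idx R A) (· ≤ ·) where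
  directed S T := ⟨⟨S.1 ⊔ T.1, Subalgebra.FG.sup S.2 T.2⟩,
    le_sup_left (a := S.1) (b := T.1), le_sup_right (a := S.1) (b := T.1)⟩

/-- the diagram of finitely generated subalgebras -/
def F : Idx R A ⥤ Under (CommRingCat.of R) where
  obj S := Under.mk (CommRingCat.ofHom (algebraMap R S.1))
  map {S T} h := Under.homMk
    (CommRingCat.ofHom (Subalgebra.inclusion (S := S.1) (T := T.1) (leOfHom h)).toRingHom) (by
      ext a
      rfl)
  map_id S := by
    apply Under.UnderMorphism.ext
    apply CommRingCat.hom_ext
    apply RingHom.ext
    intro x
    rfl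
  map_comp f g := by
    apply Under.UnderMorphism.ext
    apply CommRingCat.hom_ext
    apply RingHom.ext
    intro x
    rfl

/-- the cocone of inclusions -/
def cocone : Cocone (F R A) where
  pt := Under.mk (CommRingCat.ofHom (algebraMap R A))
  ι :=
    { app := fun S => Under.homMk (CommRingCat.ofHom S.1.val.toRingHom) (by
        ext a
        rfl)
      naturality := by
        intro S T h
        apply Under.UnderMorphism.ext
        apply CommRingCat.hom_ext
        apply RingHom.ext
        intro x
        rfl }

attribute [local instance] IsFiltered.isConnected in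
theorem isColimit : Nonempty (IsColimit (cocone R A)) := by
  have h1 : IsColimit ((forget CommRingCat).mapCocone
      ((Under.forget (CommRingCat.of R)).mapCocone (cocone R A))) := by
    apply Types.FilteredColimit.isColimitOf'
    · intro (a : A)
      refine ⟨⟨Algebra.adjoin R {a}, ?_⟩, ⟨a, Algebra.subset_adjoin rfl⟩, rfl⟩
      have h0 := Subalgebra.fg_adjoin_finset (R := R) ({a} : Finset A)
      rw [Finset.coe_singleton] at h0
      exact h0
    · intro S (x : S.1) (y : S.1) (hxy : (x : A) = (y : A))
      obtain rfl : x = y := Subtype.ext hxy
      exact ⟨S, 𝟙 S, rfl⟩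
  haveI : ReflectsColimit (F R A ⋙ Under.forget (CommRingCat.of R)) (forget CommRingCat) :=
    reflectsColimit_of_reflectsIsomorphisms _ _
  have h2 : IsColimit ((Under.forget (CommRingCat.of R)).mapCocone (cocone R A)) :=
    isColimitOfReflects (forget CommRingCat) h1
  exact ⟨isColimitOfReflects (Under.forget (CommRingCat.of R)) h2⟩

end

/-- The kernel of a retraction of algebras is generated by the differences `g - s (r g)` for `g`
running over algebra generators of the source. -/
theorem ker_fg_of_section {R C B : Type*} [CommRing R] [CommRing C] [CommRing B] [Algebra R C]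
    [Algebra R B] (r : C →ₐ[R] B) (s : B →ₐ[R] C) (hrs : ∀ b, r (s b) = b)
    (G : Set C) (hGfin : G.Finite) (hG : Algebra.adjoin R G = ⊤) :
    (RingHom.ker r.toRingHom).FG := by
  have key : ∀ c : C, c - s (r c) ∈ Ideal.span ((fun g => g - s (r g)) '' G) := by
    intro c
    have hcmem : c ∈ Algebra.adjoin R G := by
      rw [hG]
      trivial
    induction hcmem using Algebra.adjoin_induction with
    | mem x hx => exact Ideal.subset_span ⟨x, hx, rfl⟩
    | algebraMap a =>
      rw [AlgHom.commutes, AlgHom.commutes, sub_self]
      exact Ideal.zero_mem _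
    | add x y _ _ hx hy =>
      have e : x + y - s (r (x + y)) = (x - s (r x)) + (y - s (r y)) := by
        rw [map_add, map_add]
        ring
      rw [e]
      exact Ideal.add_mem _ hx hy
    | mul x y _ _ hx hy =>
      have e : x * y - s (r (x * y)) = x * (y - s (r y)) + s (r y) * (x - s (r x)) := by
        rw [map_mul, map_mul]
        ring
      rw [e]
      exact Ideal.add_mem _ (Ideal.mul_mem_left _ _ hy) (Ideal.mul_mem_left _ _ hx)
  have hK : RingHom.ker r.toRingHom = Ideal.span ((fun g => g - s (r g)) '' G) := by
    apply le_antisymm
    · intro c hc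
      have hc0 : r c = 0 := RingHom.mem_ker.mp hc
      have h1 := key c
      rwa [hc0, map_zero, sub_zero] at h1
    · rw [Ideal.span_le]
      rintro _ ⟨g, _, rfl⟩
      show r (g - s (r g)) = 0
      rw [map_sub, hrs, sub_self]
  rw [hK]
  exact Submodule.fg_span (hGfin.image _)

end Groth.Agent.Lib.Helper25.SubalgColim
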