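import Mathlib
import Groth.Prelude.Def_Adeq
import Groth.Prelude.Def_W4stkadequateTF

/-!
# Tangent functors of module-valued functors: elementwise API and exactness lemmas
-/

set_option autoImplicit false
universe u

open CategoryTheory

namespace Groth.Agent.Lib.Helper25.TangentMVF

variable {A : Type u} [CommRing A] (B : Adeq.Alg A)

section Alg

lemma inl_fst (N : ModuleCat.{u} B) : AdeqTF.inl B N ≫ AdeqTF.fst B N = 𝟙 B := by
  apply CommAlgCat.hom_ext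
  refine AlgHom.ext fun x => ?_
  show TrivSqZeroExt.fst (algebraMap (B : Type u) (TrivSqZeroExt (B : Type u) N) x) = x
  rfl

lemma map_map_of_zero {N₁ N N₂ : ModuleCat.{u} B} (f : N₁ ⟶ N) (g : N ⟶ N₂) (h : f ≫ g = 0) :
    AdeqTF.map B f ≫ AdeqTF.map B g = AdeqTF.fst B N₁ ≫ AdeqTF.inl B N₂ := by
  apply CommAlgCat.hom_ext
  refine AlgHom.ext fun x => ?_
  show TrivSqZeroExt.map g.hom (TrivSqZeroExt.map f.hom x) =
    algebraMap (B : Type u) (TrivSqZeroExt (B : Type u) N₂) (TrivSqZeroExt.fst x)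
  apply TrivSqZeroExt.ext
  · rw [TrivSqZeroExt.fst_map, TrivSqZeroExt.fst_map]; rfl
  · rw [TrivSqZeroExt.snd_map, TrivSqZeroExt.snd_map]
    have h2 : g.hom (f.hom (TrivSqZeroExt.snd x)) = 0 :=
      congrArg (fun k => k.hom (TrivSqZeroExt.snd x)) h
    rw [h2]; rfl

end Alg

section Elem

variable (F : Adeq.MVF A)

lemma rs_comp {X Y Z : (Adeq.Alg A)ᵒᵖᵒᵖ} (f : X ⟶ Y) (g : Y ⟶ Z) (x : F.obj X) :
    F.restrictₛₗ (f ≫ g) x = F.restrictₛₗ g (F.restrictₛₗ f x) :=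
  F.map_comp_apply f g x

lemma rs_congr {X Y : (Adeq.Alg A)ᵒᵖᵒᵖ} {f g : X ⟶ Y} (e : f = g) (x : F.obj X) :
    F.restrictₛₗ f x = F.restrictₛₗ g x := by rw [e]

lemma rs_id (X : (Adeq.Alg A)ᵒᵖᵒᵖ) (z : F.obj X) : F.restrictₛₗ (𝟙 X) z = z := by
  show F.map (𝟙 X) z = z
  rw [F.map_id]; rfl

lemma retract (N : ModuleCat.{u} B) (z : F.obj (Adeq.pt B)) :
    F.restrictₛₗ (Adeq.ptHom (AdeqTF.fst B N)) (F.restrictₛₗ (Adeq.ptHom (AdeqTF.inl B N)) z) = z := by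
  rw [← rs_comp]
  have e : Adeq.ptHom (AdeqTF.inl B N) ≫ Adeq.ptHom (AdeqTF.fst B N) = 𝟙 (Adeq.pt B) :=
    congrArg Adeq.ptHom (inl_fst B N)
  rw [rs_congr F e, rs_id]

lemma mem_tangent {N : ModuleCat.{u} B} (x : F.obj (Adeq.pt (AdeqTF.ext B N))) :
    x ∈ AdeqTF.tangent B N F ↔ F.restrictₛₗ (Adeq.ptHom (AdeqTF.fst B N)) x = 0 := Iff.rfl

lemma tangentMap_coe {N N' : ModuleCat.{u} B} (g : N ⟶ N') (x : AdeqTF.tangent B N F) :
    ((AdeqTF.tangentMap B F g x : AdeqTF.tangent B N' F) : F.obj (Adeq.pt (AdeqTF.ext B N'))) =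
      F.restrictₛₗ (Adeq.ptHom (AdeqTF.map B g)) x.1 := rfl

lemma tangentMap_comp_zero {N₁ N N₂ : ModuleCat.{u} B} (f : N₁ ⟶ N) (g : N ⟶ N₂)
    (h : f ≫ g = 0) (x : AdeqTF.tangent B N₁ F) :
    AdeqTF.tangentMap B F g (AdeqTF.tangentMap B F f x) = 0 := by
  apply Subtype.ext
  rw [tangentMap_coe, tangentMap_coe, ← rs_comp]
  have e : Adeq.ptHom (AdeqTF.map B f) ≫ Adeq.ptHom (AdeqTF.map B g) =
      Adeq.ptHom (AdeqTF.fst B N₁) ≫ Adeq.ptHom (AdeqTF.inl B N₂) :=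
    congrArg Adeq.ptHom (map_map_of_zero B f g h)
  rw [rs_congr F e, rs_comp, (mem_tangent B F x.1).mp x.2, map_zero]
  rfl

end Elem

section Nat

variable {F G H : Adeq.MVF A}

lemma rs_nat (φ : F ⟶ G) {X Y : (Adeq.Alg A)ᵒᵖᵒᵖ} (g : X ⟶ Y) (x : F.obj X) :
    (φ.app Y).hom (F.restrictₛₗ g x) = G.restrictₛₗ g ((φ.app X).hom x) :=
  PresheafOfModules.naturality_apply φ g x

lemma app_mem (φ : F ⟶ G) {N : ModuleCat.{u} B} (x : AdeqTF.tangent B N F) :
    (φ.app _).hom x.1 ∈ AdeqTF.tangent B N G := by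
  rw [mem_tangent, ← rs_nat, (mem_tangent B F x.1).mp x.2, map_zero]

/-- the map induced on tangent modules by a morphism of module-valued functors -/
noncomputable def tmap (φ : F ⟶ G) (N : ModuleCat.{u} B) :
    AdeqTF.tangent B N F →+ AdeqTF.tangent B N G :=
  ((φ.app (Adeq.pt (AdeqTF.ext B N))).hom.toAddMonoidHom.comp
    (AdeqTF.tangent B N F).subtype).codRestrict (AdeqTF.tangent B N G) (fun x => app_mem B φ x)

lemma tmap_coe (φ : F ⟶ G) (N : ModuleCat.{u} B) (x : AdeqTF.tangent B N F) :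
    (tmap B φ N x : G.obj (Adeq.pt (AdeqTF.ext B N))) = (φ.app _).hom x.1 := rfl

lemma tmap_nat (φ : F ⟶ G) {N N' : ModuleCat.{u} B} (g : N ⟶ N') (x : AdeqTF.tangent B N F) :
    tmap B φ N' (AdeqTF.tangentMap B F g x) = AdeqTF.tangentMap B G g (tmap B φ N x) :=
  Subtype.ext (rs_nat φ _ x.1)

lemma tmap_surj (φ : G ⟶ H) [Epi φ] (N : ModuleCat.{u} B) : Function.Surjective (tmap B φ N) := by
  intro y
  obtain ⟨x₀, hx₀⟩ := PresheafOfModules.surjective_of_epi φ _ y.1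
  have hx₀' : (φ.app _).hom x₀ = y.1 := hx₀
  have hy : H.restrictₛₗ (Adeq.ptHom (AdeqTF.fst B N)) y.1 = 0 := y.2
  have hxm : x₀ - G.restrictₛₗ (Adeq.ptHom (AdeqTF.inl B N))
      (G.restrictₛₗ (Adeq.ptHom (AdeqTF.fst B N)) x₀) ∈ AdeqTF.tangent B N G := by
    rw [mem_tangent, map_sub, retract, sub_self]
  refine ⟨⟨_, hxm⟩, Subtype.ext ?_⟩
  rw [tmap_coe, map_sub, rs_nat, rs_nat, hx₀', hy, map_zero, sub_zero]

lemma tmap_inj (φ : F ⟶ G) [Mono φ] (N : ModuleCat.{u} B) : Function.Injective (tmap B φ N) :=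
  fun _ _ h => Subtype.ext (PresheafOfModules.injective_of_mono φ _ (congrArg Subtype.val h))

lemma exact_app (C : ShortComplex (Adeq.MVF A)) (hC : C.ShortExact) (X : (Adeq.Alg A)ᵒᵖᵒᵖ)
    (y : C.X₂.obj X) (hy : (C.g.app X).hom y = 0) : ∃ x : C.X₁.obj X, (C.f.app X).hom x = y := by
  let E := PresheafOfModules.evaluation.{u + 1} (Adeq.ringOf A) X
  haveI : E.Additive := { map_add := rfl }
  haveI : Limits.PreservesFiniteLimits E := PresheafOfModules.evaluation_preservesFiniteLimits.{u + 1} (Adeq.ringOf A) X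
  haveI : Limits.PreservesFiniteColimits E :=
    PresheafOfModules.Finite.evaluation_preservesFiniteColimits.{u + 1} (Adeq.ringOf A) X
  exact (ShortComplex.moduleCat_exact_iff _).mp (hC.exact.map E) y hy

lemma tmap_exact (C : ShortComplex (Adeq.MVF A)) (hC : C.ShortExact) (N : ModuleCat.{u} B)
    (y : AdeqTF.tangent B N C.X₂) (hy : tmap B C.g N y = 0) : ∃ x, tmap B C.f N x = y := by
  have hy' : (C.g.app _).hom y.1 = 0 := congrArg Subtype.val hy
  obtain ⟨x, hx⟩ := exact_app C hC _ y.1 hy'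
  have := hC.mono_f
  have hinj : Function.Injective (C.f.app (Adeq.pt B)).hom :=
    PresheafOfModules.injective_of_mono C.f (Adeq.pt B)
  have hxm : x ∈ AdeqTF.tangent B N C.X₁ := by
    rw [mem_tangent]
    apply hinj
    rw [rs_nat, hx, map_zero]
    exact y.2
  exact ⟨⟨x, hxm⟩, Subtype.ext hx⟩

lemma tmap_zero (C : ShortComplex (Adeq.MVF A)) (N : ModuleCat.{u} B)
    (x : AdeqTF.tangent B N C.X₁) : tmap B C.g N (tmap B C.f N x) = 0 := by
  apply Subtype.ext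
  have h := congrArg (fun k => (k.app (Adeq.pt (AdeqTF.ext B N))).hom x.1) C.zero
  exact h

end Nat

end Groth.Agent.Lib.Helper25.TangentMVF
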