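import Mathlib

/-!
# Low-order coefficient calculus for power series over `ℚ` (helper25)

Used for the `MoretBailly.coeff_*_toddProduct` statements: coefficients `0..3` of products, inverses,
`bernoulli'PowerSeries ℚ`, `exp ℚ`.
-/

set_option autoImplicit false

namespace Groth.Agent.Lib.Helper25.Todd

open PowerSeries

variable {R : Type*} [CommRing R]

theorem coeff_mul_0 (f g : R⟦X⟧) : coeff 0 (f * g) = coeff 0 f * coeff 0 g := by
  simp [coeff_mul]

theorem coeff_mul_1 (f g : R⟦X⟧) :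
    coeff 1 (f * g) = coeff 0 f * coeff 1 g + coeff 1 f * coeff 0 g := by
  simp [coeff_mul, Finset.Nat.antidiagonal_succ]

theorem coeff_mul_2 (f g : R⟦X⟧) :
    coeff 2 (f * g) = coeff 0 f * coeff 2 g + coeff 1 f * coeff 1 g + coeff 2 f * coeff 0 g := by
  simp [coeff_mul, Finset.Nat.antidiagonal_succ]
  ring

theorem coeff_mul_3 (f g : R⟦X⟧) :
    coeff 3 (f * g) = coeff 0 f * coeff 3 g + coeff 1 f * coeff 2 g + coeff 2 f * coeff 1 g +
      coeff 3 f * coeff 0 g := by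
  simp [coeff_mul, Finset.Nat.antidiagonal_succ]
  ring

theorem coeff_bern_0 : coeff 0 (bernoulli'PowerSeries ℚ) = 1 := by
  simp [bernoulli'PowerSeries]

theorem coeff_bern_1 : coeff 1 (bernoulli'PowerSeries ℚ) = 1 / 2 := by
  simp [bernoulli'PowerSeries]

theorem coeff_bern_2 : coeff 2 (bernoulli'PowerSeries ℚ) = 1 / 12 := by
  simp [bernoulli'PowerSeries, bernoulli'_two, Nat.factorial]
  norm_num

theorem coeff_bern_3 : coeff 3 (bernoulli'PowerSeries ℚ) = 0 := by
  simp [bernoulli'PowerSeries, bernoulli'_three]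

theorem coeff_exp_0 : coeff 0 (exp ℚ) = 1 := by simp [coeff_exp]
theorem coeff_exp_1 : coeff 1 (exp ℚ) = 1 := by simp [coeff_exp]
theorem coeff_exp_2 : coeff 2 (exp ℚ) = 1 / 2 := by simp [coeff_exp, Nat.factorial]
theorem coeff_exp_3 : coeff 3 (exp ℚ) = 1 / 6 := by
  simp [coeff_exp, Nat.factorial]

/-- coefficients of the inverse of a power series with constant coefficient `1` -/
theorem coeff_inv_low (f : ℚ⟦X⟧) (h0 : coeff 0 f = 1) :
    coeff 0 f⁻¹ = 1 ∧ coeff 1 f⁻¹ = -coeff 1 f ∧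
    coeff 2 f⁻¹ = (coeff 1 f) ^ 2 - coeff 2 f ∧
    coeff 3 f⁻¹ = 2 * coeff 1 f * coeff 2 f - (coeff 1 f) ^ 3 - coeff 3 f := by
  have hc : constantCoeff f ≠ 0 := by
    rw [← coeff_zero_eq_constantCoeff_apply, h0]; exact one_ne_zero
  have h := PowerSeries.inv_mul_cancel f hc
  have e0 := congrArg (coeff 0) h
  have e1 := congrArg (coeff 1) h
  have e2 := congrArg (coeff 2) h
  have e3 := congrArg (coeff 3) h
  rw [coeff_mul_0] at e0
  rw [coeff_mul_1] at e1
  rw [coeff_mul_2] at e2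
  rw [coeff_mul_3] at e3
  have o0 : coeff 0 (1 : ℚ⟦X⟧) = 1 := by simp
  have o1 : coeff 1 (1 : ℚ⟦X⟧) = 0 := by rw [coeff_one]; simp
  have o2 : coeff 2 (1 : ℚ⟦X⟧) = 0 := by rw [coeff_one]; simp
  have o3 : coeff 3 (1 : ℚ⟦X⟧) = 0 := by rw [coeff_one]; simp
  rw [o0] at e0
  rw [o1] at e1
  rw [o2] at e2
  rw [o3] at e3
  rw [h0] at e0 e1 e2 e3
  generalize coeff 0 f⁻¹ = a0 at *
  generalize coeff 1 f⁻¹ = a1 at *
  generalize coeff 2 f⁻¹ = a2 at *
  generalize coeff 3 f⁻¹ = a3 at *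
  generalize coeff 1 f = f1 at *
  generalize coeff 2 f = f2 at *
  generalize coeff 3 f = f3 at *
  have ha0 : a0 = 1 := by linarith
  subst ha0
  have ha1 : a1 = -f1 := by linarith
  subst ha1
  have ha2 : a2 = f1 ^ 2 - f2 := by linear_combination e2
  subst ha2
  refine ⟨rfl, rfl, rfl, ?_⟩
  linear_combination e3

end Groth.Agent.Lib.Helper25.Todd
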