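import Groth.Agent.Lib.Helper25.TwKoszRing

/-!
# Algebra behind the cartesian square for `Tor` of divisors twisted by a divisor

Pure commutative algebra: exterior powers of a map which is `x` times an isomorphism, and the
diagram chase comparing the homology of two complexes related by such maps.
-/

set_option autoImplicit false

namespace Groth.Agent.Lib.Helper25.TorAlg

open Groth.Agent.Lib.Helper25.TwKoszRing

section Ring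

variable {R : Type*} [CommRing R] {M : Type*} [AddCommGroup M] [Module R M]
  {N : Type*} [AddCommGroup N] [Module R N]

theorem pow_nzd (x : R) (hx : ∀ r : R, r * x = 0 → r = 0) (p : ℕ) :
    ∀ r : R, r * x ^ p = 0 → r = 0 := by
  induction p with
  | zero => intro r hr; rwa [pow_zero, mul_one] at hr
  | succ p ih =>
    intro r hr
    rw [pow_succ, ← mul_assoc] at hr
    exact ih r (hx _ hr)

theorem pow_smul_eq_zero (x : R) (hx : ∀ m : M, x • m = 0 → m = 0) (p : ℕ) :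
    ∀ m : M, x ^ p • m = 0 → m = 0 := by
  induction p with
  | zero => intro m hm; rwa [pow_zero, one_smul] at hm
  | succ p ih =>
    intro m hm
    rw [pow_succ, mul_smul] at hm
    exact hx m (ih _ hm)

theorem smul_eq_zero_of_projective [Module.Projective R M] (a : R)
    (ha : ∀ r : R, r * a = 0 → r = 0) (m : M) (hm : a • m = 0) : m = 0 := by
  obtain ⟨s, hs⟩ := Module.projective_def'.1 (inferInstance : Module.Projective R M)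
  have h1 : s m = 0 := by
    refine Finsupp.ext (fun i => ?_)
    have h2 : (s (a • m)) i = 0 := by rw [hm, map_zero]; rfl
    rw [map_smul, Finsupp.smul_apply, smul_eq_mul, mul_comm] at h2
    exact ha _ h2
  have h3 := LinearMap.congr_fun hs m
  rw [LinearMap.comp_apply, h1, map_zero, LinearMap.id_apply] at h3
  exact h3.symm

theorem map_smul_pow (k : ℕ) (c : R) (f : M →ₗ[R] N) :
    exteriorPower.map k (c • f) = c ^ k • exteriorPower.map k f := by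
  apply exteriorPower.linearMap_ext
  ext v
  simp only [LinearMap.compAlternatingMap_apply, exteriorPower.map_apply_ιMulti,
    LinearMap.smul_apply]
  have h1 := (exteriorPower.ιMulti R k (M := N)).toMultilinearMap.map_smul_univ
    (fun _ : Fin k => c) (f ∘ v)
  simp only [Finset.prod_const, Finset.card_univ, Fintype.card_fin] at h1
  exact congrArg Subtype.val h1

/-- exterior powers of a map which is `x` times an isomorphism onto a projective module -/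
theorem extPow_scaled [Module.Projective R N] (x : R) (hx : ∀ r : R, r * x = 0 → r = 0)
    (g : M →ₗ[R] N) (hinj : Function.Injective g) (hex : ∀ n : N, ∃ m : M, g m = x • n)
    (him : ∀ m : M, ∃ n : N, g m = x • n) (p : ℕ) :
    Function.Injective (exteriorPower.map p g) ∧
      (∀ y : ⋀[R]^p N, ∃ y' : ⋀[R]^p M, exteriorPower.map p g y' = x ^ p • y) ∧
      (∀ y' : ⋀[R]^p M, ∃ y : ⋀[R]^p N, exteriorPower.map p g y' = x ^ p • y) := by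
  classical
  have hxN : ∀ n : N, x • n = 0 → n = 0 := fun n hn => smul_eq_zero_of_projective x hx n hn
  have hxN' : ∀ n₁ n₂ : N, x • n₁ = x • n₂ → n₁ = n₂ := fun n₁ n₂ h =>
    sub_eq_zero.mp (hxN _ (by rw [smul_sub, h, sub_self]))
  choose θ hθ using him
  let θl : M →ₗ[R] N :=
    { toFun := θ
      map_add' := fun a b => hxN' _ _ (by
        rw [← hθ, map_add, hθ a, hθ b, smul_add])
      map_smul' := fun r a => hxN' _ _ (by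
        show x • θ (r • a) = x • (r • θ a)
        rw [← hθ, map_smul, hθ a, smul_comm]) }
  have hθinj : Function.Injective θl := fun a b h => hinj (by
    rw [hθ a, hθ b]; exact congrArg (fun t => x • t) h)
  have hθsurj : Function.Surjective θl := fun n => by
    obtain ⟨m, hm⟩ := hex n
    exact ⟨m, hxN' _ _ ((hθ m).symm.trans hm)⟩
  let e : M ≃ₗ[R] N := LinearEquiv.ofBijective θl ⟨hθinj, hθsurj⟩
  have hg : g = x • e.toLinearMap := by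
    ext m
    have h1 : e m = θ m := rfl
    rw [LinearMap.smul_apply, LinearEquiv.coe_coe, h1]
    exact hθ m
  have hmap : exteriorPower.map p g = x ^ p • exteriorPower.map p e.toLinearMap := by
    rw [hg, map_smul_pow]
  have h1 : exteriorPower.map p e.toLinearMap ∘ₗ exteriorPower.map p e.symm.toLinearMap =
      LinearMap.id := by
    have h0 : e.toLinearMap ∘ₗ e.symm.toLinearMap = LinearMap.id := by ext n; simp
    rw [← exteriorPower.map_comp, h0, exteriorPower.map_id]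
  have h2 : exteriorPower.map p e.symm.toLinearMap ∘ₗ exteriorPower.map p e.toLinearMap =
      LinearMap.id := by
    have h0 : e.symm.toLinearMap ∘ₗ e.toLinearMap = LinearMap.id := by ext n; simp
    rw [← exteriorPower.map_comp, h0, exteriorPower.map_id]
  have hxp := pow_nzd x hx p
  refine ⟨?_, ?_, ?_⟩
  · rw [injective_iff_map_eq_zero]
    intro y' hy'
    rw [hmap, LinearMap.smul_apply] at hy'
    have h3 := extPow_smul_eq_zero (x ^ p) hxp p _ hy'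
    have h4 := LinearMap.congr_fun h2 y'
    rw [LinearMap.comp_apply, h3, map_zero, LinearMap.id_apply] at h4
    exact h4.symm
  · intro y
    refine ⟨exteriorPower.map p e.symm.toLinearMap y, ?_⟩
    have h4 := LinearMap.congr_fun h1 y
    rw [LinearMap.comp_apply, LinearMap.id_apply] at h4
    rw [hmap, LinearMap.smul_apply, h4]
  · intro y'
    exact ⟨exteriorPower.map p e.toLinearMap y', by rw [hmap, LinearMap.smul_apply]⟩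

end Ring

section Core

/-- the linear maps of the local situation -/
structure Maps (R : Type*) [CommRing R] (K1' K0' Km' Zc' H' K1 K0 Km Zc H ZD HD P : Type*)
    [AddCommGroup K1'] [Module R K1'] [AddCommGroup K0'] [Module R K0']
    [AddCommGroup Km'] [Module R Km'] [AddCommGroup Zc'] [Module R Zc']
    [AddCommGroup H'] [Module R H'] [AddCommGroup K1] [Module R K1]
    [AddCommGroup K0] [Module R K0] [AddCommGroup Km] [Module R Km]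
    [AddCommGroup Zc] [Module R Zc] [AddCommGroup H] [Module R H]
    [AddCommGroup ZD] [Module R ZD] [AddCommGroup HD] [Module R HD]
    [AddCommGroup P] [Module R P] where
  d1p : K1' →ₗ[R] K0'
  d0p : K0' →ₗ[R] Km'
  ip : Zc' →ₗ[R] K0'
  tp : K1' →ₗ[R] Zc'
  toHp : Zc' →ₗ[R] H'
  d1 : K1 →ₗ[R] K0
  d0 : K0 →ₗ[R] Km
  i : Zc →ₗ[R] K0
  t : K1 →ₗ[R] Zc
  toH : Zc →ₗ[R] H
  φ1 : K1' →ₗ[R] K1
  φ0 : K0' →ₗ[R] K0
  φm : Km' →ₗ[R] Km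
  pZ : Zc →ₗ[R] ZD
  pH : H →ₗ[R] HD
  mapD : ZD →ₗ[R] HD
  pr1 : P →ₗ[R] ZD
  pr2 : P →ₗ[R] H

variable {R : Type*} [CommRing R] {K1' K0' Km' Zc' H' K1 K0 Km Zc H ZD HD P : Type*}
    [AddCommGroup K1'] [Module R K1'] [AddCommGroup K0'] [Module R K0']
    [AddCommGroup Km'] [Module R Km'] [AddCommGroup Zc'] [Module R Zc']
    [AddCommGroup H'] [Module R H'] [AddCommGroup K1] [Module R K1]
    [AddCommGroup K0] [Module R K0] [AddCommGroup Km] [Module R Km]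
    [AddCommGroup Zc] [Module R Zc] [AddCommGroup H] [Module R H]
    [AddCommGroup ZD] [Module R ZD] [AddCommGroup HD] [Module R HD]
    [AddCommGroup P] [Module R P]
    (𝓜 : Maps R K1' K0' Km' Zc' H' K1 K0 Km Zc H ZD HD P)

/-- the hypotheses of the local situation, relative to the local equation `x` of the divisor -/
structure Hyp (x : R) (q : ℕ) : Prop where
  ip_inj : Function.Injective 𝓜.ip
  ip_d : ∀ z, 𝓜.d0p (𝓜.ip z) = 0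
  ip_ex : ∀ y, 𝓜.d0p y = 0 → ∃ z, 𝓜.ip z = y
  tp_i : ∀ w, 𝓜.ip (𝓜.tp w) = 𝓜.d1p w
  toHp_surj : Function.Surjective 𝓜.toHp
  toHp_t : ∀ w, 𝓜.toHp (𝓜.tp w) = 0
  toHp_ker : ∀ z, 𝓜.toHp z = 0 → ∃ w, 𝓜.tp w = z
  i_inj : Function.Injective 𝓜.i
  i_d : ∀ z, 𝓜.d0 (𝓜.i z) = 0
  i_ex : ∀ y, 𝓜.d0 y = 0 → ∃ z, 𝓜.i z = y
  t_i : ∀ w, 𝓜.i (𝓜.t w) = 𝓜.d1 w
  toH_surj : Function.Surjective 𝓜.toH
  toH_t : ∀ w, 𝓜.toH (𝓜.t w) = 0
  toH_ker : ∀ z, 𝓜.toH z = 0 → ∃ w, 𝓜.t w = z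
  φ_d1 : ∀ w, 𝓜.d1 (𝓜.φ1 w) = 𝓜.φ0 (𝓜.d1p w)
  φ_d0 : ∀ y, 𝓜.d0 (𝓜.φ0 y) = 𝓜.φm (𝓜.d0p y)
  φ0_inj : Function.Injective 𝓜.φ0
  φm_inj : Function.Injective 𝓜.φm
  φ0_ex : ∀ y, ∃ y', 𝓜.φ0 y' = x ^ q • y
  φ0_im : ∀ y', ∃ y, 𝓜.φ0 y' = x ^ q • y
  φ1_ex : ∀ w, ∃ w', 𝓜.φ1 w' = x ^ (q + 1) • w
  φ1_im : ∀ w', ∃ w, 𝓜.φ1 w' = x ^ (q + 1) • w
  x_K0 : ∀ y : K0, x • y = 0 → y = 0
  x_Km : ∀ y : Km, x • y = 0 → y = 0
  x_H : ∀ h : H, x • h = 0 → h = 0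
  pZ_surj : Function.Surjective 𝓜.pZ
  pZ_x : ∀ z, 𝓜.pZ (x • z) = 0
  pZ_ker : ∀ z, 𝓜.pZ z = 0 → ∃ z₂, z = x • z₂
  pH_ker : ∀ h, 𝓜.pH h = 0 → ∃ h₂, h = x • h₂
  nat : ∀ z, 𝓜.mapD (𝓜.pZ z) = 𝓜.pH (𝓜.toH z)
  P_ext : ∀ p p', 𝓜.pr1 p = 𝓜.pr1 p' → 𝓜.pr2 p = 𝓜.pr2 p' → p = p'
  P_ex : ∀ a h, 𝓜.mapD a = 𝓜.pH h → ∃ p, 𝓜.pr1 p = a ∧ 𝓜.pr2 p = h
  P_cond : ∀ p, 𝓜.mapD (𝓜.pr1 p) = 𝓜.pH (𝓜.pr2 p)

/-- the correspondence between homology classes of the twisted complex and elements of the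
fibre product -/
def Rel (x : R) (q : ℕ) (h' : H') (p : P) : Prop :=
  ∃ (z' : Zc') (z : Zc), 𝓜.toHp z' = h' ∧ 𝓜.φ0 (𝓜.ip z') = x ^ q • 𝓜.i z ∧
    𝓜.pr1 p = 𝓜.pZ z ∧ 𝓜.pr2 p = 𝓜.toH z

variable {𝓜}

theorem rel_exists {x : R} {q : ℕ} (hyp : Hyp 𝓜 x q) (h' : H') : ∃ p : P, Rel 𝓜 x q h' p := by
  obtain ⟨z', hz'⟩ := hyp.toHp_surj h'
  obtain ⟨y, hy⟩ := hyp.φ0_im (𝓜.ip z')
  have hd : 𝓜.d0 y = 0 := by
    apply pow_smul_eq_zero x hyp.x_Km q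
    rw [← (𝓜.d0).map_smul, ← hy, hyp.φ_d0, hyp.ip_d, map_zero]
  obtain ⟨z, hz⟩ := hyp.i_ex y hd
  obtain ⟨p, hp1, hp2⟩ := hyp.P_ex (𝓜.pZ z) (𝓜.toH z) (hyp.nat z)
  exact ⟨p, z', z, hz', by rw [hy, hz], hp1, hp2⟩

theorem rel_unique {x : R} {q : ℕ} (hyp : Hyp 𝓜 x q) (u : R) {h' : H'} {p₁ p₂ : P}
    (h1 : Rel 𝓜 x q h' p₁) (h2 : Rel 𝓜 (u * x) q h' p₂) : p₁ = u ^ q • p₂ := by
  obtain ⟨z'₁, z₁, ha1, hb1, hc1, hd1⟩ := h1
  obtain ⟨z'₂, z₂, ha2, hb2, hc2, hd2⟩ := h2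
  have h0 : 𝓜.toHp (z'₁ - z'₂) = 0 := by rw [map_sub, ha1, ha2, sub_self]
  obtain ⟨w', hw'⟩ := hyp.toHp_ker _ h0
  obtain ⟨w, hw⟩ := hyp.φ1_im w'
  have e1 : 𝓜.φ0 (𝓜.ip (z'₁ - z'₂)) = x ^ q • (x • 𝓜.d1 w) := by
    rw [← hw', hyp.tp_i, ← hyp.φ_d1, hw, (𝓜.d1).map_smul, pow_succ, mul_smul]
  have e2 : 𝓜.φ0 (𝓜.ip (z'₁ - z'₂)) = x ^ q • (𝓜.i z₁ - u ^ q • 𝓜.i z₂) := by
    rw [(𝓜.ip).map_sub, (𝓜.φ0).map_sub, hb1, hb2, smul_sub, mul_pow, smul_smul,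
      mul_comm (x ^ q) (u ^ q)]
  have e3 : 𝓜.i z₁ - u ^ q • 𝓜.i z₂ = x • 𝓜.d1 w := by
    have h3 : x ^ q • ((𝓜.i z₁ - u ^ q • 𝓜.i z₂) - x • 𝓜.d1 w) = 0 := by
      rw [smul_sub, ← e2, ← e1, sub_self]
    exact sub_eq_zero.mp (pow_smul_eq_zero x hyp.x_K0 q _ h3)
  have e4 : z₁ - u ^ q • z₂ = x • 𝓜.t w := by
    apply hyp.i_inj
    rw [(𝓜.i).map_sub, (𝓜.i).map_smul, (𝓜.i).map_smul, hyp.t_i]
    exact e3
  apply hyp.P_ext
  · rw [(𝓜.pr1).map_smul, hc1, hc2, ← (𝓜.pZ).map_smul, ← sub_eq_zero, ← (𝓜.pZ).map_sub, e4,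
      hyp.pZ_x]
  · rw [(𝓜.pr2).map_smul, hd1, hd2, ← (𝓜.toH).map_smul, ← sub_eq_zero, ← (𝓜.toH).map_sub, e4,
      (𝓜.toH).map_smul, hyp.toH_t, smul_zero]

theorem rel_unique' {x : R} {q : ℕ} (hyp : Hyp 𝓜 x q) {h' : H'} {p₁ p₂ : P}
    (h1 : Rel 𝓜 x q h' p₁) (h2 : Rel 𝓜 x q h' p₂) : p₁ = p₂ := by
  have h2' : Rel 𝓜 (1 * x) q h' p₂ := by rwa [one_mul]
  have h3 := rel_unique hyp 1 h1 h2'
  rwa [one_pow, one_smul] at h3

theorem rel_add {x : R} {q : ℕ} {h₁ h₂ : H'} {p₁ p₂ : P} (r1 : Rel 𝓜 x q h₁ p₁)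
    (r2 : Rel 𝓜 x q h₂ p₂) : Rel 𝓜 x q (h₁ + h₂) (p₁ + p₂) := by
  obtain ⟨z'₁, z₁, ha1, hb1, hc1, hd1⟩ := r1
  obtain ⟨z'₂, z₂, ha2, hb2, hc2, hd2⟩ := r2
  refine ⟨z'₁ + z'₂, z₁ + z₂, ?_, ?_, ?_, ?_⟩
  · rw [(𝓜.toHp).map_add, ha1, ha2]
  · rw [(𝓜.ip).map_add, (𝓜.φ0).map_add, hb1, hb2, (𝓜.i).map_add, smul_add]
  · rw [(𝓜.pr1).map_add, hc1, hc2, (𝓜.pZ).map_add]
  · rw [(𝓜.pr2).map_add, hd1, hd2, (𝓜.toH).map_add]

theorem rel_smul {x : R} {q : ℕ} (a : R) {h : H'} {p : P} (r : Rel 𝓜 x q h p) :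
    Rel 𝓜 x q (a • h) (a • p) := by
  obtain ⟨z', z, ha, hb, hc, hd⟩ := r
  refine ⟨a • z', a • z, ?_, ?_, ?_, ?_⟩
  · rw [(𝓜.toHp).map_smul, ha]
  · rw [(𝓜.ip).map_smul, (𝓜.φ0).map_smul, hb, (𝓜.i).map_smul, smul_comm]
  · rw [(𝓜.pr1).map_smul, hc, (𝓜.pZ).map_smul]
  · rw [(𝓜.pr2).map_smul, hd, (𝓜.toH).map_smul]

theorem rel_inj {x : R} {q : ℕ} (hyp : Hyp 𝓜 x q) {h' : H'} (r : Rel 𝓜 x q h' 0) : h' = 0 := by
  obtain ⟨z', z, ha, hb, hc, hd⟩ := r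
  rw [map_zero] at hc hd
  obtain ⟨z₂, hz₂⟩ := hyp.pZ_ker z hc.symm
  have h1 : 𝓜.toH z₂ = 0 := by
    apply hyp.x_H
    rw [← (𝓜.toH).map_smul, ← hz₂]
    exact hd.symm
  obtain ⟨w, hw⟩ := hyp.toH_ker z₂ h1
  obtain ⟨w', hw'⟩ := hyp.φ1_ex w
  have h2 : 𝓜.ip (𝓜.tp w') = 𝓜.ip z' := by
    apply hyp.φ0_inj
    rw [hb, hyp.tp_i, ← hyp.φ_d1, hw', (𝓜.d1).map_smul, hz₂, ← hw, (𝓜.i).map_smul, hyp.t_i,
      pow_succ, mul_smul]
  have h3 : 𝓜.tp w' = z' := hyp.ip_inj h2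
  rw [← ha, ← h3, hyp.toHp_t]

theorem rel_surj {x : R} {q : ℕ} (hyp : Hyp 𝓜 x q) (p : P) : ∃ h' : H', Rel 𝓜 x q h' p := by
  obtain ⟨z₁, hz₁⟩ := hyp.toH_surj (𝓜.pr2 p)
  obtain ⟨z₂, hz₂⟩ := hyp.pZ_surj (𝓜.pr1 p)
  have h1 : 𝓜.pH (𝓜.toH (z₂ - z₁)) = 0 := by
    rw [(𝓜.toH).map_sub, (𝓜.pH).map_sub, ← hyp.nat, hz₂, hz₁, hyp.P_cond, sub_self]
  obtain ⟨h₃, hh₃⟩ := hyp.pH_ker _ h1
  obtain ⟨z₃, hz₃⟩ := hyp.toH_surj h₃
  have hzZ : 𝓜.pZ (z₂ - x • z₃) = 𝓜.pr1 p := by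
    rw [(𝓜.pZ).map_sub, hyp.pZ_x, sub_zero, hz₂]
  have hzH : 𝓜.toH (z₂ - x • z₃) = 𝓜.pr2 p := by
    have h2 : 𝓜.toH (z₂ - z₁) = x • 𝓜.toH z₃ := by rw [hh₃, hz₃]
    rw [(𝓜.toH).map_sub] at h2
    rw [(𝓜.toH).map_sub, (𝓜.toH).map_smul, ← h2, ← hz₁]
    abel
  obtain ⟨y', hy'⟩ := hyp.φ0_ex (𝓜.i (z₂ - x • z₃))
  have hd : 𝓜.d0p y' = 0 := by
    apply hyp.φm_inj
    rw [← hyp.φ_d0, hy', (𝓜.d0).map_smul, hyp.i_d, smul_zero, map_zero]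
  obtain ⟨z', hz'⟩ := hyp.ip_ex y' hd
  exact ⟨𝓜.toHp z', z', z₂ - x • z₃, rfl, by rw [hz', hy'], hzZ.symm, hzH.symm⟩

end Core

end Groth.Agent.Lib.Helper25.TorAlg
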