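import Groth.Agent.Lib.Helper3.QCExact
import Groth.Agent.Lib.Helper3.FreeBasis

/-!
# Sections of kernels, pullbacks, finite coproducts, and of the homology of complexes of
quasi-coherent modules
-/

set_option autoImplicit false
set_option linter.style.haveILetI false
universe u
open CategoryTheory CategoryTheory.Limits AlgebraicGeometry TopologicalSpace Opposite

namespace Groth.Agent.Lib.Helper25.TorSec

open Groth.Agent.Lib.Helper3 Groth.Agent.Lib.Helper3.QCSec

variable {X : Scheme.{u}}

theorem app_congr {M N : X.Modules} {φ ψ : M ⟶ N} (h : φ = ψ) (W : X.Opens) (a : Γ(M, W)) :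
    φ.app W a = ψ.app W a := by rw [h]

theorem comp_app {M N P : X.Modules} (φ : M ⟶ N) (ψ : N ⟶ P) (W : X.Opens) (a : Γ(M, W)) :
    (φ ≫ ψ).app W a = ψ.app W (φ.app W a) := rfl

theorem id_app (M : X.Modules) (W : X.Opens) (a : Γ(M, W)) : (𝟙 M : M ⟶ M).app W a = a := rfl

theorem zero_app (M N : X.Modules) (W : X.Opens) (a : Γ(M, W)) : (0 : M ⟶ N).app W a = 0 := rfl

theorem exists_smul_of_mem_span_smul {R M : Type*} [CommRing R] [AddCommGroup M] [Module R M]
    (x : R) (m : M) (hm : m ∈ (Ideal.span {x} : Ideal R) • (⊤ : Submodule R M)) :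
    ∃ m₂ : M, m = x • m₂ := by
  rw [Submodule.ideal_span_singleton_smul, Submodule.mem_smul_pointwise_iff_exists] at hm
  obtain ⟨b, -, hb⟩ := hm
  exact ⟨b, hb.symm⟩

/-! ### kernels -/

theorem exists_kernel_section {M N : X.Modules} (φ : M ⟶ N) (W : X.Opens) (y : Γ(M, W))
    (hy : φ.app W y = 0) : ∃ k : Γ(kernel φ, W), (kernel.ι φ).app W k = y := by
  let S : ShortComplex X.Modules := ShortComplex.mk (kernel.ι φ) φ (kernel.condition φ)
  have hS : S.Exact := ShortComplex.exact_of_f_is_kernel S (kernelIsKernel φ)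
  haveI : Mono S.f := inferInstanceAs (Mono (kernel.ι φ))
  exact QCExact.exact_sections S hS W y hy

/-! ### pullbacks -/

theorem pullback_sections {A B C : X.Modules} (f : A ⟶ C) (g : B ⟶ C) (W : X.Opens) :
    (∀ p p' : Γ(pullback f g, W), (pullback.fst f g).app W p = (pullback.fst f g).app W p' →
      (pullback.snd f g).app W p = (pullback.snd f g).app W p' → p = p') ∧
    (∀ (a : Γ(A, W)) (b : Γ(B, W)), f.app W a = g.app W b →
      ∃ p : Γ(pullback f g, W), (pullback.fst f g).app W p = a ∧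
        (pullback.snd f g).app W p = b) := by
  let F := QCExact.secFunctor (X := X) W
  let e := PreservesPullback.iso F f g
  have hfst' : ∀ r : Γ(pullback f g, W),
      pullback.fst (F.map f) (F.map g) (e.hom r) = (pullback.fst f g).app W r := fun r =>
    congrArg (fun φ => (ConcreteCategory.hom φ) r) (PreservesPullback.iso_hom_fst F f g)
  have hsnd' : ∀ r : Γ(pullback f g, W),
      pullback.snd (F.map f) (F.map g) (e.hom r) = (pullback.snd f g).app W r := fun r =>
    congrArg (fun φ => (ConcreteCategory.hom φ) r) (PreservesPullback.iso_hom_snd F f g)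
  have h5 : ∀ r : Γ(pullback f g, W), e.inv (e.hom r) = r := fun r =>
    congrArg (fun φ => (ConcreteCategory.hom φ) r) e.hom_inv_id
  refine ⟨?_, ?_⟩
  · intro p p' h1 h2
    obtain ⟨a, b, hab, hy⟩ := Concrete.pullbackMk_surjective (F.map f) (F.map g) (e.hom p)
    obtain ⟨a', b', hab', hy'⟩ := Concrete.pullbackMk_surjective (F.map f) (F.map g) (e.hom p')
    have ha : a = a' := by
      have e1 := hfst' p
      rw [hy, Concrete.pullbackMk_fst] at e1
      have e2 := hfst' p'
      rw [hy', Concrete.pullbackMk_fst] at e2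
      rw [e1, e2]
      exact h1
    have hb : b = b' := by
      have e1 := hsnd' p
      rw [hy, Concrete.pullbackMk_snd] at e1
      have e2 := hsnd' p'
      rw [hy', Concrete.pullbackMk_snd] at e2
      rw [e1, e2]
      exact h2
    subst ha
    subst hb
    have h3 : e.hom p = e.hom p' := hy.trans hy'.symm
    have h4 := congrArg (fun t => e.inv t) h3
    rw [← h5 p, ← h5 p']
    exact h4
  · intro a b hab
    let y := Concrete.pullbackMk (F.map f) (F.map g) a b hab
    have h6 : ∀ t, e.hom (e.inv t) = t := fun t =>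
      congrArg (fun φ => (ConcreteCategory.hom φ) t) e.inv_hom_id
    refine ⟨e.inv y, ?_, ?_⟩
    · rw [← hfst' (e.inv y), h6]
      exact Concrete.pullbackMk_fst (F.map f) (F.map g) a b hab
    · rw [← hsnd' (e.inv y), h6]
      exact Concrete.pullbackMk_snd (F.map f) (F.map g) a b hab


/-! ### homology of complexes of quasi-coherent modules -/

theorem isQuasicoherent_of_iso {M N : X.Modules} (e : M ≅ N) [hM : M.IsQuasicoherent] :
    N.IsQuasicoherent :=
  (SheafOfModules.isQuasicoherent X.ringCatSheaf).prop_of_iso e hM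

section QCHom

variable (K : ChainComplex X.Modules ℕ)

theorem exists_cycle (q j : ℕ) (hj : (ComplexShape.down ℕ).next q = j) (W : X.Opens)
    (y : Γ(K.X q, W)) (hy : (K.d q j).app W y = 0) :
    ∃ z : Γ(K.cycles q, W), (K.iCycles q).app W z = y := by
  let S : ShortComplex X.Modules := ShortComplex.mk (K.iCycles q) (K.d q j) (K.iCycles_d q j)
  have hS : S.Exact := ShortComplex.exact_of_f_is_kernel S (K.cyclesIsKernel q j hj)
  haveI : Mono S.f := inferInstanceAs (Mono (K.iCycles q))
  exact QCExact.exact_sections S hS W y hy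

variable [hK : ∀ p, (K.X p).IsQuasicoherent]

theorem isQuasicoherent_cycles (q : ℕ) : (K.cycles q).IsQuasicoherent := by
  haveI : (kernel (K.d q ((ComplexShape.down ℕ).next q)) : X.Modules).IsQuasicoherent :=
    QCProps.isQuasicoherent_kernel _
  let e : K.cycles q ≅ kernel (K.d q ((ComplexShape.down ℕ).next q)) :=
    IsLimit.conePointUniqueUpToIso (K.cyclesIsKernel q _ rfl) (limit.isLimit _)
  exact isQuasicoherent_of_iso e.symm

theorem isQuasicoherent_homology (q : ℕ) : (K.homology q).IsQuasicoherent := by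
  haveI := isQuasicoherent_cycles K q
  haveI : (cokernel (K.toCycles (q + 1) q) : X.Modules).IsQuasicoherent :=
    QCProps.isQuasicoherent_cokernel _
  let e : K.homology q ≅ cokernel (K.toCycles (q + 1) q) :=
    IsColimit.coconePointUniqueUpToIso (K.homologyIsCokernel (q + 1) q (ChainComplex.prev ℕ q))
      (colimit.isColimit _)
  exact isQuasicoherent_of_iso e.symm

theorem homologyπ_surjective (q : ℕ) {U : X.Opens} (hU : IsAffineOpen U) :
    Function.Surjective ((K.homologyπ q).app U) := by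
  haveI := isQuasicoherent_cycles K q
  haveI := isQuasicoherent_homology K q
  exact (QCExact.epi_iff_surjective_on_affines (K.homologyπ q)).mp inferInstance U hU

theorem exists_toCycles (q : ℕ) {U : X.Opens} (hU : IsAffineOpen U) (z : Γ(K.cycles q, U))
    (hz : (K.homologyπ q).app U z = 0) :
    ∃ w : Γ(K.X (q + 1), U), (K.toCycles (q + 1) q).app U w = z := by
  haveI := isQuasicoherent_cycles K q
  haveI := isQuasicoherent_homology K q
  haveI : (K.X (q + 1)).IsQuasicoherent := hK (q + 1)
  let S : ShortComplex X.Modules := ShortComplex.mk (K.toCycles (q + 1) q) (K.homologyπ q)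
    (K.toCycles_comp_homologyπ (q + 1) q)
  have hS : S.Exact := ShortComplex.exact_of_g_is_cokernel S
    (K.homologyIsCokernel (q + 1) q (ChainComplex.prev ℕ q))
  haveI : Epi (kernel.lift (K.homologyπ q) (K.toCycles (q + 1) q)
      (K.toCycles_comp_homologyπ (q + 1) q)) := hS.epi_kernelLift
  haveI : (kernel (K.homologyπ q) : X.Modules).IsQuasicoherent :=
    QCProps.isQuasicoherent_kernel _
  obtain ⟨k, hk⟩ := exists_kernel_section (K.homologyπ q) U z hz
  obtain ⟨w, hw⟩ := (QCExact.epi_iff_surjective_on_affines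
    (kernel.lift (K.homologyπ q) (K.toCycles (q + 1) q)
      (K.toCycles_comp_homologyπ (q + 1) q))).mp inferInstance U hU k
  refine ⟨w, ?_⟩
  have h1 := app_congr (kernel.lift_ι (K.homologyπ q) (K.toCycles (q + 1) q)
    (K.toCycles_comp_homologyπ (q + 1) q)) U w
  rw [comp_app, hw, hk] at h1
  exact h1.symm

end QCHom

/-! ### finite coproducts -/

section Sigma

variable {n : ℕ} (f : Fin n → X.Modules)

/-- the projections of a finite coproduct -/
noncomputable def sπ (j : Fin n) : (∐ f) ⟶ f j :=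
  Sigma.desc (fun i => if h : i = j then eqToHom (by rw [h]) else 0)

theorem ι_sπ_self (j : Fin n) : Sigma.ι f j ≫ sπ f j = 𝟙 (f j) := by
  unfold sπ
  rw [Sigma.ι_desc, dif_pos rfl, eqToHom_refl]

theorem ι_sπ_ne {i j : Fin n} (h : i ≠ j) : Sigma.ι f i ≫ sπ f j = 0 := by
  unfold sπ
  rw [Sigma.ι_desc, dif_neg h]

theorem sum_sπ_ι : ∑ j, sπ f j ≫ Sigma.ι f j = 𝟙 (∐ f) := by
  apply Sigma.hom_ext
  intro i
  rw [Preadditive.comp_sum, Category.comp_id, Finset.sum_eq_single i]
  · rw [← Category.assoc, ι_sπ_self, Category.id_comp]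
  · intro j _ hji
    rw [← Category.assoc, ι_sπ_ne f (Ne.symm hji), zero_comp]
  · intro h
    exact absurd (Finset.mem_univ i) h

theorem sπ_ι_app_self (j : Fin n) (W : X.Opens) (a : Γ(f j, W)) :
    (sπ f j).app W ((Sigma.ι f j).app W a) = a :=
  app_congr (ι_sπ_self f j) W a

theorem sπ_ι_app_ne {i j : Fin n} (h : i ≠ j) (W : X.Opens) (a : Γ(f i, W)) :
    (sπ f j).app W ((Sigma.ι f i).app W a) = 0 :=
  app_congr (ι_sπ_ne f h) W a

theorem sum_ι_sπ_app (W : X.Opens) (t : Γ(∐ f, W)) :
    ∑ j, (Sigma.ι f j).app W ((sπ f j).app W t) = t := by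
  have h := app_congr (sum_sπ_ι f) W t
  rw [FreeBasis.sum_app] at h
  exact h

theorem sπ_app_lincomb (j : Fin n) (W : X.Opens) (a : Fin n → Γ(X, W))
    (ε : ∀ i, Γ(f i, W)) :
    (sπ f j).app W (∑ i, a i • (Sigma.ι f i).app W (ε i)) = a j • ε j := by
  rw [FreeBasis.app_sum, Finset.sum_eq_single j]
  · rw [Scheme.Modules.Hom.app_smul, sπ_ι_app_self]
  · intro i _ hij
    rw [Scheme.Modules.Hom.app_smul, sπ_ι_app_ne f hij, smul_zero]
  · intro h
    exact absurd (Finset.mem_univ j) h

/-- local generators of the summands give a basis of the coproduct -/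
theorem isBasis_sigma (U : X.Opens) (e : ∀ i, Γ(f i, U))
    (hg : ∀ i, InvGen.IsGen (f i) U (e i)) :
    FreeBasis.IsBasis (∐ f) U (fun i => (Sigma.ι f i).app U (e i)) := by
  intro V hV
  have hres : ∀ i, res (∐ f) hV ((Sigma.ι f i).app U (e i)) =
      (Sigma.ι f i).app V (res (f i) hV (e i)) :=
    fun i => (QCExact.app_res' (Sigma.ι f i) hV (e i)).symm
  constructor
  · intro a c hac
    funext j
    have hac' : ∑ i, a i • res (∐ f) hV ((Sigma.ι f i).app U (e i)) =
        ∑ i, c i • res (∐ f) hV ((Sigma.ι f i).app U (e i)) := hac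
    simp only [hres] at hac'
    have h1 : a j • res (f j) hV (e j) = c j • res (f j) hV (e j) := by
      have h2 := congrArg (fun t => (sπ f j).app V t) hac'
      rw [sπ_app_lincomb f j V a (fun i => res (f i) hV (e i)),
        sπ_app_lincomb f j V c (fun i => res (f i) hV (e i))] at h2
      exact h2
    exact (hg j V hV).smul_inj h1
  · intro t
    choose a ha using fun j => (hg j V hV).exists_coord ((sπ f j).app V t)
    refine ⟨a, ?_⟩
    show ∑ i, a i • res (∐ f) hV ((Sigma.ι f i).app U (e i)) = t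
    simp only [hres]
    rw [← sum_ι_sπ_app f V t]
    refine Finset.sum_congr rfl (fun j _ => ?_)
    rw [← ha j, Scheme.Modules.Hom.app_smul]

variable {f} {f' : Fin n → X.Modules} (g : ∀ i, f' i ⟶ f i)

theorem map_sπ (j : Fin n) : Limits.Sigma.map g ≫ sπ f j = sπ f' j ≫ g j := by
  apply Sigma.hom_ext
  intro i
  have h1 : Sigma.ι f' i ≫ Limits.Sigma.map g ≫ sπ f j = g i ≫ (Sigma.ι f i ≫ sπ f j) := by
    rw [← Category.assoc, Sigma.ι_map, Category.assoc]
  have h2 : Sigma.ι f' i ≫ sπ f' j ≫ g j = (Sigma.ι f' i ≫ sπ f' j) ≫ g j :=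
    (Category.assoc _ _ _).symm
  rw [h1, h2]
  by_cases h : i = j
  · subst h
    rw [ι_sπ_self, ι_sπ_self, Category.comp_id, Category.id_comp]
  · rw [ι_sπ_ne f h, ι_sπ_ne f' h, comp_zero, zero_comp]

theorem map_app_ι (i : Fin n) (W : X.Opens) (a : Γ(f' i, W)) :
    (Limits.Sigma.map g).app W ((Sigma.ι f' i).app W a) =
      (Sigma.ι f i).app W ((g i).app W a) :=
  app_congr (Sigma.ι_map g i) W a

theorem sπ_map_app (j : Fin n) (W : X.Opens) (t : Γ(∐ f', W)) :
    (sπ f j).app W ((Limits.Sigma.map g).app W t) = (g j).app W ((sπ f' j).app W t) :=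
  app_congr (map_sπ g j) W t

theorem map_app_injective (W : X.Opens) (hinj : ∀ i, Function.Injective ((g i).app W)) :
    Function.Injective ((Limits.Sigma.map g).app W) := by
  intro t₁ t₂ h
  have h0 : ∀ j, (sπ f' j).app W t₁ = (sπ f' j).app W t₂ := by
    intro j
    apply hinj j
    rw [← sπ_map_app, ← sπ_map_app, h]
  rw [← sum_ι_sπ_app f' W t₁, ← sum_ι_sπ_app f' W t₂]
  exact Finset.sum_congr rfl (fun j _ => by rw [h0 j])

theorem map_app_ex (W : X.Opens) (x : Γ(X, W))
    (hex : ∀ i (a : Γ(f i, W)), ∃ a' : Γ(f' i, W), (g i).app W a' = x • a)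
    (t : Γ(∐ f, W)) : ∃ t' : Γ(∐ f', W), (Limits.Sigma.map g).app W t' = x • t := by
  choose a' ha' using fun j => hex j ((sπ f j).app W t)
  refine ⟨∑ j, (Sigma.ι f' j).app W (a' j), ?_⟩
  rw [FreeBasis.app_sum]
  conv_rhs => rw [← sum_ι_sπ_app f W t]
  rw [Finset.smul_sum]
  refine Finset.sum_congr rfl (fun j _ => ?_)
  rw [map_app_ι, ha', Scheme.Modules.Hom.app_smul]

theorem map_app_im (W : X.Opens) (x : Γ(X, W))
    (him : ∀ i (a' : Γ(f' i, W)), ∃ a : Γ(f i, W), (g i).app W a' = x • a)
    (t' : Γ(∐ f', W)) : ∃ t : Γ(∐ f, W), (Limits.Sigma.map g).app W t' = x • t := by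
  choose a ha using fun j => him j ((sπ f' j).app W t')
  refine ⟨∑ j, (Sigma.ι f j).app W (a j), ?_⟩
  conv_lhs => rw [← sum_ι_sπ_app f' W t']
  rw [FreeBasis.app_sum, Finset.smul_sum]
  refine Finset.sum_congr rfl (fun j _ => ?_)
  rw [map_app_ι, ha, Scheme.Modules.Hom.app_smul]

end Sigma

end Groth.Agent.Lib.Helper25.TorSec
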