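import Groth.Agent.Lib.Helper25.TorAlg
import Groth.Agent.Lib.Helper25.TorSec
import Groth.Agent.Lib.Helper25.ExtPowTw
import Groth.Agent.Lib.Helper17.EffCartMod
import Groth.Agent.Lib.Helper3.RelCartier

/-!
# Koszul complexes of finite coproducts of invertible ideal modules: local structure
-/

set_option autoImplicit false
set_option linter.style.haveILetI false
universe u
open CategoryTheory CategoryTheory.Limits AlgebraicGeometry TopologicalSpace Opposite
open Scheme.Modules exteriorPower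

namespace Groth.Agent.Lib.Helper25.TorKosz

open Groth.Agent.Lib.Helper3 Groth.Agent.Lib.Helper3.QCSec Groth.Agent.Lib.Helper3.InvGen
  Groth.Agent.Lib.Helper3.FreeBasis Groth.Agent.Lib.Helper3.IdealMod Groth.Agent.Lib.Helper17
open Groth.Agent.Lib.Helper25.TorSec Groth.Agent.Lib.Helper25

variable {X : Scheme.{u}}

theorem exists_affine_isGen_family : ∀ (n : ℕ) (A : Fin n → X.Modules)
    (_ : ∀ i, PicF.IsInvertible (A i)) (x : X) (W : X.Opens) (_ : x ∈ W),
    ∃ U : X.Opens, IsAffineOpen U ∧ x ∈ U ∧ U ≤ W ∧ ∀ i, ∃ e : Γ(A i, U), IsGen (A i) U e := by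
  intro n
  induction n with
  | zero =>
    intro A _ x W hxW
    obtain ⟨U, hU, hxU, hUW⟩ := Opens.isBasis_iff_nbhd.mp X.isBasis_affineOpens hxW
    exact ⟨U, hU, hxU, hUW, fun i => i.elim0⟩
  | succ n ih =>
    intro A hA x W hxW
    obtain ⟨U₁, hU₁, hxU₁, hU₁W, hg₁⟩ := ih (fun i => A i.succ) (fun i => hA i.succ) x W hxW
    obtain ⟨U, e, hU, hxU, hUle, hg⟩ := exists_affine_isGen_le (hA 0) x U₁ hxU₁
    refine ⟨U, hU, hxU, hUle.trans hU₁W, ?_⟩
    intro i
    refine Fin.cases ?_ (fun j => ?_) i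
    · exact ⟨e, hg⟩
    · obtain ⟨ej, hej⟩ := hg₁ j
      exact ⟨res (A j.succ) hUle ej, hej.mono hUle⟩

theorem isFinLocFree_sigma {n : ℕ} (A : Fin n → X.Modules)
    (hA : ∀ i, PicF.IsInvertible (A i)) : FlatMod.IsFinLocFree (∐ A) := by
  rw [LocFreeCrit.isFinLocFree_iff]
  intro x
  obtain ⟨U, hU, hxU, -, hg⟩ := exists_affine_isGen_family n A hA x ⊤ trivial
  choose e he using hg
  exact ⟨U, n, fun i => (Sigma.ι A i).app U (e i), hxU, isBasis_sigma A U e he⟩

theorem isEffCartierIdeal_mul (I J : X.IdealSheafData) (hI : BlowUp.IsEffCartierIdeal I)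
    (hJ : BlowUp.IsEffCartierIdeal J) : BlowUp.IsEffCartierIdeal (I * J) := by
  intro x
  obtain ⟨U, hxU, -, ⟨a, ha, hIa⟩, ⟨b, hb, hJb⟩⟩ :=
    Groth.Agent.Lib.Helper3.exists_affine_principal_pair I J hI hJ x ⊤ trivial
  refine ⟨U, hxU, a * b, mul_mem ha hb, ?_⟩
  rw [Scheme.IdealSheafData.ideal_mul, Pi.mul_apply, hIa, hJb,
    Ideal.span_singleton_mul_span_singleton]

/-! ### the terms of a Koszul complex of a locally free module are locally free -/

section Terms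

variable {E : X.Modules} {s : E ⟶ Coh.structureModule X}

theorem isBasisAt_extPow (C : KoszSh.Cx E s) (p : ℕ) (V : X.affineOpens) {n : ℕ}
    (b : Fin n → Γ(E, V.1)) (hb : IsBasisAt E V.1 b) {N : ℕ}
    (eN : Fin N ≃ Set.powersetCard (Fin n) p) :
    IsBasisAt (C.K.X p) V.1
      (fun k => (C.loc p V).symm (ιMulti_family Γ(X, V.1) p b (eN k))) := by
  let bV : Module.Basis (Fin n) Γ(X, V.1) Γ(E, V.1) := NormAlg.basisOfBijective b hb
  have hbV : (⇑bV : Fin n → Γ(E, V.1)) = b := funext (NormAlg.basisOfBijective_apply b hb)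
  let BV : Module.Basis (Fin N) Γ(X, V.1) Γ(C.K.X p, V.1) :=
    ((bV.exteriorPower p).reindex eN.symm).map (C.loc p V).symm
  have h1 := SecLoc.isBasisAt_of_basis (C.K.X p) V.1 BV
  have h2 : (fun k => BV k) =
      fun k => (C.loc p V).symm (ιMulti_family Γ(X, V.1) p b (eN k)) := by
    funext k
    show (((bV.exteriorPower p).reindex eN.symm).map (C.loc p V).symm) k = _
    rw [Module.Basis.map_apply, Module.Basis.reindex_apply, Equiv.symm_symm,
      exteriorPower.basis_apply, hbV]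
  rwa [h2] at h1

theorem isFinLocFree_X (hE : FlatMod.IsFinLocFree E) (C : KoszSh.Cx E s) (p : ℕ) :
    FlatMod.IsFinLocFree (C.K.X p) := by
  rw [LocFreeCrit.isFinLocFree_iff] at hE ⊢
  intro x
  obtain ⟨U₀, n, b₀, hxU₀, hb₀⟩ := hE x
  obtain ⟨U, hU, hxU, hUle⟩ := Opens.isBasis_iff_nbhd.mp X.isBasis_affineOpens hxU₀
  have hb : IsBasis E U (fun i => res E hUle (b₀ i)) := hb₀.mono hUle
  haveI : Finite (Set.powersetCard (Fin n) p) := inferInstance
  let eN : Fin (Nat.card (Set.powersetCard (Fin n) p)) ≃ Set.powersetCard (Fin n) p :=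
    (Finite.equivFin (Set.powersetCard (Fin n) p)).symm
  refine ⟨U, Nat.card (Set.powersetCard (Fin n) p),
    fun k => (C.loc p ⟨U, hU⟩).symm
      (ιMulti_family Γ(X, U) p (fun i => res E hUle (b₀ i)) (eN k)), hxU, ?_⟩
  apply SecLoc.isBasis_of_local_basisAt
  intro W hW y hy
  obtain ⟨V, hV, hyV, hVW⟩ := Opens.isBasis_iff_nbhd.mp X.isBasis_affineOpens hy
  refine ⟨V, hVW, hyV, ?_⟩
  have h1 := isBasisAt_extPow C p ⟨V, hV⟩
    (fun i => res E (hVW.trans hW) (res E hUle (b₀ i))) (hb V (hVW.trans hW)) eN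
  have h2 : (fun k => res (C.K.X p) (hVW.trans hW) ((C.loc p ⟨U, hU⟩).symm
      (ιMulti_family Γ(X, U) p (fun i => res E hUle (b₀ i)) (eN k)))) =
      fun k => (C.loc p ⟨V, hV⟩).symm (ιMulti_family Γ(X, V) p
        (fun i => res E (hVW.trans hW) (res E hUle (b₀ i))) (eN k)) := by
    funext k
    exact KoszMap.loc_res' C p ⟨U, hU⟩ ⟨V, hV⟩ (hVW.trans hW)
      ((fun i => res E hUle (b₀ i)) ∘ (Set.powersetCard.ofFinEmbEquiv.symm (eN k)))
  show IsBasisAt (C.K.X p) V (fun k => res (C.K.X p) (hVW.trans hW)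
    ((C.loc p ⟨U, hU⟩).symm
      (ιMulti_family Γ(X, U) p (fun i => res E hUle (b₀ i)) (eN k))))
  rw [h2]
  exact h1

theorem isQuasicoherent_X (hE : FlatMod.IsFinLocFree E) (C : KoszSh.Cx E s) (p : ℕ) :
    (C.K.X p).IsQuasicoherent :=
  LocFreeCrit.isQuasicoherent_of_isFinLocFree (isFinLocFree_X hE C p)

end Terms

/-! ### the local structure of the morphism of Koszul complexes -/

section Local

variable {E' E : X.Modules} {s' : E' ⟶ Coh.structureModule X} {s : E ⟶ Coh.structureModule X}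

theorem kosz_local (C' : KoszSh.Cx E' s') (C : KoszSh.Cx E s) (m : E' ⟶ E) (φ : C'.K ⟶ C.K)
    (hφ : ∀ (p : ℕ) (U : X.affineOpens) (y : Γ(C'.K.X p, U.1)),
      (φ.f p).app U.1 y = KoszMap.locMap C' C m p U y)
    (V : X.affineOpens) (x : Γ(X, V.1)) (hx : ∀ r : Γ(X, V.1), r * x = 0 → r = 0)
    (hproj : Module.Projective Γ(X, V.1) Γ(E, V.1))
    (hinj : Function.Injective (m.app V.1))
    (hex : ∀ t : Γ(E, V.1), ∃ t' : Γ(E', V.1), m.app V.1 t' = x • t)
    (him : ∀ t' : Γ(E', V.1), ∃ t : Γ(E, V.1), m.app V.1 t' = x • t) (p : ℕ) :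
    Function.Injective ((φ.f p).app V.1) ∧
    (∀ y : Γ(C.K.X p, V.1), ∃ y' : Γ(C'.K.X p, V.1), (φ.f p).app V.1 y' = x ^ p • y) ∧
    (∀ y' : Γ(C'.K.X p, V.1), ∃ y : Γ(C.K.X p, V.1), (φ.f p).app V.1 y' = x ^ p • y) ∧
    (∀ y : Γ(C.K.X p, V.1), x • y = 0 → y = 0) := by
  haveI := hproj
  obtain ⟨h1, h2, h3⟩ := TorAlg.extPow_scaled x hx (KoszMap.appLin m V.1)
    (fun a b h => hinj h) hex him p
  refine ⟨?_, ?_, ?_, ?_⟩
  · intro a b hab
    rw [hφ, hφ, KoszMap.locMap_apply, KoszMap.locMap_apply] at hab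
    exact (C'.loc p V).injective (h1 ((C.loc p V).symm.injective hab))
  · intro y
    obtain ⟨Y', hY'⟩ := h2 (C.loc p V y)
    refine ⟨(C'.loc p V).symm Y', ?_⟩
    rw [hφ, KoszMap.locMap_apply, LinearEquiv.apply_symm_apply, hY',
      (C.loc p V).symm.map_smul, LinearEquiv.symm_apply_apply]
  · intro y'
    obtain ⟨Y, hY⟩ := h3 (C'.loc p V y')
    refine ⟨(C.loc p V).symm Y, ?_⟩
    rw [hφ, KoszMap.locMap_apply, hY, (C.loc p V).symm.map_smul]
  · intro y hy
    have h4 : x • C.loc p V y = 0 := by rw [← (C.loc p V).map_smul, hy, map_zero]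
    have h5 := TwKoszRing.extPow_smul_eq_zero x hx p _ h4
    exact (C.loc p V).injective (by rw [h5, map_zero])

end Local

/-! ### the inclusion `I J ⊆ I` of ideal modules -/

theorem exists_incl (I J : X.IdealSheafData) :
    ∃ ι : ClSub.idealMod (I * J) ⟶ ClSub.idealMod I,
      ∀ (V : X.Opens) (_ : IsAffineOpen V) (a : Γ(ClSub.idealMod (I * J), V)),
        val I (ι.app V a) = val (I * J) a := by
  have key : ∀ (V : X.Opens) (hV : IsAffineOpen V) (a : Γ(ClSub.idealMod (I * J), V)),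
      ∃ a' : Γ(ClSub.idealMod I, V), val I a' = val (I * J) a := by
    intro V hV a
    have h1 : val (I * J) a ∈ (I * J).ideal ⟨V, hV⟩ :=
      (EffCartMod.mem_ideal_iff (I * J) ⟨V, hV⟩ _).mpr ⟨a, rfl⟩
    rw [Scheme.IdealSheafData.ideal_mul, Pi.mul_apply] at h1
    have h2 : I.ideal ⟨V, hV⟩ * J.ideal ⟨V, hV⟩ ≤ I.ideal ⟨V, hV⟩ := Ideal.mul_le_left
    exact (EffCartMod.mem_ideal_iff I ⟨V, hV⟩ _).mp (h2 h1)
  choose D hD using key
  obtain ⟨φ, hφ⟩ := ExtPowTw.exists_hom_of_basis (M := ClSub.idealMod (I * J))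
    (N := ClSub.idealMod I) (fun V => IsAffineOpen V)
    (fun W x hx => by
      obtain ⟨U, hU, hxU, hUW⟩ := Opens.isBasis_iff_nbhd.mp X.isBasis_affineOpens hx
      exact ⟨U, hU, hxU, hUW⟩)
    D
    (fun V hV a a' => val_injective I V (by rw [val_add, hD, hD, hD, val_add]))
    (fun V hV r a => val_injective I V (by rw [val_smul, hD, hD, val_smul]))
    (fun {V V'} h hV hV' a => val_injective I V' (by rw [val_res, hD, hD, val_res]))
  exact ⟨φ, fun V hV a => by rw [hφ V hV a, hD]⟩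

theorem incl_facts (I J : X.IdealSheafData) (ι : ClSub.idealMod (I * J) ⟶ ClSub.idealMod I)
    (hι : ∀ (V : X.Opens) (_ : IsAffineOpen V) (a : Γ(ClSub.idealMod (I * J), V)),
      val I (ι.app V a) = val (I * J) a)
    (V : X.Opens) (hV : IsAffineOpen V) (x : Γ(X, V))
    (hspan : J.ideal ⟨V, hV⟩ = Ideal.span {x}) :
    Function.Injective (ι.app V) ∧
    (∀ a : Γ(ClSub.idealMod I, V), ∃ a' : Γ(ClSub.idealMod (I * J), V), ι.app V a' = x • a) ∧
    (∀ a' : Γ(ClSub.idealMod (I * J), V), ∃ a : Γ(ClSub.idealMod I, V),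
      ι.app V a' = x • a) := by
  refine ⟨?_, ?_, ?_⟩
  · intro a b hab
    apply val_injective (I * J) V
    rw [← hι V hV a, ← hι V hV b, hab]
  · intro a
    have h1 : x * val I a ∈ (I * J).ideal ⟨V, hV⟩ := by
      show x * val I a ∈ I.ideal ⟨V, hV⟩ * J.ideal ⟨V, hV⟩
      rw [hspan, mul_comm x]
      exact Ideal.mul_mem_mul ((EffCartMod.mem_ideal_iff I ⟨V, hV⟩ _).mpr ⟨a, rfl⟩)
        (Ideal.mem_span_singleton_self x)
    obtain ⟨a', ha'⟩ := (EffCartMod.mem_ideal_iff (I * J) ⟨V, hV⟩ _).mp h1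
    refine ⟨a', val_injective I V ?_⟩
    rw [hι V hV a', ha', val_smul]
  · intro a'
    have h1 : val (I * J) a' ∈ I.ideal ⟨V, hV⟩ * J.ideal ⟨V, hV⟩ :=
      (EffCartMod.mem_ideal_iff (I * J) ⟨V, hV⟩ _).mpr ⟨a', rfl⟩
    rw [hspan, Ideal.mem_mul_span_singleton] at h1
    obtain ⟨z, hz, hzx⟩ := h1
    obtain ⟨a, ha⟩ := (EffCartMod.mem_ideal_iff I ⟨V, hV⟩ _).mp hz
    refine ⟨a, val_injective I V ?_⟩
    rw [hι V hV a', val_smul, ha, ← hzx, mul_comm]

end Groth.Agent.Lib.Helper25.TorKosz
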