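import Groth.Agent.Lib.Helper14.TorVanish
import Groth.Agent.Lib.Helper7.CxElem
import Groth.Agent.Lib.Helper7.TorBC
import Groth.Agent.Lib.Helper7.TorReg
import Groth.Agent.Lib.Helper25.LciChartAlg

/-!
# Local-to-global vanishing of `Tor`, and `Tor` of two complete intersections meeting properly in a
# Cohen–Macaulay local ring
-/

set_option autoImplicit false
set_option linter.style.haveILetI false
universe u
open CategoryTheory CategoryTheory.Limits TensorProduct

namespace Groth.Agent.Lib.Helper25.TorLoc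

open Groth.Agent.Lib.Helper7 Groth.Agent.Lib.Helper14.TorKer Groth.Agent.Lib.Helper25.LciChartAlg
open RingTheory.Sequence IsLocalRing

theorem isLocalizedModule_lTensor {A : Type*} [CommRing A] (S : Submonoid A) {N N' : Type*}
    [AddCommGroup N] [Module A N] [AddCommGroup N'] [Module A N'] (g : N →ₗ[A] N')
    [IsLocalizedModule S g] (Q : Type*) [AddCommGroup Q] [Module A Q] :
    IsLocalizedModule S (LinearMap.lTensor Q g) := by
  have h2 : LinearMap.lTensor Q g = (TensorProduct.comm A N' Q).toLinearMap ∘ₗ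
      ((AlgebraTensorModule.rTensor A Q g) ∘ₗ (TensorProduct.comm A Q N).toLinearMap) := by
    apply TensorProduct.ext'
    intro q n
    rfl
  rw [h2]
  haveI : IsLocalizedModule S ((AlgebraTensorModule.rTensor A Q g) ∘ₗ
      (TensorProduct.comm A Q N).toLinearMap) :=
    IsLocalizedModule.of_linearEquiv_right S _ (TensorProduct.comm A Q N)
  exact IsLocalizedModule.of_linearEquiv S _ (TensorProduct.comm A N' Q)

/-- `Tor_n(M, N)` vanishes as soon as it does after localizing `N` at every maximal ideal. -/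
theorem torZ_of_forall_maximal {A : Type u} [CommRing A] (n : ℕ) (M N : Type u)
    [AddCommGroup M] [Module A M] [AddCommGroup N] [Module A N]
    (h : ∀ (p : Ideal A) [p.IsMaximal], ∃ (N' : Type u) (_ : AddCommGroup N') (_ : Module A N')
      (g : N →ₗ[A] N'), IsLocalizedModule p.primeCompl g ∧ TorZ A n M N') : TorZ A n M N := by
  let P := ProjectiveResolution.of (ModuleCat.of A M)
  have hP := FlatRes.ofProjectiveResolution P
  obtain ⟨e⟩ := nonempty_Tor_equiv_T_of_flatRes hP (ModuleCat.of A N) n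
  suffices h0 : ∀ t : (CohIII.TFun P.complex n).obj (ModuleCat.of A N), t = 0 by
    unfold TorZ
    exact ⟨fun a b => e.injective ((h0 (e a)).trans (h0 (e b)).symm)⟩
  intro t
  obtain ⟨x, hx, rfl⟩ := clsT_surjective P.complex n (ModuleCat.of A N) t
  refine (clsT_eq_zero_iff P.complex n (ModuleCat.of A N) x hx).2 ?_
  by_contra hxB
  have hx2 : LinearMap.rTensor N (P.complex.d n ((ComplexShape.down ℕ).next n)).hom x = 0 := hx
  let I : Ideal A :=
    { carrier := {a | ∃ y : TensorProduct A (P.complex.X ((ComplexShape.down ℕ).prev n)) N,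
        LinearMap.rTensor N (P.complex.d ((ComplexShape.down ℕ).prev n) n).hom y = a • x}
      add_mem' := by
        rintro a b ⟨y₁, h₁⟩ ⟨y₂, h₂⟩
        exact ⟨y₁ + y₂, by rw [map_add, h₁, h₂, add_smul]⟩
      zero_mem' := ⟨0, by rw [map_zero, zero_smul]⟩
      smul_mem' := by
        rintro c a ⟨y, hy⟩
        exact ⟨c • y, by rw [LinearMap.map_smul, hy, smul_eq_mul, mul_smul]⟩ }
  have hI : I ≠ ⊤ := by
    intro hI
    have h1 : (1 : A) ∈ I := hI ▸ Submodule.mem_top
    obtain ⟨y, hy⟩ := h1
    exact hxB ⟨y, by rw [hy, one_smul]⟩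
  obtain ⟨p, hp, hIp⟩ := Ideal.exists_le_maximal I hI
  haveI := hp
  obtain ⟨N', iN1, iN2, g, hg, hT⟩ := h p
  haveI := hg
  have hx' : LinearMap.rTensor N' (P.complex.d n ((ComplexShape.down ℕ).next n)).hom
      (LinearMap.lTensor (P.complex.X n) g x) = 0 := by
    rw [rTensor_lTensor_comm, hx2, map_zero]
  have hz : clsT P.complex n (ModuleCat.of A N') (LinearMap.lTensor (P.complex.X n) g x) hx' = 0 := by
    obtain ⟨e'⟩ := nonempty_Tor_equiv_T_of_flatRes hP (ModuleCat.of A N') n
    haveI : Subsingleton (DRing.Tor A n M N') := hT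
    exact e'.symm.injective (Subsingleton.elim _ _)
  obtain ⟨y', hy'⟩ := (clsT_eq_zero_iff P.complex n (ModuleCat.of A N') _ hx').1 hz
  have hy2 : LinearMap.rTensor N' (P.complex.d ((ComplexShape.down ℕ).prev n) n).hom y' =
      LinearMap.lTensor (P.complex.X n) g x := hy'
  haveI h1 : IsLocalizedModule p.primeCompl
      (LinearMap.lTensor (P.complex.X ((ComplexShape.down ℕ).prev n)) g) :=
    isLocalizedModule_lTensor p.primeCompl g _
  haveI h0 : IsLocalizedModule p.primeCompl (LinearMap.lTensor (P.complex.X n) g) :=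
    isLocalizedModule_lTensor p.primeCompl g _
  obtain ⟨⟨y, s⟩, hys⟩ := IsLocalizedModule.surj p.primeCompl
    (LinearMap.lTensor (P.complex.X ((ComplexShape.down ℕ).prev n)) g) y'
  have hys' : (s : A) • y' = LinearMap.lTensor (P.complex.X ((ComplexShape.down ℕ).prev n)) g y :=
    hys
  have key : LinearMap.lTensor (P.complex.X n) g ((s : A) • x) =
      LinearMap.lTensor (P.complex.X n) g
        (LinearMap.rTensor N (P.complex.d ((ComplexShape.down ℕ).prev n) n).hom y) := by
    rw [LinearMap.map_smul, ← hy2, ← LinearMap.map_smul, hys', rTensor_lTensor_comm]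
  obtain ⟨t, ht⟩ := IsLocalizedModule.exists_of_eq (S := p.primeCompl)
    (f := LinearMap.lTensor (P.complex.X n) g) key
  have ht' : (t : A) • ((s : A) • x) =
      (t : A) • LinearMap.rTensor N (P.complex.d ((ComplexShape.down ℕ).prev n) n).hom y := ht
  have hmem : (t : A) * (s : A) ∈ I :=
    ⟨(t : A) • y, by rw [LinearMap.map_smul, ← ht', mul_smul]⟩
  rcases hp.isPrime.mem_or_mem (hIp hmem) with h3 | h3
  · exact (Ideal.mem_primeCompl_iff.1 t.2) h3
  · exact (Ideal.mem_primeCompl_iff.1 s.2) h3

/-- `Tor_n^A(M, N) = 0` as soon as `Tor_n^{A_p}(N_p, M_p) = 0` for every maximal ideal `p`. -/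
theorem torZ_of_forall_isLocalization {A : Type u} [CommRing A] (n : ℕ) (M N : Type u)
    [AddCommGroup M] [Module A M] [AddCommGroup N] [Module A N]
    (h : ∀ (p : Ideal A) [p.IsMaximal], ∃ (B : Type u) (_ : CommRing B) (_ : Algebra A B),
      IsLocalization.AtPrime B p ∧ TorZ B n (B ⊗[A] N) (B ⊗[A] M)) : TorZ A n M N := by
  refine torZ_of_forall_maximal n M N (fun p hp => ?_)
  haveI := hp
  obtain ⟨B, iB, alg, hB, hT⟩ := h p
  haveI := hB
  refine ⟨B ⊗[A] N, inferInstance, inferInstance, TensorProduct.mk A B N 1, ?_, ?_⟩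
  · exact (isLocalizedModule_iff_isBaseChange p.primeCompl B _).2 (TensorProduct.isBaseChange A N B)
  · haveI : Module.Flat A B := IsLocalization.flat B p.primeCompl
    have halg : alg = (algebraMap A B).toAlgebra := Algebra.algebra_ext _ _ (fun r => rfl)
    obtain ⟨ψ, hψ⟩ := exists_semilinear_Tor_flat (algebraMap A B) halg (B ⊗[A] N) M n
    have h1 : TorZ A n (B ⊗[A] N) M := by
      unfold TorZ at hT ⊢
      haveI := hT
      exact hψ.injective.subsingleton
    exact h1.comm

/-- Two complete intersections meeting properly in a Cohen–Macaulay local ring are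
Tor-independent. -/
theorem torZ_local_cm (R : Type u) [CommRing R] [LocCoh.IsCohenMacaulayLocalRing R]
    (xs ys : List R) (hxs : ∀ x ∈ xs, x ∈ maximalIdeal R) (hys : ∀ y ∈ ys, y ∈ maximalIdeal R)
    (hht : ((xs ++ ys).length : ℕ∞) ≤ (Ideal.ofList (xs ++ ys)).height) (n : ℕ) (hn : 0 < n) :
    TorZ R n (R ⧸ Ideal.ofList xs) (R ⧸ Ideal.ofList ys) := by
  have hreg : IsWeaklyRegular R (xs ++ ys) := cm_isWeaklyRegular_of_height R (xs ++ ys)
    (fun x hx => (List.mem_append.1 hx).elim (hxs x) (hys x)) hht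
  have hreg' : IsWeaklyRegular R (ys ++ xs) := cm_isWeaklyRegular_of_height R (ys ++ xs)
    (fun x hx => (List.mem_append.1 hx).elim (hys x) (hxs x)) (by
      have h1 : Ideal.ofList (ys ++ xs) = Ideal.ofList (xs ++ ys) := by
        rw [Ideal.ofList_append, Ideal.ofList_append, sup_comm]
      have h2 : (ys ++ xs).length = (xs ++ ys).length := by
        rw [List.length_append, List.length_append, add_comm]
      rw [h1, h2]
      exact hht)
  have hys_reg : IsWeaklyRegular R ys := ((isWeaklyRegular_append_iff R ys xs).1 hreg').1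
  have hN0 : IsWeaklyRegular (R ⧸ (Ideal.ofList xs • ⊤ : Submodule R R)) ys :=
    ((isWeaklyRegular_append_iff R xs ys).1 hreg).2
  let e : (R ⧸ (Ideal.ofList xs • ⊤ : Submodule R R)) ≃ₗ[R] R ⧸ Ideal.ofList xs :=
    Submodule.quotEquivOfEq _ _ (by rw [smul_eq_mul, Ideal.mul_top])
  have hN : IsWeaklyRegular (R ⧸ Ideal.ofList xs) ys := (e.isWeaklyRegular_congr ys).1 hN0
  have hz := (isWeaklyRegular_iff_Tor_vanishing (R ⧸ Ideal.ofList xs) ys hys hys_reg).1 hN n hn
  have h1 : TorZ R n (R ⧸ Ideal.ofList ys) (R ⧸ Ideal.ofList xs) := by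
    unfold TorZ
    rw [← ModuleCat.isZero_iff_subsingleton]
    exact hz
  exact h1.comm

/-- Local criterion for `Tor_n^A(A/I, A/J) = 0`. -/
theorem torZ_quot_of_local {A : Type u} [CommRing A] (I J : Ideal A) (n : ℕ) (hn : 0 < n)
    (h : ∀ (p : Ideal A) [p.IsPrime], I ≤ p → J ≤ p →
      ∃ (B : Type u) (_ : CommRing B) (_ : Algebra A B), IsLocalization.AtPrime B p ∧
        ∃ (_ : LocCoh.IsCohenMacaulayLocalRing B) (xs ys : List B),
          I.map (algebraMap A B) = Ideal.ofList xs ∧ J.map (algebraMap A B) = Ideal.ofList ys ∧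
          (((xs ++ ys).length : ℕ∞) ≤ (Ideal.ofList (xs ++ ys)).height)) :
    TorZ A n (A ⧸ I) (A ⧸ J) := by
  obtain ⟨m, rfl⟩ : ∃ m, n = m + 1 := ⟨n - 1, by omega⟩
  refine torZ_of_forall_isLocalization (m + 1) (A ⧸ I) (A ⧸ J) (fun p hp => ?_)
  haveI := hp
  have transfer : ∀ (B : Type u) [CommRing B] [Algebra A B],
      TorZ B (m + 1) (B ⧸ J.map (algebraMap A B)) (B ⧸ I.map (algebraMap A B)) →
      TorZ B (m + 1) (B ⊗[A] (A ⧸ J)) (B ⊗[A] (A ⧸ I)) := by
    intro B _ _ hT
    exact torZ_of_equiv_right (Algebra.TensorProduct.quotIdealMapEquivTensorQuot B I).toLinearEquiv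
      (torZ_of_equiv_left (Algebra.TensorProduct.quotIdealMapEquivTensorQuot B J).toLinearEquiv hT)
  have htop : ∀ K : Ideal A, ¬ K ≤ p →
      K.map (algebraMap A (Localization.AtPrime p)) = ⊤ := by
    intro K hK
    obtain ⟨a, haK, hap⟩ := SetLike.not_le_iff_exists.1 hK
    exact Ideal.eq_top_of_isUnit_mem _ (Ideal.mem_map_of_mem _ haK)
      (IsLocalization.map_units (Localization.AtPrime p) (⟨a, hap⟩ : p.primeCompl))
  by_cases hI : I ≤ p
  · by_cases hJ : J ≤ p
    · obtain ⟨B, iB, alg, hB, hCM, xs, ys, hxs, hys, hht⟩ := h p hI hJ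
      haveI := hB
      refine ⟨B, iB, alg, hB, transfer B ?_⟩
      have hmax : p.map (algebraMap A B) = maximalIdeal B :=
        IsLocalization.AtPrime.map_eq_maximalIdeal p B
      have hxm : ∀ x ∈ xs, x ∈ maximalIdeal B := by
        intro x hx
        have h1 : x ∈ Ideal.ofList xs := Ideal.subset_span hx
        rw [← hxs] at h1
        rw [← hmax]
        exact Ideal.map_mono hI h1
      have hym : ∀ y ∈ ys, y ∈ maximalIdeal B := by
        intro y hy
        have h1 : y ∈ Ideal.ofList ys := Ideal.subset_span hy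
        rw [← hys] at h1
        rw [← hmax]
        exact Ideal.map_mono hJ h1
      rw [hxs, hys]
      exact (torZ_local_cm B xs ys hxm hym hht (m + 1) hn).comm
    · refine ⟨Localization.AtPrime p, inferInstance, inferInstance, inferInstance, transfer _ ?_⟩
      haveI : Subsingleton (Localization.AtPrime p ⧸ J.map (algebraMap A (Localization.AtPrime p))) :=
        Ideal.Quotient.subsingleton_iff.2 (htop J hJ)
      haveI := Module.Free.of_subsingleton (Localization.AtPrime p)
        (Localization.AtPrime p ⧸ J.map (algebraMap A (Localization.AtPrime p)))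
      exact torZ_of_flat_left m
  · refine ⟨Localization.AtPrime p, inferInstance, inferInstance, inferInstance, transfer _ ?_⟩
    haveI : Subsingleton (Localization.AtPrime p ⧸ I.map (algebraMap A (Localization.AtPrime p))) :=
      Ideal.Quotient.subsingleton_iff.2 (htop I hI)
    haveI := Module.Free.of_subsingleton (Localization.AtPrime p)
      (Localization.AtPrime p ⧸ I.map (algebraMap A (Localization.AtPrime p)))
    exact torZ_of_flat_right m

/-- `Tor` of two cyclic modules presented by surjective ring maps. -/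
theorem subsingleton_tor_of_surjective {A S T : Type u} [CommRing A] [CommRing S] [CommRing T]
    (φ : A →+* S) (ψ : A →+* T) (hφ : Function.Surjective φ) (hψ : Function.Surjective ψ) (n : ℕ)
    (h : TorZ A n (A ⧸ RingHom.ker φ) (A ⧸ RingHom.ker ψ)) :
    Subsingleton (@DRing.Tor A _ n S T _ φ.toModule _ ψ.toModule) := by
  letI : Module A S := φ.toModule
  letI : Module A T := ψ.toModule
  let f : A →ₗ[A] S :=
    { toFun := φ, map_add' := map_add φ, map_smul' := fun a b => map_mul φ a b }
  let g : A →ₗ[A] T :=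
    { toFun := ψ, map_add' := map_add ψ, map_smul' := fun a b => map_mul ψ a b }
  have hf : LinearMap.ker f = RingHom.ker φ := by
    ext a
    rw [LinearMap.mem_ker, RingHom.mem_ker]
    rfl
  have hg : LinearMap.ker g = RingHom.ker ψ := by
    ext a
    rw [LinearMap.mem_ker, RingHom.mem_ker]
    rfl
  let eS : (A ⧸ RingHom.ker φ) ≃ₗ[A] S :=
    (Submodule.quotEquivOfEq _ _ hf.symm).trans (f.quotKerEquivOfSurjective hφ)
  let eT : (A ⧸ RingHom.ker ψ) ≃ₗ[A] T :=
    (Submodule.quotEquivOfEq _ _ hg.symm).trans (g.quotKerEquivOfSurjective hψ)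
  exact torZ_of_equiv_right eT (torZ_of_equiv_left eS h)

end Groth.Agent.Lib.Helper25.TorLoc
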