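import Groth.Agent.Lib.Helper25.TorKosz
import Groth.Agent.Lib.Helper17.DevStep
import Groth.Agent.Lib.Helper3.ModBasis

/-!
# The cartesian square for the homology of a Koszul complex twisted by a divisor
-/

set_option autoImplicit false
set_option linter.style.haveILetI false
universe u
open CategoryTheory CategoryTheory.Limits AlgebraicGeometry TopologicalSpace Opposite
open Scheme.Modules

namespace Groth.Agent.Lib.Helper25.TorMain

open Groth.Agent.Lib.Helper3 Groth.Agent.Lib.Helper3.QCSec Groth.Agent.Lib.Helper3.InvGen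
  Groth.Agent.Lib.Helper3.InvTensor Groth.Agent.Lib.Helper3.IdealMod Groth.Agent.Lib.Helper17
open Groth.Agent.Lib.Helper25.TorSec Groth.Agent.Lib.Helper25.TorAlg
  Groth.Agent.Lib.Helper25.KoszMap Groth.Agent.Lib.Helper25

variable {X : Scheme.{u}} {E' E : X.Modules} {s' : E' ⟶ Coh.structureModule X}
  {s : E ⟶ Coh.structureModule X}
  (C' : KoszSh.Cx E' s') (C : KoszSh.Cx E s) (φ : C'.K ⟶ C.K) (ID : X.IdealSheafData) (q : ℕ)

/-- restriction to the divisor followed by direct image -/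
noncomputable abbrev resD : X.Modules ⥤ X.Modules :=
  Scheme.Modules.pullback ID.subschemeι ⋙ Scheme.Modules.pushforward ID.subschemeι

noncomputable abbrev fD : (resD ID).obj (C.K.cycles q) ⟶ (resD ID).obj (C.K.homology q) :=
  (resD ID).map (C.K.homologyπ q)

noncomputable abbrev gD : C.K.homology q ⟶ (resD ID).obj (C.K.homology q) :=
  (Scheme.Modules.pullbackPushforwardAdjunction ID.subschemeι).unit.app (C.K.homology q)

noncomputable abbrev Pb : X.Modules := pullback (fD C ID q) (gD C ID q)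

/-- the local maps -/
noncomputable def torMaps (V : X.Opens) :
    Maps Γ(X, V) Γ(C'.K.X (q + 1), V) Γ(C'.K.X q, V)
      Γ(C'.K.X ((ComplexShape.down ℕ).next q), V)
      Γ(C'.K.cycles q, V) Γ(C'.K.homology q, V)
      Γ(C.K.X (q + 1), V) Γ(C.K.X q, V) Γ(C.K.X ((ComplexShape.down ℕ).next q), V)
      Γ(C.K.cycles q, V) Γ(C.K.homology q, V)
      Γ((resD ID).obj (C.K.cycles q), V) Γ((resD ID).obj (C.K.homology q), V)
      Γ(Pb C ID q, V) where
  d1p := appLin (C'.K.d (q + 1) q) V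
  d0p := appLin (C'.K.d q ((ComplexShape.down ℕ).next q)) V
  ip := appLin (C'.K.iCycles q) V
  tp := appLin (C'.K.toCycles (q + 1) q) V
  toHp := appLin (C'.K.homologyπ q) V
  d1 := appLin (C.K.d (q + 1) q) V
  d0 := appLin (C.K.d q ((ComplexShape.down ℕ).next q)) V
  i := appLin (C.K.iCycles q) V
  t := appLin (C.K.toCycles (q + 1) q) V
  toH := appLin (C.K.homologyπ q) V
  φ1 := appLin (φ.f (q + 1)) V
  φ0 := appLin (φ.f q) V
  φm := appLin (φ.f ((ComplexShape.down ℕ).next q)) V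
  pZ := appLin (DevStep.proj ID (C.K.cycles q)) V
  pH := appLin (gD C ID q) V
  mapD := appLin (fD C ID q) V
  pr1 := appLin (pullback.fst (fD C ID q) (gD C ID q)) V
  pr2 := appLin (pullback.snd (fD C ID q) (gD C ID q)) V

theorem torHyp [hqc' : ∀ p, (C'.K.X p).IsQuasicoherent] [hqc : ∀ p, (C.K.X p).IsQuasicoherent]
    (V : X.affineOpens) (x : Γ(X, V.1)) (hspan : ID.ideal V = Ideal.span {x})
    (hloc : ∀ p : ℕ, Function.Injective ((φ.f p).app V.1) ∧
      (∀ y : Γ(C.K.X p, V.1), ∃ y' : Γ(C'.K.X p, V.1), (φ.f p).app V.1 y' = x ^ p • y) ∧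
      (∀ y' : Γ(C'.K.X p, V.1), ∃ y : Γ(C.K.X p, V.1), (φ.f p).app V.1 y' = x ^ p • y) ∧
      (∀ y : Γ(C.K.X p, V.1), x • y = 0 → y = 0))
    (hregV : ∀ h : Γ(C.K.homology q, V.1), x • h = 0 → h = 0) :
    Hyp (torMaps C' C φ ID q V.1) x q := by
  have hV : IsAffineOpen V.1 := V.2
  haveI := isQuasicoherent_cycles C.K q
  haveI := isQuasicoherent_homology C.K q
  have hxmem : x ∈ ID.ideal V := by rw [hspan]; exact Ideal.mem_span_singleton_self x
  have hps := pullback_sections (fD C ID q) (gD C ID q) V.1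
  exact
    { ip_inj := fun a b h => QCExact.injective_sections (C'.K.iCycles q) V.1 h
      ip_d := fun z => app_congr (C'.K.iCycles_d q ((ComplexShape.down ℕ).next q)) V.1 z
      ip_ex := fun y hy => exists_cycle C'.K q ((ComplexShape.down ℕ).next q) rfl V.1 y hy
      tp_i := fun w => app_congr (C'.K.toCycles_i (q + 1) q) V.1 w
      toHp_surj := homologyπ_surjective C'.K q hV
      toHp_t := fun w => app_congr (C'.K.toCycles_comp_homologyπ (q + 1) q) V.1 w
      toHp_ker := fun z hz => exists_toCycles C'.K q hV z hz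
      i_inj := fun a b h => QCExact.injective_sections (C.K.iCycles q) V.1 h
      i_d := fun z => app_congr (C.K.iCycles_d q ((ComplexShape.down ℕ).next q)) V.1 z
      i_ex := fun y hy => exists_cycle C.K q ((ComplexShape.down ℕ).next q) rfl V.1 y hy
      t_i := fun w => app_congr (C.K.toCycles_i (q + 1) q) V.1 w
      toH_surj := homologyπ_surjective C.K q hV
      toH_t := fun w => app_congr (C.K.toCycles_comp_homologyπ (q + 1) q) V.1 w
      toH_ker := fun z hz => exists_toCycles C.K q hV z hz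
      φ_d1 := fun w => app_congr (φ.comm (q + 1) q) V.1 w
      φ_d0 := fun y => app_congr (φ.comm q ((ComplexShape.down ℕ).next q)) V.1 y
      φ0_inj := fun a b h => (hloc q).1 h
      φm_inj := fun a b h => (hloc ((ComplexShape.down ℕ).next q)).1 h
      φ0_ex := (hloc q).2.1
      φ0_im := (hloc q).2.2.1
      φ1_ex := (hloc (q + 1)).2.1
      φ1_im := (hloc (q + 1)).2.2.1
      x_K0 := (hloc q).2.2.2
      x_Km := (hloc ((ComplexShape.down ℕ).next q)).2.2.2
      x_H := hregV
      pZ_surj := DevStep.proj_app_surjective ID (C.K.cycles q) V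
      pZ_x := fun z => DevStep.proj_app_smul_eq_zero ID (C.K.cycles q) V x hxmem z
      pZ_ker := fun z hz => exists_smul_of_mem_span_smul x z (by
        have h1 := DevStep.mem_smul_top_of_proj_app_eq_zero ID (C.K.cycles q) V z hz
        rwa [hspan] at h1)
      pH_ker := fun h hh => exists_smul_of_mem_span_smul x h (by
        have h1 := DevStep.mem_smul_top_of_proj_app_eq_zero ID (C.K.homology q) V h hh
        rwa [hspan] at h1)
      nat := fun z => (app_congr ((Scheme.Modules.pullbackPushforwardAdjunction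
        ID.subschemeι).unit.naturality (C.K.homologyπ q)) V.1 z).symm
      P_ext := hps.1
      P_ex := hps.2
      P_cond := fun p => app_congr (pullback.condition (f := fD C ID q) (g := gD C ID q)) V.1 p }

theorem rel_res {V V' : X.Opens} (h : V' ≤ V) (x : Γ(X, V)) {h' : Γ(C'.K.homology q, V)}
    {p : Γ(Pb C ID q, V)} (r : Rel (torMaps C' C φ ID q V) x q h' p) :
    Rel (torMaps C' C φ ID q V') (rres X h x) q (res (C'.K.homology q) h h')
      (res (Pb C ID q) h p) := by
  obtain ⟨z', z, ha, hb, hc, hd⟩ := r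
  have ha' : (C'.K.homologyπ q).app V z' = h' := ha
  have hb' : (φ.f q).app V ((C'.K.iCycles q).app V z') = x ^ q • (C.K.iCycles q).app V z := hb
  have hc' : (pullback.fst (fD C ID q) (gD C ID q)).app V p =
      (DevStep.proj ID (C.K.cycles q)).app V z := hc
  have hd' : (pullback.snd (fD C ID q) (gD C ID q)).app V p = (C.K.homologyπ q).app V z := hd
  refine ⟨res (C'.K.cycles q) h z', res (C.K.cycles q) h z, ?_, ?_, ?_, ?_⟩
  · show (C'.K.homologyπ q).app V' (res (C'.K.cycles q) h z') = res (C'.K.homology q) h h'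
    rw [QCExact.app_res', ha']
  · show (φ.f q).app V' ((C'.K.iCycles q).app V' (res (C'.K.cycles q) h z')) =
      (rres X h x) ^ q • (C.K.iCycles q).app V' (res (C.K.cycles q) h z)
    have e1 : (C'.K.iCycles q).app V' (res (C'.K.cycles q) h z') =
        res (C'.K.X q) h ((C'.K.iCycles q).app V z') := QCExact.app_res' _ h z'
    have e2 : (φ.f q).app V' (res (C'.K.X q) h ((C'.K.iCycles q).app V z')) =
        res (C.K.X q) h ((φ.f q).app V ((C'.K.iCycles q).app V z')) := QCExact.app_res' _ h _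
    have e3 : (C.K.iCycles q).app V' (res (C.K.cycles q) h z) =
        res (C.K.X q) h ((C.K.iCycles q).app V z) := QCExact.app_res' _ h z
    rw [e1, e2, e3, hb', res_pow_smul]
  · show (pullback.fst (fD C ID q) (gD C ID q)).app V' (res (Pb C ID q) h p) =
      (DevStep.proj ID (C.K.cycles q)).app V' (res (C.K.cycles q) h z)
    rw [QCExact.app_res', hc', QCExact.app_res']
    rfl
  · show (pullback.snd (fD C ID q) (gD C ID q)).app V' (res (Pb C ID q) h p) =
      (C.K.homologyπ q).app V' (res (C.K.cycles q) h z)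
    rw [QCExact.app_res', hd', QCExact.app_res']

local notation "𝓛" => ClSub.idealMod ID

theorem nonempty_iso [hqc' : ∀ p, (C'.K.X p).IsQuasicoherent]
    [hqc : ∀ p, (C.K.X p).IsQuasicoherent]
    (hL : PicF.IsInvertible (ClSub.idealMod ID))
    (hloc : ∀ (V : X.affineOpens) (e : Γ(ClSub.idealMod ID, V.1)),
      IsGen (ClSub.idealMod ID) V.1 e →
      (∀ p : ℕ, Function.Injective ((φ.f p).app V.1) ∧
        (∀ y : Γ(C.K.X p, V.1), ∃ y' : Γ(C'.K.X p, V.1),
          (φ.f p).app V.1 y' = (val ID e) ^ p • y) ∧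
        (∀ y' : Γ(C'.K.X p, V.1), ∃ y : Γ(C.K.X p, V.1),
          (φ.f p).app V.1 y' = (val ID e) ^ p • y) ∧
        (∀ y : Γ(C.K.X p, V.1), val ID e • y = 0 → y = 0)) ∧
      (∀ h : Γ(C.K.homology q, V.1), val ID e • h = 0 → h = 0)) :
    Nonempty (C'.K.homology q ≅
      CohB1.tensorMod (Pb C ID q) (CohB1.tensorPow (ClSub.idealMod ID) q)) := by
  classical
  let Small : X.Opens → Prop := fun V => IsAffineOpen V ∧ ∃ e : Γ(𝓛, V), IsGen 𝓛 V e
  have hcov : ∀ (W : X.Opens) (x : X), x ∈ W → ∃ V : X.Opens, Small V ∧ x ∈ V ∧ V ≤ W := by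
    intro W x hx
    obtain ⟨U, e, hU, hxU, hUW, hg⟩ := exists_affine_isGen_le hL x W hx
    exact ⟨U, ⟨hU, e, hg⟩, hxU, hUW⟩
  have hyp : ∀ (V : X.Opens) (hV : IsAffineOpen V) (e : Γ(𝓛, V)) (hg : IsGen 𝓛 V e),
      Hyp (torMaps C' C φ ID q V) (val ID e) q := by
    intro V hV e hg
    obtain ⟨h1, h2⟩ := hloc ⟨V, hV⟩ e hg
    exact torHyp C' C φ ID q ⟨V, hV⟩ (val ID e)
      (EffCartMod.span_of_isGenAt ID ⟨V, hV⟩ e hg.self).2 h1 h2
  let gen : ∀ V, Small V → Γ(𝓛, V) := fun V hV => hV.2.choose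
  have hgen : ∀ V (hV : Small V), IsGen 𝓛 V (gen V hV) := fun V hV => hV.2.choose_spec
  let pch : ∀ V (hV : Small V), Γ(C'.K.homology q, V) → Γ(Pb C ID q, V) :=
    fun V hV h' => (rel_exists (hyp V hV.1 (gen V hV) (hgen V hV)) h').choose
  have hpch : ∀ V (hV : Small V) (h' : Γ(C'.K.homology q, V)),
      Rel (torMaps C' C φ ID q V) (val ID (gen V hV)) q h' (pch V hV h') :=
    fun V hV h' => (rel_exists (hyp V hV.1 (gen V hV) (hgen V hV)) h').choose_spec
  let D : ∀ V, Small V → Γ(C'.K.homology q, V) →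
      Γ(CohB1.tensorMod (Pb C ID q) (CohB1.tensorPow 𝓛 q), V) :=
    fun V hV h' => tm (Pb C ID q) (CohB1.tensorPow 𝓛 q) V (pch V hV h') (lpow 𝓛 (gen V hV) q)
  have hD : ∀ V (hV : Small V) (e : Γ(𝓛, V)) (hg : IsGen 𝓛 V e)
      (h' : Γ(C'.K.homology q, V)) (p : Γ(Pb C ID q, V)),
      Rel (torMaps C' C φ ID q V) (val ID e) q h' p →
      D V hV h' = tm (Pb C ID q) (CohB1.tensorPow 𝓛 q) V p (lpow 𝓛 e q) := by
    intro V hV e hg h' p hp
    obtain ⟨u, hu⟩ := (hgen V hV).self.exists_coord e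
    have hx : val ID e = u * val ID (gen V hV) := by rw [← hu, val_smul]
    rw [hx] at hp
    have h1 := rel_unique (hyp V hV.1 (gen V hV) (hgen V hV)) u (hpch V hV h') hp
    show tm (Pb C ID q) (CohB1.tensorPow 𝓛 q) V (pch V hV h') (lpow 𝓛 (gen V hV) q) = _
    rw [h1, ← hu, lpow_smul, tm_smul_comm]
  have hadd : ∀ V hV (a b : Γ(C'.K.homology q, V)), D V hV (a + b) = D V hV a + D V hV b := by
    intro V hV a b
    rw [hD V hV (gen V hV) (hgen V hV) (a + b) (pch V hV a + pch V hV b)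
      (rel_add (hpch V hV a) (hpch V hV b))]
    exact tm_add_left _ _ V _ _ _
  have hsmul : ∀ V hV (r : Γ(X, V)) (a : Γ(C'.K.homology q, V)),
      D V hV (r • a) = r • D V hV a := by
    intro V hV r a
    rw [hD V hV (gen V hV) (hgen V hV) (r • a) (r • pch V hV a) (rel_smul r (hpch V hV a))]
    exact tm_smul_left _ _ V r _ _
  have hres : ∀ {V V' : X.Opens} (h : V' ≤ V) (hV : Small V) (hV' : Small V')
      (a : Γ(C'.K.homology q, V)),
      res (CohB1.tensorMod (Pb C ID q) (CohB1.tensorPow 𝓛 q)) h (D V hV a) =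
        D V' hV' (res (C'.K.homology q) h a) := by
    intro V V' h hV hV' a
    have h1 := rel_res C' C φ ID q h (val ID (gen V hV)) (hpch V hV a)
    rw [← val_res] at h1
    rw [hD V' hV' (res 𝓛 h (gen V hV)) ((hgen V hV).mono h) _ _ h1]
    show res _ h (tm (Pb C ID q) (CohB1.tensorPow 𝓛 q) V (pch V hV a)
      (lpow 𝓛 (gen V hV) q)) = _
    rw [tm_res, lpow_res]
  obtain ⟨Φ, hΦ⟩ := ExtPowTw.exists_hom_of_basis Small hcov D hadd hsmul hres
  haveI : Mono Φ := by
    apply ModBasis.mono_of_injective_on_basis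
    intro W x hx
    obtain ⟨V, hV, hxV, hVW⟩ := hcov W x hx
    refine ⟨V, hxV, hVW, ?_⟩
    intro t ht
    rw [hΦ V hV t] at ht
    have ht' : tm (Pb C ID q) (CohB1.tensorPow 𝓛 q) V (pch V hV t)
        (lpow 𝓛 (gen V hV) q) = 0 := ht
    rw [TwKosz.tm_eq_zero_iff (isGen_lpow (hgen V hV) q)] at ht'
    have h1 := hpch V hV t
    rw [ht'] at h1
    exact rel_inj (hyp V hV.1 (gen V hV) (hgen V hV)) h1
  haveI : Epi Φ := by
    apply ModBasis.epi_of_surjective_on_basis
    intro W x hx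
    obtain ⟨V, hV, hxV, hVW⟩ := hcov W x hx
    refine ⟨V, hxV, hVW, ?_⟩
    intro σ
    obtain ⟨p, hp⟩ := TwKosz.exists_tm_eq (isGen_lpow (hgen V hV) q) σ
    obtain ⟨h', hh'⟩ := rel_surj (hyp V hV.1 (gen V hV) (hgen V hV)) p
    refine ⟨h', ?_⟩
    rw [hΦ V hV h', hD V hV (gen V hV) (hgen V hV) h' p hh']
    exact hp
  haveI : IsIso Φ := isIso_of_mono_of_epi Φ
  exact ⟨asIso Φ⟩

end Groth.Agent.Lib.Helper25.TorMain
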