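import Mathlib
import Groth.Prelude
import Groth.Agent.Lib.Helper25.ConormBC

/-!
# Differentials of a torsor (helper25)

For a pseudo-torsor `X` over `Y` under the base change of an affine group `G` over `Spec ℂ`, the
diagonal of `X/Y` is the base change of the unit section of `G` along the flat "difference" map
`g : X ×_Y X → G`; hence the conormal map is an isomorphism.
-/

set_option autoImplicit false
set_option linter.style.haveILetI false
universe u
open CategoryTheory MonoidalCategory CartesianMonoidalCategory MonObj AlgebraicGeometry Limits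

namespace Groth.Agent.Lib.Helper25.TorsOmega

section General

variable {C : Type*} [Category C] [HasPullbacks C]

/-- pullback of a section along the projection of a fibre product -/
theorem isPullback_section {A B D : C} (f : A ⟶ B) (h : D ⟶ B) (s : B ⟶ A) (hs : s ≫ f = 𝟙 B) :
    IsPullback (pullback.lift (h ≫ s) (𝟙 D)
        (by rw [Category.assoc, hs, Category.comp_id, Category.id_comp]))
      h (pullback.fst f h) s := by
  refine IsPullback.of_right (h₁₂ := pullback.snd f h) (h₂₂ := f) (v₁₃ := h) ?_ ?_ ?_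
  · have e1 : pullback.lift (h ≫ s) (𝟙 D)
        (by rw [Category.assoc, hs, Category.comp_id, Category.id_comp]) ≫ pullback.snd f h = 𝟙 D :=
      pullback.lift_snd _ _ _
    rw [e1, hs]
    exact IsPullback.id_horiz h
  · exact pullback.lift_fst _ _ _
  · exact (IsPullback.of_hasPullback f h).flip

end General

variable {G Y : Over (Spec (CommRingCat.of ℂ))} [GrpObj G]

open scoped Obj in
theorem unit_fst : (η[Red.bc Y.hom G]).left ≫ pullback.fst G.hom Y.hom = Y.hom ≫ (η[G]).left := by
  have h0 : (η[Red.bc Y.hom G] : 𝟙_ (Over Y.left) ⟶ Red.bc Y.hom G) =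
      Functor.LaxMonoidal.ε (Over.pullback Y.hom) ≫ (Over.pullback Y.hom).map η[G] := rfl
  rw [h0, Over.comp_left, Category.assoc]
  have h1 : ((Over.pullback Y.hom).map η[G]).left ≫ pullback.fst G.hom Y.hom =
      pullback.fst (𝟙_ (Over (Spec (CommRingCat.of ℂ)))).hom Y.hom ≫ (η[G]).left :=
    pullback.lift_fst _ _ _
  rw [h1]
  have h2 : (Functor.LaxMonoidal.ε (Over.pullback Y.hom)).left ≫
      pullback.fst (𝟙_ (Over (Spec (CommRingCat.of ℂ)))).hom Y.hom = Y.hom := by
    have c := pullback.condition (f := (𝟙_ (Over (Spec (CommRingCat.of ℂ)))).hom) (g := Y.hom)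
    have w := Over.w (Functor.LaxMonoidal.ε (Over.pullback Y.hom))
    have c' : pullback.fst (𝟙_ (Over (Spec (CommRingCat.of ℂ)))).hom Y.hom =
        pullback.snd (𝟙_ (Over (Spec (CommRingCat.of ℂ)))).hom Y.hom ≫ Y.hom :=
      (Category.comp_id _).symm.trans c
    have w' : (Functor.LaxMonoidal.ε (Over.pullback Y.hom)).left ≫
        pullback.snd (𝟙_ (Over (Spec (CommRingCat.of ℂ)))).hom Y.hom = 𝟙 Y.left := w
    rw [c', ← Category.assoc, w']
    exact Category.id_comp _
  rw [← Category.assoc, h2]

theorem unit_hom' : (η[Red.bc Y.hom G]).left ≫ (Red.bc Y.hom G).hom = 𝟙 Y.left :=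
  Over.w (η[Red.bc Y.hom G])

theorem unit_hom : (η[G]).left ≫ G.hom = 𝟙 _ := Over.w η[G]

theorem unit_eq_lift :
    pullback.lift (Y.hom ≫ (η[G]).left) (𝟙 Y.left)
      (by rw [Category.assoc, unit_hom]; exact (Category.comp_id _).trans (Category.id_comp _).symm) =
      (η[Red.bc Y.hom G]).left := by
  apply pullback.hom_ext
  · rw [pullback.lift_fst, unit_fst]
  · rw [pullback.lift_snd]
    exact (unit_hom' (G := G) (Y := Y)).symm

variable {X : Over Y.left} (a : AlgGrp.Action (Red.bc Y.hom G) X)

/-- the section `x ↦ (e, x)` -/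
noncomputable def uSec : X.left ⟶ pullback (Red.bc Y.hom G).hom X.hom :=
  (lift (toUnit X ≫ η[Red.bc Y.hom G]) (𝟙 X)).left

theorem uSec_fst : uSec (G := G) (X := X) ≫ pullback.fst (Red.bc Y.hom G).hom X.hom =
    X.hom ≫ (η[Red.bc Y.hom G]).left := by
  have := congrArg (fun k => k.left) (lift_fst (toUnit X ≫ η[Red.bc Y.hom G]) (𝟙 X))
  exact this

theorem uSec_snd : uSec (G := G) (X := X) ≫ pullback.snd (Red.bc Y.hom G).hom X.hom = 𝟙 X.left := by
  have := congrArg (fun k => k.left) (lift_snd (toUnit X ≫ η[Red.bc Y.hom G]) (𝟙 X))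
  exact this

theorem uSec_eq : uSec (G := G) (X := X) =
    pullback.lift (X.hom ≫ (η[Red.bc Y.hom G]).left) (𝟙 X.left)
      (by rw [Category.assoc, unit_hom']; exact (Category.comp_id _).trans (Category.id_comp _).symm) := by
  apply pullback.hom_ext
  · rw [uSec_fst, pullback.lift_fst]
  · rw [uSec_snd, pullback.lift_snd]

theorem uSec_act : uSec (G := G) (X := X) ≫ a.act.left = 𝟙 X.left := by
  have h1 : lift (toUnit X ≫ η[Red.bc Y.hom G]) (𝟙 X) = (λ_ X).inv ≫ (η[Red.bc Y.hom G] ▷ X) := by
    ext <;> simp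
  have h2 : lift (toUnit X ≫ η[Red.bc Y.hom G]) (𝟙 X) ≫ a.act = 𝟙 X := by
    rw [h1, Category.assoc, a.one_act, Iso.inv_hom_id]
  have := congrArg (fun k => k.left) h2
  exact this

theorem isPullback_uSec :
    IsPullback (uSec (G := G) (X := X)) (X.hom ≫ Y.hom)
      (pullback.fst (Red.bc Y.hom G).hom X.hom ≫ pullback.fst G.hom Y.hom) (η[G]).left := by
  rw [uSec_eq]
  have A1 := isPullback_section (Red.bc Y.hom G).hom X.hom (η[Red.bc Y.hom G]).left unit_hom'
  have A2 := isPullback_section G.hom Y.hom (η[G]).left unit_hom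
  rw [unit_eq_lift] at A2
  exact A1.paste_vert A2

theorem exists_conormalMap_isIso [IsAffine G.left]
    (hiso : IsIso (lift a.act (snd (Red.bc Y.hom G) X)))
    (g : pullback X.hom X.hom ⟶ G.left)
    (hg : (lift a.act (snd (Red.bc Y.hom G) X)).left ≫ g =
      (fst (Red.bc Y.hom G) X).left ≫ pullback.fst G.hom Y.hom) :
    ∃ φ : (Scheme.Modules.pullback
          (toUnit (Over.mk (X.hom ≫ Y.hom) : Over (Spec (CommRingCat.of ℂ)))).left).obj
        (Omega.conormal (η[G]).left) ⟶ Omega.conormal (pullback.diagonal X.hom),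
      OmegaSh.IsConormalMap (pullback.diagonal X.hom) (η[G]).left g
        (toUnit (Over.mk (X.hom ≫ Y.hom) : Over (Spec (CommRingCat.of ℂ)))).left φ ∧ IsIso φ := by
  haveI := hiso
  haveI hΦi : IsIso (lift a.act (snd (Red.bc Y.hom G) X)).left :=
    inferInstanceAs (IsIso ((Over.forget _).map (lift a.act (snd (Red.bc Y.hom G) X))))
  have hΦ1 : (lift a.act (snd (Red.bc Y.hom G) X)).left ≫ pullback.fst X.hom X.hom = a.act.left := by
    have := congrArg (fun k => k.left) (lift_fst a.act (snd (Red.bc Y.hom G) X))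
    exact this
  have hΦ2 : (lift a.act (snd (Red.bc Y.hom G) X)).left ≫ pullback.snd X.hom X.hom =
      pullback.snd (Red.bc Y.hom G).hom X.hom := by
    have := congrArg (fun k => k.left) (lift_snd a.act (snd (Red.bc Y.hom G) X))
    exact this
  have hΔ : uSec (G := G) (X := X) ≫ (lift a.act (snd (Red.bc Y.hom G) X)).left =
      pullback.diagonal X.hom := by
    apply pullback.hom_ext
    · rw [Category.assoc, hΦ1, uSec_act, pullback.diagonal_fst]
    · rw [Category.assoc, hΦ2, uSec_snd, pullback.diagonal_snd]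
  have hsq : IsPullback (pullback.diagonal X.hom)
      (toUnit (Over.mk (X.hom ≫ Y.hom) : Over (Spec (CommRingCat.of ℂ)))).left g (η[G]).left := by
    refine (isPullback_uSec (G := G) (X := X)).of_iso (Iso.refl _)
      (asIso (lift a.act (snd (Red.bc Y.hom G) X)).left) (Iso.refl _) (Iso.refl _) ?_ ?_ ?_ ?_
    · rw [asIso_hom, hΔ]
      exact (Category.id_comp _).symm
    · rw [Iso.refl_hom, Category.comp_id]
      exact (Category.id_comp _).symm
    · rw [Iso.refl_hom, Category.comp_id, asIso_hom]
      exact hg.symm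
    · rw [Iso.refl_hom, Category.comp_id]
      exact (Category.id_comp _).symm
  haveI : IsClosedImmersion ((η[G]).left ≫ G.hom) := by
    rw [unit_hom]; infer_instance
  haveI : IsClosedImmersion (η[G]).left := IsClosedImmersion.of_comp (η[G]).left G.hom
  haveI : IsClosedImmersion (pullback.diagonal X.hom) :=
    MorphismProperty.of_isPullback (P := @IsClosedImmersion) hsq.flip inferInstance
  have hpaste : IsPullback (pullback.fst (Red.bc Y.hom G).hom X.hom ≫ pullback.fst G.hom Y.hom)
      (pullback.snd (Red.bc Y.hom G).hom X.hom) G.hom (X.hom ≫ Y.hom) :=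
    (IsPullback.of_hasPullback (Red.bc Y.hom G).hom X.hom).paste_horiz
      (IsPullback.of_hasPullback G.hom Y.hom)
  haveI : Flat (pullback.fst (Red.bc Y.hom G).hom X.hom ≫ pullback.fst G.hom Y.hom) :=
    MorphismProperty.of_isPullback (P := @Flat) hpaste.flip inferInstance
  have hgeq : g = inv (lift a.act (snd (Red.bc Y.hom G) X)).left ≫
      (pullback.fst (Red.bc Y.hom G).hom X.hom ≫ pullback.fst G.hom Y.hom) := by
    rw [IsIso.eq_inv_comp]
    exact hg
  haveI : Flat g := by
    rw [hgeq]; infer_instance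
  have hw := hsq.w.symm
  refine ⟨Groth.Agent.Lib.Helper1.ConormMapEx.conormalMap (pullback.diagonal X.hom) (η[G]).left g
    (toUnit (Over.mk (X.hom ≫ Y.hom) : Over (Spec (CommRingCat.of ℂ)))).left hw,
    Groth.Agent.Lib.Helper1.ConormMapEx.isConormalMap_conormalMap _ _ _ _ hw, ?_⟩
  exact ConormBC.isIso_of_flat _ _ _ _ _
    (Groth.Agent.Lib.Helper1.ConormMapEx.isConormalMap_conormalMap _ _ _ _ hw) hsq

end Groth.Agent.Lib.Helper25.TorsOmega
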