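import Mathlib

/-!
# Transfinite inverse limits of acyclic complexes with the lifting property are acyclic
-/

namespace Groth.Agent.Lib.Helper25.TransLim

open CategoryTheory CategoryTheory.Limits Opposite

universe w

section Principle

theorem exists_transfinite {I : Type*} [LinearOrder I] [WellFoundedLT I] {A : I → Type*}
    [∀ β, Inhabited (A β)]
    (Good : ∀ β : I, (∀ γ, γ < β → A γ) → A β → Prop)
    (hext : ∀ β (f : ∀ γ, γ < β → A γ),
      (∀ γ (h : γ < β), Good γ (fun δ hδ => f δ (hδ.trans h)) (f γ h)) → ∃ a, Good β f a) :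
    ∃ F : ∀ β, A β, ∀ β, Good β (fun γ _ => F γ) (F β) := by
  classical
  let step : ∀ β : I, (∀ γ, γ < β → A γ) → A β := fun β f =>
    if h : (∀ γ (hγ : γ < β), Good γ (fun δ hδ => f δ (hδ.trans hγ)) (f γ hγ))
    then (hext β f h).choose else default
  let F : ∀ β, A β := fun β => WellFounded.fix (C := A) wellFounded_lt step β
  have hF : ∀ β, F β = step β (fun γ _ => F γ) := fun β => WellFounded.fix_eq _ _ β
  refine ⟨F, fun β => ?_⟩
  induction β using WellFoundedLT.induction with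
  | ind β ih =>
    have h1 : step β (fun γ _ => F γ) = (hext β (fun γ _ => F γ) ih).choose :=
      dif_pos (fun γ hγ => ih γ hγ)
    have key := (hext β (fun γ _ => F γ) ih).choose_spec
    rwa [← h1, ← hF β] at key

end Principle

/-- abstract inverse system of complexes -/
structure Sys (I : Type w) [LinearOrder I] where
  X : I → ℤ → Type w
  [grp : ∀ β n, AddCommGroup (X β n)]
  r : ∀ {β γ : I}, γ ≤ β → ∀ n, X β n →+ X γ n
  d : ∀ β (i j : ℤ), X β i →+ X β j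
  r_refl : ∀ β n (x : X β n), r (le_refl β) n x = x
  r_trans : ∀ {β γ δ : I} (h₁ : γ ≤ β) (h₂ : δ ≤ γ) n (x : X β n),
    r h₂ n (r h₁ n x) = r (h₂.trans h₁) n x
  r_d : ∀ {β γ : I} (h : γ ≤ β) i j (x : X β i), d γ i j (r h i x) = r h j (d β i j x)
  d_d : ∀ β i j k (x : X β i), d β j k (d β i j x) = 0
  exact : ∀ β i j k, i + 1 = j → j + 1 = k → ∀ z : X β j, d β j k z = 0 →
    ∃ y : X β i, d β i j y = z
  surj : ∀ β n (x : ∀ γ : {γ : I // γ < β}, X γ.1 n),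
    (∀ (γ γ' : {γ : I // γ < β}) (h : γ.1 ≤ γ'.1), r h n (x γ') = x γ) →
    ∃ y : X β n, ∀ γ : {γ : I // γ < β}, r γ.2.le n y = x γ

attribute [instance] Sys.grp

section Core

variable {I : Type w} [LinearOrder I] [WellFoundedLT I] (S : Sys I)

/-- cycle lifting at β -/
def CL (β : I) : Prop := ∀ (i j k : ℤ), i + 1 = j → j + 1 = k → ∀ c : ∀ γ, S.X γ j,
  (∀ γ, γ < β → S.d γ j k (c γ) = 0) → (∀ γ δ (h : δ ≤ γ), γ < β → S.r h j (c γ) = c δ) →
  ∃ c' : S.X β j, S.d β j k c' = 0 ∧ ∀ γ (h : γ < β), S.r h.le j c' = c γ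

theorem thmA (p : I → Prop) (hp : ∀ γ δ, δ ≤ γ → p γ → p δ) (hCL : ∀ γ, p γ → CL S γ)
    (i j k : ℤ) (hij : i + 1 = j) (hjk : j + 1 = k) (c : ∀ γ, S.X γ j)
    (hc : ∀ γ, p γ → S.d γ j k (c γ) = 0)
    (hcc : ∀ γ δ (h : δ ≤ γ), p γ → S.r h j (c γ) = c δ) :
    ∃ b : ∀ γ, S.X γ i, (∀ γ, p γ → S.d γ i j (b γ) = c γ) ∧
      (∀ γ δ (h : δ ≤ γ), p γ → S.r h i (b γ) = b δ) := by
  classical
  haveI : ∀ γ, Inhabited (S.X γ i) := fun γ => ⟨0⟩
  let Good : ∀ γ : I, (∀ δ, δ < γ → S.X δ i) → S.X γ i → Prop := fun γ f a =>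
    p γ → (S.d γ i j a = c γ ∧ ∀ δ (h : δ < γ), S.r h.le i a = f δ h)
  have hext : ∀ γ (f : ∀ δ, δ < γ → S.X δ i),
      (∀ δ (h : δ < γ), Good δ (fun ε hε => f ε (hε.trans h)) (f δ h)) → ∃ a, Good γ f a := by
    intro γ f hf
    by_cases hγ : p γ
    swap
    · exact ⟨0, fun h => absurd h hγ⟩
    have hfc : ∀ (γ₁ γ₂ : {γ' : I // γ' < γ}) (h : γ₁.1 ≤ γ₂.1),
        S.r h i (f γ₂.1 γ₂.2) = f γ₁.1 γ₁.2 := by
      intro γ₁ γ₂ h
      rcases h.lt_or_eq with hlt | heq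
      · exact ((hf γ₂.1 γ₂.2 (hp _ _ γ₂.2.le hγ)).2 γ₁.1 hlt)
      · obtain ⟨g1, h1⟩ := γ₁
        obtain ⟨g2, h2⟩ := γ₂
        simp only at heq
        subst heq
        exact S.r_refl _ _ _
    obtain ⟨b', hb'⟩ := S.surj γ i (fun γ' => f γ'.1 γ'.2) hfc
    have hdu : S.d γ j k (c γ - S.d γ i j b') = 0 := by
      rw [map_sub, hc γ hγ, S.d_d, sub_zero]
    have hru : ∀ δ (h : δ < γ), S.r h.le j (c γ - S.d γ i j b') = 0 := by
      intro δ h
      rw [map_sub, hcc γ δ h.le hγ, ← S.r_d, hb' ⟨δ, h⟩, (hf δ h (hp _ _ h.le hγ)).1, sub_self]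
    obtain ⟨v, hv⟩ := S.exact γ i j k hij hjk _ hdu
    have hc1 : ∀ δ, δ < γ → S.d δ i j ((fun δ => if h : δ ≤ γ then S.r h i v else 0) δ) = 0 := by
      intro δ hδ
      simp only
      rw [dif_pos hδ.le, S.r_d, hv, hru δ hδ]
    have hc2 : ∀ δ ε (h : ε ≤ δ), δ < γ →
        S.r h i ((fun δ => if h : δ ≤ γ then S.r h i v else 0) δ) =
          (fun δ => if h : δ ≤ γ then S.r h i v else 0) ε := by
      intro δ ε h hδ
      simp only
      rw [dif_pos hδ.le, dif_pos (h.trans hδ.le), S.r_trans]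
    obtain ⟨v', hv'0, hv'r⟩ := hCL γ hγ (i - 1) i j (sub_add_cancel i 1) hij
      (fun δ => if h : δ ≤ γ then S.r h i v else 0) hc1 hc2
    refine ⟨b' + v - v', fun _ => ⟨?_, fun δ h => ?_⟩⟩
    · rw [map_sub, map_add, hv, hv'0, sub_zero]
      abel
    · rw [map_sub, map_add, hb' ⟨δ, h⟩, hv'r δ h, dif_pos h.le]
      abel
  obtain ⟨F, hF⟩ := exists_transfinite (A := fun γ => S.X γ i) Good hext
  refine ⟨F, fun γ hγ => (hF γ hγ).1, fun γ δ h hγ => ?_⟩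
  rcases h.lt_or_eq with hlt | heq
  · exact (hF γ hγ).2 δ hlt
  · subst heq
    exact S.r_refl _ _ _

theorem thmB (β : I) : CL S β := by
  induction β using WellFoundedLT.induction with
  | ind β ih =>
    intro i j k hij hjk c hc hcc
    obtain ⟨b, hb1, hb2⟩ := thmA S (fun γ => γ < β) (fun γ δ h hγ => lt_of_le_of_lt h hγ) ih
      i j k hij hjk c hc hcc
    obtain ⟨y, hy⟩ := S.surj β i (fun γ => b γ.1) (fun γ γ' h => hb2 γ'.1 γ.1 h γ'.2)
    refine ⟨S.d β i j y, S.d_d _ _ _ _ _, fun γ h => ?_⟩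
    rw [← S.r_d, hy ⟨γ, h⟩, hb1 γ h]

theorem main (i j k : ℤ) (hij : i + 1 = j) (hjk : j + 1 = k) (c : ∀ γ, S.X γ j)
    (hc : ∀ γ, S.d γ j k (c γ) = 0) (hcc : ∀ γ δ (h : δ ≤ γ), S.r h j (c γ) = c δ) :
    ∃ b : ∀ γ, S.X γ i, (∀ γ, S.d γ i j (b γ) = c γ) ∧
      (∀ γ δ (h : δ ≤ γ), S.r h i (b γ) = b δ) := by
  obtain ⟨b, h1, h2⟩ := thmA S (fun _ => True) (fun _ _ _ _ => trivial) (fun γ _ => thmB S γ)
    i j k hij hjk c (fun γ _ => hc γ) (fun γ δ h _ => hcc γ δ h)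
  exact ⟨b, fun γ => h1 γ trivial, fun γ δ h => h2 γ δ h trivial⟩

end Core

end Groth.Agent.Lib.Helper25.TransLim
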