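import Mathlib
import Groth.Agent.Lib.Helper25.TransLim

namespace Groth.Agent.Lib.Helper25.TransLim

open CategoryTheory CategoryTheory.Limits Opposite

universe w

variable {I : Type w} [LinearOrder I] [WellFoundedLT I]
  (K : Iᵒᵖ ⥤ CochainComplex AddCommGrpCat.{w} ℤ)

/-- the abstract system attached to `K` -/
noncomputable def sysOf
    (hac : ∀ (β : I) (n : ℤ), (K.obj (op β)).ExactAt n)
    (hsurj : ∀ (β : I) (n : ℤ) (x : ∀ γ : {γ : I // γ < β}, (K.obj (op γ.1)).X n),
      (∀ (γ γ' : {γ : I // γ < β}) (h : γ.1 ≤ γ'.1),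
        ((K.map (homOfLE h).op).f n).hom (x γ') = x γ) →
      ∃ y : (K.obj (op β)).X n, ∀ γ : {γ : I // γ < β},
        ((K.map (homOfLE γ.2.le).op).f n).hom y = x γ) : Sys I where
  X β n := (K.obj (op β)).X n
  grp β n := inferInstance
  r h n := ((K.map (homOfLE h).op).f n).hom
  d β i j := ((K.obj (op β)).d i j).hom
  r_refl β n x := by
    have h1 : (homOfLE (le_refl β)).op = 𝟙 (op β) := rfl
    rw [h1, K.map_id]
    rfl
  r_trans {β γ δ} h₁ h₂ n x := by
    have h1 : (homOfLE (h₂.trans h₁)).op = (homOfLE h₁).op ≫ (homOfLE h₂).op := rfl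
    rw [h1, K.map_comp]
    rfl
  r_d {β γ} h i j x := by
    have h1 := ConcreteCategory.congr_hom ((K.map (homOfLE h).op).comm i j) x
    exact h1
  d_d β i j k x := by
    have h1 := ConcreteCategory.congr_hom ((K.obj (op β)).d_comp_d i j k) x
    exact h1
  exact β i j k hij hjk z hz := by
    have h1 := (HomologicalComplex.exactAt_iff' (K.obj (op β)) i j k
      (by rw [CochainComplex.prev]; omega) (by rw [CochainComplex.next]; omega)).1 (hac β j)
    exact (ShortComplex.ab_exact_iff _).1 h1 z hz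
  surj := hsurj


/-- the evaluated limit cone -/
noncomputable def evalCone (n : ℤ) : Cone (K ⋙ HomologicalComplex.eval _ _ n) :=
  (HomologicalComplex.eval _ _ n).mapCone (limit.cone K)

noncomputable def evalConeIsLimit (n : ℤ) : IsLimit (evalCone K n) :=
  isLimitOfPreserves (HomologicalComplex.eval _ _ n) (limit.isLimit K)

theorem limit_X_ext (n : ℤ) (y y' : (limit K).X n)
    (h : ∀ β : I, ((limit.π K (op β)).f n).hom y = ((limit.π K (op β)).f n).hom y') : y = y' := by
  apply Concrete.isLimit_ext _ (evalConeIsLimit K n)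
  intro j
  exact h j.unop

theorem exists_of_compat (n : ℤ) (x : ∀ β : I, (K.obj (op β)).X n)
    (hx : ∀ β γ (h : γ ≤ β), ((K.map (homOfLE h).op).f n).hom (x β) = x γ) :
    ∃ y : (limit K).X n, ∀ β : I, ((limit.π K (op β)).f n).hom y = x β := by
  have hL : IsLimit ((forget AddCommGrpCat).mapCone (evalCone K n)) :=
    isLimitOfPreserves (forget AddCommGrpCat) (evalConeIsLimit K n)
  let sec : ((K ⋙ HomologicalComplex.eval _ _ n) ⋙ forget AddCommGrpCat).sections :=
    ⟨fun j => x j.unop, by
      intro j j' f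
      have hf : f = (homOfLE (leOfHom f.unop)).op := by
        apply Quiver.Hom.unop_inj
        exact Subsingleton.elim _ _
      rw [hf]
      exact hx j.unop j'.unop _⟩
  refine ⟨(Types.isLimitEquivSections hL).symm sec, fun β => ?_⟩
  exact Types.isLimitEquivSections_symm_apply hL sec (op β)

theorem limit_exactAt
    (hac : ∀ (β : I) (n : ℤ), (K.obj (op β)).ExactAt n)
    (hsurj : ∀ (β : I) (n : ℤ) (x : ∀ γ : {γ : I // γ < β}, (K.obj (op γ.1)).X n),
      (∀ (γ γ' : {γ : I // γ < β}) (h : γ.1 ≤ γ'.1),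
        ((K.map (homOfLE h).op).f n).hom (x γ') = x γ) →
      ∃ y : (K.obj (op β)).X n, ∀ γ : {γ : I // γ < β},
        ((K.map (homOfLE γ.2.le).op).f n).hom y = x γ)
    (n : ℤ) : (limit K).ExactAt n := by
  rw [HomologicalComplex.exactAt_iff' _ (n - 1) n (n + 1) (by simp) (by simp),
    ShortComplex.ab_exact_iff]
  intro z hz
  have hz' : ((limit K).d n (n + 1)).hom z = 0 := hz
  obtain ⟨b, hb1, hb2⟩ := main (sysOf K hac hsurj) (n - 1) n (n + 1) (by omega) rfl
    (fun γ => ((limit.π K (op γ)).f n).hom z) (by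
      intro γ
      show ((K.obj (op γ)).d n (n + 1)).hom (((limit.π K (op γ)).f n).hom z) = 0
      have h1 := ConcreteCategory.congr_hom ((limit.π K (op γ)).comm n (n + 1)) z
      rw [show ((K.obj (op γ)).d n (n + 1)).hom (((limit.π K (op γ)).f n).hom z) =
        ((limit.π K (op γ)).f (n + 1)).hom (((limit K).d n (n + 1)).hom z) from h1, hz', map_zero])
    (by
      intro γ δ h
      show ((K.map (homOfLE h).op).f n).hom (((limit.π K (op γ)).f n).hom z) =
        ((limit.π K (op δ)).f n).hom z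
      have h1 : limit.π K (op γ) ≫ K.map (homOfLE h).op = limit.π K (op δ) := limit.w K _
      rw [← h1]
      rfl)
  obtain ⟨y, hy⟩ := exists_of_compat K (n - 1) b (fun β γ h => hb2 β γ h)
  refine ⟨y, ?_⟩
  apply limit_X_ext K n
  intro γ
  have h1 := ConcreteCategory.congr_hom ((limit.π K (op γ)).comm (n - 1) n) y
  have h2 : ((limit.π K (op γ)).f n).hom (((limit K).d (n - 1) n).hom y) =
      ((K.obj (op γ)).d (n - 1) n).hom (((limit.π K (op γ)).f (n - 1)).hom y) := h1.symm
  show ((limit.π K (op γ)).f n).hom (((limit K).d (n - 1) n).hom y) = _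
  rw [h2, hy γ]
  exact hb1 γ

end Groth.Agent.Lib.Helper25.TransLim
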