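import Mathlib
import Groth.Prelude
import Groth.Agent.Lib.Helper7.TwFun

/-!
# The connection `∇ ⊕ ∇` on the trivial first-order deformation `E ⊕ εE`
-/

set_option autoImplicit false
universe u
open CategoryTheory CategoryTheory.Limits AlgebraicGeometry TopologicalSpace Opposite

noncomputable section

namespace Groth.Agent.Lib.Helper25.TrivConn

open Groth.Agent.Lib.Helper3.InvTensor Groth.Agent.Lib.Helper7.TwFun

variable {X : Scheme.{u}}

/-- typed application of a morphism of modules to sections -/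
def ap {M N : X.Modules} (φ : M ⟶ N) (U : X.Opens) (x : M.val.obj (op U)) : N.val.obj (op U) :=
  φ.app U x

section Ap

variable {M N P : X.Modules}

theorem ap_add (φ : M ⟶ N) (U : X.Opens) (x y : M.val.obj (op U)) :
    ap φ U (x + y) = ap φ U x + ap φ U y :=
  (φ.app U).hom.map_add x y

theorem ap_zero (φ : M ⟶ N) (U : X.Opens) : ap φ U 0 = 0 :=
  (φ.app U).hom.map_zero

theorem ap_smul (φ : M ⟶ N) (U : X.Opens) (t : Γ(X, U)) (x : M.val.obj (op U)) :
    ap φ U (t • x) = t • ap φ U x :=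
  Scheme.Modules.Hom.app_smul φ t x

theorem ap_comp (φ : M ⟶ N) (ψ : N ⟶ P) (U : X.Opens) (x : M.val.obj (op U)) :
    ap (φ ≫ ψ) U x = ap ψ U (ap φ U x) := rfl

theorem ap_id (M : X.Modules) (U : X.Opens) (x : M.val.obj (op U)) : ap (𝟙 M) U x = x := rfl

theorem ap_add_hom (φ ψ : M ⟶ N) (U : X.Opens) (x : M.val.obj (op U)) :
    ap (φ + ψ) U x = ap φ U x + ap ψ U x := rfl

theorem ap_zero_hom (U : X.Opens) (x : M.val.obj (op U)) : ap (0 : M ⟶ N) U x = 0 := rfl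

theorem ap_tensorMap_tmul {M M' N N' : X.Modules} (f : M ⟶ M') (g : N ⟶ N') (U : X.Opens)
    (m : M.val.obj (op U)) (n : N.val.obj (op U)) :
    ap (KoszTw.tensorMap f g) U (SecTwist.tmul M N U m n) =
      SecTwist.tmul M' N' U (ap f U m) (ap g U n) :=
  KoszTw.tensorMap_tmul f g U m n

theorem tmul_add_left (M N : X.Modules) (U : X.Opens) (m m' : M.val.obj (op U))
    (n : N.val.obj (op U)) :
    SecTwist.tmul M N U (m + m') n = SecTwist.tmul M N U m n + SecTwist.tmul M N U m' n :=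
  tm_add_left M N U m m' n

theorem tmul_smul_left (M N : X.Modules) (U : X.Opens) (r : Γ(X, U)) (m : M.val.obj (op U))
    (n : N.val.obj (op U)) :
    SecTwist.tmul M N U (r • m) n = r • SecTwist.tmul M N U m n :=
  tm_smul_left M N U r m n

theorem tmul_zero_right (M N : X.Modules) (U : X.Opens) (m : M.val.obj (op U)) :
    SecTwist.tmul M N U m 0 = 0 :=
  tm_zero_right M N U m

theorem tw_comp_ap {M M' M'' : X.Modules} (L : X.Modules) (f : M ⟶ M') (f' : M' ⟶ M'')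
    (U : X.Opens) (z : (CohB1.tensorMod M L).val.obj (op U)) :
    ap (KoszTw.tensorMap f' (𝟙 L)) U (ap (KoszTw.tensorMap f (𝟙 L)) U z) =
      ap (KoszTw.tensorMap (f ≫ f') (𝟙 L)) U z := by
  have h := KoszTw.tensorMap_comp f f' (𝟙 L) (𝟙 L)
  rw [Category.comp_id] at h
  rw [h]
  rfl

theorem secApp_add (φ : Coh.toAb M ⟶ Coh.toAb N) (U : X.Opens) (x y : M.val.obj (op U)) :
    ConnSh.secApp φ U (x + y) = ConnSh.secApp φ U x + ConnSh.secApp φ U y :=
  map_add _ x y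

theorem secApp_zero (φ : Coh.toAb M ⟶ Coh.toAb N) (U : X.Opens) :
    ConnSh.secApp φ U 0 = 0 :=
  map_zero _

end Ap

/-! ### additivity of `tensorMap` in the first variable -/

theorem tensorMap_add_left {M M' : X.Modules} (L : X.Modules) (φ ψ : M ⟶ M') :
    KoszTw.tensorMap (φ + ψ) (𝟙 L) = KoszTw.tensorMap φ (𝟙 L) + KoszTw.tensorMap ψ (𝟙 L) := by
  apply tensor_hom_ext
  intro U m n
  change ap (KoszTw.tensorMap (φ + ψ) (𝟙 L)) U (SecTwist.tmul M L U m n) =
    ap (KoszTw.tensorMap φ (𝟙 L)) U (SecTwist.tmul M L U m n) +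
      ap (KoszTw.tensorMap ψ (𝟙 L)) U (SecTwist.tmul M L U m n)
  rw [ap_tensorMap_tmul, ap_tensorMap_tmul, ap_tensorMap_tmul, ap_add_hom, tmul_add_left]

theorem tensorMap_zero_left (M M' L : X.Modules) :
    KoszTw.tensorMap (0 : M ⟶ M') (𝟙 L) = 0 := by
  have h := tensorMap_add_left L (0 : M ⟶ M') 0
  rw [add_zero] at h
  have h' : KoszTw.tensorMap (0 : M ⟶ M') (𝟙 L) + KoszTw.tensorMap (0 : M ⟶ M') (𝟙 L) =
      KoszTw.tensorMap (0 : M ⟶ M') (𝟙 L) + 0 := by
    rw [add_zero]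
    exact h.symm
  exact add_left_cancel h'

/-! ### scalars of the base field -/

section Field

variable {k : Type u} [Field k] [X.Over (Spec (CommRingCat.of k))]

/-- the constant function `a` on the open `U` -/
def cst (a : k) (U : X.Opens) : Γ(X, U) :=
  X.presheaf.map (homOfLE (le_top : U ≤ ⊤)).op (Coh.toGlobal (X ↘ Spec (CommRingCat.of k)) a)

theorem ap_ksmul {M N : X.Modules} (c : k) (φ : M ⟶ N) (U : X.Opens) (x : M.val.obj (op U)) :
    ap (c • φ) U x = cst (X := X) c U • ap φ U x :=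
  KLin.smul_app_apply c φ U x

theorem tensorMap_smul_left {M M' : X.Modules} (L : X.Modules) (c : k) (φ : M ⟶ M') :
    KoszTw.tensorMap (c • φ) (𝟙 L) = c • KoszTw.tensorMap φ (𝟙 L) := by
  apply tensor_hom_ext
  intro U m n
  change ap (KoszTw.tensorMap (c • φ) (𝟙 L)) U (SecTwist.tmul M L U m n) =
    ap (c • KoszTw.tensorMap φ (𝟙 L)) U (SecTwist.tmul M L U m n)
  rw [ap_tensorMap_tmul, ap_ksmul, ap_ksmul, ap_tensorMap_tmul, tmul_smul_left]

theorem der_const {Ω' : X.Modules} (δ : OmegaSh.Der (X ↘ Spec (CommRingCat.of k)) Ω') (a : k)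
    (U : X.Opens) : δ.app U (cst (X := X) a U) = 0 := by
  have h0 : δ.d (X := op (⊤ : X.Opens)) (Coh.toGlobal (X ↘ Spec (CommRingCat.of k)) a) = 0 :=
    δ.d_app (X := op (⊤ : (Spec (CommRingCat.of k)).Opens))
      ((Scheme.ΓSpecIso (CommRingCat.of k)).inv.hom a)
  have h1 := δ.d_map (homOfLE (le_top : U ≤ ⊤)).op (Coh.toGlobal (X ↘ Spec (CommRingCat.of k)) a)
  rw [h0, map_zero] at h1
  exact h1

end Field

/-! ### horizontality is additive and `k`-linear -/

section Horizontal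

variable {Ω' : X.Modules} {M M' : X.Modules}
  {c : Coh.toAb M ⟶ Coh.toAb (CohB1.tensorMod M Ω')}
  {c' : Coh.toAb M' ⟶ Coh.toAb (CohB1.tensorMod M' Ω')}

theorem isHorizontal_add {φ ψ : M ⟶ M'} (hφ : ConnSh.IsHorizontal c c' φ)
    (hψ : ConnSh.IsHorizontal c c' ψ) : ConnSh.IsHorizontal c c' (φ + ψ) := by
  intro U e
  have h1 : ConnSh.secApp c' U (ap φ U e) =
      ap (KoszTw.tensorMap φ (𝟙 Ω')) U (ConnSh.secApp c U e) := hφ U e
  have h2 : ConnSh.secApp c' U (ap ψ U e) =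
      ap (KoszTw.tensorMap ψ (𝟙 Ω')) U (ConnSh.secApp c U e) := hψ U e
  change ConnSh.secApp c' U (ap (φ + ψ) U e) =
    ap (KoszTw.tensorMap (φ + ψ) (𝟙 Ω')) U (ConnSh.secApp c U e)
  rw [tensorMap_add_left, ap_add_hom, ap_add_hom, secApp_add, h1, h2]

variable {k : Type u} [Field k] [X.Over (Spec (CommRingCat.of k))]

theorem isHorizontal_ksmul (δ : OmegaSh.Der (X ↘ Spec (CommRingCat.of k)) Ω')
    (hc' : ConnSh.IsConn δ M' c') {φ : M ⟶ M'} (a : k) (hφ : ConnSh.IsHorizontal c c' φ) :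
    ConnSh.IsHorizontal c c' (a • φ) := by
  intro U e
  have h1 : ConnSh.secApp c' U (ap φ U e) =
      ap (KoszTw.tensorMap φ (𝟙 Ω')) U (ConnSh.secApp c U e) := hφ U e
  have hz : SecTwist.tmul M' Ω' U (ap φ U e) (δ.app U (cst (X := X) a U)) = 0 :=
    (congrArg (fun w => SecTwist.tmul M' Ω' U (ap φ U e) w) (der_const δ a U)).trans
      (tmul_zero_right M' Ω' U (ap φ U e))
  change ConnSh.secApp c' U (ap (a • φ) U e) =
    ap (KoszTw.tensorMap (a • φ) (𝟙 Ω')) U (ConnSh.secApp c U e)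
  rw [tensorMap_smul_left, ap_ksmul, ap_ksmul, hc' U, hz, add_zero, h1]

end Horizontal

/-! ### the connection `∇ ⊕ ∇` -/

section Sum

variable {Ω' : X.Modules} (E : X.Modules)
  (nabla : Coh.toAb E ⟶ Coh.toAb (CohB1.tensorMod E Ω'))

/-- the underlying morphism of abelian sheaves of a morphism of modules -/
abbrev ab {M N : X.Modules} (φ : M ⟶ N) : Coh.toAb M ⟶ Coh.toAb N :=
  (SheafOfModules.toSheaf X.ringCatSheaf).map φ

/-- the connection `∇ ⊕ ∇` on `E ⊞ E` -/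
def sumConn : Coh.toAb (E ⊞ E) ⟶ Coh.toAb (CohB1.tensorMod (E ⊞ E) Ω') :=
  ab (biprod.fst : E ⊞ E ⟶ E) ≫ nabla ≫
      ab (KoszTw.tensorMap (biprod.inl : E ⟶ E ⊞ E) (𝟙 Ω')) +
    ab (biprod.snd : E ⊞ E ⟶ E) ≫ nabla ≫
      ab (KoszTw.tensorMap (biprod.inr : E ⟶ E ⊞ E) (𝟙 Ω'))

theorem sumConn_apply' (U : X.Opens) (e : (E ⊞ E).val.obj (op U)) :
    ConnSh.secApp (sumConn E nabla) U e =
      ap (KoszTw.tensorMap (biprod.inl : E ⟶ E ⊞ E) (𝟙 Ω')) U
          (ConnSh.secApp nabla U (ap (biprod.fst : E ⊞ E ⟶ E) U e)) +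
        ap (KoszTw.tensorMap (biprod.inr : E ⟶ E ⊞ E) (𝟙 Ω')) U
          (ConnSh.secApp nabla U (ap (biprod.snd : E ⊞ E ⟶ E) U e)) := rfl

theorem total_apply (U : X.Opens) (e : (E ⊞ E).val.obj (op U)) :
    ap (biprod.inl : E ⟶ E ⊞ E) U (ap (biprod.fst : E ⊞ E ⟶ E) U e) +
      ap (biprod.inr : E ⟶ E ⊞ E) U (ap (biprod.snd : E ⊞ E ⟶ E) U e) = e := by
  have h := congrArg (fun φ : E ⊞ E ⟶ E ⊞ E => ap φ U e) (biprod.total (X := E) (Y := E))
  exact h

theorem sumConn_fst (U : X.Opens) (e : (E ⊞ E).val.obj (op U)) :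
    ConnSh.secApp nabla U (ap (biprod.fst : E ⊞ E ⟶ E) U e) =
      ap (KoszTw.tensorMap (biprod.fst : E ⊞ E ⟶ E) (𝟙 Ω')) U
        (ConnSh.secApp (sumConn E nabla) U e) := by
  rw [sumConn_apply', ap_add, tw_comp_ap, tw_comp_ap, biprod.inl_fst, biprod.inr_fst,
    KoszTw.tensorMap_id, tensorMap_zero_left, ap_id, ap_zero_hom, add_zero]

theorem sumConn_inr (U : X.Opens) (x : E.val.obj (op U)) :
    ConnSh.secApp (sumConn E nabla) U (ap (biprod.inr : E ⟶ E ⊞ E) U x) =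
      ap (KoszTw.tensorMap (biprod.inr : E ⟶ E ⊞ E) (𝟙 Ω')) U (ConnSh.secApp nabla U x) := by
  rw [sumConn_apply', ← ap_comp, ← ap_comp, biprod.inr_fst, biprod.inr_snd, ap_zero_hom, ap_id,
    secApp_zero, ap_zero, zero_add]

theorem sumConn_fst_horizontal :
    ConnSh.IsHorizontal (sumConn E nabla) nabla (biprod.fst : E ⊞ E ⟶ E) :=
  fun U e => sumConn_fst E nabla U e

theorem sumConn_inr_horizontal :
    ConnSh.IsHorizontal nabla (sumConn E nabla) (biprod.inr : E ⟶ E ⊞ E) :=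
  fun U x => sumConn_inr E nabla U x

variable {S : Scheme.{u}} {f : X ⟶ S}

theorem sumConn_leibniz (δ : OmegaSh.Der f Ω') (hn : ConnSh.IsConn δ E nabla) (U : X.Opens)
    (t : Γ(X, U)) (e : (E ⊞ E).val.obj (op U)) :
    ConnSh.secApp (sumConn E nabla) U (t • e) =
      t • ConnSh.secApp (sumConn E nabla) U e + SecTwist.tmul (E ⊞ E) Ω' U e (δ.app U t) := by
  have he := total_apply E U e
  have ht : SecTwist.tmul (E ⊞ E) Ω' U e (δ.app U t) =
      SecTwist.tmul (E ⊞ E) Ω' U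
          (ap (biprod.inl : E ⟶ E ⊞ E) U (ap (biprod.fst : E ⊞ E ⟶ E) U e)) (δ.app U t) +
        SecTwist.tmul (E ⊞ E) Ω' U
          (ap (biprod.inr : E ⟶ E ⊞ E) U (ap (biprod.snd : E ⊞ E ⟶ E) U e)) (δ.app U t) := by
    rw [← tmul_add_left, he]
  rw [ht, sumConn_apply', sumConn_apply', ap_smul, ap_smul, hn U t, hn U t, ap_add, ap_add,
    ap_smul, ap_smul, ap_tensorMap_tmul, ap_tensorMap_tmul, ap_id, smul_add]
  exact add_add_add_comm _ _ _ _

theorem sumConn_isConn (δ : OmegaSh.Der f Ω') (hn : ConnSh.IsConn δ E nabla) :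
    ConnSh.IsConn δ (E ⊞ E) (sumConn E nabla) :=
  fun U t e => sumConn_leibniz E nabla δ hn U t e

end Sum

section Act

variable {Ω' : X.Modules} {k : Type u} [Field k] [X.Over (Spec (CommRingCat.of k))]

theorem sumConn_act (δ : OmegaSh.Der (X ↘ Spec (CommRingCat.of k)) Ω') (E : X.Modules)
    (nabla : Coh.toAb E ⟶ Coh.toAb (CohB1.tensorMod E Ω')) (hn : ConnSh.IsConn δ E nabla)
    (a : DualNumber k) :
    ConnSh.IsHorizontal (sumConn E nabla) (sumConn E nabla)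
      (DefoSh.dualAct k E a : E ⊞ E ⟶ E ⊞ E) := by
  have hconn := sumConn_isConn E nabla δ hn
  have hfst := sumConn_fst_horizontal E nabla
  have hinr := sumConn_inr_horizontal E nabla
  have key : ConnSh.IsHorizontal (sumConn E nabla) (sumConn E nabla)
      (a.fst • 𝟙 (E ⊞ E) + a.snd • ((biprod.fst : E ⊞ E ⟶ E) ≫ biprod.inr)) :=
    isHorizontal_add (isHorizontal_ksmul δ hconn a.fst (DefoSh.isHorizontal_id _))
      (isHorizontal_ksmul δ hconn a.snd (DefoSh.isHorizontal_comp hfst hinr))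
  rw [DefoSh.dualAct_hom]
  exact key

end Act

end Groth.Agent.Lib.Helper25.TrivConn
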