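import Mathlib
import Groth.Prelude
import Groth.Agent.Lib.Helper25.TranspA
import Groth.Agent.Lib.Helper25.TrivConn

/-!
# Transport equivalence of deformations of a connection over a first-order deformation
-/

set_option autoImplicit false
set_option linter.style.haveILetI false
universe u
open CategoryTheory CategoryTheory.Limits AlgebraicGeometry TopologicalSpace Opposite

noncomputable section

namespace Groth.Agent.Lib.Helper25.TranspB

open Groth.Agent.Lib.Helper25.TrivConn Groth.Agent.Lib.Helper25.TranspA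

variable {X : Scheme.{u}}

/-- `φ ⊗ 1` -/
abbrev T (Ω' : X.Modules) {M N : X.Modules} (φ : M ⟶ N) :
    CohB1.tensorMod M Ω' ⟶ CohB1.tensorMod N Ω' :=
  KoszTw.tensorMap φ (𝟙 Ω')

section Tw

variable {Ω' : X.Modules} {M N P : X.Modules}

theorem T_comp (φ : M ⟶ N) (ψ : N ⟶ P) : T Ω' (φ ≫ ψ) = T Ω' φ ≫ T Ω' ψ := by
  have h := KoszTw.tensorMap_comp φ ψ (𝟙 Ω') (𝟙 Ω')
  rwa [Category.comp_id] at h

theorem T_add (φ ψ : M ⟶ N) : T Ω' (φ + ψ) = T Ω' φ + T Ω' ψ := tensorMap_add_left Ω' φ ψ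

theorem T_id (M : X.Modules) : T Ω' (𝟙 M) = 𝟙 (CohB1.tensorMod M Ω') := KoszTw.tensorMap_id M Ω'

theorem ab_comp (φ : M ⟶ N) (ψ : N ⟶ P) : ab (φ ≫ ψ) = ab φ ≫ ab ψ :=
  CategoryTheory.Functor.map_comp _ _ _

theorem ab_add (φ ψ : M ⟶ N) : ab (φ + ψ) = ab φ + ab ψ :=
  CategoryTheory.Functor.map_add _

theorem ab_id (M : X.Modules) : ab (𝟙 M) = 𝟙 (Coh.toAb M) :=
  CategoryTheory.Functor.map_id _ _

theorem hom_ext_secApp {φ ψ : Coh.toAb M ⟶ Coh.toAb N}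
    (h : ∀ (U : X.Opens) (x : M.val.obj (op U)), ConnSh.secApp φ U x = ConnSh.secApp ψ U x) :
    φ = ψ := by
  apply Sheaf.hom_ext
  ext U x
  exact h U.unop x

theorem isHorizontal_iff {M M' : X.Modules} (c : Coh.toAb M ⟶ Coh.toAb (CohB1.tensorMod M Ω'))
    (c' : Coh.toAb M' ⟶ Coh.toAb (CohB1.tensorMod M' Ω')) (φ : M ⟶ M') :
    ConnSh.IsHorizontal c c' φ ↔ ab φ ≫ c' = c ≫ ab (T Ω' φ) := by
  constructor
  · intro h
    apply hom_ext_secApp
    intro U x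
    exact h U x
  · intro h U x
    have := congrArg (fun ψ => ConnSh.secApp ψ U x) h
    exact this

theorem epi_ab (φ : M ⟶ N) [Epi φ] : Epi (ab φ) := by
  haveI : Sheaf.IsLocallySurjective (ab φ) := ⟨fun {U} s => by
    intro x hx
    obtain ⟨W', hW', hxW', t, ht⟩ :=
      Groth.Agent.Lib.Helper3.QCExact.exists_local_lift φ U s x hx
    exact ⟨W', homOfLE hW', ⟨t, ht⟩, hxW'⟩⟩
  infer_instance

end Tw

section Conn

variable {Ω' : X.Modules} {k : Type u} [Field k] [X.Over (Spec (CommRingCat.of k))]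
  {E : X.Modules} {δ : OmegaSh.Der (X ↘ Spec (CommRingCat.of k)) Ω'}
  {nabla : Coh.toAb E ⟶ Coh.toAb (CohB1.tensorMod E Ω')}
  {D : DefoSh.Defo E (ArtFun.Art.dual k k)}

theorem K1 (c : DefoSh.DefoConn δ nabla D) :
    ab D.π ≫ nabla = c.conn ≫ ab (T Ω' D.π) :=
  (isHorizontal_iff _ _ _).1 c.π_horizontal

theorem K2 (c : DefoSh.DefoConn δ nabla D) :
    ab (epsHom D) ≫ c.conn = c.conn ≫ ab (T Ω' (epsHom D)) :=
  (isHorizontal_iff _ _ _).1 (c.act_horizontal (epsA (k := k)))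

variable (ι : E ⟶ D.sheaf) (hι : D.π ≫ ι = epsHom D)
include hι

theorem K3 (c : DefoSh.DefoConn δ nabla D) :
    ab ι ≫ c.conn = nabla ≫ ab (T Ω' ι) := by
  haveI := epi_π D
  haveI := epi_ab D.π
  rw [← cancel_epi (ab D.π), ← Category.assoc, ← ab_comp, hι, K2 c, ← hι, T_comp,
    ab_comp, ← Category.assoc, ← K1 c, Category.assoc]

theorem key_equiv (c c' : DefoSh.DefoConn δ nabla D) (S : E ⟶ E) :
    (ab (𝟙 D.sheaf + D.π ≫ S ≫ ι) ≫ c'.conn =
      c.conn ≫ ab (T Ω' (𝟙 D.sheaf + D.π ≫ S ≫ ι))) ↔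
    c'.conn - c.conn =
      ab D.π ≫ (nabla ≫ ab (T Ω' S) - ab S ≫ nabla) ≫ ab (T Ω' ι) := by
  have hL : ab (𝟙 D.sheaf + D.π ≫ S ≫ ι) ≫ c'.conn =
      c'.conn + ab D.π ≫ ab S ≫ nabla ≫ ab (T Ω' ι) := by
    rw [ab_add, ab_id, Preadditive.add_comp, Category.id_comp,
      ab_comp, ab_comp, Category.assoc, Category.assoc, K3 ι hι c']
  have hR : c.conn ≫ ab (T Ω' (𝟙 D.sheaf + D.π ≫ S ≫ ι)) =
      c.conn + ab D.π ≫ nabla ≫ ab (T Ω' S) ≫ ab (T Ω' ι) := by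
    rw [T_add, T_id, T_comp, T_comp, ab_add, ab_id, Preadditive.comp_add,
      Category.comp_id, ab_comp, ab_comp, ← Category.assoc, ← K1 c,
      Category.assoc]
  have hM : ab D.π ≫ (nabla ≫ ab (T Ω' S) - ab S ≫ nabla) ≫ ab (T Ω' ι) =
      ab D.π ≫ nabla ≫ ab (T Ω' S) ≫ ab (T Ω' ι) -
        ab D.π ≫ ab S ≫ nabla ≫ ab (T Ω' ι) := by
    rw [Preadditive.sub_comp, Preadditive.comp_sub, Category.assoc, Category.assoc]
  rw [hL, hR, hM, sub_eq_sub_iff_add_eq_add,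
    add_comm (ab D.π ≫ nabla ≫ ab (T Ω' S) ≫ ab (T Ω' ι)) c.conn]

theorem N_sq (S : E ⟶ E) : (D.π ≫ S ≫ ι) ≫ (D.π ≫ S ≫ ι) = 0 := by
  have h := ι_π D ι hι
  calc (D.π ≫ S ≫ ι) ≫ (D.π ≫ S ≫ ι) = D.π ≫ S ≫ (ι ≫ D.π) ≫ S ≫ ι := by
        simp only [Category.assoc]
    _ = 0 := by rw [h, zero_comp, comp_zero, comp_zero]

/-- the automorphism `1 + π S ι` of the deformed module -/
def isoOfS (S : E ⟶ E) : D.sheaf ≅ D.sheaf where
  hom := 𝟙 D.sheaf + D.π ≫ S ≫ ι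
  inv := 𝟙 D.sheaf - D.π ≫ S ≫ ι
  hom_inv_id := by
    rw [Preadditive.add_comp, Category.id_comp, Preadditive.comp_sub, Category.comp_id,
      N_sq ι hι S, sub_zero, sub_add_cancel]
  inv_hom_id := by
    rw [Preadditive.sub_comp, Category.id_comp, Preadditive.comp_add, Category.comp_id,
      N_sq ι hι S, add_zero, add_sub_cancel_right]

/-- the automorphism `1 + π S ι` of the deformation -/
def defoIsoOfS (S : E ⟶ E) : DefoSh.Defo.Iso D D where
  iso := isoOfS ι hι S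
  act_hom a := by
    change D.act a ≫ (𝟙 D.sheaf + D.π ≫ S ≫ ι) = (𝟙 D.sheaf + D.π ≫ S ≫ ι) ≫ D.act a
    have e1 : epsHom D ≫ (D.π ≫ S ≫ ι) = 0 := by
      rw [← Category.assoc, epsHom_π, zero_comp]
    have e2 : (D.π ≫ S ≫ ι) ≫ epsHom D = 0 := by
      rw [Category.assoc, Category.assoc, ι_eps D ι hι, comp_zero, comp_zero]
    rw [act_eq D a]
    simp only [Preadditive.comp_add, Preadditive.add_comp, Category.comp_id, Category.id_comp,
      Linear.smul_comp, Linear.comp_smul, e1, e2, smul_zero, add_zero, smul_add]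
    exact add_right_comm _ _ _
  hom_π := by
    change (𝟙 D.sheaf + D.π ≫ S ≫ ι) ≫ D.π = D.π
    rw [Preadditive.add_comp, Category.id_comp, Category.assoc, Category.assoc, ι_π D ι hι,
      comp_zero, comp_zero, add_zero]

theorem transport_iff (c c' : DefoSh.DefoConn δ nabla D) :
    DefoSh.DefoConn.Transport c c' ↔ ∃ S : E ⟶ E,
      c'.conn - c.conn =
        ab D.π ≫ (nabla ≫ ab (T Ω' S) - ab S ≫ nabla) ≫ ab (T Ω' ι) := by
  constructor
  · rintro ⟨e, he⟩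
    have h1 : (e.iso.hom - 𝟙 D.sheaf) ≫ D.π = 0 := by
      rw [Preadditive.sub_comp, Category.id_comp, e.hom_π, sub_self]
    have hcomm : epsHom D ≫ e.iso.hom = e.iso.hom ≫ epsHom D := e.act_hom (epsA (k := k))
    have h2 : ι ≫ (e.iso.hom - 𝟙 D.sheaf) = 0 := by
      haveI := epi_π D
      rw [← cancel_epi D.π, ← Category.assoc, hι, Preadditive.comp_sub, Category.comp_id, hcomm,
        comp_zero]
      rw [← hι, ← Category.assoc, e.hom_π, sub_self]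
    obtain ⟨S, hS⟩ := exists_factor D ι hι _ h1 h2
    refine ⟨S, ?_⟩
    have hhom : e.iso.hom = 𝟙 D.sheaf + D.π ≫ S ≫ ι := by
      rw [← hS]
      exact (add_sub_cancel _ _).symm
    rw [isHorizontal_iff, hhom] at he
    exact (key_equiv ι hι c c' S).1 he
  · rintro ⟨S, hS⟩
    refine ⟨defoIsoOfS ι hι S, ?_⟩
    rw [isHorizontal_iff]
    exact (key_equiv ι hι c c' S).2 hS

end Conn

end Groth.Agent.Lib.Helper25.TranspB
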