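import Mathlib
import Groth.Prelude
import Groth.Agent.Lib.Helper25.TranspB

/-!
# Deformations of a connection over a first-order deformation form a torsor under `Hom(E, E ⊗ Ω)`
-/

set_option autoImplicit false
set_option linter.style.haveILetI false
universe u
open CategoryTheory CategoryTheory.Limits AlgebraicGeometry TopologicalSpace Opposite
open MonoidalCategory

noncomputable section

namespace Groth.Agent.Lib.Helper25.TranspC

open Groth.Agent.Lib.Helper25.TrivConn Groth.Agent.Lib.Helper25.TranspA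
  Groth.Agent.Lib.Helper25.TranspB Groth.Agent.Lib.Helper2.Stk

variable {X : Scheme.{u}}

theorem ab_zero {M N : X.Modules} : ab (0 : M ⟶ N) = 0 :=
  CategoryTheory.Functor.map_zero _ _ _

theorem T_smul {Ω' : X.Modules} {k : Type u} [Field k] [X.Over (Spec (CommRingCat.of k))]
    {M N : X.Modules} (c : k) (φ : M ⟶ N) : T Ω' (c • φ) = c • T Ω' φ :=
  tensorMap_smul_left Ω' c φ

theorem T_zero {Ω' : X.Modules} (M N : X.Modules) : T Ω' (0 : M ⟶ N) = 0 :=
  tensorMap_zero_left M N Ω'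

theorem isConn_add_ab {S : Scheme.{u}} {f : X ⟶ S} {Ω' : X.Modules} (δ : OmegaSh.Der f Ω')
    {M : X.Modules} {c : Coh.toAb M ⟶ Coh.toAb (CohB1.tensorMod M Ω')}
    (hc : ConnSh.IsConn δ M c) (θ : M ⟶ CohB1.tensorMod M Ω') :
    ConnSh.IsConn δ M (c + ab θ) := by
  intro U t e
  change ConnSh.secApp c U (t • e) + ap θ U (t • e) =
    t • (ConnSh.secApp c U e + ap θ U e) + SecTwist.tmul M Ω' U e (δ.app U t)
  rw [hc U t e, ap_smul, smul_add]
  exact add_right_comm _ _ _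

section Conn

variable {Ω' : X.Modules} {k : Type u} [Field k] [X.Over (Spec (CommRingCat.of k))]
  {E : X.Modules} {δ : OmegaSh.Der (X ↘ Spec (CommRingCat.of k)) Ω'}
  {nabla : Coh.toAb E ⟶ Coh.toAb (CohB1.tensorMod E Ω')}
  {D : DefoSh.Defo E (ArtFun.Art.dual k k)}

theorem defoConn_ext (c c' : DefoSh.DefoConn δ nabla D) (h : c.conn = c'.conn) : c = c' := by
  cases c
  cases c'
  dsimp only at h
  subst h
  rfl

variable (ι : E ⟶ D.sheaf) (hι : D.π ≫ ι = epsHom D)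
include hι

theorem T_ι_π : T Ω' ι ≫ T Ω' D.π = 0 := by
  rw [← T_comp, ι_π D ι hι]
  exact T_zero _ _

theorem T_ι_eps : T Ω' ι ≫ T Ω' (epsHom D) = 0 := by
  rw [← T_comp, ι_eps D ι hι]
  exact T_zero _ _

theorem stalk_shortExact (hE : FlatMod.IsFinLocFree E) (y : X) :
    ((ShortComplex.mk (T Ω' ι) (T Ω' D.π) (T_ι_π ι hι)).map (Φ y)).ShortExact := by
  let S₀ : ShortComplex X.Modules := ShortComplex.mk ι D.π (ι_π D ι hι)
  have hS₀ : S₀.ShortExact :=
    { exact := exact_ιπ D ι hι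
      mono_f := mono_ι D ι hι
      epi_g := epi_π D }
  have hS₀y : (S₀.map (Φ y)).ShortExact := hS₀.map_of_exact (Φ y)
  haveI : Module.Free (X.presheaf.stalk y) (E.presheaf.stalk y) :=
    (Groth.Agent.Lib.Helper25.SplitFibre.free_finite_stalk_of_isFinLocFree hE y).1
  haveI : Projective (S₀.map (Φ y)).X₃ :=
    (IsProjective.iff_projective (E.presheaf.stalk y)).1 inferInstance
  have spl := hS₀y.splittingOfProjective
  have spl' := spl.map (tensorRight ((Φ y).obj Ω'))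
  have hse := spl'.shortExact
  refine ShortComplex.shortExact_of_iso (ShortComplex.isoMk (tensorIso E Ω' y)
    (tensorIso D.sheaf Ω' y) (tensorIso E Ω' y) ?_ ?_) hse
  · have h := tensorIso_naturality_left ι Ω' y
    rw [KoszTw.tensorBi_map_app] at h
    exact h
  · have h := tensorIso_naturality_left D.π Ω' y
    rw [KoszTw.tensorBi_map_app] at h
    exact h

theorem mono_Tι (hE : FlatMod.IsFinLocFree E) : Mono (T Ω' ι) :=
  Groth.Agent.Lib.Helper25.SplitFibre.mono_of_stalk_injective _ (fun y => by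
    haveI : Mono ((Φ y).map (T Ω' ι)) := (stalk_shortExact ι hι hE y).mono_f
    exact (ModuleCat.mono_iff_injective _).1 inferInstance)

theorem exact_T (hE : FlatMod.IsFinLocFree E) :
    (ShortComplex.mk (T Ω' ι) (T Ω' D.π) (T_ι_π ι hι)).Exact :=
  exact_of_stalks _ (fun y => (stalk_shortExact ι hι hE y).exact)

variable (c₀ : DefoSh.DefoConn δ nabla D)

theorem act_comm (φ : E ⟶ CohB1.tensorMod E Ω') (a : DualNumber k) :
    (D.act a : D.sheaf ⟶ D.sheaf) ≫ (D.π ≫ φ ≫ T Ω' ι) =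
      (D.π ≫ φ ≫ T Ω' ι) ≫ T Ω' (D.act a) := by
  have e1 : epsHom D ≫ (D.π ≫ φ ≫ T Ω' ι) = 0 := by
    rw [← Category.assoc, epsHom_π, zero_comp]
  have e2 : (D.π ≫ φ ≫ T Ω' ι) ≫ T Ω' (epsHom D) = 0 := by
    rw [Category.assoc, Category.assoc, T_ι_eps ι hι, comp_zero, comp_zero]
  rw [act_eq D a, T_add, T_smul, T_smul, T_id]
  simp only [Preadditive.comp_add, Preadditive.add_comp, Linear.smul_comp, Linear.comp_smul,
    Category.id_comp, Category.comp_id, e1, e2, smul_zero, add_zero]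

/-- the deformation `c₀ + π φ (ι ⊗ 1)` of the connection -/
def Psi (φ : E ⟶ CohB1.tensorMod E Ω') : DefoSh.DefoConn δ nabla D where
  conn := c₀.conn + ab (D.π ≫ φ ≫ T Ω' ι)
  isConn := isConn_add_ab δ c₀.isConn _
  act_horizontal a := by
    rw [isHorizontal_iff]
    have h0 := (isHorizontal_iff _ _ _).1 (c₀.act_horizontal a)
    rw [Preadditive.comp_add, Preadditive.add_comp, h0, ← ab_comp, ← ab_comp,
      act_comm ι hι φ a]
  π_horizontal := by
    have h0 : (D.π ≫ φ ≫ T Ω' ι) ≫ T Ω' D.π = 0 := by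
      rw [Category.assoc, Category.assoc, T_ι_π ι hι, comp_zero, comp_zero]
    rw [isHorizontal_iff, Preadditive.add_comp, ← K1 c₀, ← ab_comp, h0, ab_zero, add_zero]

theorem Psi_conn (φ : E ⟶ CohB1.tensorMod E Ω') :
    (Psi ι hι c₀ φ).conn = c₀.conn + ab (D.π ≫ φ ≫ T Ω' ι) := rfl

theorem Psi_injective (hE : FlatMod.IsFinLocFree E) : Function.Injective (Psi ι hι c₀) := by
  intro φ φ' h
  have h1 : c₀.conn + ab (D.π ≫ φ ≫ T Ω' ι) = c₀.conn + ab (D.π ≫ φ' ≫ T Ω' ι) :=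
    congrArg DefoSh.DefoConn.conn h
  have h2 : ab (D.π ≫ φ ≫ T Ω' ι) = ab (D.π ≫ φ' ≫ T Ω' ι) := add_left_cancel h1
  have h3 : D.π ≫ φ ≫ T Ω' ι = D.π ≫ φ' ≫ T Ω' ι :=
    (SheafOfModules.toSheaf X.ringCatSheaf).map_injective h2
  haveI := epi_π D
  haveI : Mono (T Ω' ι) := mono_Tι ι hι hE
  have h4 : φ ≫ T Ω' ι = φ' ≫ T Ω' ι := (cancel_epi D.π).1 h3
  exact (cancel_mono (T Ω' ι)).1 h4

theorem Psi_surjective (hE : FlatMod.IsFinLocFree E) : Function.Surjective (Psi ι hι c₀) := by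
  intro c
  have hlin : ∀ (U : X.Opens) (t : Γ(X, U)) (e : D.sheaf.val.obj (op U)),
      ConnSh.secApp (c.conn - c₀.conn) U (t • e) =
        t • ConnSh.secApp (c.conn - c₀.conn) U e := by
    intro U t e
    change ConnSh.secApp c.conn U (t • e) - ConnSh.secApp c₀.conn U (t • e) =
      t • (ConnSh.secApp c.conn U e - ConnSh.secApp c₀.conn U e)
    rw [c.isConn U t e, c₀.isConn U t e, add_sub_add_right_eq_sub, smul_sub]
  let θ : D.sheaf ⟶ CohB1.tensorMod D.sheaf Ω' :=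
    ⟨PresheafOfModules.homMk (c.conn - c₀.conn).hom (fun U s m => hlin U.unop s m)⟩
  have hθ : ab θ = c.conn - c₀.conn := by
    apply hom_ext_secApp
    intro U x
    rfl
  have hιθ : ι ≫ θ = 0 := by
    apply (SheafOfModules.toSheaf X.ringCatSheaf).map_injective
    change ab (ι ≫ θ) = ab 0
    rw [ab_comp, hθ, Preadditive.comp_sub, K3 ι hι c, K3 ι hι c₀, sub_self, ab_zero]
  have hθπ : θ ≫ T Ω' D.π = 0 := by
    apply (SheafOfModules.toSheaf X.ringCatSheaf).map_injective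
    change ab (θ ≫ T Ω' D.π) = ab 0
    rw [ab_comp, hθ, Preadditive.sub_comp, ← K1 c, ← K1 c₀, sub_self, ab_zero]
  have hex := exact_ιπ D ι hι
  haveI : Epi D.π := epi_π D
  haveI : Epi (ShortComplex.mk ι D.π (ι_π D ι hι)).g := epi_π D
  have hθ' : D.π ≫ hex.desc θ hιθ = θ := hex.g_desc θ hιθ
  have hθ'π : hex.desc θ hιθ ≫ T Ω' D.π = 0 := by
    rw [← cancel_epi D.π, ← Category.assoc, hθ', hθπ, comp_zero]
  have hexT := exact_T (Ω' := Ω') ι hι hE
  haveI : Mono (ShortComplex.mk (T Ω' ι) (T Ω' D.π) (T_ι_π ι hι)).f := mono_Tι ι hι hE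
  have hφ : hexT.lift (hex.desc θ hιθ) hθ'π ≫ T Ω' ι = hex.desc θ hιθ :=
    hexT.lift_f _ hθ'π
  refine ⟨hexT.lift (hex.desc θ hιθ) hθ'π, defoConn_ext _ _ ?_⟩
  rw [Psi_conn, hφ, hθ', hθ]
  exact add_sub_cancel _ _

theorem main (hE : FlatMod.IsFinLocFree E) :
    ∃ Φ : DefoSh.DefoConn δ nabla D ≃ (E ⟶ CohB1.tensorMod E Ω'),
      ∀ c : DefoSh.DefoConn δ nabla D,
        c.conn - c₀.conn = ab (D.π ≫ Φ c ≫ T Ω' ι) := by
  let e := Equiv.ofBijective (Psi ι hι c₀)
    ⟨Psi_injective ι hι c₀ hE, Psi_surjective ι hι c₀ hE⟩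
  refine ⟨e.symm, fun c => ?_⟩
  have h : Psi ι hι c₀ (e.symm c) = c := e.apply_symm_apply c
  have h' : c₀.conn + ab (D.π ≫ e.symm c ≫ T Ω' ι) = c.conn :=
    congrArg DefoSh.DefoConn.conn h
  rw [← h', add_sub_cancel_left]

end Conn

end Groth.Agent.Lib.Helper25.TranspC
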