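import Groth.Agent.Lib.Helper25.TwKoszRing
import Groth.Agent.Lib.Helper25.KoszExact
import Groth.Agent.Lib.Helper3.InvMonoidal
import Groth.Agent.Lib.Helper3.LocFreeCrit
import Groth.Agent.Lib.Helper3.ModGlue
import Groth.Prelude.Def_KoszTw

/-!
# Twisted Koszul complexes: comparison of `K(F, s) ⊗ L^{⊗ n}` and `K(F ⊗ L, t)`
-/

set_option autoImplicit false
universe u v w
open CategoryTheory CategoryTheory.Limits AlgebraicGeometry TopologicalSpace Opposite
open Scheme.Modules exteriorPower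

namespace Groth.Agent.Lib.Helper25.TwKosz

open Groth.Agent.Lib.Helper3 Groth.Agent.Lib.Helper3.QCSec Groth.Agent.Lib.Helper3.InvGen
  Groth.Agent.Lib.Helper3.InvTensor
open Groth.Agent.Lib.Helper25.KoszExt Groth.Agent.Lib.Helper25.TwKoszRing
  Groth.Agent.Lib.Helper25.KoszExact

section Cat

variable {C : Type w} [Category.{v} C] [Abelian C]

theorem kernelSubobject_le_of_comp {A B B' : C} (f : A ⟶ B) (g : A ⟶ B')
    (h : kernel.ι f ≫ g = 0) : kernelSubobject f ≤ kernelSubobject g := by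
  have h' : (kernelSubobject f).arrow ≫ g = 0 := by
    rw [← kernelSubobject_arrow, Category.assoc, h, comp_zero]
  exact Subobject.le_of_comm (factorThruKernelSubobject g _ h')
    (factorThruKernelSubobject_comp_arrow g _ h')

theorem imageSubobject_le_of_comp {S S' T : C} (φ : S ⟶ T) (φ' : S' ⟶ T)
    (h : φ ≫ cokernel.π φ' = 0) : imageSubobject φ ≤ imageSubobject φ' := by
  refine imageSubobject_le φ (kernel.lift (cokernel.π φ') φ h ≫ (Abelian.imageIsoImage φ').hom ≫
    (imageSubobjectIso φ').inv) ?_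
  rw [Category.assoc, Category.assoc, imageSubobject_arrow',
    Abelian.imageIsoImage_hom_comp_image_ι, kernel.lift_ι]

end Cat

variable {X : Scheme.{u}}

section Small

variable (Small : X.Opens → Prop)
  (hcov : ∀ (W : X.Opens) (x : X), x ∈ W → ∃ V : X.Opens, Small V ∧ x ∈ V ∧ V ≤ W)

include hcov

theorem kernel_comp_eq_zero_of_small {A B B' : X.Modules} (f : A ⟶ B) (g : A ⟶ B')
    (h : ∀ V, Small V → ∀ z : Γ(A, V), f.app V z = 0 → g.app V z = 0) :
    kernel.ι f ≫ g = 0 := by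
  apply ModGlue.hom_ext_of_small Small hcov
  intro V hV z
  have h1 : f.app V ((kernel.ι f).app V z) = 0 := by
    have h0 : (kernel.ι f ≫ f).app V z = 0 := by rw [kernel.condition]; rfl
    exact h0
  show g.app V ((kernel.ι f).app V z) = 0
  exact h V hV _ h1

theorem kernelSubobject_eq_of_small {A B B' : X.Modules} (f : A ⟶ B) (g : A ⟶ B')
    (h : ∀ V, Small V → ∀ z : Γ(A, V), f.app V z = 0 ↔ g.app V z = 0) :
    kernelSubobject f = kernelSubobject g :=
  le_antisymm
    (kernelSubobject_le_of_comp f g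
      (kernel_comp_eq_zero_of_small Small hcov f g (fun V hV z => (h V hV z).1)))
    (kernelSubobject_le_of_comp g f
      (kernel_comp_eq_zero_of_small Small hcov g f (fun V hV z => (h V hV z).2)))

theorem comp_cokernel_eq_zero_of_small {S S' T : X.Modules} (φ : S ⟶ T) (φ' : S' ⟶ T)
    (h : ∀ V, Small V → ∀ z : Γ(S, V), ∃ z' : Γ(S', V), φ'.app V z' = φ.app V z) :
    φ ≫ cokernel.π φ' = 0 := by
  apply ModGlue.hom_ext_of_small Small hcov
  intro V hV z
  obtain ⟨z', hz'⟩ := h V hV z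
  show (cokernel.π φ').app V (φ.app V z) = 0
  rw [← hz']
  have h0 : (φ' ≫ cokernel.π φ').app V z' = 0 := by rw [cokernel.condition]; rfl
  exact h0

theorem imageSubobject_eq_of_small {S S' T : X.Modules} (φ : S ⟶ T) (φ' : S' ⟶ T)
    (h1 : ∀ V, Small V → ∀ z : Γ(S, V), ∃ z' : Γ(S', V), φ'.app V z' = φ.app V z)
    (h2 : ∀ V, Small V → ∀ z' : Γ(S', V), ∃ z : Γ(S, V), φ.app V z = φ'.app V z') :
    imageSubobject φ = imageSubobject φ' :=
  le_antisymm
    (imageSubobject_le_of_comp φ φ' (comp_cokernel_eq_zero_of_small Small hcov φ φ' h1))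
    (imageSubobject_le_of_comp φ' φ (comp_cokernel_eq_zero_of_small Small hcov φ' φ h2))

end Small

/-! ### tensoring with a generator -/

/-- tensoring with a generator, as a linear equivalence on sections -/
noncomputable def tauEquiv (F : X.Modules) {L : X.Modules} {V : X.Opens} {e : Γ(L, V)}
    (hg : IsGen L V e) : Γ(F, V) ≃ₗ[Γ(X, V)] Γ(CohB1.tensorMod F L, V) :=
  LinearEquiv.ofBijective
    { toFun := fun t => tm F L V t e
      map_add' := fun t t' => tm_add_left F L V t t' e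
      map_smul' := fun r t => tm_smul_left F L V r t e }
    (by
      have h := tm_gen_bijective F L hg V le_rfl
      have he : res L (le_refl V) e = e := res_self L _ e
      rw [he] at h
      exact h)

theorem tauEquiv_apply (F : X.Modules) {L : X.Modules} {V : X.Opens} {e : Γ(L, V)}
    (hg : IsGen L V e) (t : Γ(F, V)) : tauEquiv F hg t = tm F L V t e := rfl

theorem exists_tm_eq {M N : X.Modules} {V : X.Opens} {e : Γ(N, V)} (hg : IsGen N V e)
    (z : Γ(CohB1.tensorMod M N, V)) : ∃ x : Γ(M, V), tm M N V x e = z := by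
  have h := tm_gen_surjective M N hg V le_rfl z
  have he : res N (le_refl V) e = e := res_self N _ e
  rw [he] at h
  exact h

theorem tm_eq_zero_iff {M N : X.Modules} {V : X.Opens} {e : Γ(N, V)} (hg : IsGen N V e)
    (x : Γ(M, V)) : tm M N V x e = 0 ↔ x = 0 := by
  constructor
  · intro h
    have he : res N (le_refl V) e = e := res_self N _ e
    exact tm_gen_eq_zero M N hg V le_rfl x (by rw [he]; exact h)
  · rintro rfl
    exact tm_zero_left M N V e

theorem tensorMap_tm {M M' N N' : X.Modules} (f : M ⟶ M') (g : N ⟶ N') (U : X.Opens)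
    (m : Γ(M, U)) (n : Γ(N, U)) :
    (KoszTw.tensorMap f g).app U (tm M N U m n) = tm M' N' U (f.app U m) (g.app U n) :=
  KoszTw.tensorMap_tmul f g U m n

theorem tprod_const_eq_lpow (L : X.Modules) {V : X.Opens} (e : Γ(L, V)) (n : ℕ) :
    KoszTw.tprod L n V (fun _ => e) = lpow L e n := by
  induction n with
  | zero => rfl
  | succ n ih =>
    show SecTwist.tmul _ _ V (KoszTw.tprod L n V (fun _ => e)) e =
      SecTwist.tmul _ _ V (lpow L e n) e
    rw [ih]

theorem unitorR_inv_app (M : X.Modules) (V : X.Opens) (w : Γ(M, V)) :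
    (SecTwist.unitorR M).inv.app V w = tm M (Coh.structureModule X) V w (ofFun V 1) := by
  have h := InvMonoidal.unitorR_hom_tm M V w 1
  rw [one_smul] at h
  calc (SecTwist.unitorR M).inv.app V w
      = (SecTwist.unitorR M).inv.app V ((SecTwist.unitorR M).hom.app V
          (tm M (Coh.structureModule X) V w (ofFun V 1))) := by rw [h]
    _ = _ := InvMonoidal.iso_inv_hom_app _ V _

/-! ### the constant comparing the two cosections -/

theorem secForm_tw {F L : X.Modules} {s : F ⟶ Coh.structureModule X}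
    {lam : Coh.structureModule X ⟶ L} {t : CohB1.tensorMod F L ⟶ Coh.structureModule X}
    (htri : KoszTw.TwistTriangle s lam t) {V : X.Opens} {e : Γ(L, V)} (hg : IsGen L V e)
    (a : Γ(X, V)) (ha : a • e = sec lam V) (f : Γ(F, V)) :
    KoszSh.secForm s V f = KoszSh.secForm t V (tauEquiv F hg f) * a := by
  have h := htri V f e
  have h1 : t.app V (SecTwist.tmul F L V f e) =
      ofFun V (KoszSh.secForm t V (tauEquiv F hg f)) := rfl
  rw [h1, app_eq_smul_sec, ← ha, smul_smul] at h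
  exact (hg.self.smul_inj h).symm

theorem nzd_of_mono {L : X.Modules} (lam : Coh.structureModule X ⟶ L) [Mono lam] (V : X.Opens)
    {e : Γ(L, V)} (a : Γ(X, V)) (ha : a • e = sec lam V) (r : Γ(X, V)) (hr : r * a = 0) :
    r = 0 := by
  have h1 : lam.app V (ofFun V r) = 0 := by
    rw [app_eq_smul_sec, ← ha, smul_smul, hr, zero_smul]
  have h2 : lam.app V (ofFun V r) = lam.app V 0 := by rw [h1, _root_.map_zero]
  have h3 : ofFun V r = 0 := QCExact.injective_sections lam V h2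
  exact h3

/-! ### Koszul data on sections -/

section Kosz

variable {E : X.Modules} {s : E ⟶ Coh.structureModule X}

theorem loc_ddP (C : KoszSh.Cx E s) (p : ℕ) (V : X.affineOpens) (z : Γ(C.K.X (p + 1), V.1)) :
    C.loc p V ((C.K.d (p + 1) p).app V.1 z) =
      ddP (KoszSh.secForm s V.1) p (C.loc (p + 1) V z) :=
  Subtype.ext (loc_d C p V z)

theorem d_loc_symm (C : KoszSh.Cx E s) (p : ℕ) (V : X.affineOpens)
    (y : ⋀[Γ(X, V.1)]^(p + 1) Γ(E, V.1)) :
    (C.K.d (p + 1) p).app V.1 ((C.loc (p + 1) V).symm y) =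
      (C.loc p V).symm (ddP (KoszSh.secForm s V.1) p y) := by
  apply (C.loc p V).injective
  rw [loc_ddP, LinearEquiv.apply_symm_apply, LinearEquiv.apply_symm_apply]

end Kosz

section Main

variable {F L : X.Modules} {s : F ⟶ Coh.structureModule X} {lam : Coh.structureModule X ⟶ L}
  {t : CohB1.tensorMod F L ⟶ Coh.structureModule X}
  (C : KoszSh.Cx F s) (D : KoszSh.Cx (CohB1.tensorMod F L) t)

theorem exists_rep (p : ℕ) (V : X.affineOpens) {e : Γ(L, V.1)}
    (hg : IsGen L V.1 e) (z : Γ(D.K.X p, V.1)) :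
    ∃ y : ⋀[Γ(X, V.1)]^p Γ(F, V.1),
      z = (D.loc p V).symm (exteriorPower.map p (tauEquiv F hg).toLinearMap y) := by
  refine ⟨exteriorPower.map p (tauEquiv F hg).symm.toLinearMap (D.loc p V z), ?_⟩
  have h1 : (tauEquiv F hg).toLinearMap ∘ₗ (tauEquiv F hg).symm.toLinearMap = LinearMap.id := by
    ext m; simp
  have h2 : exteriorPower.map p (tauEquiv F hg).toLinearMap ∘ₗ
      exteriorPower.map p (tauEquiv F hg).symm.toLinearMap = LinearMap.id := by
    rw [← exteriorPower.map_comp, h1, exteriorPower.map_id]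
  have h3 := LinearMap.congr_fun h2 (D.loc p V z)
  rw [LinearMap.comp_apply, LinearMap.id_apply] at h3
  rw [h3, LinearEquiv.symm_apply_apply]

theorem theta_formula (p : ℕ) (θ : KoszTw.CxDecData C D p) (V : X.affineOpens)
    {e : Γ(L, V.1)} (hg : IsGen L V.1 e) (y : ⋀[Γ(X, V.1)]^p Γ(F, V.1)) :
    θ.iso.hom.app V.1
        ((D.loc p V).symm (exteriorPower.map p (tauEquiv F hg).toLinearMap y)) =
      tm (C.K.X p) (CohB1.tensorPow L p) V.1 ((C.loc p V).symm y) (lpow L e p) := by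
  revert y
  apply extPow_induction
  · rw [_root_.map_zero, _root_.map_zero, _root_.map_zero, _root_.map_zero, tm_zero_left]
  · intro v
    rw [exteriorPower.map_apply_ιMulti]
    have h := θ.rule V v (fun _ => e)
    rw [tprod_const_eq_lpow] at h
    exact h
  · intro x y hx hy
    rw [(C.loc p V).symm.map_add, tm_add_left, ← hx, ← hy, (exteriorPower.map p _).map_add,
      (D.loc p V).symm.map_add, _root_.map_add]
  · intro r x hx
    rw [(C.loc p V).symm.map_smul, tm_smul_left, ← hx, (exteriorPower.map p _).map_smul,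
      (D.loc p V).symm.map_smul, Scheme.Modules.Hom.app_smul]

theorem formulaL (q : ℕ) (θ : KoszTw.CxDecData C D (q + 1)) (V : X.affineOpens)
    {e : Γ(L, V.1)} (hg : IsGen L V.1 e) (y : ⋀[Γ(X, V.1)]^(q + 1) Γ(F, V.1)) :
    (θ.iso.hom ≫ KoszTw.tensorMap (C.K.d (q + 1) q) (𝟙 (CohB1.tensorPow L (q + 1)))).app V.1
        ((D.loc (q + 1) V).symm (exteriorPower.map (q + 1) (tauEquiv F hg).toLinearMap y)) =
      tm (C.K.X q) (CohB1.tensorPow L (q + 1)) V.1
        ((C.loc q V).symm (ddP (KoszSh.secForm s V.1) q y)) (lpow L e (q + 1)) := by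
  show (KoszTw.tensorMap (C.K.d (q + 1) q) (𝟙 (CohB1.tensorPow L (q + 1)))).app V.1
    (θ.iso.hom.app V.1 _) = _
  rw [theta_formula C D (q + 1) θ V hg y, tensorMap_tm, d_loc_symm]
  rfl

theorem local_iff (hF : FlatMod.IsFinLocFree F) [Mono lam]
    (htri : KoszTw.TwistTriangle s lam t) (q : ℕ) (θ : KoszTw.CxDecData C D (q + 1))
    (V : X.affineOpens) {e : Γ(L, V.1)} (hg : IsGen L V.1 e) (z : Γ(D.K.X (q + 1), V.1)) :
    (θ.iso.hom ≫ KoszTw.tensorMap (C.K.d (q + 1) q) (𝟙 (CohB1.tensorPow L (q + 1)))).app V.1 z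
        = 0 ↔ (D.K.d (q + 1) q).app V.1 z = 0 := by
  have hV : IsAffineOpen V.1 := V.2
  haveI : Module.Projective Γ(X, V.1) Γ(F, V.1) :=
    (LocFreeCrit.finite_projective_sections hF hV).2
  obtain ⟨a, ha⟩ := hg.self.exists_coord (sec lam V.1)
  obtain ⟨y, rfl⟩ := exists_rep D (q + 1) V hg z
  rw [formulaL C D q θ V hg y, d_loc_symm, tm_eq_zero_iff (isGen_lpow hg (q + 1)),
    LinearEquiv.map_eq_zero_iff, LinearEquiv.map_eq_zero_iff]
  exact ddP_eq_zero_iff (tauEquiv F hg) (KoszSh.secForm t V.1) (KoszSh.secForm s V.1) a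
    (nzd_of_mono lam V.1 a ha) (secForm_tw htri hg a ha) q y

theorem exists_small (hL : PicF.IsInvertible L) (W : X.Opens) (x : X) (hx : x ∈ W) :
    ∃ V : X.Opens, (IsAffineOpen V ∧ ∃ e : Γ(L, V), IsGen L V e) ∧ x ∈ V ∧ V ≤ W := by
  obtain ⟨U, e, hU, hxU, hUW, hg⟩ := exists_affine_isGen_le hL x W hx
  exact ⟨U, ⟨hU, e, hg⟩, hxU, hUW⟩

/-- **Kernel comparison for the twisted Koszul complex.** -/
theorem kernel_eq (hF : FlatMod.IsFinLocFree F) (hL : PicF.IsInvertible L) [Mono lam]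
    (htri : KoszTw.TwistTriangle s lam t) (q : ℕ) (θ : KoszTw.CxDecData C D (q + 1)) :
    kernelSubobject (θ.iso.hom ≫
        KoszTw.tensorMap (C.K.d (q + 1) q) (𝟙 (CohB1.tensorPow L (q + 1)))) =
      kernelSubobject (D.K.d (q + 1) q) := by
  apply kernelSubobject_eq_of_small (fun V => IsAffineOpen V ∧ ∃ e : Γ(L, V), IsGen L V e)
    (exists_small hL)
  rintro V ⟨hV, e, hg⟩ z
  exact local_iff C D hF htri q θ ⟨V, hV⟩ hg z

theorem formulaA (q : ℕ) (V : X.affineOpens) (e : Γ(L, V.1))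
    (y : ⋀[Γ(X, V.1)]^(q + 1) Γ(F, V.1)) :
    (KoszTw.tensorMap (KoszTw.tensorMap (C.K.d (q + 1) q) (𝟙 (CohB1.tensorPow L q))) (𝟙 L)).app V.1
        (tm (CohB1.tensorMod (C.K.X (q + 1)) (CohB1.tensorPow L q)) L V.1
          (tm (C.K.X (q + 1)) (CohB1.tensorPow L q) V.1 ((C.loc (q + 1) V).symm y)
            (lpow L e q)) e) =
      tm (CohB1.tensorMod (C.K.X q) (CohB1.tensorPow L q)) L V.1
        (tm (C.K.X q) (CohB1.tensorPow L q) V.1
          ((C.loc q V).symm (ddP (KoszSh.secForm s V.1) q y)) (lpow L e q)) e := by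
  rw [tensorMap_tm, tensorMap_tm, d_loc_symm]
  rfl

theorem formulaB (htri : KoszTw.TwistTriangle s lam t) (q : ℕ) (θ : KoszTw.CxDecData C D q)
    (V : X.affineOpens) {e : Γ(L, V.1)} (hg : IsGen L V.1 e) (a : Γ(X, V.1))
    (ha : a • e = sec lam V.1) (y : ⋀[Γ(X, V.1)]^(q + 1) Γ(F, V.1)) :
    ((SecTwist.unitorR (D.K.X (q + 1))).inv ≫ KoszTw.tensorMap (D.K.d (q + 1) q) lam ≫
        KoszTw.tensorMap θ.iso.hom (𝟙 L)).app V.1
        ((D.loc (q + 1) V).symm (exteriorPower.map (q + 1) (tauEquiv F hg).toLinearMap y)) =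
      tm (CohB1.tensorMod (C.K.X q) (CohB1.tensorPow L q)) L V.1
        (tm (C.K.X q) (CohB1.tensorPow L q) V.1
          ((C.loc q V).symm (ddP (KoszSh.secForm s V.1) q y)) (lpow L e q)) e := by
  show (KoszTw.tensorMap θ.iso.hom (𝟙 L)).app V.1
    ((KoszTw.tensorMap (D.K.d (q + 1) q) lam).app V.1
      ((SecTwist.unitorR (D.K.X (q + 1))).inv.app V.1 _)) = _
  have hlam : lam.app V.1 (ofFun V.1 1) = a • e := ha.symm
  have hss : KoszSh.secForm s V.1 =
      a • (KoszSh.secForm t V.1 ∘ₗ (tauEquiv F hg).toLinearMap) := by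
    ext m
    rw [secForm_tw htri hg a ha m, mul_comm]
    rfl
  rw [unitorR_inv_app, tensorMap_tm, d_loc_symm, ddP_map, hlam, tm_smul_right,
    Scheme.Modules.Hom.app_smul, tensorMap_tm, theta_formula C D q θ V hg, hss, ddP_smul,
    (C.loc q V).symm.map_smul, tm_smul_left, tm_smul_left]
  rfl

theorem image_local_1 (htri : KoszTw.TwistTriangle s lam t) (q : ℕ) (θ : KoszTw.CxDecData C D q)
    (V : X.affineOpens) {e : Γ(L, V.1)} (hg : IsGen L V.1 e)
    (z : Γ(CohB1.tensorMod (CohB1.tensorMod (C.K.X (q + 1)) (CohB1.tensorPow L q)) L, V.1)) :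
    ∃ z' : Γ(D.K.X (q + 1), V.1),
      ((SecTwist.unitorR (D.K.X (q + 1))).inv ≫ KoszTw.tensorMap (D.K.d (q + 1) q) lam ≫
        KoszTw.tensorMap θ.iso.hom (𝟙 L)).app V.1 z' =
      (KoszTw.tensorMap (KoszTw.tensorMap (C.K.d (q + 1) q) (𝟙 (CohB1.tensorPow L q)))
        (𝟙 L)).app V.1 z := by
  obtain ⟨a, ha⟩ := hg.self.exists_coord (sec lam V.1)
  obtain ⟨x1, rfl⟩ := exists_tm_eq hg z
  obtain ⟨x2, rfl⟩ := exists_tm_eq (isGen_lpow hg q) x1
  obtain ⟨y, rfl⟩ : ∃ y, (C.loc (q + 1) V).symm y = x2 :=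
    ⟨C.loc (q + 1) V x2, LinearEquiv.symm_apply_apply _ _⟩
  exact ⟨_, (formulaB C D htri q θ V hg a ha y).trans (formulaA C q V e y).symm⟩

theorem image_local_2 (htri : KoszTw.TwistTriangle s lam t) (q : ℕ) (θ : KoszTw.CxDecData C D q)
    (V : X.affineOpens) {e : Γ(L, V.1)} (hg : IsGen L V.1 e) (z' : Γ(D.K.X (q + 1), V.1)) :
    ∃ z : Γ(CohB1.tensorMod (CohB1.tensorMod (C.K.X (q + 1)) (CohB1.tensorPow L q)) L, V.1),
      (KoszTw.tensorMap (KoszTw.tensorMap (C.K.d (q + 1) q) (𝟙 (CohB1.tensorPow L q)))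
        (𝟙 L)).app V.1 z =
      ((SecTwist.unitorR (D.K.X (q + 1))).inv ≫ KoszTw.tensorMap (D.K.d (q + 1) q) lam ≫
        KoszTw.tensorMap θ.iso.hom (𝟙 L)).app V.1 z' := by
  obtain ⟨a, ha⟩ := hg.self.exists_coord (sec lam V.1)
  obtain ⟨y, rfl⟩ := exists_rep D (q + 1) V hg z'
  exact ⟨_, (formulaA C q V e y).trans (formulaB C D htri q θ V hg a ha y).symm⟩

/-- **Image comparison for the twisted Koszul complex.** -/
theorem image_eq (hL : PicF.IsInvertible L) (htri : KoszTw.TwistTriangle s lam t) (q : ℕ)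
    (θ : KoszTw.CxDecData C D q) :
    imageSubobject (KoszTw.tensorMap
        (KoszTw.tensorMap (C.K.d (q + 1) q) (𝟙 (CohB1.tensorPow L q))) (𝟙 L)) =
      imageSubobject ((SecTwist.unitorR (D.K.X (q + 1))).inv ≫
        KoszTw.tensorMap (D.K.d (q + 1) q) lam ≫ KoszTw.tensorMap θ.iso.hom (𝟙 L)) := by
  apply imageSubobject_eq_of_small (fun V => IsAffineOpen V ∧ ∃ e : Γ(L, V), IsGen L V e)
    (exists_small hL)
  · rintro V ⟨hV, e, hg⟩ z
    exact image_local_1 C D htri q θ ⟨V, hV⟩ hg z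
  · rintro V ⟨hV, e, hg⟩ z'
    exact image_local_2 C D htri q θ ⟨V, hV⟩ hg z'

end Main

end Groth.Agent.Lib.Helper25.TwKosz
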