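/-
Helper25 library: pointwise openness over a unibranch point.

* `prime_over_unique`: if `A_p` is unibranch (`A` a domain) then the normalization of `A` has exactly one
  prime over `p`.
* `isOpenAt_comap_of_unibranch_integral`: `A ⊆ B` integral extension of domains, `q` a prime of `B` with
  `A_{q ∩ A}` unibranch; then `Spec B → Spec A` is open at `q`.
* `isUnibranch_quotient`, `isUnibranch_localization_quotient`: unibranchness and nil ideals.
* `isOpenAt_comap_of_quasiFiniteAt`: finite type, quasi-finite at `q`, irreducible source, dominant,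
  unibranch image point ⟹ open at `q` (via Zariski's main theorem).
-/
import Mathlib
import Groth.Prelude
import Groth.Agent.Lib.Helper8.OpenIntegral
import Groth.Agent.Lib.Helper8.NormFibreRing
import Groth.Agent.Lib.Helper8.QFOpenAt
import Groth.Agent.Lib.Helper8.UnibranchRed
import Groth.Agent.S2052

set_option autoImplicit false
set_option linter.style.haveILetI false
universe u
open PrimeSpectrum TensorProduct
open Groth.Agent.Lib.Helper12.KAExt (Bir)

namespace Groth.Agent.Lib.Helper25.UnibranchOpen

open Groth.Agent.Lib.Helper8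

section Norm

variable (A : Type u) [CommRing A] [IsDomain A]

theorem bir_integralClosure : Bir A (integralClosure A (FractionRing A)) := by
  intro z
  obtain ⟨⟨a', s⟩, h⟩ := IsLocalization.surj (nonZeroDivisors A) (z : FractionRing A)
  refine ⟨s, a', nonZeroDivisors.coe_ne_zero s, ?_⟩
  apply Subtype.ext
  show algebraMap A (FractionRing A) s * (z : FractionRing A) = algebraMap A (FractionRing A) a'
  rw [mul_comm]
  exact h

theorem comap_normalization_surjective :
    Function.Surjective (comap (algebraMap A (integralClosure A (FractionRing A)))) := by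
  intro p
  obtain ⟨Q, hQ, hQc⟩ := Ideal.exists_ideal_over_prime_of_isIntegral_of_isDomain
    (R := A) (S := integralClosure A (FractionRing A)) p.asIdeal (by
      have : RingHom.ker (algebraMap A (integralClosure A (FractionRing A))) = ⊥ :=
        (RingHom.injective_iff_ker_eq_bot _).mp
          (FaithfulSMul.algebraMap_injective A (integralClosure A (FractionRing A)))
      rw [this]; exact bot_le)
  exact ⟨⟨Q, hQ⟩, PrimeSpectrum.ext hQc⟩

theorem comap_normalization_isClosedMap :
    IsClosedMap (comap (algebraMap A (integralClosure A (FractionRing A)))) :=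
  isClosedMap_comap_of_isIntegral _ (algebraMap_isIntegral_iff.mpr inferInstance)

variable {A}

/-- Over a unibranch point the normalization has a single prime. -/
theorem prime_over_unique (p : Ideal A) [p.IsPrime]
    (hub : CAlg2.IsUnibranch (Localization.AtPrime p))
    (P₁ P₂ : PrimeSpectrum (integralClosure A (FractionRing A)))
    (h₁ : P₁.asIdeal.comap (algebraMap A (integralClosure A (FractionRing A))) = p)
    (h₂ : P₂.asIdeal.comap (algebraMap A (integralClosure A (FractionRing A))) = p) : P₁ = P₂ := by
  haveI : IsIntegrallyClosed (integralClosure A (FractionRing A)) :=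
    integralClosure.isIntegrallyClosedOfFiniteExtension (FractionRing A)
  have hinj : Function.Injective (algebraMap A (integralClosure A (FractionRing A))) :=
    FaithfulSMul.algebraMap_injective A _
  obtain ⟨β, Θ, -, -, -⟩ := NormFibre.main_ring A
    (integralClosure A (FractionRing A)) (Localization.AtPrime p) p hinj (bir_integralClosure A)
  haveI := hub.2
  have hsub : ∀ a b : MaximalSpectrum (CAlg2.normRed (Localization.AtPrime p)), a = b := by
    intro a b
    apply MaximalSpectrum.ext
    rw [IsLocalRing.eq_maximalIdeal a.isMaximal, IsLocalRing.eq_maximalIdeal b.isMaximal]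
  have h := hsub (Θ.symm ⟨P₁, h₁⟩) (Θ.symm ⟨P₂, h₂⟩)
  have h' := Θ.symm.injective h
  exact congrArg Subtype.val h'

end Norm

section Main

variable {A B : Type u} [CommRing A] [IsDomain A] [CommRing B] [IsDomain B] [Algebra A B]
  [Algebra.IsIntegral A B]

attribute [local instance] FractionRing.liftAlgebra in
/-- **Pointwise openness for integral extensions over a unibranch point.** -/
theorem isOpenAt_comap_of_unibranch_integral (hinj : Function.Injective (algebraMap A B))
    (q : PrimeSpectrum B)
    (hub : CAlg2.IsUnibranch (Localization.AtPrime (q.asIdeal.comap (algebraMap A B)))) :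
    EGA43.IsOpenAt (comap (algebraMap A B)) q := by
  let K := FractionRing A
  let L := FractionRing B
  haveI : FaithfulSMul A B := (faithfulSMul_iff_algebraMap_injective A B).mpr hinj
  haveI : FaithfulSMul A L := by
    rw [faithfulSMul_iff_algebraMap_injective, IsScalarTower.algebraMap_eq A B L]
    exact (IsFractionRing.injective B L).comp hinj
  let N := integralClosure A K
  let C := integralClosure A L
  haveI hNic : IsIntegrallyClosed N := integralClosure.isIntegrallyClosedOfFiniteExtension K
  let ν : N →ₐ[A] C := ((IsScalarTower.toAlgHom A K L).comp N.val).codRestrict C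
    (fun x => (x.2 : IsIntegral A x.1).map (IsScalarTower.toAlgHom A K L))
  let β : B →ₐ[A] C := (IsScalarTower.toAlgHom A B L).codRestrict C
    (fun b => (Algebra.IsIntegral.isIntegral (R := A) b).map (IsScalarTower.toAlgHom A B L))
  have hνinj : Function.Injective ν := by
    intro x y hxy
    have h1 : algebraMap K L x.1 = algebraMap K L y.1 := congrArg Subtype.val hxy
    exact Subtype.ext ((algebraMap K L).injective h1)
  have hβinj : Function.Injective β := by
    intro x y hxy
    have h1 : algebraMap B L x = algebraMap B L y := congrArg Subtype.val hxy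
    exact IsFractionRing.injective B L h1
  letI algNC : Algebra N C := ν.toRingHom.toAlgebra
  haveI : IsScalarTower A N C := IsScalarTower.of_algebraMap_eq' ν.comp_algebraMap.symm
  haveI : Algebra.IsIntegral N C := Algebra.IsIntegral.tower_top (R := A)
  haveI : FaithfulSMul N C := (faithfulSMul_iff_algebraMap_injective N C).mpr hνinj
  have hopenν : IsOpenMap (comap (algebraMap N C)) :=
    OpenIntegral.isOpenMap_comap_of_isIntegrallyClosed
  letI algBC : Algebra B C := β.toRingHom.toAlgebra
  haveI : IsScalarTower A B C := IsScalarTower.of_algebraMap_eq' β.comp_algebraMap.symm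
  haveI : Algebra.IsIntegral B C := Algebra.IsIntegral.tower_top (R := A)
  have hsurjβ : Function.Surjective (comap (algebraMap B C)) := by
    intro p
    obtain ⟨Q, hQ, hQc⟩ := Ideal.exists_ideal_over_prime_of_isIntegral_of_isDomain
      (R := B) (S := C) p.asIdeal (by
        have : RingHom.ker (algebraMap B C) = ⊥ :=
          (RingHom.injective_iff_ker_eq_bot _).mp hβinj
        rw [this]; exact bot_le)
    exact ⟨⟨Q, hQ⟩, PrimeSpectrum.ext hQc⟩
  have hcomm : ∀ Q : PrimeSpectrum C, comap (algebraMap A B) (comap (algebraMap B C) Q) =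
      comap (algebraMap A N) (comap (algebraMap N C) Q) := by
    intro Q
    rw [← comap_comp_apply, ← comap_comp_apply, ← IsScalarTower.algebraMap_eq,
      ← IsScalarTower.algebraMap_eq]
  have hsurjN : Function.Surjective (comap (algebraMap A N)) := comap_normalization_surjective A
  have hclosedN : IsClosedMap (comap (algebraMap A N)) := comap_normalization_isClosedMap A
  -- the pointwise argument
  intro W hW
  obtain ⟨U, hUW, hU, hqU⟩ := mem_nhds_iff.mp hW
  have hU' : IsOpen (comap (algebraMap B C) ⁻¹' U) := hU.preimage (continuous_comap _)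
  have hV' : IsOpen (comap (algebraMap N C) '' (comap (algebraMap B C) ⁻¹' U)) := hopenν _ hU'
  have hF : IsClosed (comap (algebraMap A N) ''
      (comap (algebraMap N C) '' (comap (algebraMap B C) ⁻¹' U))ᶜ) :=
    hclosedN _ hV'.isClosed_compl
  obtain ⟨Q', hQ'⟩ := hsurjβ q
  have hP'V' : comap (algebraMap N C) Q' ∈
      comap (algebraMap N C) '' (comap (algebraMap B C) ⁻¹' U) := by
    refine ⟨Q', ?_, rfl⟩
    show comap (algebraMap B C) Q' ∈ U
    rw [hQ']; exact hqU
  have hP'p : (comap (algebraMap N C) Q').asIdeal.comap (algebraMap A N) =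
      q.asIdeal.comap (algebraMap A B) := by
    have h1 := hcomm Q'
    rw [hQ'] at h1
    exact (congrArg PrimeSpectrum.asIdeal h1).symm
  have hpF : comap (algebraMap A B) q ∉ comap (algebraMap A N) ''
      (comap (algebraMap N C) '' (comap (algebraMap B C) ⁻¹' U))ᶜ := by
    rintro ⟨P'', hP''V, hP''⟩
    apply hP''V
    have h2 : P'' = comap (algebraMap N C) Q' :=
      prime_over_unique (q.asIdeal.comap (algebraMap A B)) hub P'' _
        (congrArg PrimeSpectrum.asIdeal hP'') hP'p
    rw [h2]; exact hP'V'
  refine Filter.mem_of_superset (hF.isOpen_compl.mem_nhds hpF) ?_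
  intro a ha
  obtain ⟨P'', rfl⟩ := hsurjN a
  have hP''V : P'' ∈ comap (algebraMap N C) '' (comap (algebraMap B C) ⁻¹' U) := by
    by_contra h
    exact ha ⟨P'', h, rfl⟩
  obtain ⟨Q'', hQ''U, rfl⟩ := hP''V
  exact ⟨comap (algebraMap B C) Q'', hUW hQ''U, hcomm Q''⟩

end Main

section Quot

theorem isUnibranch_quotient {R : Type u} [CommRing R] [IsLocalRing R] (I : Ideal R)
    (hI : I ≤ nilradical R) [IsLocalRing (R ⧸ I)] (h : CAlg2.IsUnibranch R) :
    CAlg2.IsUnibranch (R ⧸ I) := by
  haveI hS := Hzl.isHenselization R
  have hItop : I ≠ ⊤ := BranchSumGeom.ne_top_of_isLocalRing_quotient I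
  have hJtop : I.map (algebraMap R (Hzl.Hens R)) ≠ ⊤ :=
    BranchSumGeom.map_ne_top R (Hzl.Hens R) I hItop
  haveI : Nontrivial (Hzl.Hens R ⧸ I.map (algebraMap R (Hzl.Hens R))) :=
    Ideal.Quotient.nontrivial_iff.mpr hJtop
  haveI : IsLocalRing (Hzl.Hens R ⧸ I.map (algebraMap R (Hzl.Hens R))) :=
    IsLocalRing.of_surjective' (Ideal.Quotient.mk _) Ideal.Quotient.mk_surjective
  haveI := BranchSumGeom.isLocalHom_quotientMap R (Hzl.Hens R) I
  haveI := BranchFibre.isHenselization_quotient R (Hzl.Hens R) I
  rw [Groth.Agent.S2052.result (A := R ⧸ I)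
    (Ah := Hzl.Hens R ⧸ I.map (algebraMap R (Hzl.Hens R)))]
  have h0 := (Groth.Agent.S2052.result (A := R) (Ah := Hzl.Hens R)).mp h
  refine UnibranchRed.hasUniqueMinimalPrime_quotient _ ?_ h0
  rw [Ideal.map_le_iff_le_comap]
  intro a ha
  have : IsNilpotent a := hI ha
  exact this.map (algebraMap R (Hzl.Hens R))

theorem isUnibranch_localization_quotient {A : Type u} [CommRing A] (I : Ideal A)
    (hI : I ≤ nilradical A) (p₀ : Ideal (A ⧸ I)) [p₀.IsPrime] (p : Ideal A) [p.IsPrime]
    (hpdef : p = p₀.comap (Ideal.Quotient.mk I))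
    (hgu : CAlg2.IsUnibranch (Localization.AtPrime p)) :
    CAlg2.IsUnibranch (Localization.AtPrime p₀) := by
  have hJ : I.map (algebraMap A (Localization.AtPrime p)) ≤ nilradical (Localization.AtPrime p) := by
    rw [Ideal.map_le_iff_le_comap]
    intro a ha
    have : IsNilpotent a := hI ha
    exact this.map (algebraMap A (Localization.AtPrime p))
  have hJtop : I.map (algebraMap A (Localization.AtPrime p)) ≠ ⊤ := by
    intro htop
    have h1 : (1 : Localization.AtPrime p) ∈ nilradical (Localization.AtPrime p) :=
      hJ (htop ▸ Submodule.mem_top)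
    have h2 : (1 : Localization.AtPrime p) ∈
        IsLocalRing.maximalIdeal (Localization.AtPrime p) :=
      nilradical_le_prime (IsLocalRing.maximalIdeal (Localization.AtPrime p)) h1
    exact (Ideal.ne_top_iff_one _).mp (Ideal.IsPrime.ne_top inferInstance) h2
  haveI : Nontrivial (Localization.AtPrime p ⧸ I.map (algebraMap A (Localization.AtPrime p))) :=
    Ideal.Quotient.nontrivial_iff.mpr hJtop
  haveI : IsLocalRing (Localization.AtPrime p ⧸ I.map (algebraMap A (Localization.AtPrime p))) :=
    IsLocalRing.of_surjective' (Ideal.Quotient.mk _) Ideal.Quotient.mk_surjective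
  have h1 : CAlg2.IsUnibranch
      (Localization.AtPrime p ⧸ I.map (algebraMap A (Localization.AtPrime p))) :=
    isUnibranch_quotient _ hJ hgu
  have hloc : IsLocalization (Algebra.algebraMapSubmonoid (A ⧸ I) p.primeCompl)
      (Localization.AtPrime p ⧸ I.map (algebraMap A (Localization.AtPrime p))) := inferInstance
  have hsub : Algebra.algebraMapSubmonoid (A ⧸ I) p.primeCompl = p₀.primeCompl := by
    ext x
    constructor
    · rintro ⟨a, ha, rfl⟩
      intro hmem
      apply ha
      rw [hpdef]
      exact hmem
    · intro hx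
      obtain ⟨a, rfl⟩ := Ideal.Quotient.mk_surjective x
      refine ⟨a, ?_, rfl⟩
      intro hmem
      apply hx
      rw [hpdef] at hmem
      exact hmem
  haveI : IsLocalization.AtPrime
      (Localization.AtPrime p ⧸ I.map (algebraMap A (Localization.AtPrime p))) p₀ := by
    show IsLocalization p₀.primeCompl _
    rw [← hsub]; exact hloc
  let e : Localization.AtPrime p₀ ≃+*
      Localization.AtPrime p ⧸ I.map (algebraMap A (Localization.AtPrime p)) :=
    (IsLocalization.algEquiv p₀.primeCompl _ _).toRingEquiv
  exact QFOpenAt.isUnibranch_of_ringEquiv e h1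

end Quot

section Transfer

/-- Openness at a point can be tested after dividing out a nil ideal of the base and the ideal above. -/
theorem isOpenAt_of_quotient {R T : Type u} [CommRing R] [CommRing T] [Algebra R T]
    (P : Ideal T) (hR : P.under R ≤ nilradical R) (q' : PrimeSpectrum (T ⧸ P))
    (h : EGA43.IsOpenAt (comap (algebraMap (R ⧸ P.under R) (T ⧸ P))) q') :
    EGA43.IsOpenAt (comap (algebraMap R T)) (comap (Ideal.Quotient.mk P) q') := by
  intro W hW
  have h1 : comap (Ideal.Quotient.mk P) ⁻¹' W ∈ nhds q' :=
    (continuous_comap _).continuousAt.preimage_mem_nhds hW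
  have h2 := h _ h1
  have hopen : IsOpenMap (comap (Ideal.Quotient.mk (P.under R))) := by
    refine (PrimeSpectrum.isHomeomorph_comap _ (fun x => ⟨1, one_pos, ?_⟩) ?_).isOpenMap
    · obtain ⟨y, rfl⟩ := Ideal.Quotient.mk_surjective x
      exact ⟨y, (pow_one _).symm⟩
    · rw [Ideal.mk_ker]; exact hR
  have h3 := hopen.image_mem_nhds h2
  have e : (algebraMap (R ⧸ P.under R) (T ⧸ P)).comp (Ideal.Quotient.mk (P.under R)) =
      (Ideal.Quotient.mk P).comp (algebraMap R T) := RingHom.ext fun x => rfl
  have hcomm : ∀ z : PrimeSpectrum (T ⧸ P),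
      comap (Ideal.Quotient.mk (P.under R)) (comap (algebraMap (R ⧸ P.under R) (T ⧸ P)) z) =
        comap (algebraMap R T) (comap (Ideal.Quotient.mk P) z) := by
    intro z
    rw [← comap_comp_apply, ← comap_comp_apply, e]
  rw [hcomm] at h3
  refine Filter.mem_of_superset h3 ?_
  rintro _ ⟨_, ⟨z, hz, rfl⟩, rfl⟩
  exact ⟨comap (Ideal.Quotient.mk P) z, hz, (hcomm z).symm⟩

/-- If `T[1/r] → S[1/ι r]` is bijective, then `Spec S → Spec T` maps neighbourhoods of a point of
`D(ι r)` to neighbourhoods. -/
theorem image_mem_nhds_of_awayMap_bijective {T S : Type u} [CommRing T] [CommRing S] (ι : T →+* S)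
    (r : T) (hbij : Function.Bijective (Localization.awayMap ι r)) (q : PrimeSpectrum S)
    (hrq : ι r ∉ q.asIdeal) (W : Set (PrimeSpectrum S)) (hW : W ∈ nhds q) :
    comap ι '' W ∈ nhds (comap ι q) := by
  obtain ⟨U, hUW, hU, hqU⟩ := mem_nhds_iff.mp hW
  obtain ⟨_, ⟨s, rfl⟩, hqs, hsU⟩ :=
    isTopologicalBasis_basic_opens.exists_subset_of_mem_open hqU hU
  have hφ : ∀ a : T, Localization.awayMap ι r (algebraMap T (Localization.Away r) a) =
      algebraMap S (Localization.Away (ι r)) (ι a) := fun a => IsLocalization.map_eq _ a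
  obtain ⟨y, hy⟩ := hbij.2 (algebraMap S (Localization.Away (ι r)) s)
  obtain ⟨n, t, ht⟩ := IsLocalization.Away.surj r y
  have h1 : algebraMap S (Localization.Away (ι r)) (s * ι r ^ n) =
      algebraMap S (Localization.Away (ι r)) (ι t) := by
    calc algebraMap S (Localization.Away (ι r)) (s * ι r ^ n)
        = algebraMap S (Localization.Away (ι r)) s *
          (algebraMap S (Localization.Away (ι r)) (ι r)) ^ n := by rw [map_mul, map_pow]
      _ = Localization.awayMap ι r y *
          (Localization.awayMap ι r (algebraMap T (Localization.Away r) r)) ^ n := by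
            rw [hy, hφ]
      _ = Localization.awayMap ι r (y * algebraMap T (Localization.Away r) r ^ n) := by
            rw [map_mul, map_pow]
      _ = Localization.awayMap ι r (algebraMap T (Localization.Away r) t) := by rw [ht]
      _ = algebraMap S (Localization.Away (ι r)) (ι t) := hφ t
  obtain ⟨m, hm⟩ := IsLocalization.Away.exists_of_eq (ι r) h1
  have hsq : s ∉ q.asIdeal := hqs
  refine Filter.mem_of_superset ((basicOpen (t * r)).isOpen.mem_nhds ?_) ?_
  · show t * r ∉ (comap ι q).asIdeal
    intro hmem
    have h2 : ι t * ι r ∈ q.asIdeal := by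
      have : ι (t * r) ∈ q.asIdeal := hmem
      rwa [map_mul] at this
    have h3 : ι t ∈ q.asIdeal := (q.isPrime.mem_or_mem h2).resolve_right hrq
    have h4 : ι r ^ m * (s * ι r ^ n) ∈ q.asIdeal := by
      rw [hm]; exact Ideal.mul_mem_left _ _ h3
    rcases q.isPrime.mem_or_mem h4 with h5 | h5
    · exact hrq (q.isPrime.mem_of_pow_mem _ h5)
    · rcases q.isPrime.mem_or_mem h5 with h6 | h6
      · exact hsq h6
      · exact hrq (q.isPrime.mem_of_pow_mem _ h6)
  · intro P₀ hP₀
    have hP₀' : t * r ∉ P₀.asIdeal := hP₀
    have hrP₀ : r ∉ P₀.asIdeal := fun h => hP₀' (Ideal.mul_mem_left _ _ h)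
    have htP₀ : t ∉ P₀.asIdeal := fun h => hP₀' (Ideal.mul_mem_right _ _ h)
    have hrange : P₀ ∈ Set.range (comap (algebraMap T (Localization.Away r))) := by
      rw [localization_away_comap_range (Localization.Away r) r]; exact hrP₀
    obtain ⟨PL₀, hPL₀⟩ := hrange
    let e := RingEquiv.ofBijective (Localization.awayMap ι r) hbij
    have hh : ((e.symm : Localization.Away (ι r) →+* Localization.Away r).comp
        ((algebraMap S (Localization.Away (ι r))).comp ι)) =
        algebraMap T (Localization.Away r) := by
      refine RingHom.ext fun a => ?_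
      show e.symm (algebraMap S (Localization.Away (ι r)) (ι a)) = algebraMap T _ a
      rw [← hφ a]
      exact e.symm_apply_apply _
    have hPP₀ : comap ι (comap (algebraMap S (Localization.Away (ι r)))
        (comap (e.symm : Localization.Away (ι r) →+* Localization.Away r) PL₀)) = P₀ := by
      rw [← comap_comp_apply, ← comap_comp_apply, hh, hPL₀]
    refine ⟨comap (algebraMap S (Localization.Away (ι r)))
        (comap (e.symm : Localization.Away (ι r) →+* Localization.Away r) PL₀),
      hUW (hsU ?_), hPP₀⟩
    set P : PrimeSpectrum S := comap (algebraMap S (Localization.Away (ι r)))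
        (comap (e.symm : Localization.Away (ι r) →+* Localization.Away r) PL₀) with hPdef
    show s ∉ P.asIdeal
    intro hsP
    have hrP : ι r ∉ P.asIdeal := fun h => hrP₀ (by rw [← hPP₀]; exact h)
    have htP : ι t ∉ P.asIdeal := fun h => htP₀ (by rw [← hPP₀]; exact h)
    have h4 : ι r ^ m * ι t ∈ P.asIdeal := by
      rw [← hm]; exact Ideal.mul_mem_left _ _ (Ideal.mul_mem_right _ _ hsP)
    rcases P.isPrime.mem_or_mem h4 with h5 | h5
    · exact hrP (P.isPrime.mem_of_pow_mem _ h5)
    · exact htP h5

end Transfer

section ZMT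

/-- **Openness at a quasi-finite point over a unibranch point, finite type case**: the source has
irreducible spectrum, the map is dominant. -/
theorem isOpenAt_comap_of_quasiFiniteAt {R S : Type u} [CommRing R] [CommRing S] [Algebra R S]
    [Algebra.FiniteType R S] (q : PrimeSpectrum S) [Algebra.QuasiFiniteAt R q.asIdeal]
    (hS : (nilradical S).IsPrime) (hRS : (nilradical S).comap (algebraMap R S) ≤ nilradical R)
    (hub : CAlg2.IsUnibranch (Localization.AtPrime (q.asIdeal.comap (algebraMap R S)))) :
    EGA43.IsOpenAt (comap (algebraMap R S)) q := by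
  obtain ⟨S₀, hfg, r, hrq, hbij⟩ :=
    Algebra.QuasiFiniteAt.exists_fg_and_exists_notMem_and_awayMap_bijective (R := R) q.asIdeal
  haveI : Module.Finite R S₀ := ⟨(Submodule.fg_top _).mpr hfg⟩
  haveI : Algebra.IsIntegral R S₀ := Algebra.IsIntegral.of_finite R S₀
  have h4a : ∀ W ∈ nhds q, comap (algebraMap S₀ S) '' W ∈ nhds (comap (algebraMap S₀ S) q) :=
    fun W hW => image_mem_nhds_of_awayMap_bijective (algebraMap S₀ S) r hbij q hrq W hW
  have h4b : EGA43.IsOpenAt (comap (algebraMap R S₀)) (comap (algebraMap S₀ S) q) := by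
    haveI := hS
    obtain ⟨P₀, hP₀⟩ : ∃ P₀ : Ideal S₀, P₀ = (nilradical S).comap (algebraMap S₀ S) := ⟨_, rfl⟩
    haveI : P₀.IsPrime := hP₀ ▸ Ideal.comap_isPrime _ _
    have hPR : P₀.under R ≤ nilradical R := by
      intro a ha
      apply hRS
      have h1 : algebraMap R S₀ a ∈ P₀ := ha
      rw [hP₀] at h1
      exact h1
    have hle : P₀ ≤ (comap (algebraMap S₀ S) q).asIdeal := by
      rw [hP₀]
      exact Ideal.comap_mono (nilradical_le_prime q.asIdeal)
    obtain ⟨q', hq'⟩ : ∃ q' : PrimeSpectrum (S₀ ⧸ P₀),
        comap (Ideal.Quotient.mk P₀) q' = comap (algebraMap S₀ S) q := by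
      have : comap (algebraMap S₀ S) q ∈ Set.range (comap (Ideal.Quotient.mk P₀)) := by
        rw [range_comap_of_surjective _ _ Ideal.Quotient.mk_surjective, Ideal.mk_ker]
        exact hle
      exact this
    rw [← hq']
    apply isOpenAt_of_quotient P₀ hPR q'
    apply isOpenAt_comap_of_unibranch_integral (A := R ⧸ P₀.under R) (B := S₀ ⧸ P₀)
    · exact FaithfulSMul.algebraMap_injective _ _
    · refine isUnibranch_localization_quotient (P₀.under R) hPR _
        (q.asIdeal.comap (algebraMap R S)) ?_ hub
      have e : (algebraMap (R ⧸ P₀.under R) (S₀ ⧸ P₀)).comp (Ideal.Quotient.mk (P₀.under R)) =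
          (Ideal.Quotient.mk P₀).comp (algebraMap R S₀) := RingHom.ext fun x => rfl
      have e2 : q'.asIdeal.comap (Ideal.Quotient.mk P₀) = q.asIdeal.comap (algebraMap S₀ S) :=
        congrArg PrimeSpectrum.asIdeal hq'
      rw [Ideal.comap_comap, e, ← Ideal.comap_comap, e2, Ideal.comap_comap,
        ← IsScalarTower.algebraMap_eq]
  intro W hW
  have h1 := h4b _ (h4a W hW)
  have e : ∀ z, comap (algebraMap R S₀) (comap (algebraMap S₀ S) z) = comap (algebraMap R S) z := by
    intro z
    rw [← comap_comp_apply, ← IsScalarTower.algebraMap_eq]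
  rw [e] at h1
  refine Filter.mem_of_superset h1 ?_
  rintro _ ⟨_, ⟨z, hz, rfl⟩, rfl⟩
  exact ⟨z, hz, (e z).symm⟩

theorem isOpenAt_comap_of_quasiFiniteAt' {R S : Type u} [CommRing R] [CommRing S] (φ : R →+* S)
    (hft : φ.FiniteType) (q : PrimeSpectrum S) (hqf : φ.QuasiFiniteAt q.asIdeal)
    (hS : (nilradical S).IsPrime) (hRS : (nilradical S).comap φ ≤ nilradical R)
    (hub : CAlg2.IsUnibranch (Localization.AtPrime (q.asIdeal.comap φ))) :
    EGA43.IsOpenAt (comap φ) q := by
  algebraize [φ]
  haveI : Algebra.QuasiFiniteAt R q.asIdeal := hqf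
  exact isOpenAt_comap_of_quasiFiniteAt q hS hRS hub

end ZMT

end Groth.Agent.Lib.Helper25.UnibranchOpen
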