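/-
Helper25 library: a dominant morphism locally of finite type between irreducible schemes is open at
every point isolated in its fibre whose image is a unibranch point.
-/
import Mathlib
import Groth.Prelude
import Groth.Agent.Lib.Helper25.UnibranchOpen

set_option autoImplicit false
set_option linter.style.haveILetI false
universe u
open AlgebraicGeometry CategoryTheory CategoryTheory.Limits TopologicalSpace Topology

namespace Groth.Agent.Lib.Helper25.UnibranchOpenSch

open Groth.Agent.Lib.Helper8 Groth.Agent.Lib.Helper25.UnibranchOpen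

theorem quasiFiniteAt_of_isolated {X Y : Scheme.{u}} (f : X ⟶ Y) [LocallyOfFiniteType f] (x : X)
    (hx : nhdsWithin x (f.base ⁻¹' {f.base x}) = pure x) : f.QuasiFiniteAt x := by
  rw [Scheme.Hom.quasiFiniteAt_iff_isOpen_singleton_asFiber]
  rw [← (f.fiberHomeo (f x)).isOpen_image]
  simp only [Set.image_singleton, Scheme.Hom.asFiber, Homeomorph.apply_symm_apply]
  have h1 : ({x} : Set X) ∈ nhdsWithin x (f.base ⁻¹' {f.base x}) := by
    rw [hx]; exact Filter.mem_pure.mpr rfl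
  obtain ⟨u, hu, hxu, hsub⟩ := mem_nhdsWithin.mp h1
  refine isOpen_induced_iff.mpr ⟨u, hu, ?_⟩
  ext ⟨z, hz⟩
  simp only [Set.mem_preimage, Set.mem_singleton_iff, Subtype.mk.injEq]
  constructor
  · intro hzu; exact hsub ⟨hzu, hz⟩
  · rintro rfl; exact hxu

theorem isOpenAt_of_isolated {X Y : Scheme.{u}} (f : X ⟶ Y) [IrreducibleSpace X]
    [IrreducibleSpace Y] [LocallyOfFiniteType f] (hdom : DenseRange f.base) (x : X)
    (hx : nhdsWithin x (f.base ⁻¹' {f.base x}) = pure x)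
    (hy : CAlg2.IsUnibranch (Y.presheaf.stalk (f.base x))) : EGA43.IsOpenAt f.base x := by
  have hqf : f.QuasiFiniteAt x := quasiFiniteAt_of_isolated f x hx
  obtain ⟨V, hV, hyV, -⟩ := (Opens.isBasis_iff_nbhd.mp Y.isBasis_affineOpens)
    (show f x ∈ (⊤ : Y.Opens) from trivial)
  obtain ⟨U, hU, hxU, hUV⟩ := (Opens.isBasis_iff_nbhd.mp X.isBasis_affineOpens)
    (show x ∈ f ⁻¹ᵁ V from hyV)
  have hV' : IsAffineOpen V := hV
  have hU' : IsAffineOpen U := hU
  have hψft : (f.appLE V U hUV).hom.FiniteType :=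
    HasRingHomProperty.appLE @LocallyOfFiniteType f inferInstance ⟨V, hV⟩ ⟨U, hU⟩ hUV
  have hnat : Spec.map (f.appLE V U hUV) ≫ hV'.fromSpec = hU'.fromSpec ≫ f :=
    IsAffineOpen.SpecMap_appLE_fromSpec f hV' hU' hUV
  have hnat' : ∀ z : Spec Γ(X, U),
      hV'.fromSpec (Spec.map (f.appLE V U hUV) z) = f (hU'.fromSpec z) := fun z => by
    rw [← Scheme.Hom.comp_apply, ← Scheme.Hom.comp_apply, hnat]
  obtain ⟨x₀, hx₀, hx₀def⟩ : ∃ x₀ : Spec Γ(X, U), hU'.fromSpec x₀ = x ∧
      x₀ = hU'.primeIdealOf ⟨x, hxU⟩ := ⟨_, hU'.fromSpec_primeIdealOf ⟨x, hxU⟩, rfl⟩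
  have hψqf : (f.appLE V U hUV).hom.QuasiFiniteAt x₀.asIdeal := by
    rw [hx₀def]
    exact hqf.quasiFiniteAt hU' hV' hUV hxU
  have hpt : hV'.fromSpec (Spec.map (f.appLE V U hUV) x₀) = f x := by
    rw [hnat', hx₀]
  have hub : CAlg2.IsUnibranch
      (Localization.AtPrime (x₀.asIdeal.comap (f.appLE V U hUV).hom)) := by
    have h1 : CAlg2.IsUnibranch
        (Y.presheaf.stalk (hV'.fromSpec (Spec.map (f.appLE V U hUV) x₀))) := by
      rw [hpt]; exact hy
    let e₁ : Y.presheaf.stalk (hV'.fromSpec (Spec.map (f.appLE V U hUV) x₀)) ≃+*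
        (Spec Γ(Y, V)).presheaf.stalk (Spec.map (f.appLE V U hUV) x₀) :=
      (asIso (hV'.fromSpec.stalkMap (Spec.map (f.appLE V U hUV) x₀))).commRingCatIsoToRingEquiv
    let e₂ : (Spec Γ(Y, V)).presheaf.stalk (Spec.map (f.appLE V U hUV) x₀) ≃+*
        Localization.AtPrime (x₀.asIdeal.comap (f.appLE V U hUV).hom) :=
      (Spec.stalkIso Γ(Y, V) (Spec.map (f.appLE V U hUV) x₀)).commRingCatIsoToRingEquiv
    exact QFOpenAt.isUnibranch_of_ringEquiv (e₁.trans e₂).symm h1
  -- irreducibility of the affine chart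
  have hnilS : (nilradical Γ(X, U)).IsPrime := by
    rw [← PrimeSpectrum.vanishingIdeal_univ, ← PrimeSpectrum.isIrreducible_iff_vanishingIdeal_isPrime]
    refine ⟨⟨x₀, trivial⟩, ?_⟩
    have h1 : IsPreirreducible (Set.univ : Set X) := PreirreducibleSpace.isPreirreducible_univ
    have h2 := h1.preimage hU'.fromSpec.isOpenEmbedding
    rwa [Set.preimage_univ] at h2
  -- dominance on the chart
  have hdomR : (nilradical Γ(X, U)).comap (f.appLE V U hUV).hom ≤ nilradical Γ(Y, V) := by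
    intro a ha
    by_contra hna
    have hex : ∃ P : PrimeSpectrum Γ(Y, V), a ∉ P.asIdeal := by
      by_contra hall
      push_neg at hall
      apply hna
      rw [nilradical_eq_sInf, Ideal.mem_sInf]
      intro J hJ
      exact hall ⟨J, hJ⟩
    obtain ⟨P, hP⟩ := hex
    have hO : IsOpen (hV'.fromSpec ''
        (PrimeSpectrum.basicOpen a : Set (PrimeSpectrum Γ(Y, V)))) :=
      hV'.fromSpec.isOpenEmbedding.isOpenMap _ (PrimeSpectrum.basicOpen a).isOpen
    have hOne : (hV'.fromSpec ''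
        (PrimeSpectrum.basicOpen a : Set (PrimeSpectrum Γ(Y, V)))).Nonempty := ⟨_, P, hP, rfl⟩
    obtain ⟨x', hx'O⟩ := hdom.exists_mem_open hO hOne
    have h1 : ((f.base ⁻¹' (hV'.fromSpec ''
        (PrimeSpectrum.basicOpen a : Set (PrimeSpectrum Γ(Y, V))))) ∩ (U : Set X)).Nonempty :=
      nonempty_preirreducible_inter (hO.preimage f.continuous) U.2 ⟨x', hx'O⟩ ⟨x, hxU⟩
    obtain ⟨x'', hx''O, hx''U⟩ := h1
    obtain ⟨z, rfl⟩ : ∃ z, hU'.fromSpec z = x'' := by
      have h2 : x'' ∈ Set.range hU'.fromSpec := by rw [hU'.range_fromSpec]; exact hx''U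
      exact h2
    obtain ⟨P', hP', hP'eq⟩ := hx''O
    have hz : P' = Spec.map (f.appLE V U hUV) z :=
      hV'.fromSpec.isOpenEmbedding.injective (hP'eq.trans (hnat' z).symm)
    rw [hz] at hP'
    exact hP' (nilradical_le_prime z.asIdeal ha)
  have key := isOpenAt_comap_of_quasiFiniteAt' (f.appLE V U hUV).hom hψft x₀ hψqf hnilS hdomR hub
  intro N hN
  have h1 : hU'.fromSpec ⁻¹' N ∈ nhds x₀ :=
    hU'.fromSpec.continuous.continuousAt.preimage_mem_nhds (by rw [hx₀]; exact hN)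
  have h2 := key _ h1
  have h3 := hV'.fromSpec.isOpenEmbedding.isOpenMap.image_mem_nhds h2
  have h4 : hV'.fromSpec (PrimeSpectrum.comap (f.appLE V U hUV).hom x₀) = f x := hpt
  rw [h4] at h3
  refine Filter.mem_of_superset h3 ?_
  rintro _ ⟨_, ⟨z, hz, rfl⟩, rfl⟩
  exact ⟨hU'.fromSpec z, hz, (hnat' z).symm⟩

end Groth.Agent.Lib.Helper25.UnibranchOpenSch
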