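import Mathlib
import Groth.Agent.S18590
import Groth.Agent.Lib.Helper26.WittTeich

/-!
# Successive approximation for Witt vectors adapted to a multiplicative family (helper25)

* `eq_teichmuller_add_verschiebung` : `x = [x₀] + V (x₁, x₂, …)`.
* `key` : if `G` is a multiplicative family of `A`-submodules of a char-`p` algebra `B`, `z` a finite
  family of elements of `B` such that every element of `G (p ^ i)` is a sum of elements
  `c • z m ^ p ^ i ∈ G (p ^ i)`, then every Witt vector `φ` with `φ_j ∈ G (p ^ j)` is a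
  `W(A)`-combination of the Teichmüller representatives `[z m]`.
-/

set_option autoImplicit false
universe u

namespace Groth.Agent.Lib.Helper25.WittApprox

open WittVector

variable {p : ℕ} [hp : Fact p.Prime]

section Basic
variable {R : Type u} [CommRing R]

theorem coeff_teichmuller_add_verschiebung (b : R) (w : WittVector p R) (j : ℕ) :
    (teichmuller p b + verschiebung w).coeff j = if j = 0 then b else w.coeff (j - 1) := by
  rw [coeff_add_of_disjoint]
  · cases j with
    | zero => simp [teichmuller_coeff_zero, verschiebung_coeff_zero]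
    | succ j => simp [teichmuller_coeff_pos, verschiebung_coeff_succ]
  · intro n
    cases n with
    | zero => right; exact verschiebung_coeff_zero w
    | succ n => left; exact teichmuller_coeff_pos p b (n + 1) (Nat.succ_pos n)

theorem eq_teichmuller_add_verschiebung (x : WittVector p R) :
    x = teichmuller p (x.coeff 0) + verschiebung (WittVector.mk p fun j => x.coeff (j + 1)) := by
  ext j
  rw [coeff_teichmuller_add_verschiebung]
  cases j with
  | zero => simp
  | succ j => simp [coeff_mk]

theorem iterate_frobenius_teichmuller [CharP R p] (t : R) (n : ℕ) :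
    (⇑(frobenius : WittVector p R →+* WittVector p R))^[n] (teichmuller p t) =
      teichmuller p (t ^ p ^ n) := by
  induction n with
  | zero => simp
  | succ n ih =>
    rw [Function.iterate_succ_apply', ih, frobenius_eq_map_frobenius, map_teichmuller,
      frobenius_def, ← pow_mul, ← pow_succ]

theorem map_iterate_verschiebung {S : Type u} [CommRing S] (f : R →+* S) (x : WittVector p R)
    (n : ℕ) :
    WittVector.map f ((⇑(verschiebung : WittVector p R →+ WittVector p R))^[n] x) =
      (⇑(verschiebung : WittVector p S →+ WittVector p S))^[n] (WittVector.map f x) := by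
  induction n with
  | zero => simp
  | succ n ih => rw [Function.iterate_succ_apply', Function.iterate_succ_apply',
      map_verschiebung, ih]

theorem iterate_verschiebung_sum {ι : Type*} (s : Finset ι) (g : ι → WittVector p R) (n : ℕ) :
    (⇑(verschiebung : WittVector p R →+ WittVector p R))^[n] (∑ m ∈ s, g m) =
      ∑ m ∈ s, (⇑(verschiebung : WittVector p R →+ WittVector p R))^[n] (g m) := by
  classical
  induction s using Finset.induction_on with
  | empty => simp [iterate_map_zero]
  | insert a s ha ih => rw [Finset.sum_insert ha, Finset.sum_insert ha, iterate_map_add, ih]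

end Basic

section Key

variable {A B : Type u} [CommRing A] [CommRing B] [Algebra A B] [CharP B p]

/-- Witt vectors adapted to the `p ^ i`-th Veronese of a family of submodules -/
def Adapted (G : ℕ → Submodule A B) (i : ℕ) (φ : WittVector p B) : Prop :=
  ∀ j, φ.coeff j ∈ G (p ^ i * p ^ j)

variable (G : ℕ → Submodule A B)
  (hmul : ∀ (i j : ℕ) (a b : B), a ∈ G i → b ∈ G j → a * b ∈ G (i + j))

include hmul

theorem adapted_add (i : ℕ) {φ ψ : WittVector p B} (hφ : Adapted G i φ) (hψ : Adapted G i ψ) :
    Adapted G i (φ + ψ) :=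
  (Groth.Agent.S18590.result p A B (fun d => G (p ^ i * d)) (fun d d' a b ha hb => by
      rw [mul_add]; exact hmul _ _ a b ha hb)).1 φ ψ hφ hψ

theorem adapted_map_mul (i : ℕ) (x : WittVector p A) {φ : WittVector p B} (hφ : Adapted G i φ) :
    Adapted G i (WittVector.map (algebraMap A B) x * φ) :=
  (Groth.Agent.S18590.result p A B (fun d => G (p ^ i * d)) (fun d d' a b ha hb => by
      rw [mul_add]; exact hmul _ _ a b ha hb)).2 x φ hφ

theorem adapted_neg (i : ℕ) {φ : WittVector p B} (hφ : Adapted G i φ) : Adapted G i (-φ) := by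
  have := adapted_map_mul G hmul i (-1) hφ
  rwa [map_neg, map_one, neg_one_mul] at this

omit hmul in
theorem adapted_zero (i : ℕ) : Adapted G i (0 : WittVector p B) := by
  intro j
  rw [zero_coeff]
  exact Submodule.zero_mem _

omit hmul in
theorem adapted_teichmuller (i : ℕ) {t : B} (ht : t ∈ G (p ^ i)) :
    Adapted G i (teichmuller p t) := by
  intro j
  cases j with
  | zero => rw [teichmuller_coeff_zero, pow_zero, mul_one]; exact ht
  | succ j => rw [teichmuller_coeff_pos p t _ (Nat.succ_pos j)]; exact Submodule.zero_mem _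

theorem adapted_sum (i : ℕ) {ι : Type*} (s : Finset ι) (g : ι → WittVector p B)
    (h : ∀ m ∈ s, Adapted G i (g m)) : Adapted G i (∑ m ∈ s, g m) := by
  classical
  induction s using Finset.induction_on with
  | empty => rw [Finset.sum_empty]; exact adapted_zero G i
  | insert a s ha ih =>
    rw [Finset.sum_insert ha]
    exact adapted_add G hmul i (h a (Finset.mem_insert_self a s))
      (ih fun m hm => h m (Finset.mem_insert_of_mem hm))

theorem step {ι : Type*} [Fintype ι] (z : ι → B)
    (hG : ∀ i, ∀ b ∈ G (p ^ i), ∃ c : ι → A, b = ∑ m, c m • z m ^ p ^ i ∧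
      ∀ m, c m • z m ^ p ^ i ∈ G (p ^ i))
    (i : ℕ) (ρ : WittVector p B) (hρ : Adapted G i ρ) :
    ∃ (c : ι → A) (ρ' : WittVector p B), Adapted G (i + 1) ρ' ∧
      ρ = ∑ m, teichmuller p (c m • z m ^ p ^ i) + verschiebung ρ' := by
  have h0 : ρ.coeff 0 ∈ G (p ^ i) := by
    have := hρ 0
    rwa [pow_zero, mul_one] at this
  obtain ⟨c, hc, hcm⟩ := hG i _ h0
  obtain ⟨δ, hδ⟩ : ∃ δ, δ = ρ - ∑ m, teichmuller p (c m • z m ^ p ^ i) := ⟨_, rfl⟩
  have hδA : Adapted G i δ := by
    rw [hδ, sub_eq_add_neg]
    exact adapted_add G hmul i hρ (adapted_neg G hmul i (adapted_sum G hmul i _ _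
      fun m _ => adapted_teichmuller G i (hcm m)))
  have hδ0 : δ.coeff 0 = 0 := by
    have : constantCoeff δ = 0 := by
      rw [hδ, map_sub, map_sum]
      simp only [constantCoeff_apply, teichmuller_coeff_zero]
      rw [← hc, sub_self]
    exact this
  refine ⟨c, WittVector.mk p fun j => δ.coeff (j + 1), ?_, ?_⟩
  · intro j
    rw [coeff_mk]
    have e : p ^ (i + 1) * p ^ j = p ^ i * p ^ (j + 1) := by ring
    rw [e]
    exact hδA (j + 1)
  · have h1 := eq_teichmuller_add_verschiebung δ
    rw [hδ0, teichmuller_zero, zero_add] at h1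
    rw [← h1, hδ]
    abel

theorem key {ι : Type*} [Fintype ι] (z : ι → B)
    (hG : ∀ i, ∀ b ∈ G (p ^ i), ∃ c : ι → A, b = ∑ m, c m • z m ^ p ^ i ∧
      ∀ m, c m • z m ^ p ^ i ∈ G (p ^ i))
    (φ : WittVector p B) (hφ : ∀ j, φ.coeff j ∈ G (p ^ j)) :
    ∃ x : ι → WittVector p A,
      φ = ∑ m, WittVector.map (algebraMap A B) (x m) * teichmuller p (z m) := by
  classical
  have hstep := step G hmul z hG
  choose cc nx hnxA hnx using hstep
  let seq : (i : ℕ) → {ρ : WittVector p B // Adapted G i ρ} :=
    fun i => Nat.rec ⟨φ, by intro j; rw [pow_zero, one_mul]; exact hφ j⟩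
      (fun i ρ => ⟨nx i ρ.1 ρ.2, hnxA i ρ.1 ρ.2⟩) i
  obtain ⟨C, hC⟩ : ∃ C : ℕ → ι → A, ∀ i, C i = cc i (seq i).1 (seq i).2 := ⟨_, fun _ => rfl⟩
  have hR : ∀ i, (seq i).1 =
      ∑ m, teichmuller p (C i m • z m ^ p ^ i) + verschiebung (seq (i + 1)).1 := by
    intro i
    rw [hC i]
    exact hnx i (seq i).1 (seq i).2
  obtain ⟨X, hXdef⟩ : ∃ X : ℕ → ι → WittVector p A,
      ∀ i m, X i m = WittVector.mk p fun j => C (i + j) m := ⟨_, fun _ _ => rfl⟩
  have hX : ∀ i m, X i m = teichmuller p (C i m) + verschiebung (X (i + 1) m) := by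
    intro i m
    have h := eq_teichmuller_add_verschiebung (X i m)
    have h0 : (X i m).coeff 0 = C i m := by rw [hXdef, coeff_mk, add_zero]
    have h1 : (WittVector.mk p fun j => (X i m).coeff (j + 1)) = X (i + 1) m := by
      ext j
      rw [hXdef, hXdef, coeff_mk, coeff_mk, coeff_mk]
      congr 1
      omega
    rw [h0, h1] at h
    exact h
  have hFt : ∀ t : B, frobenius (teichmuller p t) = teichmuller p (t ^ p) := by
    intro t
    rw [frobenius_eq_map_frobenius, map_teichmuller, frobenius_def]
  have key_m : ∀ i m, WittVector.map (algebraMap A B) (X i m) * teichmuller p (z m ^ p ^ i) =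
      teichmuller p (C i m • z m ^ p ^ i) +
        verschiebung (WittVector.map (algebraMap A B) (X (i + 1) m) *
          teichmuller p (z m ^ p ^ (i + 1))) := by
    intro i m
    conv_lhs => rw [hX i m]
    rw [map_add, map_teichmuller, map_verschiebung, add_mul, ← map_mul (teichmuller p),
      ← Algebra.smul_def, ← verschiebung_mul_frobenius, hFt, ← pow_mul, ← pow_succ]
  obtain ⟨E, hEdef⟩ : ∃ E : ℕ → WittVector p B, ∀ i, E i = (seq i).1 -
      ∑ m, WittVector.map (algebraMap A B) (X i m) * teichmuller p (z m ^ p ^ i) :=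
    ⟨_, fun _ => rfl⟩
  have hE : ∀ i, E i = verschiebung (E (i + 1)) := by
    intro i
    rw [hEdef, hEdef, map_sub, map_sum]
    conv_lhs => rw [hR i]
    rw [Finset.sum_congr rfl (fun m _ => key_m i m), Finset.sum_add_distrib]
    abel
  have hE0 : ∀ N, E 0 = (⇑(verschiebung : WittVector p B →+ WittVector p B))^[N] (E N) := by
    intro N
    induction N with
    | zero => rfl
    | succ N ih => rw [Function.iterate_succ_apply, ← hE N, ← ih]
  have hzero : E 0 = 0 := by
    ext j
    rw [hE0 (j + 1), iterate_verschiebung_coeff_eq_zero _ (Nat.lt_succ_self j), zero_coeff]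
  refine ⟨X 0, ?_⟩
  have h := sub_eq_zero.1 (by rw [← hEdef 0]; exact hzero)
  have h2 : (seq 0).1 = φ := rfl
  rw [h2] at h
  rw [h]
  apply Finset.sum_congr rfl
  intro m _
  rw [pow_zero, pow_one]

end Key

end Groth.Agent.Lib.Helper25.WittApprox
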